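import Mathlib
import Cfsg.Prelude.Def_GeometricClasses
import Cfsg.Agent.H47.UniType
import Cfsg.Agent.H44.JordanRealise
import Cfsg.Agent.H44.Classify

/-!
Partitions of unipotent elements of orthogonal groups fixing a non-degenerate subspace.
-/

set_option autoImplicit false

namespace H47

open Matrix

variable {F : Type*} [Field F] {ι : Type} [Fintype ι] [DecidableEq ι]

/-- A unipotent isometry leaving a non-degenerate subspace invariant splits its partition. -/
theorem partition_of_fixed (h2 : (2 : F) ≠ 0) (q : QuadraticForm F (ι → F))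
    (hq : (QuadraticMap.polarBilin q).Nondegenerate) {x : GL ι F}
    (hx : x ∈ Cfsg.isometryGroup F ⇑q) {μ : Multiset ℕ} (hμ : 0 ∉ μ)
    (hr : ∀ j, (((x : Matrix ι ι F) - 1) ^ j).rank = (μ.map fun a => a - j).sum)
    {m : ℕ} (W : Submodule F (ι → F)) (hWm : Module.finrank F W = m)
    (hWn : Cfsg.Geo.IsNondegenerateOn (QuadraticMap.polar ⇑q) W)
    (hWx : W.map (Matrix.toLin' (x : Matrix ι ι F)) ≤ W) :
    ∃ ν, ν ≤ μ ∧ ν.sum = m ∧ (∀ e : ℕ, Even e → Even (ν.count e)) ∧
      ((∀ e ∈ ν, Even e) → Cfsg.Geo.IsPlusTypeOn ⇑q W) := by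
  classical
  let T : (ι → F) ≃ₗ[F] (ι → F) := Matrix.toLinearEquiv' (x : Matrix ι ι F) x.invertible
  have hTv : ∀ v, T v = (x : Matrix ι ι F) *ᵥ v := fun v => rfl
  set B := QuadraticMap.polarBilin q with hBdef
  have hQT : ∀ v, q (T v) = q v := fun v => hx v v
  have hBs : ∀ v w, B v w = B w v := fun v w => QuadraticMap.polar_comm _ v w
  have hBT : ∀ v w, B (T v) (T w) = B v w := fun v w => by
    simp only [hBdef, QuadraticMap.polarBilin_apply_apply, QuadraticMap.polar, ← map_add, hQT]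
  set N := (T.toLinearMap - 1 : Module.End F (ι → F)) with hNdef
  have hNM : N = Matrix.toLinAlgEquiv' ((x : Matrix ι ι F) - 1) := by
    rw [map_sub, map_one]; rfl
  have hNr : ∀ j, H44.powRank N j = (μ.map fun a => a - j).sum := fun j => by
    rw [← hr, H44.powRank, hNM, ← map_pow]
    rfl
  have hNnil : IsNilpotent N := by
    refine ⟨μ.sum, LinearMap.range_eq_bot.1 (Submodule.finrank_eq_zero.1 ?_)⟩
    have h := hNr μ.sum
    rw [H44.powRank] at h
    rw [h, Multiset.sum_eq_zero_iff]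
    intro a ha
    obtain ⟨e, he, rfl⟩ := Multiset.mem_map.1 ha
    have := Multiset.le_sum_of_mem he
    omega
  have hTW : W.map T.toLinearMap = W := by
    refine Submodule.eq_of_le_of_finrank_le ?_ (le_of_eq ?_)
    · rintro _ ⟨w, hw, rfl⟩
      exact hWx ⟨w, hw, by simp [hTv]⟩
    · exact (LinearEquiv.finrank_map_eq T W).symm
  set W' := LinearMap.BilinForm.orthogonal B W with hW'
  have hrefl : B.IsRefl := fun v w h => by rw [hBs]; exact h
  have hBW : (LinearMap.BilinForm.restrict B W).Nondegenerate := by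
    have key : ∀ v : W, (∀ w : W, B v w = 0) → v = 0 := by
      intro v hv
      by_contra h0
      obtain ⟨y, hy, hy0⟩ := (hWn v v.2 (fun h => h0 (Subtype.ext h))).2
      exact hy0 (hv ⟨y, hy⟩)
    exact ⟨fun v hv => key v hv, fun v hv => key v fun w => (hBs _ _).trans (hv w)⟩
  have hcompl : IsCompl W W' := LinearMap.BilinForm.isCompl_orthogonal_of_restrict_nondegenerate hrefl hBW
  have hTW' : ∀ v ∈ W', T v ∈ W' := by
    intro v hv w hw
    rw [← hTW] at hw
    obtain ⟨w₀, hw₀, rfl⟩ := hw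
    show B (T w₀) (T v) = 0
    rw [hBT]
    exact hv w₀ hw₀
  have hNW : ∀ v ∈ W, N v ∈ W := fun v hv => W.sub_mem (by rw [← hTW]; exact ⟨v, hv, rfl⟩) hv
  have hNW' : ∀ v ∈ W', N v ∈ W' := fun v hv => W'.sub_mem (hTW' v hv) hv
  let TW : W ≃ₗ[F] W := T.ofSubmodules W W hTW
  have hTWN : (TW.toLinearMap - 1 : Module.End F W) = N.restrict hNW := LinearMap.ext fun v => Subtype.ext rfl
  have hnilW : ∀ (P : Submodule F (ι → F)) (hP : ∀ v ∈ P, N v ∈ P), IsNilpotent (N.restrict hP) := by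
    intro P hP
    obtain ⟨k, hk⟩ := hNnil
    refine ⟨k, LinearMap.ext fun v => Subtype.ext ?_⟩
    have h1 : ∀ k, (((N.restrict hP) ^ k) v : ι → F) = (N ^ k) v := by
      intro k
      induction k with
      | zero => rfl
      | succ k ih => rw [pow_succ', pow_succ', Module.End.mul_apply, Module.End.mul_apply, ← ih]; rfl
    rw [h1, hk]; rfl
  obtain ⟨ν, hν0, hνsum, hνr, hνpar, hνplus⟩ :=
    isometry_type h2 (LinearMap.BilinForm.restrict B W) hBW (fun v w => hBs _ _) TW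
      (fun v w => hBT v w) (by rw [hTWN]; exact hnilW W hNW)
  obtain ⟨S', _, _, sz', b', -, -, hν'r⟩ := exists_chain_type (N.restrict hNW') (hnilW W' hNW')
  rw [hTWN] at hνr
  have hsum : ν + (Finset.univ.val.map fun i => sz' i + 1) = μ := by
    refine multiset_eq_of_rank (by simp [hν0]) hμ fun j => ?_
    rw [Multiset.map_add, Multiset.sum_add, ← hνr, ← hν'r, powRank_add_of_isCompl N hcompl hNW hNW', hNr]
  refine ⟨ν, by rw [← hsum]; exact Multiset.le_add_right _ _, hνsum.trans hWm, hνpar, fun hev => ?_⟩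
  obtain ⟨U, hU0, hUd⟩ := hνplus hev
  refine ⟨U.map W.subtype, Submodule.map_subtype_le _ _, ?_, ?_⟩
  · rintro _ ⟨u, hu, rfl⟩
    have h := hU0 u hu
    change B (u : ι → F) (u : ι → F) = 0 at h
    rw [hBdef, QuadraticMap.polarBilin_apply_apply, QuadraticMap.polar_self, two_nsmul, ← two_mul] at h
    exact (mul_eq_zero.1 h).resolve_left h2
  · rw [Submodule.finrank_map_subtype_eq, hUd]

/-- Transport of a realisation along a similitude. -/
theorem transport_realisation {κ : Type} [Fintype κ] [DecidableEq κ] {Q : QuadraticForm F (κ → F)}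
    {A : Matrix κ κ F} (hA : ∀ v, Q (A *ᵥ v) = Q v) {μ : Multiset ℕ}
    (hr : ∀ j, ((A - 1) ^ j).rank = (μ.map fun a => a - j).sum)
    (q : (ι → F) → F) (φ : (κ → F) ≃ₗ[F] (ι → F)) {c : F} (hφ : ∀ v, q (φ v) = c * Q v) :
    ∃ x : GL ι F, x ∈ Cfsg.isometryGroup F q ∧
      ∀ j, (((x : Matrix ι ι F) - 1) ^ j).rank = (μ.map fun a => a - j).sum := by
  let ψ : Matrix κ κ F →ₐ[F] Matrix ι ι F :=
    LinearMap.toMatrixAlgEquiv'.toAlgHom.comp ((φ.conjAlgEquiv F).toAlgHom.comp Matrix.toLinAlgEquiv'.toAlgHom)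
  have hψv : ∀ M v, ψ M *ᵥ v = φ (M *ᵥ φ.symm v) := fun M v => by
    show LinearMap.toMatrix' ((φ.conjAlgEquiv F) (Matrix.toLinAlgEquiv' M)) *ᵥ v = _
    rw [LinearMap.toMatrix'_mulVec]
    simp [LinearEquiv.conjAlgEquiv_apply]
  have hψr : ∀ M : Matrix κ κ F, (ψ M).rank = M.rank := fun M => by
    have h : (ψ M).mulVecLin = (φ : (κ → F) →ₗ[F] (ι → F)) ∘ₗ M.mulVecLin ∘ₗ (φ.symm : (ι → F) →ₗ[F] (κ → F)) :=
      LinearMap.ext fun v => by simp [hψv]
    rw [Matrix.rank, Matrix.rank, h, LinearMap.range_comp, LinearMap.range_comp_of_range_eq_top _ φ.symm.range,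
      LinearEquiv.finrank_map_eq]
  have hnil : IsNilpotent (A - 1) := ⟨μ.sum, H44.eq_zero_of_rank _ (by
    rw [hr, Multiset.sum_eq_zero_iff]
    intro a ha
    obtain ⟨e, he, rfl⟩ := Multiset.mem_map.1 ha
    have := Multiset.le_sum_of_mem he
    omega)⟩
  have hu : IsUnit (ψ A) := by
    have := (hnil.map ψ).isUnit_one_add
    simpa using this
  refine ⟨hu.unit, ?_, fun j => ?_⟩
  · intro v w
    show q (ψ A *ᵥ v) = q v
    obtain ⟨v', rfl⟩ := φ.surjective v
    rw [hψv, φ.symm_apply_apply, hφ, hφ, hA]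
  · show ((ψ A - 1) ^ j).rank = _
    rw [← map_one ψ, ← map_sub, ← map_pow, hψr, hr]

/-- The `p`-th power of a unipotent element with parts at most `p`. -/
theorem pow_char_eq_one {p : ℕ} [Fact p.Prime] [CharP F p] {x : GL ι F} {μ : Multiset ℕ}
    (hμ : ∀ e ∈ μ, e ≤ p) (hr : ∀ j, (((x : Matrix ι ι F) - 1) ^ j).rank = (μ.map fun a => a - j).sum) :
    x ^ p = 1 := by
  have h0 : ((x : Matrix ι ι F) - 1) ^ p = 0 := H44.eq_zero_of_rank _ (by
    rw [hr, Multiset.sum_eq_zero_iff]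
    intro a ha
    obtain ⟨e, he, rfl⟩ := Multiset.mem_map.1 ha
    exact Nat.sub_eq_zero_of_le (hμ e he))
  apply Units.ext
  rw [Units.val_pow_eq_pow_val, Units.val_one]
  rcases isEmpty_or_nonempty ι with hι | hι
  · exact Subsingleton.elim _ _
  haveI : CharP (Matrix ι ι F) p := Matrix.charP p
  rwa [sub_pow_char_of_commute p (Commute.one_right _), one_pow, sub_eq_zero] at h0

/-- A unipotent element which is not the identity. -/
theorem not_scalar_of_parts {x : GL ι F} {μ : Multiset ℕ}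
    (hr : ∀ j, (((x : Matrix ι ι F) - 1) ^ j).rank = (μ.map fun a => a - j).sum)
    (hμ : ∃ e ∈ μ, 1 < e) (z : F) : (x : Matrix ι ι F) ≠ z • (1 : Matrix ι ι F) := by
  intro hz
  obtain ⟨e, he, he1⟩ := hμ
  have h1 : 0 < (((x : Matrix ι ι F) - 1) ^ 1).rank := by
    rw [hr]
    have := Multiset.le_sum_of_mem (Multiset.mem_map_of_mem (fun a => a - 1) he)
    omega
  have hμnil : (((x : Matrix ι ι F) - 1) ^ μ.sum).rank = 0 := by
    rw [hr, Multiset.sum_eq_zero_iff]
    intro a ha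
    obtain ⟨e, he, rfl⟩ := Multiset.mem_map.1 ha
    have := Multiset.le_sum_of_mem he
    omega
  have hx1 : (x : Matrix ι ι F) - 1 = (z - 1) • (1 : Matrix ι ι F) := by rw [hz, sub_smul, one_smul]
  rcases eq_or_ne (z - 1) 0 with h | h
  · rw [hx1, h, zero_smul, pow_one, Matrix.rank_zero] at h1
    omega
  · have h3 := H44.eq_zero_of_rank _ hμnil
    rw [hx1, _root_.smul_pow, one_pow] at h3
    rcases isEmpty_or_nonempty ι with hι | hι
    · have := Matrix.rank_le_card_width (((x : Matrix ι ι F) - 1) ^ 1)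
      rw [Fintype.card_eq_zero] at this
      omega
    · exact (smul_ne_zero (pow_ne_zero _ h) (one_ne_zero (α := Matrix ι ι F))) h3

/-- Two realisations of a partition with an odd part, with different discriminants. -/
theorem realised_two [Fintype F] (h2 : (2 : F) ≠ 0) {o : ℕ} (ho : Odd o) {s : Multiset ℕ}
    (hs : H44.Realised F s) :
    ∃ (κ : Type) (_ : Fintype κ) (_ : DecidableEq κ) (Q Q' : QuadraticForm F (κ → F)) (A : Matrix κ κ F),
      H44.PolarSep Q ∧ H44.PolarSep Q' ∧ (∀ v, Q (A *ᵥ v) = Q v) ∧ (∀ v, Q' (A *ᵥ v) = Q' v) ∧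
      Fintype.card κ = (o ::ₘ s).sum ∧ (∀ j, ((A - 1) ^ j).rank = ((o ::ₘ s).map fun a => a - j).sum) ∧
      ¬ IsSquare ((Matrix.of fun i j => QuadraticMap.polar (⇑Q) (Pi.basisFun F κ i) (Pi.basisFun F κ j)).det *
        (Matrix.of fun i j => QuadraticMap.polar (⇑Q') (Pi.basisFun F κ i) (Pi.basisFun F κ j)).det) := by
  classical
  obtain ⟨α, _, _, Q₁, A₁, hQ₁, hA₁, hc₁, hr₁⟩ := H44.realised_odd h2 ho
  obtain ⟨β, _, _, Q₂, A₂, hQ₂, hA₂, hc₂, hr₂⟩ := hs
  obtain ⟨c, hc⟩ := FiniteField.exists_nonsquare (F := F) (by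
    intro hch
    apply h2
    haveI := ringChar.charP F
    have := CharP.cast_eq_zero F (ringChar F)
    rw [hch] at this
    exact_mod_cast this)
  have hc0 : c ≠ 0 := by rintro rfl; exact hc ⟨0, by simp⟩
  let G : F → QuadraticForm F (α ⊕ β → F) := fun t =>
    t • Q₁.comp (LinearMap.funLeft F F Sum.inl) + Q₂.comp (LinearMap.funLeft F F Sum.inr)
  have hG : ∀ t v, G t v = t * Q₁ (v ∘ Sum.inl) + Q₂ (v ∘ Sum.inr) := fun t v => by
    simp [G, LinearMap.funLeft]
  have hsep : ∀ t, t ≠ 0 → H44.PolarSep (G t) := by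
    intro t ht v hv
    have h1 : v ∘ Sum.inl = 0 := hQ₁ _ (fun y => by
      have := hv (Sum.elim y 0)
      simp [QuadraticMap.polar, hG, Pi.add_comp] at this
      rw [QuadraticMap.polar]
      have h' : t * (Q₁ (v ∘ Sum.inl + y) - Q₁ (v ∘ Sum.inl) - Q₁ y) = 0 := by linear_combination this
      exact (mul_eq_zero.1 h').resolve_left ht)
    have h2 : v ∘ Sum.inr = 0 := hQ₂ _ (fun y => by
      have := hv (Sum.elim 0 y)
      simp [QuadraticMap.polar, hG, Pi.add_comp] at this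
      rw [QuadraticMap.polar]
      linear_combination this)
    funext i
    rcases i with i | i
    · exact congrFun h1 i
    · exact congrFun h2 i
  have hdet : ∀ t, (Matrix.of fun i j => QuadraticMap.polar (⇑(G t)) (Pi.basisFun F (α ⊕ β) i) (Pi.basisFun F (α ⊕ β) j)).det
      = t ^ o * ((Matrix.of fun i j => QuadraticMap.polar (⇑Q₁) (Pi.basisFun F α i) (Pi.basisFun F α j)).det *
        (Matrix.of fun i j => QuadraticMap.polar (⇑Q₂) (Pi.basisFun F β i) (Pi.basisFun F β j)).det) := by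
    intro t
    have e1 : ∀ i : α, (Pi.single (Sum.inl i) (1 : F) : α ⊕ β → F) ∘ Sum.inl = Pi.single i 1 := fun i => by
      funext k; simp [Pi.single_apply]
    have e2 : ∀ i : α, (Pi.single (Sum.inl i) (1 : F) : α ⊕ β → F) ∘ Sum.inr = 0 := fun i => by
      funext k; simp [Pi.single_apply]
    have e3 : ∀ i : β, (Pi.single (Sum.inr i) (1 : F) : α ⊕ β → F) ∘ Sum.inr = Pi.single i 1 := fun i => by
      funext k; simp [Pi.single_apply]
    have e4 : ∀ i : β, (Pi.single (Sum.inr i) (1 : F) : α ⊕ β → F) ∘ Sum.inl = 0 := fun i => by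
      funext k; simp [Pi.single_apply]
    have hb : (Matrix.of fun i j => QuadraticMap.polar (⇑(G t)) (Pi.basisFun F (α ⊕ β) i) (Pi.basisFun F (α ⊕ β) j)) =
        Matrix.fromBlocks (t • Matrix.of fun i j => QuadraticMap.polar (⇑Q₁) (Pi.basisFun F α i) (Pi.basisFun F α j))
          0 0 (Matrix.of fun i j => QuadraticMap.polar (⇑Q₂) (Pi.basisFun F β i) (Pi.basisFun F β j)) := by
      ext (i | i) (j | j) <;>
        simp [QuadraticMap.polar, hG, Pi.basisFun_apply, Pi.add_comp, e1, e2, e3, e4] <;> ring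
    rw [hb, Matrix.det_fromBlocks_zero₂₁, Matrix.det_smul, hc₁, Multiset.sum_singleton, mul_assoc]
  refine ⟨α ⊕ β, inferInstance, inferInstance, G 1, G c, Matrix.fromBlocks A₁ 0 0 A₂, hsep 1 one_ne_zero,
    hsep c hc0, ?_, ?_, by simp [hc₁, hc₂], ?_, ?_⟩
  · intro v
    simp [hG, fromBlocks_mulVec, hA₁, hA₂]
  · intro v
    simp [hG, fromBlocks_mulVec, hA₁, hA₂]
  · intro j
    rw [H44.fromBlocks_sub_one, H44.fromBlocks_pow_zero, H44.rank_fromBlocks_zero, hr₁, hr₂]
    simp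
  · have hne : (Matrix.of fun i j => QuadraticMap.polar (⇑Q₁) (Pi.basisFun F α i) (Pi.basisFun F α j)).det *
        (Matrix.of fun i j => QuadraticMap.polar (⇑Q₂) (Pi.basisFun F β i) (Pi.basisFun F β j)).det ≠ 0 :=
      mul_ne_zero (H44.gram_det_ne_zero _ hQ₁ _) (H44.gram_det_ne_zero _ hQ₂ _)
    rw [hdet, hdet, one_pow, one_mul]
    generalize (Matrix.of fun i j => QuadraticMap.polar (⇑Q₁) (Pi.basisFun F α i) (Pi.basisFun F α j)).det *
        (Matrix.of fun i j => QuadraticMap.polar (⇑Q₂) (Pi.basisFun F β i) (Pi.basisFun F β j)).det = D at hne ⊢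
    intro hsq
    obtain ⟨k, rfl⟩ := ho
    obtain ⟨r, hr⟩ := hsq
    refine hc ⟨r / (c ^ k * D), ?_⟩
    have := pow_ne_zero k hc0
    field_simp
    linear_combination hr

end H47
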