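import Mathlib
import Cfsg.Prelude.Def_GeometricClasses
import Cfsg.Agent.H47.UniPart

/-!
Unipotent elements with prescribed partition in the standard orthogonal groups.
-/

set_option autoImplicit false

namespace H47

open Matrix

variable {F : Type*} [Field F]

/-- A partition with even multiplicities of even parts is realised. -/
lemma realised_of_even (h2 : (2 : F) ≠ 0) {s : Multiset ℕ} (h : ∀ e : ℕ, Even e → Even (s.count e)) :
    H44.Realised F s :=
  H44.realised_of_parity (fun j => Even j) (fun a ha => H44.realised_odd h2 (Nat.not_even_iff_odd.1 ha)) s h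

/-- Odd dimension. -/
theorem exists_unipotent_odd [Fintype F] (h2 : (2 : F) ≠ 0) {d : ℕ} {μ : Multiset ℕ} (hμ0 : 0 ∉ μ)
    (hev : ∀ e : ℕ, Even e → Even (μ.count e)) (hsum : μ.sum = 2 * d + 1) :
    ∃ x : GL (Unit ⊕ (Fin d ⊕ Fin d)) F, x ∈ Cfsg.isometryGroup F (Cfsg.quadFormOdd d F) ∧
      ∀ j, (((x : Matrix (Unit ⊕ (Fin d ⊕ Fin d)) (Unit ⊕ (Fin d ⊕ Fin d)) F) - 1) ^ j).rank = (μ.map fun a => a - j).sum := by
  obtain ⟨κ, _, _, Q, A, hQ, hA, hc, hr⟩ := realised_of_even h2 hev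
  have hfr : Module.finrank F (κ → F) = 2 * d + 1 := by rw [Module.finrank_pi, hc, hsum]
  obtain ⟨c, φ, hc0, hφ⟩ := H44.equiv_odd hfr Q hQ
  let S : (Unit ⊕ (Fin d ⊕ Fin d) → F) ≃ₗ[F] (Unit ⊕ (Fin d ⊕ Fin d) → F) :=
    (LinearEquiv.sumArrowLequivProdArrow _ _ F F).trans
      (((LinearEquiv.refl F _).prodCongr (H44.scaleLeftEquiv d c⁻¹ (inv_ne_zero hc0))).trans
        (LinearEquiv.sumArrowLequivProdArrow _ _ F F).symm)
  refine transport_realisation hA hr _ (φ.trans S) (c := c⁻¹) fun v => ?_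
  rw [hφ, mul_add, ← mul_assoc, inv_mul_cancel₀ hc0, one_mul, Finset.mul_sum]
  simp [Cfsg.quadFormOdd, S, H44.scaleLeftEquiv, mul_assoc]

/-- A minus-type space has no totally singular half. -/
lemma minus_no_half [Fintype F] {d : ℕ} (hd : 1 ≤ d) {a b : F}
    (hab : ∀ x y : F, x ^ 2 + a * x * y + b * y ^ 2 = 0 → x = 0 ∧ y = 0)
    (U : Submodule F ((Fin (d - 1) ⊕ Fin (d - 1)) ⊕ Fin 2 → F))
    (hU : ∀ u ∈ U, Cfsg.quadFormMinus (d - 1) F a b u = 0) : Module.finrank F U < d := by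
  have h := H44.finrank_le_of_totally_singular (k := d - 1)
    (LinearMap.funLeft F F (fun i => Sum.inl (Sum.inl i))) (LinearMap.funLeft F F (fun i => Sum.inl (Sum.inr i)))
    (LinearMap.funLeft F F Sum.inr)
    (fun v h1 h2 h3 => by
      funext i
      rcases i with (i | i) | i
      · exact congrFun h1 i
      · exact congrFun h2 i
      · exact congrFun h3 i)
    (Cfsg.quadFormMinus (d - 1) F a b) (fun z => z 0 ^ 2 + a * z 0 * z 1 + b * z 1 ^ 2)
    (fun z hz => by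
      obtain ⟨h0, h1⟩ := hab _ _ hz
      funext i; fin_cases i <;> assumption)
    (fun v => by simp [Cfsg.quadFormMinus, LinearMap.funLeft, dotProduct]) U hU
  omega

/-- With an odd part, both types occur. -/
theorem exists_unipotent_both [Fintype F] (h2 : (2 : F) ≠ 0) {d : ℕ} (hd : 1 ≤ d) {μ : Multiset ℕ}
    (hev : ∀ e : ℕ, Even e → Even (μ.count e)) (hsum : μ.sum = 2 * d) (hodd : ∃ o ∈ μ, Odd o) :
    (∃ x : GL (Fin d ⊕ Fin d) F, x ∈ Cfsg.isometryGroup F (Cfsg.quadFormPlus d F) ∧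
      ∀ j, (((x : Matrix (Fin d ⊕ Fin d) (Fin d ⊕ Fin d) F) - 1) ^ j).rank = (μ.map fun a => a - j).sum) ∧
    ∀ (a b : F), (∀ x y : F, x ^ 2 + a * x * y + b * y ^ 2 = 0 → x = 0 ∧ y = 0) →
      ∃ x : GL ((Fin (d - 1) ⊕ Fin (d - 1)) ⊕ Fin 2) F,
      x ∈ Cfsg.isometryGroup F (Cfsg.quadFormMinus (d - 1) F a b) ∧
      ∀ j, (((x : Matrix ((Fin (d - 1) ⊕ Fin (d - 1)) ⊕ Fin 2) ((Fin (d - 1) ⊕ Fin (d - 1)) ⊕ Fin 2) F) - 1) ^ j).rank = (μ.map fun a => a - j).sum := by
  classical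
  obtain ⟨o, ho, hoo⟩ := hodd
  obtain ⟨s, rfl⟩ := Multiset.exists_cons_of_mem ho
  have hs : ∀ e : ℕ, Even e → Even (s.count e) := fun e he => by
    have := hev e he
    rwa [Multiset.count_cons_of_ne (fun h : e = o => (Nat.not_even_iff_odd.2 hoo) (h ▸ he))] at this
  obtain ⟨κ, _, _, Q, Q', A, hQ, hQ', hA, hA', hc, hr, hns⟩ := realised_two h2 hoo (realised_of_even h2 hs)
  have hfr : Module.finrank F (κ → F) = 2 * d := by rw [Module.finrank_pi, hc, hsum]
  have hiso : ∀ (e : (κ → F) ≃ₗ[F] (κ → F)), (∀ v, Q' (e v) = Q v) → False := by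
    intro e he
    obtain ⟨t, ht, h⟩ := H44.gram_det_isometry Q Q' e he (Pi.basisFun F κ) (Pi.basisFun F κ)
    apply hns
    rw [h]
    exact ⟨t * (Matrix.of fun i j => QuadraticMap.polar (⇑Q') (Pi.basisFun F κ i) (Pi.basisFun F κ j)).det, by ring⟩
  rcases H44.equiv_plus_or_minus hfr Q hQ with ⟨φ, hφ⟩ | ⟨-, ζ, φ, hζ, hφ⟩ <;>
    rcases H44.equiv_plus_or_minus hfr Q' hQ' with ⟨φ', hφ'⟩ | ⟨-, ζ', φ', hζ', hφ'⟩
  · exact (hiso (φ.trans φ'.symm) (fun v => by rw [hφ', hφ]; simp)).elim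
  · refine ⟨transport_realisation hA hr _ φ (c := 1) (fun v => by rw [hφ, one_mul]), fun a b hab => ?_⟩
    obtain ⟨ψ, hψ⟩ := H44.minus_equiv_normal hζ' (d - 1) a b hab
    exact transport_realisation hA' hr _ (φ'.trans ψ.symm) (c := 1) (fun v => by rw [hψ, hφ', one_mul]; simp)
  · refine ⟨transport_realisation hA' hr _ φ' (c := 1) (fun v => by rw [hφ', one_mul]), fun a b hab => ?_⟩
    obtain ⟨ψ, hψ⟩ := H44.minus_equiv_normal hζ (d - 1) a b hab
    exact transport_realisation hA hr _ (φ.trans ψ.symm) (c := 1) (fun v => by rw [hψ, hφ, one_mul]; simp)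
  · obtain ⟨ψ, hψ⟩ := H44.minus_equiv_normal hζ (d - 1) 1 ζ' (H44.binForm_one_anisotropic hζ')
    exact (hiso (φ.trans (ψ.symm.trans φ'.symm)) (fun v => by rw [hφ', hφ, hψ]; simp)).elim

/-- Plus type: every admissible partition occurs. -/
theorem exists_unipotent_plus [Fintype F] (h2 : (2 : F) ≠ 0) {d : ℕ} (hd : 1 ≤ d) {μ : Multiset ℕ}
    (hμ0 : 0 ∉ μ) (hev : ∀ e : ℕ, Even e → Even (μ.count e)) (hsum : μ.sum = 2 * d) :
    ∃ x : GL (Fin d ⊕ Fin d) F, x ∈ Cfsg.isometryGroup F (Cfsg.quadFormPlus d F) ∧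
      ∀ j, (((x : Matrix (Fin d ⊕ Fin d) (Fin d ⊕ Fin d) F) - 1) ^ j).rank = (μ.map fun a => a - j).sum := by
  classical
  by_cases hodd : ∃ o ∈ μ, Odd o
  · exact (exists_unipotent_both h2 hd hev hsum hodd).1
  push Not at hodd
  obtain ⟨κ, _, _, Q, A, hQ, hA, hc, hr⟩ := realised_of_even h2 hev
  have hfr : Module.finrank F (κ → F) = 2 * d := by rw [Module.finrank_pi, hc, hsum]
  rcases H44.equiv_plus_or_minus hfr Q hQ with ⟨φ, hφ⟩ | ⟨-, ζ, φ, hζ, hφ⟩
  · exact transport_realisation hA hr _ φ (c := 1) (fun v => by rw [hφ, one_mul])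
  · exfalso
    obtain ⟨g, hg, hgr⟩ := transport_realisation hA hr
      (Cfsg.quadFormMinus (d - 1) F 1 ζ) φ (c := 1) (fun v => by rw [hφ, one_mul])
    have hab := H44.binForm_one_anisotropic hζ
    rw [← H43.coe_qMinus] at hg
    obtain ⟨ν, hνle, hνs, -, hνp⟩ := partition_of_fixed h2 (H43.qMinus (d - 1) F 1 ζ)
      (H43.qMinus_nondeg _ hab) hg hμ0 hgr ⊤ (finrank_top F _)
      (fun w _ hw => by
        obtain ⟨y, hy⟩ : ∃ y, QuadraticMap.polar ⇑(H43.qMinus (d - 1) F 1 ζ) w y ≠ 0 := by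
          by_contra h
          push Not at h
          exact hw ((H43.qMinus_nondeg (d - 1) hab).1 w h)
        exact ⟨⟨y, trivial, by rwa [QuadraticMap.polar_comm]⟩, y, trivial, hy⟩)
      le_top
    obtain ⟨U, -, hU, hUd⟩ := hνp (fun e he => Nat.not_odd_iff_even.1 (hodd e (Multiset.mem_of_le hνle he)))
    have h := minus_no_half hd hab U (fun u hu => by rw [← H43.coe_qMinus]; exact hU u hu)
    rw [finrank_top, H43.finrank_qMinus] at hUd
    omega

/-- Sum of a multiset supported on at most three values. -/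
lemma sum_eq_of_support {ν : Multiset ℕ} {u v w : ℕ} (huv : u ≠ v) (huw : u ≠ w) (hvw : v ≠ w)
    (h : ∀ e ∈ ν, e = u ∨ e = v ∨ e = w) :
    ν.sum = u * ν.count u + v * ν.count v + w * ν.count w := by
  induction ν using Multiset.induction with
  | empty => simp
  | cons a s ih =>
    have hs := ih (fun e he => h e (Multiset.mem_cons_of_mem he))
    rcases h a (Multiset.mem_cons_self a s) with rfl | rfl | rfl
    · simp [Multiset.count_cons_self, Multiset.count_cons_of_ne, huv.symm, huw.symm, hs]; ring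
    · simp [Multiset.count_cons_self, Multiset.count_cons_of_ne, huv, hvw.symm, hs]; ring
    · simp [Multiset.count_cons_self, Multiset.count_cons_of_ne, huw, hvw, hs]; ring

/-- All parts equal to one. -/
lemma ones_case {μ : Multiset ℕ} {m N : ℕ} (hμ0 : ∀ e ∈ μ, 0 < e) (hsum : μ.sum = N) (hm : m ≤ N)
    (h1 : ¬ ∃ e ∈ μ, 1 < e) :
    ∃ ν : Multiset ℕ, ν ≤ μ ∧ ν.sum = m ∧ ∀ e : ℕ, Even e → Even (ν.count e) := by
  push Not at h1
  have hμ : μ = Multiset.replicate μ.card 1 :=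
    Multiset.eq_replicate_card.2 fun e he => by have := hμ0 e he; have := h1 e he; omega
  have hN : μ.card = N := by rw [hμ] at hsum; simpa using hsum
  refine ⟨Multiset.replicate m 1, ?_, by simp, fun e he => ?_⟩
  · rw [hμ]
    exact Multiset.le_count_iff_replicate_le.1 (by simp [hN, hm])
  · rw [Multiset.count_replicate, if_neg (by rintro rfl; simp at he)]
    exact ⟨0, rfl⟩

end H47
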