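import Mathlib
import Cfsg.Prelude.Def_GeometricClasses
import Cfsg.Agent.H47.Nilpotent
import Cfsg.Agent.H47.Basic

/-!
# Elements of order three and subfield groups in characteristic three
-/

set_option autoImplicit false
open scoped MatrixGroups Matrix
open Matrix

namespace H47

variable {F : Type*} [Field F] {ι : Type} [Fintype ι] [DecidableEq ι]

lemma mem_subfieldSubgroup_one {F₀ : Subfield F} {g : GL ι F} :
    g ∈ Cfsg.Geo.subfieldSubgroup F₀ (1 : GL ι F) ↔ ∃ (g₀ : GL ι ↥F₀) (c : Fˣ),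
      (g : Matrix ι ι F) = (c : F) • (g₀ : Matrix ι ι ↥F₀).map F₀.subtype := by
  rw [Cfsg.Geo.subfieldSubgroup]
  have h1 : (MulAut.conj (1 : GL ι F)).toMonoidHom = MonoidHom.id _ := by ext g : 1; simp
  rw [h1, Subgroup.map_id, Subgroup.mem_sup_of_normal_right]
  constructor
  · rintro ⟨y, ⟨g₀, rfl⟩, z, hz, rfl⟩
    obtain ⟨c, hc⟩ := (Cfsg.Geo.mem_scalars_iff z).mp hz
    refine ⟨g₀, c, ?_⟩
    rw [Units.val_mul, hc, Matrix.mul_smul, Matrix.mul_one]
    rfl
  · rintro ⟨g₀, c, hc⟩
    refine ⟨_, ⟨g₀, rfl⟩, Units.map (Matrix.scalar ι : F →+* Matrix ι ι F).toMonoidHom c, ⟨c, rfl⟩, ?_⟩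
    apply Units.ext
    rw [Units.val_mul, hc]
    simp [Matrix.GeneralLinearGroup.map, RingHom.mapMatrix_apply, ← Matrix.smul_one_eq_diagonal]

/-- A unit with entries in the subfield comes from the subfield. -/
lemma mem_subfieldSubgroup_of_matrix {F₀ : Subfield F} {g : GL ι F} {c : F} (M : Matrix ι ι ↥F₀)
    (hM : M.det ≠ 0) (hc : c ≠ 0) (h : (g : Matrix ι ι F) = c • M.map F₀.subtype) :
    g ∈ Cfsg.Geo.subfieldSubgroup F₀ (1 : GL ι F) :=
  mem_subfieldSubgroup_one.mpr ⟨Matrix.GeneralLinearGroup.mkOfDetNeZero M hM, Units.mk0 c hc, h⟩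

section finite
variable [Fintype F]

omit [Fintype ι] [DecidableEq ι] in
lemma mem_subfield_of_pow {F₀ : Subfield F} {q₀ : ℕ} (hF₀ : Nat.card ↥F₀ = q₀) {x : F}
    (hx : x ^ q₀ = x) : x ∈ F₀ := by
  classical
  haveI : Fintype ↥F₀ := Fintype.ofFinite _
  rw [Nat.card_eq_fintype_card] at hF₀
  have hq : 1 < q₀ := hF₀ ▸ Fintype.one_lt_card
  set P : Polynomial F := Polynomial.X ^ q₀ - Polynomial.X with hP
  have hP0 : P ≠ 0 := FiniteField.X_pow_card_sub_X_ne_zero F hq
  have hdeg : P.natDegree = q₀ := FiniteField.X_pow_card_sub_X_natDegree_eq F hq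
  have hsub : Finset.univ.map (Function.Embedding.subtype (· ∈ F₀)) ⊆ P.roots.toFinset := by
    intro y hy
    obtain ⟨⟨z, hz⟩, -, rfl⟩ := Finset.mem_map.mp hy
    rw [Multiset.mem_toFinset, Polynomial.mem_roots hP0]
    have := congrArg Subtype.val (hF₀ ▸ FiniteField.pow_card (⟨z, hz⟩ : ↥F₀))
    simp only [SubmonoidClass.coe_pow] at this
    simp [P, this]
  have heq : Finset.univ.map (Function.Embedding.subtype (· ∈ F₀)) = P.roots.toFinset := by
    refine Finset.eq_of_subset_of_card_le hsub ?_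
    rw [Finset.card_map, Finset.card_univ, hF₀]
    exact (Multiset.toFinset_card_le _).trans ((Polynomial.card_roots' P).trans hdeg.le)
  have : x ∈ P.roots.toFinset := by
    rw [Multiset.mem_toFinset, Polynomial.mem_roots hP0]
    simp [P, hx]
  rw [← heq] at this
  obtain ⟨⟨z, hz⟩, -, rfl⟩ := Finset.mem_map.mp this
  exact hz

omit [Fintype ι] [DecidableEq ι] in
lemma cube_surjective [CharP F 3] (a : F) : ∃ b : F, b ^ 3 = a := by
  obtain ⟨b, hb⟩ := Finite.injective_iff_surjective.mp (frobenius_inj F 3) a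
  exact ⟨b, by simpa [frobenius_def] using hb⟩

/-- Conjugation into the subfield group. -/
theorem subfield_conj_exists [CharP F 3] {n q₀ k : ℕ} {F₀ : Subfield F}
    (hF₀ : Nat.card ↥F₀ = q₀) (hk : k.Prime) (hqk : Fintype.card F = q₀ ^ k)
    (hcase : Odd n ∨ 2 < k) {x : GL (Fin n) F} (hxd : (x : Matrix (Fin n) (Fin n) F).det = 1)
    {z : F} (hz : (x : Matrix (Fin n) (Fin n) F) ^ 3 = z • 1) :
    ∃ P : GL (Fin n) F, (P : Matrix (Fin n) (Fin n) F).det = 1 ∧
      P⁻¹ * x * P ∈ Cfsg.Geo.subfieldSubgroup F₀ (1 : GL (Fin n) F) := by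
  classical
  rcases Nat.eq_zero_or_pos n with rfl | hn0
  · refine ⟨1, by simp, ?_⟩
    rw [Subsingleton.elim (1⁻¹ * x * 1) 1]
    exact Subgroup.one_mem _
  haveI : Nonempty (Fin n) := ⟨⟨0, hn0⟩⟩
  have hz0 : z ≠ 0 := by
    intro h
    rw [h, zero_smul] at hz
    have := congrArg Matrix.det hz
    rw [Matrix.det_pow, hxd, one_pow, Matrix.det_zero] at this
    exact one_ne_zero this
  obtain ⟨l, hl⟩ := cube_surjective z
  have hl0 : l ≠ 0 := by rintro rfl; exact hz0 (by rw [← hl]; simp)
  set N : Matrix (Fin n) (Fin n) F := l⁻¹ • (x : Matrix (Fin n) (Fin n) F) - 1 with hN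
  have hN3 : N ^ 3 = 0 := by
    haveI : CharP (Matrix (Fin n) (Fin n) F) 3 := Matrix.charP 3
    rw [hN, sub_pow_char_of_commute 3 (Commute.one_right _), one_pow, smul_pow, hz, smul_smul, ← hl,
      ← mul_pow, inv_mul_cancel₀ hl0, one_pow, one_smul, sub_self]
  have hxN : (x : Matrix (Fin n) (Fin n) F) = l • (1 + N) := by
    rw [hN, add_sub_cancel, smul_smul, mul_inv_cancel₀ hl0, one_smul]
  obtain ⟨S, _, _, sz, b, hb⟩ := exists_jordan_chains _ (Matrix.toLin' N)
    (⟨3, by rw [← Matrix.toLin'_pow, hN3, map_zero]⟩) rfl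
  -- chains have length at most three
  have hchain : ∀ (i : S) (j : ℕ) (hj : j < sz i + 1),
      ((Matrix.toLin' N) ^ j) (b ⟨i, ⟨0, Nat.succ_pos _⟩⟩) = b ⟨i, ⟨j, hj⟩⟩ := by
    intro i j
    induction j with
    | zero => intro hj; rfl
    | succ j ih =>
      intro hj
      rw [pow_succ', Module.End.mul_apply, ih (by omega), hb i ⟨j, by omega⟩, dif_pos hj]
  have hsz : ∀ i, sz i ≤ 2 := by
    intro i
    by_contra h
    have := hchain i 3 (by omega)
    rw [← Matrix.toLin'_pow, hN3, map_zero, LinearMap.zero_apply] at this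
    exact b.ne_zero _ this.symm
  have hcard : Fintype.card (Σ i : S, Fin (sz i + 1)) = n := by
    rw [← Module.finrank_eq_card_basis b, Module.finrank_fin_fun]
  let e : Fin n ≃ (Σ i : S, Fin (sz i + 1)) := (Fintype.equivFinOfCardEq hcard).symm
  let Qm : Matrix (Fin n) (Fin n) F := Matrix.of fun r c => b (e c) r
  let J : Matrix (Fin n) (Fin n) ↥F₀ := Matrix.of fun r c =>
    if (e r).1 = (e c).1 ∧ ((e r).2 : ℕ) = ((e c).2 : ℕ) + 1 then 1 else 0
  have hJ : N * Qm = Qm * J.map F₀.subtype := by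
    ext r c
    have h1 : (N * Qm) r c = (Matrix.toLin' N) (b (e c)) r := by
      simp [Qm, Matrix.mul_apply, Matrix.mulVec, dotProduct]
    rw [h1, Matrix.mul_apply]
    obtain ⟨i, j, hij⟩ : ∃ i j, e c = ⟨i, j⟩ := ⟨(e c).1, (e c).2, rfl⟩
    rw [hij, hb i j]
    by_cases h : (j : ℕ) + 1 < sz i + 1
    · rw [dif_pos h, Finset.sum_eq_single (e.symm ⟨i, ⟨(j : ℕ) + 1, h⟩⟩)]
      · simp only [Qm, J, Matrix.of_apply, Matrix.map_apply]
        rw [hij, e.apply_symm_apply]
        simp
      · intro r' _ hne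
        have : ¬ ((e r').1 = i ∧ ((e r').2 : ℕ) = (j : ℕ) + 1) := by
          rintro ⟨h1, h2⟩
          apply hne
          rw [← e.symm_apply_apply r']
          congr 1
          generalize e r' = p at h1 h2
          obtain ⟨i', j'⟩ := p
          subst h1
          exact congrArg _ (Fin.ext h2)
        simp only [Qm, J, Matrix.of_apply, Matrix.map_apply]
        rw [hij, if_neg this]
        simp
      · simp
    · rw [dif_neg h, Finset.sum_eq_zero]
      · simp
      · intro r' _
        have : ¬ ((e r').1 = i ∧ ((e r').2 : ℕ) = (j : ℕ) + 1) := by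
          rintro ⟨h1, h2⟩
          generalize e r' = p at h1 h2
          obtain ⟨i', j'⟩ := p
          subst h1
          exact h (h2 ▸ j'.2)
        simp only [Qm, J, Matrix.of_apply, Matrix.map_apply]
        rw [hij, if_neg this]
        simp
  have hQdet : Qm.det ≠ 0 := by
    have : Qm = (Pi.basisFun F (Fin n)).toMatrix (b.reindex e.symm) := by
      ext r c; simp [Qm, Module.Basis.toMatrix_apply]
    intro h0
    rw [this] at h0
    have h2 := Module.Basis.toMatrix_mul_toMatrix_flip (Pi.basisFun F (Fin n)) (b.reindex e.symm)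
    have h3 := congrArg Matrix.det h2
    rw [Matrix.det_mul, h0, zero_mul, Matrix.det_one] at h3
    exact zero_ne_one h3
  let Q : GL (Fin n) F := Matrix.GeneralLinearGroup.mkOfDetNeZero Qm hQdet
  have hxQ : (x : Matrix (Fin n) (Fin n) F) * Qm = Qm * (l • (1 + J).map F₀.subtype) := by
    rw [hxN, Matrix.smul_mul, Matrix.add_mul, Matrix.one_mul, hJ, Matrix.mul_smul,
      Matrix.map_add _ (map_add F₀.subtype), Matrix.map_one _ (map_zero _) (map_one _), mul_add, mul_one]
  have hJdet : (1 + J).det ≠ 0 := by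
    intro h
    have h1 := congrArg Matrix.det hxQ
    rw [Matrix.det_mul, Matrix.det_mul, hxd, one_mul, Matrix.det_smul,
      ← RingHom.mapMatrix_apply, ← RingHom.map_det, h, map_zero, mul_zero, mul_zero] at h1
    exact hQdet h1
  -- an element commuting with the Jordan matrix, scalar on one chain
  let C : S → Fˣ → Matrix (Fin n) (Fin n) F := fun i t =>
    Matrix.diagonal fun c => if (e c).1 = i then (t : F) else 1
  have hCcomm : ∀ i t, (l • (1 + J).map F₀.subtype) * C i t = C i t * (l • (1 + J).map F₀.subtype) := by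
    intro i t
    rw [Matrix.smul_mul, Matrix.mul_smul, Matrix.map_add _ (map_add F₀.subtype),
      Matrix.map_one _ (map_zero _) (map_one _)]
    congr 1
    rw [add_mul, mul_add, one_mul, mul_one]
    congr 1
    ext r c
    simp only [C, Matrix.mul_diagonal, Matrix.diagonal_mul, Matrix.map_apply, J, Matrix.of_apply]
    by_cases h : (e r).1 = (e c).1 ∧ ((e r).2 : ℕ) = ((e c).2 : ℕ) + 1
    · rw [if_pos h, h.1, mul_comm]
    · rw [if_neg h, map_zero, zero_mul, mul_zero]
  have hCdet : ∀ i (t : Fˣ), (C i t).det = (t : F) ^ (sz i + 1) := by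
    intro i t
    rw [Matrix.det_diagonal, Equiv.prod_comp e (fun c => if c.1 = i then (t : F) else 1),
      Fintype.prod_sigma]
    rw [Finset.prod_eq_single i]
    · simp
    · intro i' _ h; simp [h]
    · simp
  -- final step
  have finish : ∀ (i : S) (t : Fˣ) (D : Matrix (Fin n) (Fin n) ↥F₀),
      Qm.det * (t : F) ^ (sz i + 1) * F₀.subtype D.det = 1 →
      ∃ P : GL (Fin n) F, (P : Matrix (Fin n) (Fin n) F).det = 1 ∧
        P⁻¹ * x * P ∈ Cfsg.Geo.subfieldSubgroup F₀ (1 : GL (Fin n) F) := by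
    intro i t D hdet
    have hD : D.det ≠ 0 := fun h => by rw [h, map_zero, mul_zero] at hdet; exact zero_ne_one hdet
    have hCd : (C i t).det ≠ 0 := by rw [hCdet]; exact pow_ne_zero _ t.ne_zero
    let Cg : GL (Fin n) F := Matrix.GeneralLinearGroup.mkOfDetNeZero (C i t) hCd
    let Dg : GL (Fin n) F := Matrix.GeneralLinearGroup.map F₀.subtype (Matrix.GeneralLinearGroup.mkOfDetNeZero D hD)
    have hY : Q⁻¹ * x * Q ∈ Cfsg.Geo.subfieldSubgroup F₀ (1 : GL (Fin n) F) := by
      refine mem_subfieldSubgroup_of_matrix (1 + J) hJdet hl0 ?_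
      rw [mul_assoc, Units.val_mul, Units.val_mul]
      show ((Q⁻¹ : GL (Fin n) F) : Matrix (Fin n) (Fin n) F) * ((x : Matrix (Fin n) (Fin n) F) * Qm) = _
      rw [hxQ, ← Matrix.mul_assoc, show Qm = (Q : Matrix (Fin n) (Fin n) F) from rfl, Units.inv_mul,
        Matrix.one_mul]
    have hcomm : Cg⁻¹ * (Q⁻¹ * x * Q) * Cg = Q⁻¹ * x * Q := by
      rw [mul_assoc, inv_mul_eq_iff_eq_mul]
      apply Units.ext
      rw [Units.val_mul Cg (Q⁻¹ * x * Q), Units.val_mul (Q⁻¹ * x * Q) Cg]
      have : ((Q⁻¹ * x * Q : GL (Fin n) F) : Matrix (Fin n) (Fin n) F) = l • (1 + J).map F₀.subtype := by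
        rw [mul_assoc, Units.val_mul, Units.val_mul]
        show ((Q⁻¹ : GL (Fin n) F) : Matrix (Fin n) (Fin n) F) * ((x : Matrix (Fin n) (Fin n) F) * Qm) = _
        rw [hxQ, ← Matrix.mul_assoc, show Qm = (Q : Matrix (Fin n) (Fin n) F) from rfl, Units.inv_mul,
          Matrix.one_mul]
      rw [this]
      exact hCcomm i t
    refine ⟨Q * Cg * Dg, ?_, ?_⟩
    · rw [Units.val_mul, Units.val_mul, Matrix.det_mul, Matrix.det_mul]
      show Qm.det * (C i t).det * (D.map F₀.subtype).det = 1
      rw [hCdet, ← RingHom.mapMatrix_apply, ← RingHom.map_det]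
      exact hdet
    · have : (Q * Cg * Dg)⁻¹ * x * (Q * Cg * Dg) = Dg⁻¹ * (Cg⁻¹ * (Q⁻¹ * x * Q) * Cg) * Dg := by group
      rw [this, hcomm]
      have hDg : Dg ∈ Cfsg.Geo.subfieldSubgroup F₀ (1 : GL (Fin n) F) :=
        mem_subfieldSubgroup_of_matrix D hD one_ne_zero (by rw [one_smul]; rfl)
      exact Subgroup.mul_mem _ (Subgroup.mul_mem _ (Subgroup.inv_mem _ hDg) hY) hDg
  by_cases hgood : ∃ i, sz i = 0 ∨ sz i = 2
  · obtain ⟨i, hi⟩ := hgood
    rcases hi with h | h
    · refine finish i (Units.mk0 Qm.det⁻¹ (inv_ne_zero hQdet)) 1 ?_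
      rw [h, Units.val_mk0, Matrix.det_one, map_one, mul_one, pow_one, mul_inv_cancel₀ hQdet]
    · obtain ⟨t, ht⟩ := cube_surjective Qm.det⁻¹
      have ht0 : t ≠ 0 := by
        rintro rfl
        exact inv_ne_zero hQdet (by rw [← ht]; simp)
      refine finish i (Units.mk0 t ht0) 1 ?_
      rw [h, Units.val_mk0, Matrix.det_one, map_one, mul_one, ht, mul_inv_cancel₀ hQdet]
  · push Not at hgood
    have h1 : ∀ i, sz i = 1 := fun i => by have := hsz i; have := hgood i; omega
    have heven : Even n := by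
      rw [← hcard, Fintype.card_sigma]
      simp only [Fintype.card_fin, h1, Finset.sum_const, Finset.card_univ, smul_eq_mul]
      exact ⟨Fintype.card S, by ring⟩
    have hk2 : 2 < k := hcase.resolve_left (Nat.not_odd_iff_even.mpr heven)
    have hkodd : Odd k := hk.odd_of_ne_two (by omega)
    have i : S := (e ⟨0, hn0⟩).1
    have hFodd : Odd (Fintype.card F) := by
      rw [Nat.odd_iff]
      apply FiniteField.odd_card_of_char_ne_two
      rw [ringChar.eq F 3]; norm_num
    by_cases hsq : IsSquare Qm.det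
    · obtain ⟨u, hu⟩ := hsq
      have hu0 : u ≠ 0 := by rintro rfl; exact hQdet (by rw [hu]; simp)
      refine finish i (Units.mk0 u⁻¹ (inv_ne_zero hu0)) 1 ?_
      rw [h1 i, Units.val_mk0, Matrix.det_one, map_one, mul_one, hu, show 1 + 1 = 2 from rfl,
        inv_pow, pow_two, mul_inv_cancel₀ (mul_ne_zero hu0 hu0)]
    · -- a non-square of the subfield stays a non-square
      have hq₀ : Odd q₀ := by
        rw [hqk, Nat.odd_pow_iff hk.ne_zero] at hFodd
        exact hFodd
      haveI : Fintype ↥F₀ := Fintype.ofFinite _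
      have hchar : ringChar ↥F₀ ≠ 2 := by
        rw [ringChar.eq ↥F₀ 3]; norm_num
      obtain ⟨a, ha⟩ := FiniteField.exists_nonsquare hchar
      have ha' : ¬ IsSquare (F₀.subtype a) := by
        rintro ⟨u, hu⟩
        have hpa : (F₀.subtype a) ^ q₀ = F₀.subtype a := by
          rw [← map_pow, ← hF₀, Nat.card_eq_fintype_card, FiniteField.pow_card]
        rcases mul_self_eq_mul_self_iff.mp (show u ^ q₀ * u ^ q₀ = u * u by
          rw [← mul_pow, ← hu, hpa]) with h | h
        · exact ha ⟨⟨u, mem_subfield_of_pow hF₀ h⟩, Subtype.ext hu⟩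
        · have hpow : ∀ j : ℕ, u ^ (q₀ ^ j) = (-1) ^ j * u := by
            intro j
            induction j with
            | zero => simp
            | succ j ih =>
              rw [pow_succ q₀, pow_mul, ih, mul_pow, ← pow_mul, mul_comm j, pow_mul, hq₀.neg_one_pow,
                h, pow_succ]
              ring
          have := hpow k
          rw [← hqk, FiniteField.pow_card, hkodd.neg_one_pow] at this
          have h2 : (2 : F) * u = 0 := by linear_combination this
          rcases mul_eq_zero.mp h2 with h3 | h3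
          · have : ((2 : ℕ) : F) = 0 := by exact_mod_cast h3
            rw [CharP.cast_eq_zero_iff F 3] at this
            norm_num at this
          · exact ha ⟨0, Subtype.ext (by rw [show (a : F) = u * u from hu, h3]; simp)⟩
      -- product of two non-squares is a square
      have hprod : IsSquare (Qm.det * F₀.subtype a) := by
        have ha0 : F₀.subtype a ≠ 0 := fun h => ha' (h ▸ IsSquare.zero)
        have hc : ringChar F ≠ 2 := by rw [ringChar.eq F 3]; norm_num
        rw [← quadraticChar_one_iff_isSquare (mul_ne_zero hQdet ha0), map_mul,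
          quadraticChar_neg_one_iff_not_isSquare.mpr hsq, quadraticChar_neg_one_iff_not_isSquare.mpr ha']
        norm_num
      obtain ⟨u, hu⟩ := hprod
      have hu0 : u ≠ 0 := by
        rintro rfl
        rw [mul_zero] at hu
        rcases mul_eq_zero.mp hu with h | h
        · exact hQdet h
        · exact ha' (h ▸ IsSquare.zero)
      refine finish i (Units.mk0 u⁻¹ (inv_ne_zero hu0))
        (Matrix.diagonal fun c => if c = ⟨0, hn0⟩ then a else 1) ?_
      rw [Matrix.det_diagonal, Finset.prod_ite_eq' Finset.univ _ (fun _ => a), if_pos (Finset.mem_univ _),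
        h1 i, Units.val_mk0, mul_right_comm, hu, show 1 + 1 = 2 from rfl, inv_pow, pow_two,
        mul_inv_cancel₀ (mul_ne_zero hu0 hu0)]

/-- The twisted element with no conjugate in the subfield group. -/
theorem subfield_conj_not [CharP F 3] {m n q₀ : ℕ} (hnm : n = m + m) (hm : 0 < m) {F₀ : Subfield F}
    (hF₀ : Nat.card ↥F₀ = q₀) (hq : Fintype.card F = q₀ ^ 2) :
    ∃ x : GL (Fin n) F, (x : Matrix (Fin n) (Fin n) F).det = 1 ∧ x ^ 3 = 1 ∧
      (∀ z : F, (x : Matrix (Fin n) (Fin n) F) ≠ z • 1) ∧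
      ∀ P : GL (Fin n) F, (P : Matrix (Fin n) (Fin n) F).det = 1 →
        P⁻¹ * x * P ∉ Cfsg.Geo.subfieldSubgroup F₀ (1 : GL (Fin n) F) := by
  classical
  have hc : ringChar F ≠ 2 := by rw [ringChar.eq F 3]; norm_num
  obtain ⟨α, hα⟩ := FiniteField.exists_nonsquare hc
  have hα0 : α ≠ 0 := fun h => hα (h ▸ IsSquare.zero)
  haveI : NeZero m := ⟨hm.ne'⟩
  let X : Matrix (Fin m) (Fin m) F := Matrix.diagonal fun i => if i = 0 then α else 1
  have hXdet : X.det = α := by
    simp [X, Matrix.det_diagonal]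
  let e : Fin m ⊕ Fin m ≃ Fin n := finSumFinEquiv.trans (finCongr hnm.symm)
  let R := Matrix.reindexAlgEquiv F F e
  let B : GL (Fin m ⊕ Fin m) F :=
    { val := Matrix.fromBlocks 1 X 0 1
      inv := Matrix.fromBlocks 1 (-X) 0 1
      val_inv := by simp [Matrix.fromBlocks_multiply, Matrix.fromBlocks_one]
      inv_val := by simp [Matrix.fromBlocks_multiply, Matrix.fromBlocks_one] }
  let x : GL (Fin n) F := Units.map R.toMulEquiv.toMonoidHom B
  have hxv : (x : Matrix (Fin n) (Fin n) F) = R (Matrix.fromBlocks 1 X 0 1) := rfl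
  refine ⟨x, ?_, ?_, ?_, ?_⟩
  · rw [hxv]
    show (Matrix.reindex e e _).det = 1
    rw [Matrix.det_reindex_self, Matrix.det_fromBlocks_zero₂₁, Matrix.det_one, one_mul]
  · have hB : B ^ 3 = 1 := by
      apply Units.ext
      rw [pow_succ, pow_two, Units.val_mul, Units.val_mul]
      simp only [B, Matrix.fromBlocks_multiply, Matrix.one_mul, Matrix.mul_one, Matrix.zero_mul,
        Matrix.mul_zero, add_zero, zero_add, Units.val_one]
      have : X + (X + X) = 0 := by
        ext i j
        simp only [Matrix.add_apply, Matrix.zero_apply]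
        have h3 : (3 : F) = 0 := by
          have := CharP.cast_eq_zero F 3
          exact_mod_cast this
        linear_combination (X i j) * h3
      rw [this, Matrix.fromBlocks_one]
    rw [show x = Units.map R.toMulEquiv.toMonoidHom B from rfl, ← map_pow, hB, map_one]
  · intro z hz
    rw [hxv] at hz
    have h1 := congrArg R.symm hz
    rw [AlgEquiv.symm_apply_apply, map_smul, map_one, ← Matrix.fromBlocks_one, Matrix.fromBlocks_smul,
      Matrix.fromBlocks_inj] at h1
    have := h1.2.1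
    rw [smul_zero] at this
    have h2 := congrArg Matrix.det this
    rw [hXdet, Matrix.det_zero] at h2
    exact hα0 h2
  intro P hP hmem
  obtain ⟨g₀, c, hc₀⟩ := mem_subfieldSubgroup_one.mp hmem
  set ι₀ := F₀.subtype.mapMatrix (m := Fin n) with hι₀
  have hι₀inj : Function.Injective ι₀ := Matrix.map_injective Subtype.val_injective
  -- the scalar lies in the subfield
  have hy3 : (P⁻¹ * x * P) ^ 3 = 1 := by
    rw [show P⁻¹ * x * P = MulAut.conj P⁻¹ x by simp, ← map_pow]
    have hB : B ^ 3 = 1 := by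
      apply Units.ext
      rw [pow_succ, pow_two, Units.val_mul, Units.val_mul]
      simp only [B, Matrix.fromBlocks_multiply, Matrix.one_mul, Matrix.mul_one, Matrix.zero_mul,
        Matrix.mul_zero, add_zero, zero_add, Units.val_one]
      have : X + (X + X) = 0 := by
        ext i j
        simp only [Matrix.add_apply, Matrix.zero_apply]
        have h3 : (3 : F) = 0 := by
          have := CharP.cast_eq_zero F 3
          exact_mod_cast this
        linear_combination (X i j) * h3
      rw [this, Matrix.fromBlocks_one]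
    rw [show x = Units.map R.toMulEquiv.toMonoidHom B from rfl, ← map_pow, hB, map_one, map_one]
  haveI : Fintype ↥F₀ := Fintype.ofFinite _
  have hfix : ∀ a : ↥F₀, (a : F) ^ q₀ = a := by
    intro a
    rw [← SubmonoidClass.coe_pow, ← hF₀, Nat.card_eq_fintype_card, FiniteField.pow_card]
  have hc3 : ∃ a : ↥F₀, (c : F) ^ 3 * (a : F) = 1 := by
    have h1 := congrArg Units.val hy3
    rw [Units.val_pow_eq_pow_val, hc₀, smul_pow, Units.val_one] at h1
    have i : Fin n := ⟨0, by omega⟩
    refine ⟨((g₀ : Matrix (Fin n) (Fin n) ↥F₀) ^ 3) i i, ?_⟩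
    have h2 := congrFun (congrFun h1 i) i
    rw [show (g₀ : Matrix (Fin n) (Fin n) ↥F₀).map F₀.subtype = ι₀ (g₀ : Matrix (Fin n) (Fin n) ↥F₀) from rfl,
      ← map_pow, Matrix.smul_apply, Matrix.one_apply_eq] at h2
    exact h2
  have hcmem : (c : F) ∈ F₀ := by
    refine mem_subfield_of_pow hF₀ ?_
    obtain ⟨a, ha⟩ := hc3
    have h1 : ((c : F) ^ q₀) ^ 3 * (a : F) = 1 := by
      rw [← pow_mul, mul_comm q₀, pow_mul]
      nth_rewrite 1 [← hfix a]
      rw [← mul_pow, ha, one_pow]
    have ha0 : (a : F) ≠ 0 := right_ne_zero_of_mul_eq_one ha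
    exact frobenius_inj F 3 (mul_right_cancel₀ ha0 (h1.trans ha.symm))
  set N₀ : Matrix (Fin n) (Fin n) ↥F₀ := (⟨(c : F), hcmem⟩ : ↥F₀) • (g₀ : Matrix (Fin n) (Fin n) ↥F₀) - 1 with hN₀
  have hN₀map : ι₀ N₀ = ((P⁻¹ * x * P : GL (Fin n) F) : Matrix (Fin n) (Fin n) F) - 1 := by
    rw [hc₀, hN₀, map_sub, map_one]
    congr 1
  set Nx : Matrix (Fin n) (Fin n) F := R (Matrix.fromBlocks 0 X 0 0) with hNx
  have hxN : (x : Matrix (Fin n) (Fin n) F) = 1 + Nx := by
    rw [hxv, hNx, ← map_one R, ← map_add, ← Matrix.fromBlocks_one, Matrix.fromBlocks_add]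
    simp
  have hconj : ι₀ N₀ = ((P⁻¹ : GL (Fin n) F) : Matrix (Fin n) (Fin n) F) * Nx * P := by
    rw [hN₀map, Units.val_mul, Units.val_mul, hxN, mul_add, mul_one, add_mul, Units.inv_mul,
      add_sub_cancel_left]
  have hN₀2 : N₀ * N₀ = 0 := by
    apply hι₀inj
    rw [map_mul, map_zero, hconj]
    have : Nx * Nx = 0 := by
      rw [hNx, ← map_mul, Matrix.fromBlocks_multiply]
      simp
    calc _ = ((P⁻¹ : GL (Fin n) F) : Matrix (Fin n) (Fin n) F) * (Nx * Nx) * P := by simp [mul_assoc]
      _ = 0 := by rw [this]; simp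
  obtain ⟨S, _, _, sz, b, hb⟩ := exists_jordan_chains _ (Matrix.toLin' N₀)
    (⟨2, by rw [← Matrix.toLin'_pow, pow_two, hN₀2, map_zero]⟩) rfl
  have hsz : ∀ i, sz i = 1 := by
    intro i
    have hle : sz i ≤ 1 := by
      by_contra h
      have e1 := hb i ⟨0, by omega⟩
      rw [dif_pos (show 0 + 1 < sz i + 1 by omega)] at e1
      have e2 := hb i ⟨1, by omega⟩
      rw [dif_pos (show 1 + 1 < sz i + 1 by omega)] at e2
      have e3 : (Matrix.toLin' N₀) ((Matrix.toLin' N₀) (b ⟨i, ⟨0, by omega⟩⟩)) = 0 := by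
        rw [← LinearMap.comp_apply, ← Matrix.toLin'_mul, hN₀2, map_zero, LinearMap.zero_apply]
      rw [e1] at e3
      exact b.ne_zero _ (e2 ▸ e3)
    by_contra hne
    have h0 : sz i = 0 := by omega
    -- a vector killed by `N₀` but outside its image
    set u := b ⟨i, ⟨0, by omega⟩⟩ with hu
    have hu0 : (Matrix.toLin' N₀) u = 0 := by
      rw [hu, hb, dif_neg]; simp [h0]
    -- over `F` it is in the image
    let uF : Fin n → F := fun j => (u j : F)
    have h1 : ι₀ N₀ *ᵥ uF = 0 := by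
      funext j
      have := congrArg (fun w => ((w j : ↥F₀) : F)) hu0
      simpa [hι₀, uF, Matrix.mulVec, dotProduct] using this
    rw [hconj, Matrix.mul_assoc, ← Matrix.mulVec_mulVec] at h1
    have h2 := congrArg ((P : Matrix (Fin n) (Fin n) F) *ᵥ ·) h1
    simp only [Matrix.mulVec_mulVec, Units.mul_inv, Matrix.one_mulVec, Matrix.mulVec_zero,
      ← Matrix.mul_assoc, Matrix.one_mul] at h2
    set v := (P : Matrix (Fin n) (Fin n) F) *ᵥ uF with hv
    rw [← Matrix.mulVec_mulVec, ← hv] at h2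
    have hNxv : ∀ w : Fin n → F, Nx *ᵥ w = (Matrix.fromBlocks 0 X 0 0 *ᵥ (w ∘ e)) ∘ e.symm := by
      intro w
      simp [hNx, R, Matrix.reindexAlgEquiv_apply, Matrix.submatrix_mulVec_equiv]
    have hXu : IsUnit X.det := by rw [hXdet]; exact Ne.isUnit hα0
    obtain ⟨w, hw⟩ : ∃ w : Fin n → F, Nx *ᵥ w = v := by
      rw [hNxv] at h2
      have h3 := congrArg (· ∘ e) h2
      simp only [Function.comp_assoc, Equiv.symm_comp_self, Function.comp_id, Pi.zero_comp,
        Matrix.fromBlocks_mulVec] at h3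
      have h4 := congrArg (· ∘ Sum.inl) h3
      simp only [Sum.elim_comp_inl, Matrix.zero_mulVec, zero_add, Pi.zero_comp] at h4
      have h5 : (v ∘ e) ∘ Sum.inr = 0 := by
        have := congrArg (X⁻¹ *ᵥ ·) h4
        simp only [Matrix.mulVec_mulVec, Matrix.nonsing_inv_mul _ hXu, Matrix.one_mulVec,
          Matrix.mulVec_zero] at this
        exact this
      refine ⟨Sum.elim 0 (X⁻¹ *ᵥ ((v ∘ e) ∘ Sum.inl)) ∘ e.symm, ?_⟩
      rw [hNxv]
      simp only [Function.comp_assoc, Equiv.symm_comp_self, Function.comp_id, Matrix.fromBlocks_mulVec,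
        Sum.elim_comp_inl, Sum.elim_comp_inr, Matrix.zero_mulVec, zero_add, Matrix.mulVec_mulVec,
        Matrix.mul_nonsing_inv _ hXu, Matrix.one_mulVec]
      funext j
      obtain ⟨j', rfl⟩ := e.surjective j
      simp only [Function.comp_apply, Equiv.symm_apply_apply]
      rcases j' with j' | j'
      · rfl
      · simpa using (congrFun h5 j').symm
    have h6 : ∃ w' : Fin n → F, ι₀ N₀ *ᵥ w' = uF := by
      refine ⟨((P⁻¹ : GL (Fin n) F) : Matrix (Fin n) (Fin n) F) *ᵥ w, ?_⟩
      rw [hconj, Matrix.mulVec_mulVec, Matrix.mul_assoc, Units.mul_inv, Matrix.mul_one,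
        ← Matrix.mulVec_mulVec, hw, hv, Matrix.mulVec_mulVec, Units.inv_mul, Matrix.one_mulVec]
    obtain ⟨w', hw'⟩ := h6
    -- the coordinate functional of `u` vanishes on the image
    let φ : (Fin n → ↥F₀) →ₗ[↥F₀] ↥F₀ := b.coord ⟨i, ⟨0, by omega⟩⟩
    have hφN : ∀ y, φ ((Matrix.toLin' N₀) y) = 0 := by
      intro y
      have : φ ∘ₗ Matrix.toLin' N₀ = 0 := b.ext fun ⟨i', j'⟩ => by
        rw [LinearMap.comp_apply, hb, LinearMap.zero_apply]
        split_ifs with h
        · simp only [φ, Module.Basis.coord_apply, Module.Basis.repr_self]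
          rw [Finsupp.single_apply, if_neg]
          intro heq
          obtain ⟨rfl, hh⟩ := Sigma.mk.inj_iff.mp heq
          have := Fin.val_eq_of_eq (eq_of_heq hh)
          simp at this
        · exact map_zero φ
      exact LinearMap.congr_fun this y
    let φF : Fin n → F := fun j => ((φ (Pi.single j 1) : ↥F₀) : F)
    have h7 : ∀ j, ∑ k, φF k * ι₀ N₀ k j = 0 := by
      intro j
      have h := hφN (Pi.single j 1)
      rw [Matrix.toLin'_apply, Matrix.mulVec_single_one] at h
      conv_lhs at h => rw [pi_eq_sum_univ' (N₀.col j), map_sum]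
      have h' := congrArg (fun a : ↥F₀ => (a : F)) h
      simp only [map_smul, smul_eq_mul, AddSubmonoidClass.coe_finsetSum, MulMemClass.coe_mul,
        ZeroMemClass.coe_zero] at h'
      rw [← h']
      refine Finset.sum_congr rfl fun k _ => ?_
      simp [φF, hι₀, mul_comm]
    have h8 : ∑ k, φF k * uF k = 1 := by
      have h : φ u = 1 := by simp [φ, hu]
      conv_lhs at h => rw [pi_eq_sum_univ' u, map_sum]
      have h' := congrArg (fun a : ↥F₀ => (a : F)) h
      simp only [map_smul, smul_eq_mul, AddSubmonoidClass.coe_finsetSum, MulMemClass.coe_mul,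
        OneMemClass.coe_one] at h'
      rw [← h']
      refine Finset.sum_congr rfl fun k _ => ?_
      simp [φF, uF, mul_comm]
    rw [← hw'] at h8
    simp only [Matrix.mulVec, dotProduct, Finset.mul_sum] at h8
    rw [Finset.sum_comm] at h8
    simp only [← mul_assoc, ← Finset.sum_mul, h7, zero_mul, Finset.sum_const_zero] at h8
    exact zero_ne_one h8
  have hcard : Fintype.card S = m := by
    have := Module.finrank_eq_card_basis b
    rw [Module.finrank_fin_fun, Fintype.card_sigma] at this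
    simp only [Fintype.card_fin, hsz, Finset.sum_const, Finset.card_univ, smul_eq_mul] at this
    omega
  let σ : Fin m ≃ S := (Fintype.equivFinOfCardEq hcard).symm
  let top : Fin m → (Σ i : S, Fin (sz i + 1)) := fun i => ⟨σ i, ⟨0, by omega⟩⟩
  let bot : Fin m → (Σ i : S, Fin (sz i + 1)) := fun i => ⟨σ i, ⟨1, by rw [hsz]; omega⟩⟩
  let R₀ : Matrix (Fin m ⊕ Fin m) (Fin m ⊕ Fin m) ↥F₀ :=
    Matrix.of fun r c => b (Sum.elim bot top c) (e r)
  have hR₀ : R₀.det ≠ 0 := by
    intro h
    obtain ⟨a, ha, ha0⟩ := Matrix.exists_mulVec_eq_zero_iff.mpr h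
    have hsum : ∑ c, a c • b (Sum.elim bot top c) = 0 := by
      funext j
      obtain ⟨r, rfl⟩ := e.surjective j
      have h1 := congrFun ha0 r
      simpa [R₀, Matrix.mulVec, dotProduct, mul_comm] using h1
    have hinj : Function.Injective (Sum.elim bot top) := by
      rintro (i | i) (j | j) hij <;> simp [top, bot, Sigma.mk.inj_iff] at hij ⊢
      · exact hij.1
      · obtain ⟨h1, h2⟩ := hij
        subst h1
        have := Fin.val_eq_of_eq (eq_of_heq h2)
        simp at this
      · obtain ⟨h1, h2⟩ := hij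
        subst h1
        have := Fin.val_eq_of_eq (eq_of_heq h2)
        simp at this
      · exact hij.1
    exact ha (funext (Fintype.linearIndependent_iff.mp (b.linearIndependent.comp _ hinj) a hsum))
  -- compare determinants
  have hrel : N₀.submatrix e e * R₀ = R₀ * Matrix.fromBlocks 0 1 0 0 := by
    ext r c
    have h1 : (N₀.submatrix e e * R₀) r c = (Matrix.toLin' N₀) (b (Sum.elim bot top c)) (e r) := by
      simp only [Matrix.mul_apply, Matrix.submatrix_apply, R₀, Matrix.of_apply, Matrix.toLin'_apply,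
        Matrix.mulVec, dotProduct]
      exact Equiv.sum_comp e (fun j => N₀ (e r) j * b (Sum.elim bot top c) j)
    rw [h1]
    rcases c with i | i
    · simp only [Sum.elim_inl, bot, hb]
      rw [dif_neg (by simp [hsz]), Matrix.mul_apply]
      simp [Fintype.sum_sum_type]
    · simp only [Sum.elim_inr, top, hb]
      rw [dif_pos (by simp [hsz]), Matrix.mul_apply]
      simp [Fintype.sum_sum_type, R₀, bot, Matrix.one_apply]
  set Z : Matrix (Fin m ⊕ Fin m) (Fin m ⊕ Fin m) F :=
    (P : Matrix (Fin n) (Fin n) F).submatrix e e * R₀.map F₀.subtype with hZ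
  have hZrel : Matrix.fromBlocks 0 X 0 0 * Z = Z * Matrix.fromBlocks 0 1 0 0 := by
    have hN : Matrix.fromBlocks 0 X 0 0 * (P : Matrix (Fin n) (Fin n) F).submatrix e e
        = (P : Matrix (Fin n) (Fin n) F).submatrix e e * (ι₀ N₀).submatrix e e := by
      rw [Matrix.submatrix_mul_equiv, hconj, ← Matrix.mul_assoc, ← Matrix.mul_assoc, Units.mul_inv,
        Matrix.one_mul, ← Matrix.submatrix_mul_equiv Nx _ e e e]
      congr 1
      simp [hNx, R, Matrix.reindexAlgEquiv_apply]
    have h2 := congrArg (F₀.subtype.mapMatrix) hrel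
    rw [map_mul, map_mul, RingHom.mapMatrix_apply, RingHom.mapMatrix_apply, RingHom.mapMatrix_apply,
      Matrix.fromBlocks_map, Matrix.map_zero _ (map_zero _), Matrix.map_one _ (map_zero _) (map_one _),
      ← Matrix.submatrix_map] at h2
    rw [hZ, ← Matrix.mul_assoc, hN, Matrix.mul_assoc]
    erw [h2]
    rw [Matrix.mul_assoc]
  obtain ⟨A, B', C', E', hABCE⟩ : ∃ A B' C' E', Z = Matrix.fromBlocks A B' C' E' :=
    ⟨_, _, _, _, (Matrix.fromBlocks_toBlocks Z).symm⟩
  rw [hABCE] at hZrel
  simp only [Matrix.fromBlocks_multiply, Matrix.zero_mul, Matrix.mul_zero, add_zero, zero_add,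
    Matrix.mul_one, Matrix.fromBlocks_inj] at hZrel
  obtain ⟨-, hXE, -, hC⟩ := hZrel
  have hdetZ := congrArg Matrix.det hABCE
  rw [hZ, Matrix.det_mul, Matrix.det_submatrix_equiv_self, hP, one_mul, ← hC, Matrix.det_fromBlocks_zero₂₁,
    ← hXE, Matrix.det_mul, hXdet, ← RingHom.mapMatrix_apply, ← RingHom.map_det] at hdetZ
  set a := R₀.det with ha
  have hsq : IsSquare (F₀.subtype a) := by
    have ha0 : F₀.subtype a ≠ 0 := by simpa using hR₀
    rw [FiniteField.isSquare_iff hc ha0]
    have hodd : Odd q₀ := by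
      have h := FiniteField.odd_card_of_char_ne_two hc
      rw [← Nat.odd_iff, hq, Nat.odd_pow_iff two_ne_zero] at h
      exact h
    obtain ⟨t, ht⟩ := hodd
    have h1 : (F₀.subtype a) ^ (2 * t) = 1 := by
      apply mul_right_cancel₀ ha0
      rw [one_mul, ← pow_succ, ← ht]
      exact hfix a
    rw [hq, show q₀ ^ 2 / 2 = 2 * t * (t + 1) by
      rw [ht, show (2 * t + 1) ^ 2 = 2 * (2 * t * (t + 1)) + 1 by ring]; omega, pow_mul, h1, one_pow]
  apply hα
  obtain ⟨u, hu⟩ := hsq
  rw [hu] at hdetZ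
  have hu0 : u ≠ 0 := by
    rintro rfl
    rw [mul_zero] at hu
    exact hR₀ ((map_eq_zero _).mp hu)
  have hE0 : E'.det ≠ 0 := by
    intro h
    rw [h, mul_zero] at hdetZ
    exact hu0 (mul_self_eq_zero.mp hdetZ)
  exact ⟨u / E'.det, by field_simp; linear_combination -hdetZ⟩

end finite

end H47
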