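import Mathlib
import Cfsg.Agent.H43.Restrict
import Cfsg.Agent.H43.Finite
import Cfsg.Agent.H43.MaxSing
import Cfsg.Agent.H44.Classify
import Cfsg.Agent.H47.UniTargets

/-!
The two types of even dimensional non-degenerate subspaces of a quadratic space over a finite field.
-/

set_option autoImplicit false

namespace H47

open H43

variable {F : Type*} [Field F] {V : Type*} [AddCommGroup V] [Module F V] [FiniteDimensional F V]
  {Q : QuadraticForm F V}

/-- The polar form is non-degenerate on the subspace. -/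
def NdOn (Q : QuadraticForm F V) (W : Submodule F V) : Prop := W ⊓ (polB Q).orthogonal W = ⊥

/-- The subspace contains a totally singular subspace of half its dimension. -/
def PlusOn (Q : QuadraticForm F V) (W : Submodule F V) : Prop :=
  ∃ U ≤ W, (∀ u ∈ U, Q u = 0) ∧ 2 * Module.finrank F U = Module.finrank F W

/-- All pairs are orthogonal. -/
def PerpTo (Q : QuadraticForm F V) (U W : Submodule F V) : Prop := ∀ u ∈ U, ∀ w ∈ W, polB Q u w = 0

omit [FiniteDimensional F V] in
lemma PerpTo.symm {U W : Submodule F V} (h : PerpTo Q U W) : PerpTo Q W U :=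
  fun w hw u hu => by rw [polB_comm]; exact h u hu w hw

omit [FiniteDimensional F V] in
lemma perpTo_orth (W : Submodule F V) : PerpTo Q W ((polB Q).orthogonal W) := fun u hu _ hw => hw u hu

omit [FiniteDimensional F V] in
lemma NdOn.eq_zero {W : Submodule F V} (hW : NdOn Q W) {w : V} (hw : w ∈ W)
    (h : ∀ u ∈ W, polB Q u w = 0) : w = 0 := by
  have : w ∈ W ⊓ (polB Q).orthogonal W := ⟨hw, h⟩
  rwa [hW, Submodule.mem_bot] at this

omit [FiniteDimensional F V] in
lemma ndOn_of {W : Submodule F V} (h : ∀ w ∈ W, (∀ u ∈ W, polB Q u w = 0) → w = 0) : NdOn Q W := by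
  rw [NdOn, eq_bot_iff]
  rintro w ⟨hw, hw'⟩
  exact (Submodule.mem_bot F).mpr (h w hw hw')

lemma ndOn_top (hQ : (polB Q).Nondegenerate) : NdOn Q (⊤ : Submodule F V) :=
  ndOn_of fun w _ h => hQ.2 w fun u => h u trivial

omit [FiniteDimensional F V] in
lemma ndOn_bot : NdOn Q (⊥ : Submodule F V) := bot_inf_eq _

omit [FiniteDimensional F V] in
lemma disjoint_of_perp {U W : Submodule F V} (hU : NdOn Q U) (h : PerpTo Q U W) : Disjoint U W :=
  Submodule.disjoint_def.mpr fun x hx hx' => hU.eq_zero hx fun u hu => h u hu x hx'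

omit [FiniteDimensional F V] in
lemma NdOn.sup {U W : Submodule F V} (hU : NdOn Q U) (hW : NdOn Q W) (h : PerpTo Q U W) : NdOn Q (U ⊔ W) := by
  refine ndOn_of fun x hx hx' => ?_
  obtain ⟨u, hu, w, hw, rfl⟩ := Submodule.mem_sup.mp hx
  have h1 : u = 0 := hU.eq_zero hu fun u' hu' => by
    have := hx' u' (Submodule.mem_sup_left hu')
    rwa [map_add, h u' hu' w hw, add_zero] at this
  have h2 : w = 0 := hW.eq_zero hw fun w' hw' => by
    have := hx' w' (Submodule.mem_sup_right hw')
    rwa [map_add, h.symm w' hw' u hu, zero_add] at this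
  rw [h1, h2, add_zero]

lemma finrank_sup_perp {U W : Submodule F V} (hU : NdOn Q U) (h : PerpTo Q U W) :
    Module.finrank F ↥(U ⊔ W) = Module.finrank F U + Module.finrank F W := by
  have := Submodule.finrank_sup_add_finrank_inf_eq U W
  rw [(disjoint_of_perp hU h).eq_bot, finrank_bot, add_zero] at this
  exact this

lemma orth_sup_eq_top (hQ : (polB Q).Nondegenerate) {W : Submodule F V} (hW : NdOn Q W) :
    W ⊔ (polB Q).orthogonal W = ⊤ := by
  apply Submodule.eq_top_of_finrank_eq
  rw [finrank_sup_perp hW (perpTo_orth W), ← finrank_orth_add hQ W, add_comm]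

lemma NdOn.orth (hQ : (polB Q).Nondegenerate) {W : Submodule F V} (hW : NdOn Q W) :
    NdOn Q ((polB Q).orthogonal W) := by
  refine ndOn_of fun x hx h => hQ.2 x fun y => ?_
  have hy : y ∈ W ⊔ (polB Q).orthogonal W := by rw [orth_sup_eq_top hQ hW]; trivial
  obtain ⟨a, ha, b, hb, rfl⟩ := Submodule.mem_sup.mp hy
  rw [map_add, LinearMap.add_apply, hx a ha, h b hb, add_zero]

omit [FiniteDimensional F V] in
lemma NdOn.restrict {W : Submodule F V} (hW : NdOn Q W) : (polB (Q.restrict W)).Nondegenerate :=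
  H43.restrict_nondeg W hW

omit [FiniteDimensional F V] in
lemma ndOn_map_subtype {W : Submodule F V} {U : Submodule F W} (hU : NdOn (Q.restrict W) U) :
    NdOn Q (U.map W.subtype) := by
  refine ndOn_of ?_
  rintro _ ⟨w, hw, rfl⟩ h
  have : w = 0 := hU.eq_zero hw fun u hu => by
    rw [polB_restrict]; exact h u (Submodule.mem_map_of_mem hu)
  rw [this, map_zero]

omit [FiniteDimensional F V] in
lemma plusOn_map_subtype {W : Submodule F V} (U : Submodule F W) :
    PlusOn Q (U.map W.subtype) ↔ PlusOn (Q.restrict W) U := by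
  have hf : ∀ S : Submodule F W, Module.finrank F ↥(S.map W.subtype) = Module.finrank F S :=
    fun S => Submodule.finrank_map_subtype_eq W S
  constructor
  · rintro ⟨T, hTU, hT, hd⟩
    have hTW : T ≤ W := hTU.trans (Submodule.map_subtype_le W U)
    have hcm : (T.comap W.subtype).map W.subtype = T :=
      Submodule.map_comap_eq_of_le (by rwa [Submodule.range_subtype])
    refine ⟨T.comap W.subtype, fun w hw => ?_, fun w hw => ?_, ?_⟩
    · obtain ⟨u, hu, e⟩ := hTU hw
      rwa [← Subtype.ext e]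
    · exact hT _ hw
    · rw [← hf (T.comap W.subtype), hcm, hd, hf]
  · rintro ⟨T, hTU, hT, hd⟩
    refine ⟨T.map W.subtype, Submodule.map_mono hTU, ?_, by rw [hf, hf, hd]⟩
    rintro _ ⟨t, ht, rfl⟩
    exact hT t ht

omit [FiniteDimensional F V] in
lemma PlusOn.anti {W : Submodule F V} (h : PlusOn Q W) :
    ∃ U ≤ W, PerpTo Q U U ∧ 2 * Module.finrank F U = Module.finrank F W := by
  obtain ⟨U, h1, h2, h3⟩ := h
  exact ⟨U, h1, fun a ha b hb => polB_eq_zero_of_singular h2 ha hb, h3⟩

omit [FiniteDimensional F V] in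
lemma plusOn_bot : PlusOn Q (⊥ : Submodule F V) :=
  ⟨⊥, le_rfl, fun u hu => by rw [(Submodule.mem_bot F).mp hu, map_zero], by simp⟩

omit [FiniteDimensional F V] in
lemma plusOn_of_even_zero {W : Submodule F V} (hW : Module.finrank F W = 0) : PlusOn Q W :=
  ⟨⊥, bot_le, fun u hu => by rw [(Submodule.mem_bot F).mp hu, map_zero], by simp [hW]⟩

/-- A totally singular subspace of a non-degenerate subspace has at most half its dimension. -/
lemma two_mul_ts_le {W U : Submodule F V} (hW : NdOn Q W) (hUW : U ≤ W) (hU : ∀ u ∈ U, Q u = 0) :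
    2 * Module.finrank F U ≤ Module.finrank F W := by
  have hcm : (U.comap W.subtype).map W.subtype = U :=
    Submodule.map_comap_eq_of_le (by rwa [Submodule.range_subtype])
  have := two_mul_finrank_singular_le hW.restrict (U.comap W.subtype) fun w hw => hU _ hw
  rwa [← Submodule.finrank_map_subtype_eq W (U.comap W.subtype), hcm] at this

/-- Plus plus plus. -/
lemma plusOn_sup_pp {U W : Submodule F V} (hU : NdOn Q U) (h : PerpTo Q U W)
    (hUp : PlusOn Q U) (hWp : PlusOn Q W) : PlusOn Q (U ⊔ W) := by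
  obtain ⟨A, hA, hA0, hAd⟩ := hUp
  obtain ⟨B, hB, hB0, hBd⟩ := hWp
  refine ⟨A ⊔ B, sup_le_sup hA hB, fun x hx => ?_, ?_⟩
  · obtain ⟨a, ha, b, hb, rfl⟩ := Submodule.mem_sup.mp hx
    rw [qmap_add, hA0 a ha, hB0 b hb, h a (hA ha) b (hB hb)]; ring
  · have hd : Disjoint A B := (disjoint_of_perp hU h).mono hA hB
    have h1 := Submodule.finrank_sup_add_finrank_inf_eq A B
    rw [hd.eq_bot, finrank_bot, add_zero] at h1
    rw [h1, finrank_sup_perp hU h]
    omega

/-- Plus and minus give minus. -/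
lemma plusOn_sup_pm {U W : Submodule F V} (hU : NdOn Q U) (hW : NdOn Q W) (h : PerpTo Q U W)
    (hUp : PlusOn Q U) (hWev : Even (Module.finrank F W)) (hWm : ¬ PlusOn Q W) : ¬ PlusOn Q (U ⊔ W) := by
  classical
  obtain ⟨A, hA, hA0, hAd⟩ := hUp
  -- a largest totally singular subspace of `W`
  obtain ⟨B, ⟨hB, hB0⟩, hmax⟩ : ∃ B : Submodule F V, (B ≤ W ∧ ∀ b ∈ B, Q b = 0) ∧
      ∀ C : Submodule F V, (C ≤ W ∧ ∀ b ∈ C, Q b = 0) → Module.finrank F C ≤ Module.finrank F B := by
    let S : Set ℕ := {k | ∃ C : Submodule F V, (C ≤ W ∧ ∀ b ∈ C, Q b = 0) ∧ Module.finrank F C = k}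
    have hS : S.Nonempty := ⟨0, ⊥, ⟨bot_le, fun b hb => by rw [(Submodule.mem_bot F).mp hb, map_zero]⟩, finrank_bot F V⟩
    have hb : BddAbove S := ⟨Module.finrank F V, by rintro k ⟨C, -, rfl⟩; exact Submodule.finrank_le C⟩
    obtain ⟨C, hC, hCk⟩ := Nat.sSup_mem hS hb
    exact ⟨C, hC, fun D hD => hCk ▸ le_csSup hb ⟨D, hD, rfl⟩⟩
  have hBlt : 2 * Module.finrank F B < Module.finrank F W :=
    lt_of_le_of_ne (two_mul_ts_le hW hB hB0) fun e => hWm ⟨B, hB, hB0, e⟩
  rintro ⟨C, hC, hC0, hCd⟩
  set S := U ⊔ W with hS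
  have hSn : NdOn Q S := hU.sup hW h
  have hAB0 : ∀ x ∈ A ⊔ B, Q x = 0 := by
    intro x hx
    obtain ⟨a, ha, b, hb, rfl⟩ := Submodule.mem_sup.mp hx
    rw [qmap_add, hA0 a ha, hB0 b hb, h a (hA ha) b (hB hb)]; ring
  have hABS : A ⊔ B ≤ S := sup_le_sup hA hB
  have hcm : ∀ T : Submodule F V, T ≤ S → (T.comap S.subtype).map S.subtype = T := fun T hT =>
    Submodule.map_comap_eq_of_le (by rwa [Submodule.range_subtype])
  have hmx : Module.finrank F (C.comap S.subtype) ≤ Module.finrank F ((A ⊔ B).comap S.subtype) := by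
    refine maximal_singular_finrank_le (Q := Q.restrict S) hSn.restrict (fun w hw => hAB0 _ hw)
      (fun w hw => hC0 _ hw) fun T hT hT0 => le_antisymm (fun z hz => ?_) hT
    obtain ⟨u, hu, w, hw, huw⟩ := Submodule.mem_sup.mp z.2
    have hperp : ∀ y ∈ A ⊔ B, polB Q y (u + w) = 0 := fun y hy => by
      have hy' : (⟨y, hABS hy⟩ : S) ∈ T := hT hy
      have := polB_eq_zero_of_singular hT0 hy' hz
      rwa [polB_restrict, show ((z : S) : V) = u + w from huw.symm] at this
    have hsingU : ∀ x ∈ A ⊔ F ∙ u, ∀ y ∈ A, polB Q y x = 0 := by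
      intro x hx y hy
      obtain ⟨a, ha, t, ht, rfl⟩ := Submodule.mem_sup.mp hx
      obtain ⟨c, rfl⟩ := Submodule.mem_span_singleton.mp ht
      have h1 := hperp y (Submodule.mem_sup_left hy)
      rw [map_add, h y (hA hy) w hw, add_zero] at h1
      rw [map_add, polB_eq_zero_of_singular hA0 hy ha, map_smul, h1, smul_zero, add_zero]
    -- `u` lies in `A`
    have huA : u ∈ A := by
      by_contra hne
      have hlt : Module.finrank F A < Module.finrank F ↥(A ⊔ F ∙ u) := by
        refine Submodule.finrank_lt_finrank_of_lt (lt_of_le_of_ne le_sup_left fun e => hne ?_)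
        rw [e]; exact Submodule.mem_sup_right (Submodule.mem_span_singleton_self u)
      have hcmU : (A.comap U.subtype).map U.subtype = A :=
        Submodule.map_comap_eq_of_le (by rwa [Submodule.range_subtype])
      have hAUle : A ⊔ F ∙ u ≤ U := sup_le hA ((Submodule.span_singleton_le_iff_mem _ _).mpr hu)
      have hcmX : ((A ⊔ F ∙ u).comap U.subtype).map U.subtype = A ⊔ F ∙ u :=
        Submodule.map_comap_eq_of_le (by rwa [Submodule.range_subtype])
      have hle : (A ⊔ F ∙ u).comap U.subtype ≤ (polB (Q.restrict U)).orthogonal (A.comap U.subtype) :=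
        fun x hx y hy => by rw [polB_restrict]; exact hsingU _ hx _ hy
      have h1 := Submodule.finrank_mono hle
      have h2 := finrank_orth_add hU.restrict (A.comap U.subtype)
      rw [← Submodule.finrank_map_subtype_eq U ((A ⊔ F ∙ u).comap U.subtype), hcmX] at h1
      rw [← Submodule.finrank_map_subtype_eq U (A.comap U.subtype), hcmU] at h2
      omega
    have hwQ : Q w = 0 := by
      have : Q ((z : S) : V) = 0 := hT0 z hz
      rw [← huw, qmap_add, hA0 u huA, h u hu w hw] at this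
      simpa using this
    have hwB : w ∈ B := by
      by_contra hne
      have hlt : Module.finrank F B < Module.finrank F ↥(B ⊔ F ∙ w) := by
        refine Submodule.finrank_lt_finrank_of_lt (lt_of_le_of_ne le_sup_left fun e => hne ?_)
        rw [e]; exact Submodule.mem_sup_right (Submodule.mem_span_singleton_self w)
      refine absurd (hmax _ ⟨sup_le hB ((Submodule.span_singleton_le_iff_mem _ _).mpr hw), fun x hx => ?_⟩) hlt.not_ge
      obtain ⟨b, hb, t, ht, rfl⟩ := Submodule.mem_sup.mp hx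
      obtain ⟨c, rfl⟩ := Submodule.mem_span_singleton.mp ht
      have h1 := hperp b (Submodule.mem_sup_right hb)
      rw [map_add, h.symm b (hB hb) u hu, zero_add] at h1
      rw [qmap_add_smul, hB0 b hb, hwQ, h1]; ring
    show ((z : S) : V) ∈ A ⊔ B
    rw [← huw]
    exact Submodule.add_mem_sup huA hwB
  rw [← Submodule.finrank_map_subtype_eq S (C.comap S.subtype), hcm C hC,
    ← Submodule.finrank_map_subtype_eq S ((A ⊔ B).comap S.subtype), hcm _ hABS] at hmx
  have h1 := Submodule.finrank_sup_add_finrank_inf_eq A B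
  rw [((disjoint_of_perp hU h).mono hA hB).eq_bot, finrank_bot, add_zero] at h1
  rw [hS, finrank_sup_perp hU h] at hCd
  obtain ⟨j, hj⟩ := hWev
  omega

/-- A minus-type subspace is anisometric to the minus model. -/
lemma minus_model [Finite F] {W : Submodule F V} (hW : NdOn Q W) {h : ℕ} (hd : Module.finrank F W = 2 * h)
    (hWm : ¬ PlusOn Q W) :
    1 ≤ h ∧ ∃ (ζ : F) (φ : W ≃ₗ[F] ((Fin (h - 1) ⊕ Fin (h - 1)) ⊕ Fin 2 → F)),
      (∀ t : F, t ^ 2 + t + ζ ≠ 0) ∧ ∀ w : W, Q (w : V) = Cfsg.quadFormMinus (h - 1) F 1 ζ (φ w) := by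
  rcases H44.equiv_plus_or_minus hd (Q.restrict W) (H44.polarSep_of_nondegenerate hW.restrict) with ⟨φ, hφ⟩ | hm
  · refine absurd ⟨((H43.stdTS h F).map φ.symm.toLinearMap).map W.subtype, Submodule.map_subtype_le _ _, ?_, ?_⟩ hWm
    · rintro _ ⟨w, ⟨v, hv, rfl⟩, rfl⟩
      show Q.restrict W (φ.symm v) = 0
      rw [hφ, LinearEquiv.apply_symm_apply, ← H43.coe_qPlus]
      exact (H43.stdTS_isTS h F).2 v hv
    · rw [Submodule.finrank_map_subtype_eq, LinearEquiv.finrank_map_eq, (H43.stdTS_isTS h F).1, hd]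
  · exact hm

/-- Two minus-type subspaces of equal dimension are anti-isometric, so together give plus type. -/
lemma plusOn_sup_mm_eq [Finite F] {U W : Submodule F V} (hU : NdOn Q U) (hW : NdOn Q W) (h : PerpTo Q U W) {k : ℕ}
    (hUd : Module.finrank F U = 2 * k) (hWd : Module.finrank F W = 2 * k)
    (hUm : ¬ PlusOn Q U) (hWm : ¬ PlusOn Q W) : PlusOn Q (U ⊔ W) := by
  obtain ⟨-, ζ, φ, hζ, hφ⟩ := minus_model hU hUd hUm
  obtain ⟨-, ζ', φ', hζ', hφ'⟩ := minus_model hW hWd hWm
  obtain ⟨ν, hν⟩ := H44.minus_equiv_normal hζ' (k - 1) 1 ζ (H44.binForm_one_anisotropic hζ)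
  obtain ⟨σ, hσ⟩ := H44.minus_scale hζ' (k - 1) (-1) (neg_ne_zero.mpr one_ne_zero)
  let ψ : U ≃ₗ[F] W := (φ.trans (ν.trans σ)).trans φ'.symm
  have hψ : ∀ u : U, Q (ψ u : V) = -Q (u : V) := fun u => by
    simp [ψ, hφ', hσ, ← hν, ← hφ]
  let L : U →ₗ[F] V := U.subtype + W.subtype ∘ₗ (ψ : U →ₗ[F] W)
  have hinj : Function.Injective L := by
    rw [← LinearMap.ker_eq_bot, eq_bot_iff]
    intro u hu
    have hu' : (u : V) + (ψ u : V) = 0 := hu
    have hmem : (u : V) ∈ W := by rw [eq_neg_of_add_eq_zero_left hu']; exact neg_mem (ψ u).2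
    have := Submodule.disjoint_def.mp (disjoint_of_perp hU h) _ u.2 hmem
    simpa using this
  refine ⟨LinearMap.range L, ?_, ?_, ?_⟩
  · rintro _ ⟨u, rfl⟩
    exact Submodule.add_mem_sup u.2 (ψ u).2
  · rintro _ ⟨u, rfl⟩
    show Q ((u : V) + (ψ u : V)) = 0
    rw [qmap_add, hψ, h _ u.2 _ (ψ u).2]; ring
  · rw [LinearMap.finrank_range_of_inj hinj, finrank_sup_perp hU h]
    omega

/-- Hyperbolic planes in a non-degenerate subspace which contains a singular vector. -/
lemma exists_hyp_plane {W : Submodule F V} (hW : NdOn Q W) {c : V} (hc : c ∈ W) (hc0 : c ≠ 0) (hQc : Q c = 0) :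
    ∃ P ≤ W, Module.finrank F P = 2 ∧ NdOn Q P ∧ PlusOn Q P := by
  classical
  obtain ⟨c', hp⟩ := exists_hypPair hW.restrict (c := (⟨c, hc⟩ : W)) (by show Q c = 0; exact hQc)
    (fun e => hc0 (congrArg Subtype.val e))
  have h2 := hp.linearIndependent
  set P₀ : Submodule F W := Submodule.span F (Set.range ![(⟨c, hc⟩ : W), c']) with hP₀
  have hd : Module.finrank F P₀ = 2 := by
    rw [hP₀, finrank_span_eq_card h2]; rfl
  have hPn : NdOn (Q.restrict W) P₀ := by
    refine ndOn_of fun w hw h => ?_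
    have h0 := h _ (Submodule.subset_span ⟨0, rfl⟩)
    have h1 := h _ (Submodule.subset_span ⟨1, rfl⟩)
    rw [hP₀, Submodule.mem_span_range_iff_exists_fun] at hw
    obtain ⟨t, rfl⟩ := hw
    simp only [Fin.sum_univ_two, Matrix.cons_val_zero, Matrix.cons_val_one, map_add, map_smul, smul_eq_mul,
      polB_self, hp.left, hp.right, hp.pair, hp.symm.pair] at h0 h1
    simp only [mul_zero, mul_one, zero_add, add_zero] at h0 h1
    simp [Fin.sum_univ_two, h0, h1]
  refine ⟨P₀.map W.subtype, Submodule.map_subtype_le _ _, by rw [Submodule.finrank_map_subtype_eq, hd],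
    ndOn_map_subtype hPn, (plusOn_map_subtype P₀).mpr ⟨F ∙ (⟨c, hc⟩ : W), ?_, ?_, ?_⟩⟩
  · exact (Submodule.span_singleton_le_iff_mem _ _).mpr (Submodule.subset_span ⟨0, rfl⟩)
  · intro u hu
    obtain ⟨t, rfl⟩ := Submodule.mem_span_singleton.mp hu
    rw [qmap_smul, hp.left, mul_zero]
  · rw [finrank_span_singleton (fun e => hc0 (congrArg Subtype.val e)), hd]

/-- The complement of a non-degenerate subspace inside a larger one. -/
lemma exists_compl {W P : Submodule F V} (hW : NdOn Q W) (hPW : P ≤ W) (hP : NdOn Q P) :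
    ∃ R ≤ W, NdOn Q R ∧ PerpTo Q P R ∧ P ⊔ R = W ∧ Module.finrank F P + Module.finrank F R = Module.finrank F W := by
  set P₀ := P.comap W.subtype
  have hcm : P₀.map W.subtype = P := Submodule.map_comap_eq_of_le (by rwa [Submodule.range_subtype])
  have hP₀ : NdOn (Q.restrict W) P₀ := by
    refine ndOn_of fun w hw h => Subtype.ext (hP.eq_zero hw fun u hu => ?_)
    exact h ⟨u, hPW hu⟩ hu
  refine ⟨((polB (Q.restrict W)).orthogonal P₀).map W.subtype, Submodule.map_subtype_le _ _,
    ndOn_map_subtype (hP₀.orth hW.restrict), ?_, ?_, ?_⟩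
  · rintro u hu _ ⟨r, hr, rfl⟩
    exact hr ⟨u, hPW hu⟩ hu
  · rw [← hcm, ← Submodule.map_sup, orth_sup_eq_top hW.restrict hP₀, Submodule.map_top, Submodule.range_subtype]
  · rw [← hcm, Submodule.finrank_map_subtype_eq, Submodule.finrank_map_subtype_eq, add_comm,
      finrank_orth_add hW.restrict P₀]

/-- Minus and minus give plus. -/
lemma plusOn_sup_mm [Finite F] {U W : Submodule F V} (hU : NdOn Q U) (hW : NdOn Q W) (h : PerpTo Q U W)
    (hUev : Even (Module.finrank F U)) (hWev : Even (Module.finrank F W))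
    (hUm : ¬ PlusOn Q U) (hWm : ¬ PlusOn Q W) : PlusOn Q (U ⊔ W) := by
  obtain ⟨n, hn⟩ : ∃ n, Module.finrank F U + Module.finrank F W = n := ⟨_, rfl⟩
  induction n using Nat.strong_induction_on generalizing U W with
  | _ n ih =>
    wlog hle : Module.finrank F U ≤ Module.finrank F W generalizing U W
    · rw [sup_comm]
      exact this hW hU h.symm hWev hUev hWm hUm (by omega) (by omega)
    obtain ⟨a, ha⟩ := hUev
    obtain ⟨b, hb⟩ := hWev
    rcases eq_or_lt_of_le hle with he | hlt
    · exact plusOn_sup_mm_eq hU hW h (k := a) (by omega) (by omega) hUm hWm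
    have ha1 : 0 < a := Nat.pos_of_ne_zero fun e => hUm (plusOn_of_even_zero (by omega))
    obtain ⟨c, hc0, hc⟩ := H44.exists_singular (Q.restrict W) (by omega)
    obtain ⟨P, hPW, hPd, hPn, hPp⟩ := exists_hyp_plane hW c.2 (fun e => hc0 (Subtype.ext e)) hc
    obtain ⟨R, hRW, hRn, hPR, hPRW, hd⟩ := exists_compl hW hPW hPn
    have hRev : Even (Module.finrank F R) := ⟨b - 1, by omega⟩
    have hRm : ¬ PlusOn Q R := fun hR => hWm (hPRW ▸ plusOn_sup_pp hPn hPR hPp hR)
    have hUR : PerpTo Q U R := fun u hu r hr => h u hu r (hRW hr)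
    have h1 := ih _ (by omega) hU hRn hUR ⟨a, ha⟩ hRev hUm hRm rfl
    have h2 : PerpTo Q P (U ⊔ R) := fun p hp x hx => by
      obtain ⟨u, hu, r, hr, rfl⟩ := Submodule.mem_sup.mp hx
      rw [map_add, h.symm p (hPW hp) u hu, hPR p hp r hr, add_zero]
    rw [show U ⊔ W = P ⊔ (U ⊔ R) by rw [← hPRW, sup_left_comm]]
    exact plusOn_sup_pp hPn h2 hPp h1

/-- The type of an orthogonal sum. -/
theorem plusOn_sup [Finite F] {U W : Submodule F V} (hU : NdOn Q U) (hW : NdOn Q W) (h : PerpTo Q U W)
    (hUev : Even (Module.finrank F U)) (hWev : Even (Module.finrank F W)) :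
    PlusOn Q (U ⊔ W) ↔ (PlusOn Q U ↔ PlusOn Q W) := by
  by_cases hUp : PlusOn Q U <;> by_cases hWp : PlusOn Q W
  · simp [hUp, hWp, plusOn_sup_pp hU h hUp hWp]
  · simp [hUp, hWp, plusOn_sup_pm hU hW h hUp hWev hWp]
  · have := plusOn_sup_pm hW hU h.symm hWp hUev hUp
    rw [sup_comm] at this
    simp [hUp, hWp, this]
  · simp [hUp, hWp, plusOn_sup_mm hU hW h hUev hWev hUp hWp]

/-- In dimension at least three there is an anisotropic plane. -/
theorem exists_minus_plane [Finite F] {W : Submodule F V} (hW : NdOn Q W) (h3 : 3 ≤ Module.finrank F W) :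
    ∃ P ≤ W, Module.finrank F P = 2 ∧ NdOn Q P ∧ ¬ PlusOn Q P := by
  classical
  haveI : Fintype F := Fintype.ofFinite F
  obtain ⟨x, hx⟩ := exists_qmap_eq hW.restrict (by omega) 1 one_ne_zero
  have hx0 : x ≠ 0 := fun e => by rw [e, map_zero] at hx; exact zero_ne_one hx
  -- a binary anisotropic form `z₀² + s z₀ z₁ + b z₁²` realised on a pair
  suffices key : ∃ (y : W) (s b : F), polB (Q.restrict W) x y = s ∧ Q.restrict W y = b ∧ b ≠ 0 ∧
      (∀ t : F, t ^ 2 + s * t + b ≠ 0) ∧ (2 * 2 * b - s * s ≠ 0) by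
    obtain ⟨y, s, b, hs, hb, hb0, hno, hdisc⟩ := key
    have hanis : ∀ u v : F, Q.restrict W (u • x + v • y) = 0 → u = 0 ∧ v = 0 := by
      intro u v hz
      rw [qmap_add, qmap_smul, qmap_smul, map_smul, map_smul, LinearMap.smul_apply, hs, hx, hb] at hz
      simp only [smul_eq_mul] at hz
      by_cases hv : v = 0
      · subst hv; simp at hz; exact ⟨hz, rfl⟩
      · exact absurd (show (u / v) ^ 2 + s * (u / v) + b = 0 by field_simp; linear_combination hz) (hno _)
    have hli : LinearIndependent F ![x, y] := by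
      rw [LinearIndependent.pair_iff]
      intro u v huv
      exact hanis u v (by rw [huv, map_zero])
    set P₀ : Submodule F W := Submodule.span F (Set.range ![x, y]) with hP₀
    have hd : Module.finrank F P₀ = 2 := by rw [hP₀, finrank_span_eq_card hli]; rfl
    have hmem : ∀ w ∈ P₀, ∃ u v : F, w = u • x + v • y := by
      intro w hw
      rw [hP₀, Submodule.mem_span_range_iff_exists_fun] at hw
      obtain ⟨t, rfl⟩ := hw
      exact ⟨t 0, t 1, by simp [Fin.sum_univ_two]⟩
    have hPn : NdOn (Q.restrict W) P₀ := by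
      refine ndOn_of fun w hw h => ?_
      obtain ⟨u, v, rfl⟩ := hmem w hw
      have h0 := h _ (Submodule.subset_span ⟨0, rfl⟩)
      have h1 := h _ (Submodule.subset_span ⟨1, rfl⟩)
      simp only [Matrix.cons_val_zero, Matrix.cons_val_one, map_add, map_smul, smul_eq_mul, polB_self, hx, hb, hs,
        polB_comm y x] at h0 h1
      have hu : u * (2 * 2 * b - s * s) = 0 := by linear_combination (2 * b) * h0 - s * h1
      have hv : v * (2 * 2 * b - s * s) = 0 := by linear_combination 2 * h1 - s * h0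
      rw [(mul_eq_zero.mp hu).resolve_right hdisc, (mul_eq_zero.mp hv).resolve_right hdisc]; simp
    refine ⟨P₀.map W.subtype, Submodule.map_subtype_le _ _, by rw [Submodule.finrank_map_subtype_eq, hd],
      ndOn_map_subtype hPn, fun hp => ?_⟩
    obtain ⟨T, hT, hT0, hTd⟩ := (plusOn_map_subtype P₀).mp hp
    obtain ⟨t, ht, htne⟩ := Submodule.exists_mem_ne_zero_of_ne_bot (p := T) fun e => by
      rw [e, finrank_bot, hd] at hTd; omega
    obtain ⟨u, v, rfl⟩ := hmem t (hT ht)
    obtain ⟨rfl, rfl⟩ := hanis u v (hT0 _ ht)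
    simp at htne
  by_cases h2 : (2 : F) = 0
  · -- `s = 1`
    haveI : CharP F 2 := CharTwo.of_one_ne_zero_of_two_eq_zero one_ne_zero h2
    obtain ⟨b, hb⟩ : ∃ b : F, ∀ t : F, t ^ 2 + t + b ≠ 0 := by
      have hns : ¬ Function.Surjective (fun t : F => t ^ 2 + t) := fun hs => by
        have := (Finite.injective_iff_surjective.mpr hs) (show (fun t : F => t ^ 2 + t) 0 = (fun t : F => t ^ 2 + t) 1 by
          simp [CharTwo.add_self_eq_zero])
        exact zero_ne_one this
      simp only [Function.Surjective, not_forall, not_exists] at hns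
      obtain ⟨b, hb⟩ := hns
      exact ⟨b, fun t ht => hb t (by rw [eq_neg_of_add_eq_zero_left ht, CharTwo.neg_eq])⟩
    obtain ⟨y0, hy0⟩ := exists_polB_eq hW.restrict hx0 1
    set R := (polB (Q.restrict W)).orthogonal (Submodule.span F {x, y0}) with hR
    have hRn : NdOn (Q.restrict W) R := by
      have hPn : NdOn (Q.restrict W) (Submodule.span F {x, y0}) := by
        refine ndOn_of fun w hw h => ?_
        obtain ⟨u, v, rfl⟩ := Submodule.mem_span_pair.mp hw
        have h0 := h x (Submodule.subset_span (Set.mem_insert _ _))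
        have h1 := h y0 (Submodule.subset_span (Set.mem_insert_of_mem _ rfl))
        simp only [map_add, map_smul, smul_eq_mul, polB_self, h2, hy0, polB_comm y0 x, zero_mul, mul_zero, mul_one,
          zero_add, add_zero] at h0 h1
        simp [h0, h1]
      exact hPn.orth hW.restrict
    have hRd : 2 ≤ Module.finrank F R := by
      have h1 := finrank_orth_pair hW.restrict x y0
      have h4 : Module.finrank F W ≠ 3 := fun e => by
        -- an odd dimensional space has degenerate polar form in characteristic two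
        obtain ⟨P, hPW, hPd, hPn, -⟩ := exists_hyp_plane (Q := Q) hW (c := ((H44.exists_singular (Q.restrict W) h3).choose : V))
          (H44.exists_singular (Q.restrict W) h3).choose.2
          (fun e0 => (H44.exists_singular (Q.restrict W) h3).choose_spec.1 (Subtype.ext e0))
          (H44.exists_singular (Q.restrict W) h3).choose_spec.2
        obtain ⟨S, -, hSn, -, -, hd⟩ := exists_compl hW hPW hPn
        exact even_finrank_of_two_eq_zero hSn.restrict h2 (by omega)
      rw [← hR] at h1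
      omega
    obtain ⟨w, hw, hwq⟩ : ∃ w ∈ R, Q.restrict W w = b - Q.restrict W y0 := by
      by_cases h0 : b - Q.restrict W y0 = 0
      · exact ⟨0, zero_mem _, by rw [map_zero, h0]⟩
      · obtain ⟨w, hw⟩ := exists_qmap_eq hRn.restrict hRd _ h0
        exact ⟨w, w.2, hw⟩
    rw [hR, mem_orth_pair] at hw
    refine ⟨y0 + w, 1, b, by rw [map_add, hy0, hw.1, add_zero], by rw [qmap_add, hwq, hw.2]; ring,
      fun e => hb 0 (by simp [e]), fun t => by rw [one_mul]; exact hb t, by simp [h2]⟩
  · obtain ⟨ν, hν⟩ := FiniteField.exists_nonsquare (F := F) (by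
      intro hch; haveI := ringChar.of_eq hch; exact h2 CharTwo.two_eq_zero)
    set R := (polB (Q.restrict W)).orthogonal (F ∙ x) with hR
    have hRn : NdOn (Q.restrict W) R := by
      refine (ndOn_of fun w hw h => ?_ : NdOn (Q.restrict W) (F ∙ x)).orth hW.restrict
      obtain ⟨t, rfl⟩ := Submodule.mem_span_singleton.mp hw
      have := h x (Submodule.mem_span_singleton_self x)
      rw [map_smul, polB_self, hx, smul_eq_mul, mul_one] at this
      rw [(mul_eq_zero.mp this).resolve_right h2, zero_smul]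
    have hν0 : ν ≠ 0 := fun e => hν ⟨0, by rw [e, mul_zero]⟩
    have hRd := finrank_orth_singleton hW.restrict hx0
    obtain ⟨y, hy⟩ := exists_qmap_eq hRn.restrict (by rw [← hR] at hRd; omega) (-ν) (neg_ne_zero.mpr hν0)
    refine ⟨y, 0, -ν, y.2 x (Submodule.mem_span_singleton_self x), hy, neg_ne_zero.mpr hν0,
      fun t e => hν ⟨t, by linear_combination -e⟩, by simp [h2, hν0]⟩

/-- Subspaces of both types and every smaller even dimension. -/
theorem exists_sub [Finite F] {W : Submodule F V} (hW : NdOn Q W) {h : ℕ}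
    (hh : 2 * h < Module.finrank F W) (b : Prop) (hb : h = 0 → b) :
    ∃ P ≤ W, Module.finrank F P = 2 * h ∧ NdOn Q P ∧ (PlusOn Q P ↔ b) := by
  induction h generalizing W b with
  | zero => exact ⟨⊥, bot_le, by simp, ndOn_bot, iff_of_true plusOn_bot (hb rfl)⟩
  | succ h ih =>
    by_cases h0 : h = 0 ∧ ¬ b
    · obtain ⟨rfl, hnb⟩ := h0
      obtain ⟨P, hPW, hPd, hPn, hPm⟩ := exists_minus_plane hW (by omega)
      exact ⟨P, hPW, hPd, hPn, iff_of_false hPm hnb⟩
    obtain ⟨c, hc0, hc⟩ := H44.exists_singular (Q.restrict W) (by omega)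
    obtain ⟨P, hPW, hPd, hPn, hPp⟩ := exists_hyp_plane hW c.2 (fun e => hc0 (Subtype.ext e)) hc
    obtain ⟨R, hRW, hRn, hPR, -, hd⟩ := exists_compl hW hPW hPn
    obtain ⟨S, hSR, hSd, hSn, hSt⟩ := ih hRn (by omega) b fun e => by tauto
    have hPS : PerpTo Q P S := fun p hp s hs => hPR p hp s (hSR hs)
    refine ⟨P ⊔ S, sup_le hPW (hSR.trans hRW), by rw [finrank_sup_perp hPn hPS, hPd, hSd]; ring, hPn.sup hSn hPS, ?_⟩
    rw [plusOn_sup hPn hSn hPS ⟨1, hPd⟩ ⟨h, by rw [hSd]; ring⟩, hSt]
    simp [hPp]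

end H47
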