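import Mathlib
import Cfsg.Agent.H43.TorusUnipotent
import Cfsg.Agent.H44.JordanEven
import Cfsg.Agent.H47.OrthType
import Cfsg.Agent.H47.Plus
import Cfsg.Agent.H47.Minus

/-!
Invariant non-degenerate subspaces of isometries of odd prime order prime to the characteristic.
-/

set_option autoImplicit false

namespace H47

open H43 Polynomial

variable {F : Type*} [Field F] {V : Type*} [AddCommGroup V] [Module F V] {Q : QuadraticForm F V}

/-- The subspace is mapped into itself. -/
def Inv (g : orthGroup Q) (W : Submodule F V) : Prop := ∀ w ∈ W, g.1 w ∈ W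

/-- No fixed vector but zero. -/
def FixFree (g : orthGroup Q) (W : Submodule F V) : Prop := ∀ w ∈ W, g.1 w = w → w = 0

/-- The linear map underlying an isometry. -/
def endT (g : orthGroup Q) : Module.End F V := (g.1 : V →ₗ[F] V)

/-- The dimension of a block. -/
noncomputable def blockDim (F : Type*) [Fintype F] (r : ℕ) : ℕ :=
  if Even (orderOf (Fintype.card F : ZMod r)) then orderOf (Fintype.card F : ZMod r)
  else 2 * orderOf (Fintype.card F : ZMod r)

variable {g : orthGroup Q} {r : ℕ}

lemma endT_pow_apply (k : ℕ) (v : V) : (endT g ^ k) v = (g ^ k).1 v := (orth_coe_pow g k v).symm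

lemma endT_pow_eq_one (hg : g ^ r = 1) : endT g ^ r = 1 :=
  LinearMap.ext fun v => by rw [endT_pow_apply, hg]; rfl

lemma endT_isom (k : ℕ) (v : V) : Q ((endT g ^ k) v) = Q v := by
  rw [endT_pow_apply]; exact (g ^ k).2 v

lemma endT_polB (k : ℕ) (u v : V) : polB Q ((endT g ^ k) u) ((endT g ^ k) v) = polB Q u v := by
  simp only [polB_apply, QuadraticMap.polar, ← map_add, endT_isom]

lemma endT_adjoint (hg : g ^ r = 1) {a b : ℕ} (hab : r ∣ a + b) (u v : V) :
    polB Q ((endT g ^ a) u) v = polB Q u ((endT g ^ b) v) := by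
  obtain ⟨k, hk⟩ := hab
  have hv : (endT g ^ a) ((endT g ^ b) v) = v := by
    rw [← Module.End.mul_apply, ← pow_add, hk, pow_mul, endT_pow_eq_one hg, one_pow]; rfl
  conv_lhs => rw [← hv]
  rw [endT_polB]

lemma aeval_adjoint {S S' : Module.End F V} (h : ∀ u v, polB Q (S u) v = polB Q u (S' v)) (R : F[X]) (u v : V) :
    polB Q (aeval S R u) v = polB Q u (aeval S' R v) := by
  induction R using Polynomial.induction_on generalizing u v with
  | C a => simp [Module.algebraMap_end_apply, smul_eq_mul]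
  | add p p' hp hp' => simp [hp, hp']
  | monomial n a ih =>
    rw [pow_succ, ← mul_assoc, map_mul (aeval S), map_mul (aeval S'), aeval_X, aeval_X, Module.End.mul_apply, ih, h,
      ← Module.End.mul_apply]
    have hc : Commute S' (aeval S' (C a * X ^ n)) := by
      conv => arg 1; rw [← aeval_X (R := F) S']
      exact (Commute.all _ _).map _
    rw [hc.eq]

lemma Inv.pow {W : Submodule F V} (hW : Inv g W) (k : ℕ) : ∀ w ∈ W, (endT g ^ k) w ∈ W := by
  induction k with
  | zero => exact fun w hw => hw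
  | succ k ih => intro w hw; rw [pow_succ', Module.End.mul_apply]; exact hW _ (ih w hw)

lemma aeval_mem {W : Submodule F V} {S : Module.End F V} (hS : ∀ w ∈ W, S w ∈ W) (R : F[X]) :
    ∀ w ∈ W, aeval S R w ∈ W := by
  induction R using Polynomial.induction_on with
  | C a => intro w hw; simpa [Module.algebraMap_end_apply] using W.smul_mem a hw
  | add p p' hp hp' => intro w hw; simpa using W.add_mem (hp w hw) (hp' w hw)
  | monomial n a ih =>
    intro w hw
    rw [pow_succ, ← mul_assoc, map_mul, aeval_X, Module.End.mul_apply]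
    exact ih _ (hS w hw)

lemma aeval_restrict {W : Submodule F V} {S : Module.End F V} (hS : ∀ w ∈ W, S w ∈ W) (R : F[X]) :
    ∀ w : W, ((aeval (S.restrict hS) R w : W) : V) = aeval S R (w : V) := by
  induction R using Polynomial.induction_on with
  | C a => intro w; simp [Module.algebraMap_end_apply]
  | add p p' hp hp' => intro w; simp [hp w, hp' w]
  | monomial n a ih =>
    intro w
    rw [pow_succ, ← mul_assoc, map_mul (aeval (S.restrict hS)), map_mul (aeval S), aeval_X, aeval_X, Module.End.mul_apply, Module.End.mul_apply, ih,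
      LinearMap.restrict_coe_apply]

lemma inv_sup {U W : Submodule F V} (hU : Inv g U) (hW : Inv g W) : Inv g (U ⊔ W) := by
  intro x hx
  obtain ⟨u, hu, w, hw, rfl⟩ := Submodule.mem_sup.mp hx
  rw [map_add]
  exact Submodule.add_mem_sup (hU u hu) (hW w hw)

lemma inv_orth (hg : g ^ r = 1) (hr : 1 ≤ r) {W : Submodule F V} (hW : Inv g W) :
    Inv g ((polB Q).orthogonal W) := by
  intro u hu w hw
  have h := endT_adjoint (Q := Q) hg (a := r - 1) (b := 1) (by rw [Nat.sub_add_cancel hr]) w u
  rw [pow_one] at h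
  exact h.symm.trans (hu _ (hW.pow (r - 1) w hw))

variable [FiniteDimensional F V]

lemma inv_compl (hg : g ^ r = 1) (hr : 1 ≤ r) {P R W : Submodule F V} (hW : Inv g W) (hP : Inv g P) (hPn : NdOn Q P)
    (hPR : PerpTo Q P R) (hsup : P ⊔ R = W) : Inv g R := by
  intro v hv
  have hmem : g.1 v ∈ P ⊔ R := by rw [hsup]; exact hW v (hsup ▸ Submodule.mem_sup_right hv)
  obtain ⟨p, hp, v', hv', he⟩ := Submodule.mem_sup.mp hmem
  have hp0 : p = 0 := hPn.eq_zero hp fun u hu => by
    have h1 : polB Q u (g.1 v) = 0 := by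
      have h := endT_adjoint (Q := Q) hg (a := r - 1) (b := 1) (by rw [Nat.sub_add_cancel hr]) u v
      rw [pow_one] at h
      exact h.symm.trans (hPR _ (hP.pow (r - 1) u hu) v hv)
    rwa [← he, map_add, hPR u hu v' hv', add_zero] at h1
  rw [← he, hp0, zero_add]; exact hv'

/-- A small invariant subspace through a vector killed by a monic polynomial. -/
lemma exists_cyclic {v : V} {R : F[X]} (hR : R.Monic) (hv : aeval (endT g) R v = 0) :
    ∃ C : Submodule F V, v ∈ C ∧ Inv g C ∧ Module.finrank F C ≤ R.natDegree ∧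
      ∀ W : Submodule F V, Inv g W → v ∈ W → C ≤ W := by
  set n := R.natDegree with hn
  rcases Nat.eq_zero_or_pos n with h0 | hn0
  · have hv0 : v = 0 := by
      rw [hR.natDegree_eq_zero.mp h0, map_one] at hv
      simpa using hv
    refine ⟨⊥, by rw [hv0]; exact zero_mem _, fun w hw => ?_, by simp, fun _ _ _ => bot_le⟩
    rw [(Submodule.mem_bot F).mp hw, map_zero]; exact zero_mem _
  let b : Fin n → V := fun j => (endT g ^ (j : ℕ)) v
  set C := Submodule.span F (Set.range b)
  have hb : ∀ j < n, (endT g ^ j) v ∈ C := fun j hj => Submodule.subset_span ⟨⟨j, hj⟩, rfl⟩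
  have hvC : v ∈ C := by simpa using hb 0 hn0
  have htop : (endT g ^ n) v ∈ C := by
    rw [hR.as_sum, ← hn, map_add, map_sum, LinearMap.add_apply, LinearMap.sum_apply, map_pow, aeval_X] at hv
    rw [eq_neg_of_add_eq_zero_left hv]
    refine neg_mem (Submodule.sum_mem _ fun j hj => ?_)
    rw [map_mul, aeval_C, map_pow, aeval_X, Module.End.mul_apply, Module.algebraMap_end_apply]
    exact C.smul_mem _ (hb j (Finset.mem_range.mp hj))
  refine ⟨C, hvC, fun w hw => ?_, (finrank_range_le_card b).trans_eq (Fintype.card_fin n),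
    fun W hW hvW => Submodule.span_le.mpr (by rintro _ ⟨j, rfl⟩; exact hW.pow j v hvW)⟩
  induction hw using Submodule.span_induction with
  | mem x hx =>
    obtain ⟨j, rfl⟩ := hx
    show endT g ((endT g ^ (j : ℕ)) v) ∈ C
    rw [← Module.End.mul_apply, ← pow_succ']
    rcases (Nat.succ_le_of_lt j.2).lt_or_eq with h | h
    · exact hb _ h
    · rw [show (j : ℕ) + 1 = n from h]; exact htop
  | zero => rw [map_zero]; exact zero_mem _
  | add x y _ _ hx hy => rw [map_add]; exact add_mem hx hy
  | smul a x _ hx => rw [map_smul]; exact C.smul_mem a hx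

section order

variable [Fintype F] [hr : Fact r.Prime]

lemma card_pow_mod (hrq : ¬ r ∣ Fintype.card F) (k : ℕ) :
    Fintype.card F ^ (orderOf (Fintype.card F : ZMod r) * k) % r = 1 % r := by
  rw [← ZMod.val_natCast, ← ZMod.val_natCast r 1, Nat.cast_pow, pow_mul, pow_orderOf_eq_one, one_pow, Nat.cast_one]

lemma order_pos (hrq : ¬ r ∣ Fintype.card F) : 0 < orderOf (Fintype.card F : ZMod r) := by
  have hq0 : (Fintype.card F : ZMod r) ≠ 0 := fun h0 => hrq ((ZMod.natCast_eq_zero_iff _ r).mp h0)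
  exact orderOf_pos_iff.mpr (isOfFinOrder_iff_pow_eq_one.mpr ⟨r - 1, by
    have := hr.out.two_le; omega, ZMod.pow_card_sub_one_eq_one hq0⟩)

lemma pow_frob {A : Type*} [Monoid A] {S : A} (hS : S ^ r = 1) (hrq : ¬ r ∣ Fintype.card F) :
    S ^ (Fintype.card F ^ orderOf (Fintype.card F : ZMod r)) = S := by
  have h := card_pow_mod (F := F) (r := r) hrq 1
  rw [mul_one] at h
  rw [pow_eq_pow_mod _ hS, h, ← pow_eq_pow_mod _ hS, pow_one]

omit [FiniteDimensional F V] hr in
lemma aeval_frob (S : Module.End F V) (R : F[X]) (h : ℕ) :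
    aeval (S ^ (Fintype.card F ^ h)) R = (aeval S R) ^ (Fintype.card F ^ h) := by
  induction h generalizing R with
  | zero => simp
  | succ h ih =>
    rw [pow_succ, pow_mul, ← Polynomial.expand_aeval, FiniteField.expand_card, ih, map_pow, ← pow_mul, mul_comm]

lemma inv_dim_dvd (hg : g ^ r = 1) {W : Submodule F V} (hW : Inv g W) (hf : FixFree g W) :
    orderOf (Fintype.card F : ZMod r) ∣ Module.finrank F W := by
  refine orderOf_dvd_finrank ((endT g).restrict hW) ?_ fun w hw => Subtype.ext (hf _ w.2 (congrArg Subtype.val hw))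
  refine LinearMap.ext fun w => Subtype.ext ?_
  have h := aeval_restrict (S := endT g) hW (X ^ r) w
  rw [map_pow, map_pow, aeval_X, aeval_X, endT_pow_eq_one hg] at h
  rw [h]; rfl

lemma nd_dim_even (hg : g ^ r = 1) (hr2 : r ≠ 2) {W : Submodule F V} (hW : Inv g W) (hn : NdOn Q W)
    (hf : FixFree g W) : Even (Module.finrank F W) := by
  have hr1 : 1 ≤ r := hr.out.pos
  let D : Module.End F W := (endT g).restrict hW - ((endT g) ^ (r - 1)).restrict (hW.pow (r - 1))
  have hD : ∀ w : W, ((D w : W) : V) = endT g (w : V) - (endT g ^ (r - 1)) (w : V) := fun w => rfl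
  refine H44.even_finrank_of_alt ((polB (Q.restrict W)).compLeft D) (fun w => ?_) fun w hw => ?_
  · rw [LinearMap.BilinForm.compLeft_apply, polB_restrict, hD, map_sub, LinearMap.sub_apply]
    have h := endT_adjoint (Q := Q) hg (a := 1) (b := r - 1) (by rw [Nat.add_sub_cancel' hr1]) (w : V) (w : V)
    rw [pow_one] at h
    rw [h, polB_comm, sub_self]
  · have h0 : D w = 0 := hn.restrict.1 (D w) fun y => by
      have := hw y
      rwa [LinearMap.BilinForm.compLeft_apply] at this
    have h1 : endT g (w : V) = (endT g ^ (r - 1)) (w : V) := sub_eq_zero.mp (by rw [← hD, h0]; rfl)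
    have h2 : (endT g ^ 2) (w : V) = w := by
      rw [pow_two, Module.End.mul_apply, h1, ← Module.End.mul_apply, ← pow_succ', Nat.sub_add_cancel hr1,
        endT_pow_eq_one hg]; rfl
    have h3 : ∀ k, (endT g ^ (2 * k)) (w : V) = w := by
      intro k
      induction k with
      | zero => rfl
      | succ k ih => rw [Nat.mul_succ, pow_add, Module.End.mul_apply, h2, ih]
    obtain ⟨k, hk⟩ := hr.out.odd_of_ne_two hr2
    have h4 : endT g (w : V) = w := by
      have := LinearMap.congr_fun (endT_pow_eq_one hg) (w : V)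
      rw [hk, pow_succ', Module.End.mul_apply, h3] at this
      exact this
    exact Subtype.ext (hf _ w.2 h4)

/-- The block dimension divides the dimension of a non-degenerate invariant subspace. -/
theorem blockDim_dvd (hg : g ^ r = 1) (hr2 : r ≠ 2) {W : Submodule F V} (hW : Inv g W) (hn : NdOn Q W)
    (hf : FixFree g W) : blockDim F r ∣ Module.finrank F W := by
  rw [blockDim]
  split_ifs with he
  · exact inv_dim_dvd hg hW hf
  · exact Nat.Coprime.mul_dvd_of_dvd_of_dvd (Nat.coprime_two_left.mpr (Nat.not_even_iff_odd.mp he))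
      (even_iff_two_dvd.mp (nd_dim_even hg hr2 hW hn hf)) (inv_dim_dvd hg hW hf)

lemma exists_simple {W : Submodule F V} (hW : Inv g W) (hW0 : W ≠ ⊥) :
    ∃ M ≤ W, M ≠ ⊥ ∧ Inv g M ∧ ∀ N ≤ M, Inv g N → N = ⊥ ∨ N = M := by
  classical
  have hP : ∃ n, ∃ M : Submodule F V, M ≤ W ∧ M ≠ ⊥ ∧ Inv g M ∧ Module.finrank F M = n :=
    ⟨_, W, le_rfl, hW0, hW, rfl⟩
  obtain ⟨M, hMW, hM0, hMi, hMd⟩ := Nat.find_spec hP
  refine ⟨M, hMW, hM0, hMi, fun N hNM hN => ?_⟩
  by_cases hN0 : N = ⊥
  · exact Or.inl hN0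
  · right
    refine Submodule.eq_of_le_of_finrank_le hNM ?_
    rw [hMd]
    exact Nat.find_min' hP ⟨N, hNM.trans hMW, hN0, hN, rfl⟩

/-- Powers of the isometry satisfy polynomials of small degree on a simple invariant subspace. -/
lemma exists_annih (hg : g ^ r = 1) (hrq : ¬ r ∣ Fintype.card F) {M : Submodule F V} (hM0 : M ≠ ⊥) (hM : Inv g M)
    (hsimp : ∀ N ≤ M, Inv g N → N = ⊥ ∨ N = M) (e : ℕ) :
    ∃ R : F[X], R.Monic ∧ R.natDegree ≤ orderOf (Fintype.card F : ZMod r) ∧
      ∀ v ∈ M, aeval (endT g ^ e) R v = 0 := by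
  haveI : Nontrivial M := Submodule.nontrivial_iff_ne_bot.mpr hM0
  set S : Module.End F M := (endT g ^ e).restrict (hM.pow e) with hS
  have hint : IsIntegral F S := Algebra.IsIntegral.isIntegral S
  set R := minpoly F S with hR
  have hRS : aeval S R = 0 := minpoly.aeval F S
  have hker : ∀ p : F[X], aeval S p ≠ 0 → ∀ v, aeval S p v = 0 → v = 0 := by
    intro p hp v hv
    let N : Submodule F V := LinearMap.ker (aeval (endT g ^ e) p) ⊓ M
    have hN : Inv g N := by
      intro w hw
      obtain ⟨hw1, hw2⟩ := Submodule.mem_inf.mp hw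
      refine Submodule.mem_inf.mpr ⟨?_, hM w hw2⟩
      rw [LinearMap.mem_ker] at hw1 ⊢
      have hc : Commute (aeval (endT g ^ e) p) (endT g) := by
        rw [show aeval (endT g ^ e) p = aeval (endT g) (Polynomial.expand F e p) from (Polynomial.expand_aeval e p _).symm]
        conv => arg 2; rw [← aeval_X (R := F) (endT g)]
        exact (Commute.all _ _).map _
      show aeval (endT g ^ e) p (endT g w) = 0
      rw [← Module.End.mul_apply, hc.eq, Module.End.mul_apply, hw1, map_zero]
    rcases hsimp N inf_le_right hN with h | h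
    · have : (v : V) ∈ N := Submodule.mem_inf.mpr ⟨by
        rw [LinearMap.mem_ker, ← aeval_restrict (S := endT g ^ e) (hM.pow e), ← hS, hv]; rfl, v.2⟩
      rw [h, Submodule.mem_bot] at this
      exact Subtype.ext this
    · refine absurd (LinearMap.ext fun w => Subtype.ext ?_) hp
      have hw : (w : V) ∈ N := by rw [h]; exact w.2
      rw [hS, aeval_restrict]
      exact LinearMap.mem_ker.mp (Submodule.mem_inf.mp hw).1
  have hirr : Irreducible R := by
    refine ⟨fun hu => minpoly.not_isUnit F S hu, fun a b hab => ?_⟩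
    by_contra hne
    rw [not_or] at hne
    have hR0 : R ≠ 0 := minpoly.ne_zero hint
    have ha0 : a ≠ 0 := fun h => hR0 (by rw [hab, h, zero_mul])
    have hb0 : b ≠ 0 := fun h => hR0 (by rw [hab, h, mul_zero])
    have hsmall : ∀ {u w : F[X]}, R = u * w → u ≠ 0 → ¬ IsUnit w → aeval S u ≠ 0 := by
      intro u w huw hu hw hz
      have hdvd := minpoly.dvd F S hz
      rw [← hR, huw] at hdvd
      exact hw (isUnit_of_dvd_one ((mul_dvd_mul_iff_left hu).mp (by simpa using hdvd)))
    have h1 := hsmall hab ha0 hne.2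
    have h2 := hsmall (hab.trans (mul_comm a b)) hb0 hne.1
    obtain ⟨v, hv⟩ := exists_ne (0 : M)
    refine hv (hker b h2 v (hker a h1 _ ?_))
    rw [← Module.End.mul_apply, ← map_mul, ← hab, hRS, LinearMap.zero_apply]
  have hSr : S ^ r = 1 := by
    refine LinearMap.ext fun w => Subtype.ext ?_
    have h := aeval_restrict (S := endT g ^ e) (hM.pow e) (X ^ r) w
    rw [map_pow, map_pow, aeval_X, aeval_X, ← pow_mul, mul_comm, pow_mul, endT_pow_eq_one hg, one_pow, ← hS] at h
    rw [h]; rfl
  have hdvd : R ∣ X ^ (Nat.card F) ^ orderOf (Fintype.card F : ZMod r) - X := by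
    refine minpoly.dvd F S ?_
    rw [Nat.card_eq_fintype_card, map_sub, map_pow, aeval_X, pow_frob hSr hrq, sub_self]
  refine ⟨R, minpoly.monic hint, Nat.le_of_dvd (order_pos hrq) (hirr.natDegree_dvd_of_dvd_X_pow_card_pow_sub_X hdvd), fun v hv => ?_⟩
  have h := aeval_restrict (S := endT g ^ e) (hM.pow e) R ⟨v, hv⟩
  rw [← hS, hRS] at h
  exact h.symm

/-- The projection onto the kernel of a polynomial in a power of the isometry. -/
lemma exists_split (hg : g ^ r = 1) (hrq : ¬ r ∣ Fintype.card F) (e : ℕ) (R : F[X]) {W : Submodule F V} (hW : Inv g W)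
    {u : V} (hu : u ∈ W) :
    ∃ z ∈ W, aeval (endT g ^ e) R (u - aeval (endT g ^ e) R z) = 0 := by
  set N := aeval (endT g ^ e) R with hN
  have hS : (endT g ^ e) ^ r = 1 := by rw [← pow_mul, mul_comm, pow_mul, endT_pow_eq_one hg, one_pow]
  have hNN : N ^ (Fintype.card F ^ orderOf (Fintype.card F : ZMod r)) = N := by
    rw [hN, ← aeval_frob, pow_frob hS hrq]
  have h2 : 2 ≤ Fintype.card F ^ orderOf (Fintype.card F : ZMod r) :=
    le_trans Fintype.one_lt_card (Nat.le_self_pow (order_pos hrq).ne' _)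
  obtain ⟨k, hk⟩ : ∃ k, Fintype.card F ^ orderOf (Fintype.card F : ZMod r) = k + 2 :=
    ⟨_, (Nat.sub_add_cancel h2).symm⟩
  refine ⟨(N ^ k) u, ?_, ?_⟩
  · rw [hN, ← map_pow]; exact aeval_mem (hW.pow e) _ u hu
  · rw [map_sub, ← Module.End.mul_apply, ← Module.End.mul_apply, ← pow_two, ← pow_add,
      show 2 + k = Fintype.card F ^ orderOf (Fintype.card F : ZMod r) by omega, hNN, sub_self]

/-- An invariant subspace on which the polar form vanishes and which has no proper invariant subspace is singular. -/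
lemma ts_of_polar_zero (hg : g ^ r = 1) (hr2 : r ≠ 2) (hrq : ¬ r ∣ Fintype.card F) {M : Submodule F V} (hM : Inv g M)
    (hf : FixFree g M) (hd : Module.finrank F M ≤ orderOf (Fintype.card F : ZMod r)) (hz : PerpTo Q M M) :
    ∀ m ∈ M, Q m = 0 := by
  classical
  let K : Submodule F V :=
    { carrier := {m | m ∈ M ∧ Q m = 0}
      zero_mem' := ⟨zero_mem _, map_zero Q⟩
      add_mem' := fun {a b} ha hb => ⟨add_mem ha.1 hb.1, by rw [qmap_add, ha.2, hb.2, hz a ha.1 b hb.1]; ring⟩
      smul_mem' := fun c {a} ha => ⟨M.smul_mem c ha.1, by rw [qmap_smul, ha.2, mul_zero]⟩ }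
  have hK : Inv g K := fun m hm => ⟨hM m hm.1, by rw [orth_qmap]; exact hm.2⟩
  by_cases hK0 : K = ⊥
  · intro m hm
    by_contra hne
    -- the form is injective on `M`
    haveI : Finite V := Module.finite_of_finite F
    have hinj : Function.Injective fun v : M => Q (v : V) := fun v w (h : Q (v : V) = Q (w : V)) => by
      have hmem : (v : V) - w ∈ K := ⟨sub_mem v.2 w.2, by
        rw [qmap_sub, h, hz v v.2 w w.2, sub_zero]
        by_cases h2 : (2 : F) = 0
        · linear_combination Q (w : V) * h2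
        · have := hz w w.2 w w.2
          rw [polB_self] at this
          rw [(mul_eq_zero.mp this).resolve_left h2, add_zero]⟩
      rw [hK0, Submodule.mem_bot, sub_eq_zero] at hmem
      exact Subtype.ext hmem
    have hc := Nat.card_le_card_of_injective _ hinj
    rw [Module.natCard_eq_pow_finrank (K := F), Nat.card_eq_fintype_card] at hc
    have h1 : Module.finrank F M ≤ 1 := (Nat.pow_le_pow_iff_right Fintype.one_lt_card).mp (by rwa [pow_one])
    have hm0 : m ≠ 0 := fun e => hne (by rw [e, map_zero])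
    have hspan : F ∙ m = M := Submodule.eq_of_le_of_finrank_le ((Submodule.span_singleton_le_iff_mem _ _).mpr hm)
      (by rw [finrank_span_singleton hm0]; exact h1)
    have hgm : g.1 m ∈ F ∙ m := by rw [hspan]; exact hM m hm
    obtain ⟨l, hl⟩ := Submodule.mem_span_singleton.mp hgm
    have hll : l * l = 1 := by
      have := orth_qmap g m
      rw [← hl, qmap_smul] at this
      exact mul_right_cancel₀ hne (this.trans (one_mul _).symm)
    have hpw : ∀ k, (endT g ^ k) m = l ^ k • m := by
      intro k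
      induction k with
      | zero => simp
      | succ k ih =>
        rw [pow_succ', Module.End.mul_apply, ih, map_smul]
        show l ^ k • g.1 m = _
        rw [← hl, smul_smul, ← pow_succ]
    obtain ⟨j, hj⟩ := hr.out.odd_of_ne_two hr2
    have hlr : l = 1 := by
      have h := hpw r
      rw [endT_pow_eq_one hg, hj, pow_succ, pow_mul, pow_two, hll, one_pow, one_mul] at h
      exact smul_left_injective F hm0 (h.symm.trans (one_smul F m).symm)
    exact hm0 (hf m hm (by rw [← hl, hlr, one_smul]))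
  · have hKM : K ≤ M := fun m hm => hm.1
    have hd1 := inv_dim_dvd hg hK fun m hm => hf m hm.1
    have hpos : 0 < Module.finrank F K := Nat.pos_of_ne_zero fun e => hK0 (Submodule.finrank_eq_zero.mp e)
    have hKeq : K = M := Submodule.eq_of_le_of_finrank_le hKM (hd.trans (Nat.le_of_dvd hpos hd1))
    intro m hm
    rw [← hKeq] at hm
    exact hm.2

/-- Every fixed point free non-degenerate invariant subspace contains a block. -/
theorem exists_block (hg : g ^ r = 1) (hr2 : r ≠ 2) (hrq : ¬ r ∣ Fintype.card F) {W : Submodule F V} (hWn : NdOn Q W)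
    (hWi : Inv g W) (hWf : FixFree g W) (hW0 : W ≠ ⊥) :
    ∃ B ≤ W, NdOn Q B ∧ Inv g B ∧ Module.finrank F B = blockDim F r ∧
      (PlusOn Q B ↔ Odd (orderOf (Fintype.card F : ZMod r))) := by
  classical
  set i := orderOf (Fintype.card F : ZMod r) with hi
  have hipos : 0 < i := order_pos hrq
  have hsub : ∀ {N : Submodule F V}, N ≤ W → FixFree g N := fun hN w hw => hWf w (hN hw)
  have hdim : ∀ {N : Submodule F V}, N ≤ W → Inv g N → N ≠ ⊥ → i ≤ Module.finrank F N := fun hNW hN hN0 =>
    Nat.le_of_dvd (Nat.pos_of_ne_zero fun e => hN0 (Submodule.finrank_eq_zero.mp e)) (inv_dim_dvd hg hN (hsub hNW))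
  obtain ⟨M, hMW, hM0, hMi, hMs⟩ := exists_simple hWi hW0
  obtain ⟨P, hPm, hPd, hP⟩ := exists_annih hg hrq hM0 hMi hMs 1
  simp only [pow_one] at hP
  have hker : ∀ v ∈ W, v ≠ 0 → aeval (endT g) P v = 0 →
      ∃ C ≤ W, v ∈ C ∧ Inv g C ∧ Module.finrank F C = i := by
    intro v hv hv0 hz
    obtain ⟨C, hvC, hC, hCd, hmin⟩ := exists_cyclic hPm hz
    exact ⟨C, hmin W hWi hv, hvC, hC, le_antisymm (hCd.trans hPd)
      (hdim (hmin W hWi hv) hC fun e => hv0 ((Submodule.mem_bot F).mp (e ▸ hvC)))⟩
  by_cases he : Even i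
  · have hi2 : 2 ≤ i := by obtain ⟨k, hk⟩ := he; omega
    obtain ⟨hh, hhh⟩ := he
    have hqh : (Fintype.card F : ZMod r) ^ hh = -1 := by
      have h1 : ((Fintype.card F : ZMod r) ^ hh) * (Fintype.card F : ZMod r) ^ hh = 1 := by
        rw [← pow_add, ← hhh, hi, pow_orderOf_eq_one]
      refine (mul_self_eq_one_iff.mp h1).resolve_left fun h => ?_
      have := Nat.le_of_dvd (by omega) (hi ▸ orderOf_dvd_of_pow_eq_one h)
      omega
    have hadj : r ∣ 1 + Fintype.card F ^ hh := by
      rw [← ZMod.natCast_eq_zero_iff, Nat.cast_add, Nat.cast_pow, hqh, Nat.cast_one, add_neg_cancel]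
    set K := LinearMap.ker (aeval (endT g) P) ⊓ W with hK
    have hKn : NdOn Q K := by
      refine ndOn_of fun v hv h => hWn.eq_zero (Submodule.mem_inf.mp hv).2 fun u hu => ?_
      obtain ⟨z, hz, hz0⟩ := exists_split hg hrq 1 P hWi hu
      simp only [pow_one] at hz0
      have h1 : polB Q (aeval (endT g) P z) v = 0 := by
        rw [aeval_adjoint (S' := endT g ^ (Fintype.card F ^ hh)) (fun a b => by
          simpa using endT_adjoint (Q := Q) hg hadj a b), aeval_frob]
        obtain ⟨k, hk⟩ : ∃ k, Fintype.card F ^ hh = k + 1 := ⟨_, (Nat.sub_add_cancel (Nat.one_le_pow _ _ Fintype.card_pos)).symm⟩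
        rw [hk, pow_succ, Module.End.mul_apply, LinearMap.mem_ker.mp (Submodule.mem_inf.mp hv).1, map_zero, map_zero]
      have h2 := h (u - aeval (endT g) P z) (Submodule.mem_inf.mpr ⟨LinearMap.mem_ker.mpr hz0,
        sub_mem hu (aeval_mem hWi P z hz)⟩)
      rwa [map_sub, LinearMap.sub_apply, h1, sub_zero] at h2
    obtain ⟨v, hvK, hQv⟩ : ∃ v ∈ K, Q v ≠ 0 := by
      by_contra hall
      push Not at hall
      obtain ⟨m, hm, hm0⟩ := Submodule.exists_mem_ne_zero_of_ne_bot hM0
      exact hm0 (hKn.eq_zero (Submodule.mem_inf.mpr ⟨LinearMap.mem_ker.mpr (hP m hm), hMW hm⟩) fun u hu =>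
        polB_eq_zero_of_singular hall hu (Submodule.mem_inf.mpr ⟨LinearMap.mem_ker.mpr (hP m hm), hMW hm⟩))
    obtain ⟨hv1, hvW⟩ := Submodule.mem_inf.mp hvK
    obtain ⟨C, hCW, hvC, hC, hCd⟩ := hker v hvW (fun e => hQv (by rw [e, map_zero])) (LinearMap.mem_ker.mp hv1)
    have hCn : NdOn Q C := by
      by_contra hne
      have hR := Submodule.eq_of_le_of_finrank_le (inf_le_left : C ⊓ (polB Q).orthogonal C ≤ C) (hCd ▸
        hdim (inf_le_left.trans hCW) (fun w hw => ⟨hC w hw.1, inv_orth hg hr.out.pos hC w hw.2⟩) hne)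
      refine hQv (ts_of_polar_zero hg hr2 hrq hC (hsub hCW) hCd.le (fun a ha b hb => ?_) v hvC)
      exact (hR.symm ▸ hb : b ∈ C ⊓ (polB Q).orthogonal C).2 a ha
    refine ⟨C, hCW, hCn, hC, by rw [blockDim, ← hi, if_pos ⟨hh, hhh⟩, hCd], iff_of_false ?_ (Nat.not_odd_iff_even.mpr ⟨hh, hhh⟩)⟩
    -- a plus type space has the wrong number of nonsingular vectors
    intro hplus
    rcases H44.equiv_plus_or_minus (m := hh) (by omega) (Q.restrict C) (H44.polarSep_of_nondegenerate hCn.restrict) with
      ⟨φ, hφ⟩ | ⟨h1, ζ, φ, hζ, hφ⟩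
    · have hinv : ∀ w : C, ((endT g) ^ 1) (w : V) ∈ C := fun w => hC.pow 1 w w.2
      haveI : Finite V := Module.finite_of_finite F
      let S := {w : C // Q (w : V) ≠ 0}
      have hgr : ∀ w : V, (endT g ^ r) w = w := fun w => LinearMap.congr_fun (endT_pow_eq_one hg) w
      let σ : Equiv.Perm S :=
        { toFun := fun w => ⟨⟨(endT g) (w.1 : V), hC _ w.1.2⟩, by show Q (g.1 (w.1 : V)) ≠ 0; rw [orth_qmap]; exact w.2⟩
          invFun := fun w => ⟨⟨(endT g ^ (r - 1)) (w.1 : V), hC.pow _ _ w.1.2⟩, by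
            show Q ((endT g ^ (r - 1)) (w.1 : V)) ≠ 0; rw [endT_isom]; exact w.2⟩
          left_inv := fun w => Subtype.ext (Subtype.ext (by
            show (endT g ^ (r - 1)) (endT g (w.1 : V)) = w.1
            rw [← Module.End.mul_apply, ← pow_succ, Nat.sub_add_cancel hr.out.pos, hgr]))
          right_inv := fun w => Subtype.ext (Subtype.ext (by
            show endT g ((endT g ^ (r - 1)) (w.1 : V)) = w.1
            rw [← Module.End.mul_apply, ← pow_succ', Nat.sub_add_cancel hr.out.pos, hgr])) }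
      have hσ : σ ^ r = 1 := by
        have hpw : ∀ k (w : S), (((σ ^ k) w).1 : V) = (endT g ^ k) (w.1 : V) := by
          intro k
          induction k with
          | zero => intro w; rfl
          | succ k ih =>
            intro w
            rw [pow_succ', pow_succ', Equiv.Perm.mul_apply, Module.End.mul_apply, ← ih]
            rfl
        exact Equiv.ext fun w => Subtype.ext (Subtype.ext (by rw [hpw, hgr]; rfl))
      have hfp : ∀ w, σ w ≠ w := fun w e => w.2 (by
        rw [hWf (w.1 : V) (hCW w.1.2) (congrArg (fun z : S => (z.1 : V)) e), map_zero])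
      have hcard := dvd_card_of_fpf σ hσ hfp
      rw [show Nat.card S = Nat.card {v : Fin hh ⊕ Fin hh → F // Cfsg.quadFormPlus hh F v ≠ 0} from
        Nat.card_congr (φ.toEquiv.subtypeEquiv fun w => by rw [← QuadraticMap.restrict_apply, hφ]; rfl),
        card_plus_nonsingular_vectors (by omega)] at hcard
      rw [← ZMod.natCast_eq_zero_iff, Nat.cast_mul, Nat.cast_mul, Nat.cast_sub (Nat.one_le_pow _ _ Fintype.card_pos),
        Nat.cast_sub Fintype.card_pos, Nat.cast_pow, Nat.cast_pow, hqh, Nat.cast_one] at hcard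
      have hne2 : (-1 : ZMod r) - 1 ≠ 0 := fun h => hr2 ((Nat.prime_dvd_prime_iff_eq hr.out Nat.prime_two).mp
        ((ZMod.natCast_eq_zero_iff 2 r).mp (by push_cast; linear_combination -h)))
      rcases mul_eq_zero.mp ((mul_eq_zero.mp hcard).resolve_left hne2) with h | h
      · exact hrq ((ZMod.natCast_eq_zero_iff _ r).mp (pow_eq_zero_iff'.mp h).1)
      · have : i = 1 := by rw [hi, orderOf_eq_one_iff]; exact sub_eq_zero.mp h
        omega
    · obtain ⟨U, hU, hU0, hUd⟩ := hplus
      have hab := H44.binForm_one_anisotropic hζ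
      have := minus_no_half (d := hh) (a := 1) (b := ζ) h1 hab
        ((U.comap C.subtype).map φ.toLinearMap) (by
          rintro _ ⟨w, hw, rfl⟩
          show Cfsg.quadFormMinus (hh - 1) F 1 ζ (φ w) = 0
          rw [← hφ]; exact hU0 _ hw)
      rw [LinearEquiv.finrank_map_eq, ← Submodule.finrank_map_subtype_eq C,
        Submodule.map_comap_eq_of_le (by rwa [Submodule.range_subtype])] at this
      omega
  · have hodd := Nat.not_even_iff_odd.mp he
    have hcyc : ∀ v ∈ M, v ≠ 0 → Module.finrank F M ≤ i := fun v hv hv0 => by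
      obtain ⟨C, hvC, hC, hCd, hmin⟩ := exists_cyclic hPm (hP v hv)
      rcases hMs C (hmin M hMi hv) hC with e | e
      · exact absurd ((Submodule.mem_bot F).mp (e ▸ hvC)) hv0
      · rw [← e]; exact hCd.trans hPd
    obtain ⟨m, hm, hm0⟩ := Submodule.exists_mem_ne_zero_of_ne_bot hM0
    have hMd : Module.finrank F M = i := le_antisymm (hcyc m hm hm0) (hdim hMW hMi hM0)
    have htsi : ∀ {N : Submodule F V}, N ≤ W → Inv g N → Module.finrank F N = i → ∀ x ∈ N, Q x = 0 := by
      intro N hNW hN hNd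
      refine ts_of_polar_zero hg hr2 hrq hN (hsub hNW) hNd.le fun a ha b hb => ?_
      have hne : N ⊓ (polB Q).orthogonal N ≠ ⊥ := fun e => by
        have := nd_dim_even hg hr2 hN e (hsub hNW)
        rw [hNd] at this
        exact he this
      have hR := Submodule.eq_of_le_of_finrank_le (inf_le_left : N ⊓ (polB Q).orthogonal N ≤ N) (hNd ▸
        hdim (inf_le_left.trans hNW) (fun w hw => ⟨hN w hw.1, inv_orth hg hr.out.pos hN w hw.2⟩) hne)
      exact (hR.symm ▸ hb : b ∈ N ⊓ (polB Q).orthogonal N).2 a ha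
    obtain ⟨R, hRm, hRd, hR⟩ := exists_annih hg hrq hM0 hMi hMs (r - 1)
    obtain ⟨u, hu, hum⟩ : ∃ u ∈ W, polB Q m u ≠ 0 := by
      by_contra hall
      push Not at hall
      exact hm0 (hWn.eq_zero (hMW hm) fun u hu => by rw [polB_comm]; exact hall u hu)
    obtain ⟨z, hz, hz0⟩ := exists_split hg hrq 1 R hWi hu
    simp only [pow_one] at hz0
    set u' := u - aeval (endT g) R z
    have hu'W : u' ∈ W := sub_mem hu (aeval_mem hWi R z hz)
    have hum' : polB Q m u' ≠ 0 := by
      rw [map_sub, polB_comm m (aeval (endT g) R z), aeval_adjoint (S' := endT g ^ (r - 1)) (fun a b => by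
        simpa using endT_adjoint (Q := Q) hg (a := 1) (b := r - 1) (by rw [Nat.add_sub_cancel' hr.out.pos]) a b),
        hR m hm, map_zero, sub_zero]
      exact hum
    obtain ⟨C, huC, hC, hCd, hmin⟩ := exists_cyclic hRm hz0
    have hCW := hmin W hWi hu'W
    have hu'0 : u' ≠ 0 := fun e => hum' (by rw [e, map_zero])
    have hCd' : Module.finrank F C = i := le_antisymm (hCd.trans hRd)
      (hdim hCW hC fun e => hu'0 ((Submodule.mem_bot F).mp (e ▸ huC)))
    have hM0' := htsi hMW hMi hMd
    have hC0 := htsi hCW hC hCd'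
    have h1 : M ⊓ (polB Q).orthogonal C = ⊥ := by
      refine (hMs _ inf_le_left fun w hw => ⟨hMi w hw.1, inv_orth hg hr.out.pos hC w hw.2⟩).resolve_right fun e => hum' ?_
      rw [polB_comm]; exact (e.symm ▸ hm : m ∈ M ⊓ (polB Q).orthogonal C).2 u' huC
    have h2 : C ⊓ (polB Q).orthogonal M = ⊥ := by
      by_contra hne
      have e := Submodule.eq_of_le_of_finrank_le (inf_le_left : C ⊓ (polB Q).orthogonal M ≤ C) (hCd' ▸
        hdim (inf_le_left.trans hCW) (fun w hw => ⟨hC w hw.1, inv_orth hg hr.out.pos hMi w hw.2⟩) hne)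
      exact hum' ((e.symm ▸ huC : u' ∈ C ⊓ (polB Q).orthogonal M).2 m hm)
    have hdis : M ⊓ C = ⊥ := by
      rw [eq_bot_iff, ← h1]
      rintro x ⟨hxM, hxC⟩
      exact ⟨hxM, fun y hy => polB_eq_zero_of_singular hC0 hy hxC⟩
    have hBd : Module.finrank F ↥(M ⊔ C) = 2 * i := by
      have := Submodule.finrank_sup_add_finrank_inf_eq M C
      rw [hdis, finrank_bot, hMd, hCd', add_zero] at this
      omega
    refine ⟨M ⊔ C, sup_le hMW hCW, ndOn_of fun x hx h => ?_, inv_sup hMi hC, by rw [blockDim, ← hi, if_neg he, hBd],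
      iff_of_true ⟨M, le_sup_left, hM0', by rw [hMd, hBd]⟩ hodd⟩
    obtain ⟨a, ha, b, hb, rfl⟩ := Submodule.mem_sup.mp hx
    have hb0 : b = 0 := (Submodule.mem_bot F).mp (h2 ▸ (⟨hb, fun y hy => by
      have := h y (Submodule.mem_sup_left hy)
      rwa [map_add, polB_eq_zero_of_singular hM0' hy ha, zero_add] at this⟩ : b ∈ C ⊓ (polB Q).orthogonal M))
    subst hb0
    rw [add_zero] at h ⊢
    exact (Submodule.mem_bot F).mp (h1 ▸ (⟨ha, fun y hy => h y (Submodule.mem_sup_right hy)⟩ : a ∈ M ⊓ (polB Q).orthogonal C))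

/-- Invariant non-degenerate subspaces made of any number of blocks. -/
theorem exists_blocks (hg : g ^ r = 1) (hr2 : r ≠ 2) (hrq : ¬ r ∣ Fintype.card F) {W : Submodule F V} (hWn : NdOn Q W)
    (hWi : Inv g W) (hWf : FixFree g W) (s : ℕ) (hs : s * blockDim F r ≤ Module.finrank F W) :
    ∃ B ≤ W, NdOn Q B ∧ Inv g B ∧ Module.finrank F B = s * blockDim F r ∧
      (PlusOn Q B ↔ (Odd (orderOf (Fintype.card F : ZMod r)) ∨ Even s)) := by
  induction s with
  | zero => exact ⟨⊥, bot_le, ndOn_bot, fun w hw => by rw [(Submodule.mem_bot F).mp hw, map_zero]; exact zero_mem _,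
      by simp, iff_of_true plusOn_bot (Or.inr ⟨0, rfl⟩)⟩
  | succ s ih =>
    have hc : 0 < blockDim F r := by
      have h := order_pos (F := F) hrq
      rw [blockDim]; split_ifs <;> omega
    obtain ⟨B, hBW, hBn, hBi, hBd, hBt⟩ := ih (le_trans (Nat.mul_le_mul_right _ (Nat.le_succ s)) hs)
    obtain ⟨R, hRW, hRn, hBR, hsup, hd⟩ := exists_compl hWn hBW hBn
    have hRi := inv_compl hg hr.out.pos hWi hBi hBn hBR hsup
    have hR0 : R ≠ ⊥ := fun e => by rw [e, finrank_bot, hBd] at hd; rw [Nat.succ_mul] at hs; omega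
    obtain ⟨C, hCR, hCn, hCi, hCd, hCt⟩ := exists_block hg hr2 hrq hRn hRi (fun w hw => hWf w (hRW hw)) hR0
    have hBC : PerpTo Q B C := fun b hb c hc => hBR b hb c (hCR hc)
    refine ⟨B ⊔ C, sup_le hBW (hCR.trans hRW), hBn.sup hCn hBC, inv_sup hBi hCi,
      by rw [finrank_sup_perp hBn hBC, hBd, hCd, Nat.succ_mul], ?_⟩
    rw [plusOn_sup hBn hCn hBC (nd_dim_even hg hr2 hBi hBn fun w hw => hWf w (hBW hw))
      (nd_dim_even hg hr2 hCi hCn fun w hw => hWf w (hRW (hCR hw))), hBt, hCt, Nat.even_add_one]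
    tauto

/-- The type of a fixed point free non-degenerate invariant subspace. -/
theorem plusOn_blocks (hg : g ^ r = 1) (hr2 : r ≠ 2) (hrq : ¬ r ∣ Fintype.card F) {W : Submodule F V} (hWn : NdOn Q W)
    (hWi : Inv g W) (hWf : FixFree g W) {s : ℕ} (hs : Module.finrank F W = s * blockDim F r) :
    PlusOn Q W ↔ (Odd (orderOf (Fintype.card F : ZMod r)) ∨ Even s) := by
  obtain ⟨B, hBW, -, -, hBd, hBt⟩ := exists_blocks hg hr2 hrq hWn hWi hWf s hs.ge
  rwa [Submodule.eq_of_le_of_finrank_le hBW (by rw [hs, hBd])] at hBt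

end order

end H47
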