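import Mathlib
import Cfsg.Agent.H47.OrthBlocks
import Cfsg.Agent.H45.OrthTransfer

/-!
Isometries of odd prime order with prescribed moved space, and which non-degenerate subspaces they fix.
-/

set_option autoImplicit false

namespace H47

open H43 Matrix

variable {F : Type*} [Field F] {V : Type*} [AddCommGroup V] [Module F V]
  [FiniteDimensional F V] {Q : QuadraticForm F V}

/-- The type of a sum of `s` blocks is plus. -/
def BlockPlus (F : Type*) [Fintype F] (r s : ℕ) : Prop := Odd (orderOf (Fintype.card F : ZMod r)) ∨ Even s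

/-- `A` blocks fit in the space. -/
def RealBlocks [Fintype F] (Q : QuadraticForm F V) (r A : ℕ) : Prop :=
  A * blockDim F r < Module.finrank F V ∨
    (A * blockDim F r = Module.finrank F V ∧ (PlusOn Q (⊤ : Submodule F V) ↔ BlockPlus F r A))

lemma ndOn_isometry_model [Finite F] {W W' : Submodule F V} (hW : NdOn Q W) (hW' : NdOn Q W') {h : ℕ}
    (hd : Module.finrank F W = 2 * h) (hd' : Module.finrank F W' = 2 * h) (ht : PlusOn Q W ↔ PlusOn Q W') :
    ∃ φ : W ≃ₗ[F] W', ∀ w : W, Q (φ w : V) = Q (w : V) := by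
  by_cases hp : PlusOn Q W
  · have key : ∀ {U : Submodule F V}, NdOn Q U → Module.finrank F U = 2 * h → PlusOn Q U →
        ∃ φ : U ≃ₗ[F] (Fin h ⊕ Fin h → F), ∀ u : U, Q (u : V) = Cfsg.quadFormPlus h F (φ u) := by
      intro U hU hUd hUp
      rcases H44.equiv_plus_or_minus hUd (Q.restrict U) (H44.polarSep_of_nondegenerate hU.restrict) with
        ⟨φ, hφ⟩ | ⟨h1, ζ, φ, hζ, hφ⟩
      · exact ⟨φ, hφ⟩
      · exfalso
        obtain ⟨T, hT, hT0, hTd⟩ := hUp
        haveI : Fintype F := Fintype.ofFinite F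
        have := minus_no_half (d := h) (a := 1) (b := ζ) h1 (H44.binForm_one_anisotropic hζ)
          ((T.comap U.subtype).map φ.toLinearMap) (by
            rintro _ ⟨w, hw, rfl⟩
            show Cfsg.quadFormMinus (h - 1) F 1 ζ (φ w) = 0
            rw [← hφ]; exact hT0 _ hw)
        rw [LinearEquiv.finrank_map_eq, ← Submodule.finrank_map_subtype_eq U,
          Submodule.map_comap_eq_of_le (by rwa [Submodule.range_subtype])] at this
        omega
    obtain ⟨φ, hφ⟩ := key hW hd hp
    obtain ⟨φ', hφ'⟩ := key hW' hd' (ht.mp hp)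
    exact ⟨φ.trans φ'.symm, fun w => by simp [hφ', ← hφ]⟩
  · obtain ⟨-, ζ, φ, hζ, hφ⟩ := minus_model hW hd hp
    obtain ⟨-, ζ', φ', hζ', hφ'⟩ := minus_model hW' hd' (ht.not.mp hp)
    obtain ⟨ν, hν⟩ := H44.minus_equiv_normal hζ' (h - 1) 1 ζ (H44.binForm_one_anisotropic hζ)
    exact ⟨φ.trans (ν.trans φ'.symm), fun w => by simp [hφ', ← hν, ← hφ]⟩

/-- Glue isometries of a non-degenerate subspace and of a complement. -/
lemma exists_glue {W R : Submodule F V} (hWn : NdOn Q W) (hWR : PerpTo Q W R) (hsup : W ⊔ R = ⊤)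
    (a : orthGroup (Q.restrict W)) (b : orthGroup (Q.restrict R)) :
    ∃ g : orthGroup Q, (∀ w : W, g.1 (w : V) = (a.1 w : V)) ∧ (∀ v : R, g.1 (v : V) = (b.1 v : V)) := by
  have hc : IsCompl W R := ⟨disjoint_of_perp hWn hWR, codisjoint_iff.mpr hsup⟩
  let e := Submodule.prodEquivOfIsCompl W R hc
  let g : V ≃ₗ[F] V := (e.symm.trans (a.1.prodCongr b.1)).trans e
  have hg : ∀ (w : W) (v : R), g ((w : V) + (v : V)) = (a.1 w : V) + (b.1 v : V) := fun w v => by
    have h : (w : V) + (v : V) = e (w, v) := rfl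
    rw [h]
    simp only [g, LinearEquiv.trans_apply, LinearEquiv.symm_apply_apply]
    rfl
  refine ⟨⟨g, fun x => ?_⟩, fun w => by simpa using hg w 0, fun v => by simpa using hg 0 v⟩
  obtain ⟨w, hw, v, hv, rfl⟩ := Submodule.mem_sup.mp (show x ∈ W ⊔ R by rw [hsup]; trivial)
  rw [hg ⟨w, hw⟩ ⟨v, hv⟩, qmap_add, qmap_add, hWR w hw v hv, hWR _ (a.1 ⟨w, hw⟩).2 _ (b.1 ⟨v, hv⟩).2]
  have ha := a.2 ⟨w, hw⟩
  have hb := b.2 ⟨v, hv⟩
  simp only [QuadraticMap.restrict_apply] at ha hb
  rw [ha, hb]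

lemma fixed_eq {g : orthGroup Q} {v : V} : v ∈ LinearMap.ker (resMap g) ↔ g.1 v = v := mem_ker_resMap

lemma perp_fixed_resid (g : orthGroup Q) : PerpTo Q (LinearMap.ker (resMap g)) (resid g) :=
  fun _ hu _ hw => polB_fixed_resid (mem_ker_resMap.mp hu) hw

lemma inv_fixed (g : orthGroup Q) : Inv g (LinearMap.ker (resMap g)) := fun v hv => by
  rw [mem_ker_resMap] at hv ⊢
  rw [hv, hv]

lemma inv_resid (g : orthGroup Q) : Inv g (resid g) := by
  rintro _ ⟨w, rfl⟩
  exact ⟨g.1 w, by simp [resMap_apply]⟩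

section order

variable [Fintype F] {r : ℕ} [hr : Fact r.Prime] {g : orthGroup Q}

lemma cast_r_ne (hrq : ¬ r ∣ Fintype.card F) : (r : F) ≠ 0 := by
  intro h
  obtain ⟨p, hp⟩ := CharP.exists F
  obtain ⟨n, hpp, hn⟩ := FiniteField.card F p
  haveI : Fact p.Prime := ⟨hpp⟩
  have := (Nat.prime_dvd_prime_iff_eq hpp hr.out).mp ((CharP.cast_eq_zero_iff F p r).mp h)
  exact hrq (by rw [hn, ← this]; exact dvd_pow_self _ n.ne_zero)

/-- The fixed space and the moved space. -/
theorem fixed_moved (hQ : (polB Q).Nondegenerate) (hg : g ^ r = 1) (hrq : ¬ r ∣ Fintype.card F) :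
    NdOn Q (LinearMap.ker (resMap g)) ∧ NdOn Q (resid g) ∧ LinearMap.ker (resMap g) ⊔ resid g = ⊤ ∧
      FixFree g (resid g) := by
  have hd := disjoint_fixed_resid (cast_r_ne (F := F) hrq) hg
  have h1 : NdOn Q (LinearMap.ker (resMap g)) := by
    rw [NdOn, ← resid_eq_orth_fixed hQ]; exact hd.eq_bot
  refine ⟨h1, ?_, ?_, fun w hw hfix => Submodule.disjoint_def.mp hd w (mem_ker_resMap.mpr hfix) hw⟩
  · rw [resid_eq_orth_fixed hQ]; exact h1.orth hQ
  · rw [resid_eq_orth_fixed hQ]; exact orth_sup_eq_top hQ h1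

lemma blockDim_pos (hrq : ¬ r ∣ Fintype.card F) : 0 < blockDim F r := by
  have h := order_pos (F := F) hrq
  rw [blockDim]; split_ifs <;> omega

lemma blockDim_even (F : Type*) [Fintype F] (r : ℕ) : Even (blockDim F r) := by
  rw [blockDim]; split_ifs with h
  · exact h
  · exact even_two_mul _

/-- Every element of order `r` has a whole number of blocks. -/
theorem exists_blocks_of (hQ : (polB Q).Nondegenerate) (hg : g ^ r = 1) (hr2 : r ≠ 2) (hrq : ¬ r ∣ Fintype.card F) :
    ∃ A, Module.finrank F (resid g) = A * blockDim F r ∧ RealBlocks Q r A ∧ (g ≠ 1 → 1 ≤ A) := by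
  obtain ⟨-, hn, -, hf⟩ := fixed_moved hQ hg hrq
  obtain ⟨A, hA⟩ := blockDim_dvd hg hr2 (inv_resid g) hn hf
  rw [mul_comm] at hA
  refine ⟨A, hA, ?_, fun hne => Nat.pos_of_ne_zero fun h0 => hne (eq_one_of_resid_eq_bot
    (Submodule.finrank_eq_zero.mp (by rw [hA, h0, zero_mul])))⟩
  rcases lt_or_eq_of_le (hA ▸ Submodule.finrank_le (resid g)) with h | h
  · exact Or.inl h
  · refine Or.inr ⟨h, ?_⟩
    rw [← Submodule.eq_top_of_finrank_eq (hA.trans h)]
    exact plusOn_blocks hg hr2 hrq hn (inv_resid g) hf hA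

/-- A fixed point free isometry of order `r` on one block. -/
theorem exists_block_isometry (hr2 : r ≠ 2) (hrq : ¬ r ∣ Fintype.card F) {W : Submodule F V} (hW : NdOn Q W)
    (hd : Module.finrank F W = blockDim F r) (ht : PlusOn Q W ↔ Odd (orderOf (Fintype.card F : ZMod r))) :
    ∃ a : orthGroup (Q.restrict W), a ^ r = 1 ∧ ∀ w, a.1 w = w → w = 0 := by
  classical
  set i := orderOf (Fintype.card F : ZMod r) with hi
  have hipos : 0 < i := order_pos hrq
  have key : ∀ {ι : Type} [Fintype ι] [DecidableEq ι] (φ : W ≃ₗ[F] (ι → F)) (M : (ι → F) → F) (x : GL ι F),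
      (∀ w : W, Q (w : V) = M (φ w)) → x ∈ Cfsg.Geo.omegaGL M → x ^ r = 1 →
      (∀ v, (x : Matrix ι ι F) *ᵥ v = v → v = 0) →
      ∃ a : orthGroup (Q.restrict W), a ^ r = 1 ∧ ∀ w, a.1 w = w → w = 0 := by
    intro ι _ _ φ M x hM hx hxr hfix
    let l : W ≃ₗ[F] W := φ.trans ((H43.glEquiv x).trans φ.symm)
    have hl : ∀ w, l w = φ.symm ((x : Matrix ι ι F) *ᵥ φ w) := fun w => rfl
    let a : orthGroup (Q.restrict W) := ⟨l, fun w => by
      show Q ((l w : W) : V) = Q (w : V)
      rw [hM, hM, hl, LinearEquiv.apply_symm_apply, (mem_isometry_iff.mp (mem_isometry_of_omega hx))]⟩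
    refine ⟨a, orth_ext fun w => ?_, fun w hw => φ.injective ?_⟩
    · have hp : ∀ k : ℕ, (a ^ k).1 w = φ.symm (((x ^ k : GL ι F) : Matrix ι ι F) *ᵥ φ w) := by
        intro k
        induction k with
        | zero => simp
        | succ k ih =>
          rw [pow_succ', orth_mul_apply, ih]
          show l _ = _
          rw [hl, LinearEquiv.apply_symm_apply, Matrix.mulVec_mulVec, ← Units.val_mul, ← pow_succ']
      rw [hp, hxr]; simp
    · rw [map_zero]
      apply hfix
      have := congrArg φ hw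
      rwa [show a.1 w = l w from rfl, hl, LinearEquiv.apply_symm_apply] at this
  rcases Nat.even_or_odd i with ⟨h, hh⟩ | hodd
  · have hWm : ¬ PlusOn Q W := fun hp => (Nat.not_odd_iff_even.mpr ⟨h, hh⟩) (ht.mp hp)
    rw [blockDim, ← hi, if_pos ⟨h, hh⟩] at hd
    obtain ⟨h1, ζ, φ, hζ, hφ⟩ := minus_model hW (h := h) (by omega) hWm
    have hdvd : r ∣ Fintype.card F ^ h + 1 := by
      rw [← ZMod.natCast_eq_zero_iff, Nat.cast_add, Nat.cast_pow, Nat.cast_one]
      have h2 : ((Fintype.card F : ZMod r) ^ h) * (Fintype.card F : ZMod r) ^ h = 1 := by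
        rw [← pow_add, ← hh, hi, pow_orderOf_eq_one]
      rcases mul_self_eq_one_iff.mp h2 with e | e
      · have := Nat.le_of_dvd (by omega) (hi ▸ orderOf_dvd_of_pow_eq_one e); omega
      · rw [e, neg_add_cancel]
    obtain ⟨x, hx, hxr, hfix⟩ := exists_minus_torus (F := F) (d := h) (r := r) (by omega) (hr.out.odd_of_ne_two hr2)
      hdvd (H44.binForm_one_anisotropic hζ)
    exact key φ _ x hφ hx hxr hfix
  · have hWp := ht.mpr hodd
    rw [blockDim, ← hi, if_neg (Nat.not_even_iff_odd.mpr hodd)] at hd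
    rcases H44.equiv_plus_or_minus hd (Q.restrict W) (H44.polarSep_of_nondegenerate hW.restrict) with
      ⟨φ, hφ⟩ | ⟨h1, ζ, φ, hζ, hφ⟩
    · have hdvd : r ∣ Fintype.card F ^ i - 1 := by
        rw [← ZMod.natCast_eq_zero_iff, Nat.cast_sub (Nat.one_le_pow _ _ Fintype.card_pos), Nat.cast_pow, hi,
          pow_orderOf_eq_one, Nat.cast_one, sub_self]
      obtain ⟨x, hx, hxr, hfix⟩ := plus_omega_fpf (F := F) (d := i) (r := r) hipos (hr.out.odd_of_ne_two hr2) hdvd
      exact key φ _ x hφ hx hxr hfix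
    · exfalso
      obtain ⟨T, hT, hT0, hTd⟩ := hWp
      have := minus_no_half (d := i) (a := 1) (b := ζ) h1 (H44.binForm_one_anisotropic hζ)
        ((T.comap W.subtype).map φ.toLinearMap) (by
          rintro _ ⟨w, hw, rfl⟩
          show Cfsg.quadFormMinus (i - 1) F 1 ζ (φ w) = 0
          rw [← hφ]; exact hT0 _ hw)
      rw [LinearEquiv.finrank_map_eq, ← Submodule.finrank_map_subtype_eq W,
        Submodule.map_comap_eq_of_le (by rwa [Submodule.range_subtype])] at this
      omega

end order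

/-- The moved space of a glued isometry. -/
lemma resid_glue {W R : Submodule F V} (hWR : IsCompl W R) {g : orthGroup Q} {a : orthGroup (Q.restrict W)}
    {b : orthGroup (Q.restrict R)} (ha : ∀ w : W, g.1 (w : V) = (a.1 w : V))
    (hb : ∀ v : R, g.1 (v : V) = (b.1 v : V)) :
    resid g = (resid a).map W.subtype ⊔ (resid b).map R.subtype := by
  refine le_antisymm ?_ (sup_le ?_ ?_)
  · rintro _ ⟨x, rfl⟩
    obtain ⟨w, hw, v, hv, rfl⟩ := Submodule.mem_sup.mp (show x ∈ W ⊔ R by rw [hWR.sup_eq_top]; trivial)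
    rw [map_add]
    refine Submodule.add_mem_sup ⟨_, resMap_mem a ⟨w, hw⟩, ?_⟩ ⟨_, resMap_mem b ⟨v, hv⟩, ?_⟩
    · simp [resMap_apply, ← ha]
    · simp [resMap_apply, ← hb]
  · rintro _ ⟨_, ⟨w, rfl⟩, rfl⟩
    exact ⟨(w : V), by simp [resMap_apply, ← ha]⟩
  · rintro _ ⟨_, ⟨v, rfl⟩, rfl⟩
    exact ⟨(v : V), by simp [resMap_apply, ← hb]⟩

section order2

variable [Fintype F] {r : ℕ} [hr : Fact r.Prime]

omit hr in
lemma finrank_resid_glue {W R : Submodule F V} (hW : NdOn Q W) (hWR : PerpTo Q W R) (hsup : W ⊔ R = ⊤)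
    {g : orthGroup Q} {a : orthGroup (Q.restrict W)} {b : orthGroup (Q.restrict R)}
    (ha : ∀ w : W, g.1 (w : V) = (a.1 w : V)) (hb : ∀ v : R, g.1 (v : V) = (b.1 v : V)) :
    Module.finrank F (resid g) = Module.finrank F (resid a) + Module.finrank F (resid b) := by
  have hc : IsCompl W R := ⟨disjoint_of_perp hW hWR, codisjoint_iff.mpr hsup⟩
  rw [resid_glue hc ha hb]
  have := Submodule.finrank_sup_add_finrank_inf_eq ((resid a).map W.subtype) ((resid b).map R.subtype)
  rw [(hc.disjoint.mono (Submodule.map_subtype_le _ _) (Submodule.map_subtype_le _ _)).eq_bot, finrank_bot, add_zero,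
    Submodule.finrank_map_subtype_eq, Submodule.finrank_map_subtype_eq] at this
  exact this

omit [FiniteDimensional F V] in
lemma glue_pow_one {W R : Submodule F V} (hsup : W ⊔ R = ⊤)
    {g : orthGroup Q} {a : orthGroup (Q.restrict W)} {b : orthGroup (Q.restrict R)}
    (ha : ∀ w : W, g.1 (w : V) = (a.1 w : V)) (hb : ∀ v : R, g.1 (v : V) = (b.1 v : V))
    {n : ℕ} (han : a ^ n = 1) (hbn : b ^ n = 1) : g ^ n = 1 := by
  have h1 : ∀ k (w : W), (g ^ k).1 (w : V) = ((a ^ k).1 w : V) := by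
    intro k
    induction k with
    | zero => intro w; rfl
    | succ k ih => intro w; rw [pow_succ', pow_succ', orth_mul_apply, orth_mul_apply, ih, ha]
  have h2 : ∀ k (w : R), (g ^ k).1 (w : V) = ((b ^ k).1 w : V) := by
    intro k
    induction k with
    | zero => intro w; rfl
    | succ k ih => intro w; rw [pow_succ', pow_succ', orth_mul_apply, orth_mul_apply, ih, hb]
  refine orth_ext fun x => ?_
  obtain ⟨w, hw, v, hv, rfl⟩ := Submodule.mem_sup.mp (show x ∈ W ⊔ R by rw [hsup]; trivial)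
  rw [map_add, h1 n ⟨w, hw⟩, h2 n ⟨v, hv⟩, han, hbn]; rfl

end order2

/-- An isometry with any admissible number of blocks. -/
theorem exists_element {F : Type*} [Field F] [Fintype F] {r : ℕ} [hr : Fact r.Prime] {V : Type*} [AddCommGroup V]
    [Module F V] [FiniteDimensional F V] {Q : QuadraticForm F V} (hQ : (polB Q).Nondegenerate) (hr2 : r ≠ 2)
    (hrq : ¬ r ∣ Fintype.card F) (A : ℕ) (hA : RealBlocks Q r A) :
    ∃ g : orthGroup Q, g ^ r = 1 ∧ Module.finrank F (resid g) = A * blockDim F r := by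
  induction A generalizing V with
  | zero => exact ⟨1, one_pow r, by rw [resid_one, finrank_bot, zero_mul]⟩
  | succ A ih =>
    have hc := blockDim_pos (F := F) hrq
    obtain ⟨h, hh⟩ := blockDim_even F r
    have hle : (A + 1) * blockDim F r ≤ Module.finrank F V := by
      rcases hA with hA | ⟨hA, -⟩ <;> omega
    rw [Nat.succ_mul] at hle
    obtain ⟨W, hWd, hWn, hWt⟩ : ∃ W : Submodule F V, Module.finrank F W = blockDim F r ∧ NdOn Q W ∧
        (PlusOn Q W ↔ Odd (orderOf (Fintype.card F : ZMod r))) := by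
      rcases lt_or_eq_of_le (show blockDim F r ≤ Module.finrank F V by omega) with hlt | heq
      · obtain ⟨W, -, hWd, hWn, hWt⟩ := exists_sub (ndOn_top hQ) (h := h) (by rw [finrank_top]; omega)
          (Odd (orderOf (Fintype.card F : ZMod r))) (by omega)
        exact ⟨W, by omega, hWn, hWt⟩
      · obtain rfl : A = 0 := by
          have : A * blockDim F r = 0 := by omega
          exact (Nat.mul_eq_zero.mp this).resolve_right (by omega)
        rcases hA with hA | ⟨-, hA⟩
        · omega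
        · exact ⟨⊤, by rw [finrank_top, heq], ndOn_top hQ, hA.trans (by simp [BlockPlus])⟩
    set R := (polB Q).orthogonal W with hR
    have hRn : NdOn Q R := hWn.orth hQ
    have hWR : PerpTo Q W R := perpTo_orth W
    have hsup : W ⊔ R = ⊤ := orth_sup_eq_top hQ hWn
    have hRd : Module.finrank F R + blockDim F r = Module.finrank F V := hWd ▸ finrank_orth_add hQ W
    have hreal : RealBlocks (Q.restrict R) r A := by
      rcases hA with hA | ⟨hA, hT⟩
      · left; rw [Nat.succ_mul] at hA; omega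
      · right
        rw [Nat.succ_mul] at hA
        refine ⟨by omega, ?_⟩
        rw [← plusOn_map_subtype, Submodule.map_top, Submodule.range_subtype]
        rw [← hsup, plusOn_sup hWn hRn hWR ⟨h, by omega⟩ (by
          have : Even (A * blockDim F r) := (blockDim_even F r).mul_left A
          rwa [show Module.finrank F R = A * blockDim F r by omega]), hWt] at hT
        rw [BlockPlus, Nat.even_add_one] at hT
        rw [BlockPlus]
        tauto
    obtain ⟨a, har, hfix⟩ := exists_block_isometry hr2 hrq hWn hWd hWt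
    obtain ⟨b, hbr, hbd⟩ := ih (Q := Q.restrict R) hRn.restrict hreal
    obtain ⟨g, hga, hgb⟩ := exists_glue hWn hWR hsup a b
    refine ⟨g, glue_pow_one hsup hga hgb har hbr, ?_⟩
    have hra : resid a = ⊤ := by
      have hinj : Function.Injective (resMap a) := by
        rw [← LinearMap.ker_eq_bot, eq_bot_iff]
        intro w hw
        exact (Submodule.mem_bot F).mpr (hfix w (mem_ker_resMap.mp hw))
      exact LinearMap.range_eq_top.mpr (LinearMap.injective_iff_surjective.mp hinj)
    rw [finrank_resid_glue hWn hWR hsup hga hgb, hra, finrank_top, hWd, hbd, Nat.succ_mul, add_comm]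

section split

variable [Fintype F] {r : ℕ} [hr : Fact r.Prime] {g : orthGroup Q}

/-- Invariant non-degenerate subspaces split along the fixed and moved spaces. -/
theorem inv_split (hg : g ^ r = 1) (hrq : ¬ r ∣ Fintype.card F) {W : Submodule F V} (hW : Inv g W) (hWn : NdOn Q W) :
    NdOn Q (W ⊓ LinearMap.ker (resMap g)) ∧ NdOn Q (W ⊓ resid g) ∧
      (W ⊓ LinearMap.ker (resMap g)) ⊔ (W ⊓ resid g) = W := by
  have hr0 := cast_r_ne (F := F) hrq
  have hspl : ∀ w ∈ W, ∃ a ∈ W ⊓ LinearMap.ker (resMap g), ∃ b ∈ W ⊓ resid g, a + b = w := by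
    intro w hw
    set s : V := ∑ k ∈ Finset.range r, (g ^ k).1 w with hs
    have hsW : s ∈ W := Submodule.sum_mem _ fun k _ => by rw [← endT_pow_apply]; exact hW.pow k w hw
    have hfix : g.1 s = s := by
      have h1 := Finset.sum_range_sub' (fun k => (g ^ k).1 w) r
      rw [hg, pow_zero, sub_self, Finset.sum_sub_distrib, sub_eq_zero] at h1
      rw [hs, map_sum]
      conv_rhs => rw [h1]
      exact Finset.sum_congr rfl fun k _ => by rw [← orth_mul_apply, ← pow_succ']
    refine ⟨(r : F)⁻¹ • s, ⟨W.smul_mem _ hsW, mem_ker_resMap.mpr (by rw [map_smul, hfix])⟩,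
      w - (r : F)⁻¹ • s, ⟨sub_mem hw (W.smul_mem _ hsW), ?_⟩, add_sub_cancel _ _⟩
    have h2 : ∀ k, w - (g ^ k).1 w ∈ resid g := by
      intro k
      induction k with
      | zero => rw [pow_zero]; show w - w ∈ _; rw [sub_self]; exact zero_mem _
      | succ k ih =>
        rw [pow_succ', orth_mul_apply]
        have := add_mem ih (resMap_mem g ((g ^ k).1 w))
        rwa [resMap_apply, sub_add_sub_cancel] at this
    have h3 : ∑ k ∈ Finset.range r, (w - (g ^ k).1 w) ∈ resid g := Submodule.sum_mem _ fun k _ => h2 k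
    rw [Finset.sum_sub_distrib, Finset.sum_const, Finset.card_range, ← hs, ← Nat.cast_smul_eq_nsmul F] at h3
    have := (resid g).smul_mem (r : F)⁻¹ h3
    rwa [smul_sub, smul_smul, inv_mul_cancel₀ hr0, one_smul] at this
  refine ⟨ndOn_of fun v hv h => hWn.eq_zero hv.1 fun u hu => ?_, ndOn_of fun v hv h => hWn.eq_zero hv.1 fun u hu => ?_,
    le_antisymm (sup_le inf_le_left inf_le_left) fun w hw => ?_⟩
  · obtain ⟨a, ha, b, hb, rfl⟩ := hspl u hu
    rw [map_add, LinearMap.add_apply, h a ha, polB_comm b v, perp_fixed_resid g v hv.2 b hb.2, add_zero]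
  · obtain ⟨a, ha, b, hb, rfl⟩ := hspl u hu
    rw [map_add, LinearMap.add_apply, h b hb, perp_fixed_resid g a ha.2 v hv.2, add_zero]
  · obtain ⟨a, ha, b, hb, rfl⟩ := hspl w hw
    exact Submodule.add_mem_sup ha hb

/-- An odd order isometry lies in the commutator subgroup. -/
theorem mem_commutator_of_odd (hQ : (polB Q).Nondegenerate) (hn : 5 ≤ Module.finrank F V) (hr2 : r ≠ 2)
    (hg : g ^ r = 1) : g ∈ commutator (orthGroup Q) := by
  have hgen : ReflGenerates F V := reflGenerates_of_card (Or.inr (by omega))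
  rw [commutator_eq_invKer hQ hgen (by omega), MonoidHom.mem_ker]
  have h1 : invHom hQ hgen g ^ r = 1 := by rw [← map_pow, hg, map_one]
  have h2 : invHom hQ hgen g ^ 2 = 1 := by
    rw [pow_two]
    refine Prod.ext ?_ (sqClass_mul_self _)
    show (invHom hQ hgen g).1 * (invHom hQ hgen g).1 = 1
    generalize (invHom hQ hgen g).1 = x
    exact (by decide : ∀ y : Multiplicative (ZMod 2), y * y = 1) x
  obtain ⟨k, hk⟩ := hr.out.odd_of_ne_two hr2
  rwa [hk, pow_succ, pow_mul, h2, one_pow, one_mul] at h1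

end split

end H47
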