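import Mathlib
import Cfsg.Agent.H47.OrthWitness

/-!
When does every element of odd prime order fix a non-degenerate subspace of given class?
-/

set_option autoImplicit false

namespace H47

open H43 Matrix

variable {F : Type*} [Field F] {V : Type*} [AddCommGroup V] [Module F V] [FiniteDimensional F V]
  {Q : QuadraticForm F V}

/-- The two subspaces are isometric. -/
def IsomTo (Q : QuadraticForm F V) (W W' : Submodule F V) : Prop :=
  ∃ φ : W ≃ₗ[F] W', ∀ w : W, Q (φ w : V) = Q (w : V)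

/-- An even dimensional non-degenerate class. -/
def ClsEven (Q : QuadraticForm F V) (m : ℕ) (T : Prop) (W : Submodule F V) : Prop :=
  Module.finrank F W = m ∧ NdOn Q W ∧ (PlusOn Q W ↔ T)

/-- An isometry class. -/
def ClsIso (Q : QuadraticForm F V) (m : ℕ) (W₀ W : Submodule F V) : Prop :=
  Module.finrank F W = m ∧ NdOn Q W ∧ IsomTo Q W W₀

/-- The arithmetic condition in even dimension. -/
def GoodEven (N c m : ℕ) (eps : ℕ → Prop) (T TV : Prop) (A : ℕ) : Prop :=
  ∃ s ≤ A, s * c ≤ m ∧ m - s * c ≤ N - A * c ∧ (m = s * c → (T ↔ eps s)) ∧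
    (m - s * c = N - A * c → (T ↔ ((TV ↔ eps A) ↔ eps s)))

/-- The arithmetic condition in odd dimension. -/
def GoodOdd (N c m A : ℕ) : Prop := ∃ s ≤ A, s * c ≤ m ∧ m - s * c < N - A * c

lemma IsomTo.symm {W W' : Submodule F V} (h : IsomTo Q W W') : IsomTo Q W' W := by
  obtain ⟨φ, hφ⟩ := h
  exact ⟨φ.symm, fun w => by rw [← hφ (φ.symm w), LinearEquiv.apply_symm_apply]⟩

lemma IsomTo.trans {W W' W'' : Submodule F V} (h : IsomTo Q W W') (h' : IsomTo Q W' W'') : IsomTo Q W W'' := by
  obtain ⟨φ, hφ⟩ := h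
  obtain ⟨ψ, hψ⟩ := h'
  exact ⟨φ.trans ψ, fun w => (hψ _).trans (hφ w)⟩

lemma isomTo_map (g : orthGroup Q) (W : Submodule F V) :
    IsomTo Q W (W.map (g.1 : V →ₗ[F] V)) :=
  ⟨g.1.submoduleMap W, fun w => g.2 w⟩

lemma ndOn_map (g : orthGroup Q) {W : Submodule F V} (hW : NdOn Q W) : NdOn Q (W.map (g.1 : V →ₗ[F] V)) := by
  refine ndOn_of ?_
  rintro _ ⟨w, hw, rfl⟩ h
  have : w = 0 := hW.eq_zero hw fun u hu => by
    have h1 : polB Q (g.1 u) (g.1 w) = 0 := h _ (Submodule.mem_map_of_mem hu)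
    rw [← h1]
    simp only [polB_apply, QuadraticMap.polar, ← map_add, g.2 _]
  rw [this, map_zero]

lemma plusOn_map (g : orthGroup Q) (W : Submodule F V) :
    PlusOn Q (W.map (g.1 : V →ₗ[F] V)) ↔ PlusOn Q W := by
  have key : ∀ (h : orthGroup Q) (U : Submodule F V), PlusOn Q U → PlusOn Q (U.map (h.1 : V →ₗ[F] V)) := by
    rintro h U ⟨T, hT, hT0, hTd⟩
    refine ⟨T.map (h.1 : V →ₗ[F] V), Submodule.map_mono hT, ?_, by rwa [LinearEquiv.finrank_map_eq, LinearEquiv.finrank_map_eq]⟩
    rintro _ ⟨t, ht, rfl⟩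
    exact (h.2 t).trans (hT0 t ht)
  refine ⟨fun h => ?_, key g W⟩
  have := key g⁻¹ _ h
  rwa [← Submodule.map_comp, show ((g⁻¹ : orthGroup Q).1 : V →ₗ[F] V).comp (g.1 : V →ₗ[F] V) = LinearMap.id from
    LinearMap.ext fun v => g.1.symm_apply_apply v, Submodule.map_id] at this

lemma inv_iff_map {g : orthGroup Q} {W : Submodule F V} : Inv g W ↔ W.map (g.1 : V →ₗ[F] V) = W := by
  refine ⟨fun h => Submodule.eq_of_le_of_finrank_le (by rintro _ ⟨w, hw, rfl⟩; exact h w hw)
    (LinearEquiv.finrank_map_eq _ _).ge, fun h w hw => ?_⟩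
  rw [← h]; exact Submodule.mem_map_of_mem hw

/-- The action on subspaces. -/
@[reducible] noncomputable def subAct (Q : QuadraticForm F V) : MulAction (orthGroup Q) (Submodule F V) where
  smul g W := W.map (g.1 : V →ₗ[F] V)
  one_smul W := Submodule.map_id W
  mul_smul g h W := by
    show W.map _ = (W.map _).map _
    rw [← Submodule.map_comp]; rfl

section crit

variable [Fintype F] {r : ℕ} [hr : Fact r.Prime]

/-- For large blocks an element with the largest moved space fixes no member of the class. -/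
theorem exists_derangement_big (hQ : (polB Q).Nondegenerate) (hr2 : r ≠ 2) (hrq : ¬ r ∣ Fintype.card F) {m : ℕ}
    (hcm : m < blockDim F r) {P : Submodule F V → Prop} (hPd : ∀ W, P W → Module.finrank F W = m ∧ NdOn Q W)
    (hPmap : ∀ (g : orthGroup Q) W, P W → P (W.map (g.1 : V →ₗ[F] V))) (hPiso : ∀ W W', P W → P W' → IsomTo Q W W')
    (hex : ∃ W, P W) (hdvd : r ∣ Nat.card {W : Submodule F V // P W}) :
    ∃ g : orthGroup Q, g ^ r = 1 ∧ g ≠ 1 ∧ ∀ W, P W → ¬ Inv g W := by
  classical
  haveI : Finite V := Module.finite_of_finite F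
  have hc := blockDim_pos (F := F) hrq
  let p : ℕ → Prop := fun A => RealBlocks Q r A
  obtain ⟨N0, hN0⟩ : ∃ N0, Module.finrank F V = N0 := ⟨_, rfl⟩
  have hbd : ∀ A, p A → A ≤ N0 := fun A hA => by
    have h1 : A * blockDim F r ≤ N0 := by rcases hA with h | ⟨h, -⟩ <;> omega
    exact le_trans (Nat.le_mul_of_pos_right A hc) h1
  have hp0 : p 0 := by
    left; rw [zero_mul]
    obtain ⟨W, hW⟩ := hex
    by_contra h
    have hW0 : Module.finrank F V = 0 := by omega
    have hm := (hPd W hW).1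
    have := Submodule.finrank_le W
    have : ∀ W', P W' → W' = W := fun W' _ => by
      haveI : Subsingleton V := Module.finrank_zero_iff.mp hW0
      exact Subsingleton.elim _ _
    have h1 : Nat.card {W : Submodule F V // P W} = 1 :=
      Nat.card_eq_one_iff_unique.mpr ⟨⟨fun a b => Subtype.ext ((this _ a.2).trans (this _ b.2).symm)⟩, ⟨⟨W, hW⟩⟩⟩
    rw [h1] at hdvd
    exact hr.out.one_lt.ne' (Nat.dvd_one.mp hdvd)
  set A := Nat.findGreatest p N0 with hA
  have hAp : p A := Nat.findGreatest_spec (Nat.zero_le _) hp0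
  have hmax : ∀ B, p B → B ≤ A := fun B hB => Nat.le_findGreatest (hbd B hB) hB
  obtain ⟨g, hg, hgd⟩ := exists_element hQ hr2 hrq A hAp
  obtain ⟨hKn, hRn, hKR, hRf⟩ := fixed_moved hQ hg hrq
  have key : ∀ W, P W → ¬ Inv g W := by
    intro W₀ hW₀ hW₀i
    set K := LinearMap.ker (resMap g) with hK
    have hle : ∀ W, P W → Inv g W → W ≤ K := by
      intro W hW hWi
      obtain ⟨-, h2, h3⟩ := inv_split hg hrq hWi (hPd W hW).2
      obtain ⟨s, hs⟩ := blockDim_dvd hg hr2 (fun w hw => ⟨hWi w hw.1, inv_resid g w hw.2⟩ : Inv g (W ⊓ resid g)) h2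
        fun w hw => hRf w hw.2
      have hle' : Module.finrank F ↥(W ⊓ resid g) ≤ m :=
        (Submodule.finrank_mono inf_le_left).trans_eq (hPd W hW).1
      have hs0 : s = 0 := by
        by_contra hne
        have := Nat.le_mul_of_pos_right (blockDim F r) (Nat.pos_of_ne_zero hne)
        omega
      rw [hs0, mul_zero] at hs
      rw [← h3, Submodule.finrank_eq_zero.mp hs, sup_bot_eq]
      exact inf_le_right
    -- fixed members are one orbit of the isometry group of the fixed space
    let σ : Equiv.Perm {W : Submodule F V // P W} :=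
      { toFun := fun W => ⟨W.1.map (g.1 : V →ₗ[F] V), hPmap g _ W.2⟩
        invFun := fun W => ⟨W.1.map ((g⁻¹ : orthGroup Q).1 : V →ₗ[F] V), hPmap g⁻¹ _ W.2⟩
        left_inv := fun W => Subtype.ext (by
          show (W.1.map _).map _ = W.1
          rw [← Submodule.map_comp]
          convert Submodule.map_id W.1
          exact LinearMap.ext fun v => g.1.symm_apply_apply v)
        right_inv := fun W => Subtype.ext (by
          show (W.1.map _).map _ = W.1
          rw [← Submodule.map_comp]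
          convert Submodule.map_id W.1
          exact LinearMap.ext fun v => g.1.apply_symm_apply v) }
    haveI : Fintype {W : Submodule F V // P W} := Fintype.ofFinite _
    have hσ : σ ^ r ^ 1 = 1 := by
      rw [pow_one]
      have hpw : ∀ k (W : {W : Submodule F V // P W}), ((σ ^ k) W).1 = W.1.map ((g ^ k).1 : V →ₗ[F] V) := by
        intro k
        induction k with
        | zero => intro W; exact (Submodule.map_id W.1).symm
        | succ k ih =>
          intro W
          rw [pow_succ', Equiv.Perm.mul_apply]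
          show ((σ ^ k) W).1.map _ = _
          rw [ih, ← Submodule.map_comp]
          congr 1
          exact LinearMap.ext fun v => by rw [pow_succ']; rfl
      exact Equiv.ext fun W => Subtype.ext (by rw [hpw, hg]; exact Submodule.map_id W.1)
    have h := σ.card_compl_support_modEq hσ
    rw [← Nat.card_eq_fintype_card] at h
    have hd : r ∣ σ.supportᶜ.card := Nat.modEq_zero_iff_dvd.mp (h.trans (Nat.modEq_zero_iff_dvd.mpr hdvd))
    let K' := Q.restrict K
    letI := subAct K'
    let X₀ : Submodule F K := W₀.comap K.subtype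
    have hX₀ : X₀.map K.subtype = W₀ :=
      Submodule.map_comap_eq_of_le (by rw [Submodule.range_subtype]; exact hle W₀ hW₀ hW₀i)
    have hcard : σ.supportᶜ.card = Nat.card (MulAction.orbit (orthGroup K') X₀) := by
      rw [← Nat.card_eq_finsetCard]
      have hmem : ∀ W : {W : Submodule F V // P W}, W ∈ σ.supportᶜ ↔ Inv g W.1 := fun W => by
        rw [Finset.mem_compl, Equiv.Perm.mem_support, not_not, inv_iff_map]
        exact Subtype.ext_iff
      refine Nat.card_eq_of_bijective (fun W => ⟨W.1.1.comap K.subtype, ?_⟩) ⟨fun a b e => ?_, fun X => ?_⟩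
      · obtain ⟨φ, hφ⟩ := hPiso W₀ W.1.1 hW₀ W.1.2
        have hWle := hle _ W.1.2 ((hmem W.1).mp W.2)
        let f : X₀ →ₗ[F] K :=
          { toFun := fun x => ⟨(φ ⟨(x : K), x.2⟩ : V), hWle (φ _).2⟩
            map_add' := fun x y => Subtype.ext (by
              show (φ (⟨((x : K) : V), x.2⟩ + ⟨((y : K) : V), y.2⟩) : V)
                = (φ ⟨((x : K) : V), x.2⟩ : V) + (φ ⟨((y : K) : V), y.2⟩ : V)
              rw [map_add]; rfl)
            map_smul' := fun a x => Subtype.ext (by
              show (φ (a • ⟨((x : K) : V), x.2⟩) : V) = a • (φ ⟨((x : K) : V), x.2⟩ : V)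
              rw [map_smul]; rfl) }
        have hf : Function.Injective f := fun x y e => by
          have h1 : φ ⟨((x : K) : V), x.2⟩ = φ ⟨((y : K) : V), y.2⟩ := Subtype.ext (congrArg (fun z : K => (z : V)) e)
          exact Subtype.ext (Subtype.ext (congrArg (fun z : W₀ => (z : V)) (φ.injective h1)))
        obtain ⟨h, hh⟩ := witt_extend hKn.restrict X₀ f hf fun x => hφ ⟨((x : K) : V), x.2⟩
        refine ⟨h, ?_⟩
        show X₀.map (h.1 : K →ₗ[F] K) = W.1.1.comap K.subtype
        refine Submodule.eq_of_le_of_finrank_le ?_ ?_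
        · rintro _ ⟨x, hx, rfl⟩
          show ((h.1 x : K) : V) ∈ W.1.1
          rw [hh ⟨x, hx⟩]; exact (φ _).2
        · rw [LinearEquiv.finrank_map_eq, ← Submodule.finrank_map_subtype_eq K X₀, hX₀,
            ← Submodule.finrank_map_subtype_eq K (W.1.1.comap K.subtype),
            Submodule.map_comap_eq_of_le (by rwa [Submodule.range_subtype]), (hPd _ W.1.2).1, (hPd _ hW₀).1]
      · have e' := congrArg (fun X : MulAction.orbit (orthGroup K') X₀ => X.1.map K.subtype) e
        simp only at e'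
        rw [Submodule.map_comap_eq_of_le (by rw [Submodule.range_subtype]; exact hle _ a.1.2 ((hmem _).mp a.2)),
          Submodule.map_comap_eq_of_le (by rw [Submodule.range_subtype]; exact hle _ b.1.2 ((hmem _).mp b.2))] at e'
        exact Subtype.ext (Subtype.ext e')
      · obtain ⟨X, h, rfl⟩ := X
        let R := resid g
        obtain ⟨hext, hext', -⟩ := exists_glue hKn (perp_fixed_resid g) hKR h 1
        have heq : W₀.map (hext.1 : V →ₗ[F] V) = (h • X₀).map K.subtype := by
          show _ = (X₀.map (h.1 : K →ₗ[F] K)).map K.subtype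
          conv_lhs => rw [← hX₀]
          rw [← Submodule.map_comp, ← Submodule.map_comp]
          congr 1
          exact LinearMap.ext fun v => hext' v
        have hP : P ((h • X₀).map K.subtype) := heq ▸ hPmap hext W₀ hW₀
        refine ⟨⟨⟨_, hP⟩, (hmem _).mpr ?_⟩, Subtype.ext ?_⟩
        · rintro _ ⟨x, hx, rfl⟩
          exact ⟨x, hx, (mem_ker_resMap.mp x.2).symm⟩
        · exact Submodule.comap_map_eq_of_injective K.injective_subtype _
    haveI : Finite K := Subtype.finite
    haveI : Finite (orthGroup K') := finite_orthGroup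
    rw [hcard] at hd
    have hG : r ∣ Nat.card (orthGroup K') := hd.trans (by
      rw [Nat.card_coe_set_eq, ← MulAction.index_stabilizer]; exact Subgroup.index_dvd_card _)
    obtain ⟨h, hh⟩ := exists_prime_orderOf_dvd_card' r hG
    -- a larger moved space
    let aR : orthGroup (Q.restrict (resid g)) :=
      ⟨g.1.ofSubmodules (resid g) (resid g) (inv_iff_map.mp (inv_resid g)), fun w => g.2 w⟩
    obtain ⟨g', h1, h2⟩ := exists_glue hKn (perp_fixed_resid g) hKR h aR
    have haR : ∀ k (w : resid g), ((aR ^ k).1 w : V) = (g ^ k).1 (w : V) := by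
      intro k
      induction k with
      | zero => intro w; rfl
      | succ k ih =>
        intro w
        rw [pow_succ', pow_succ', orth_mul_apply, orth_mul_apply, ← ih]
        rfl
    have hg' : g' ^ r = 1 := glue_pow_one hKR h1 h2 (hh ▸ pow_orderOf_eq_one h)
      (orth_ext fun w => Subtype.ext (by rw [haR, hg]; rfl))
    obtain ⟨B, hB, hBreal, -⟩ := exists_blocks_of hQ hg' hr2 hrq
    have hfr := finrank_resid_glue hKn (perp_fixed_resid g) hKR h1 h2
    have hra : resid aR = ⊤ := by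
      have hinj : Function.Injective (resMap aR) := by
        rw [← LinearMap.ker_eq_bot, eq_bot_iff]
        intro w hw
        exact (Submodule.mem_bot F).mpr (Subtype.ext (hRf (w : V) w.2 (congrArg Subtype.val (mem_ker_resMap.mp hw))))
      exact LinearMap.range_eq_top.mpr (LinearMap.injective_iff_surjective.mp hinj)
    have hrh : 0 < Module.finrank F (resid h) := Nat.pos_of_ne_zero fun e => by
      rw [eq_one_of_resid_eq_bot (Submodule.finrank_eq_zero.mp e), orderOf_one] at hh
      exact hr.out.one_lt.ne hh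
    rw [hra, finrank_top, hgd, hB] at hfr
    have := Nat.mul_le_mul_right (blockDim F r) (hmax B hBreal)
    omega
  refine ⟨g, hg, fun h1 => ?_, key⟩
  obtain ⟨W, hW⟩ := hex
  exact key W hW fun w hw => by rw [h1]; exact hw

/-- Members of an even class fixed by an element. -/
theorem inv_even_iff (hQ : (polB Q).Nondegenerate) {g : orthGroup Q} (hg : g ^ r = 1) (hr2 : r ≠ 2)
    (hrq : ¬ r ∣ Fintype.card F) {A : ℕ} (hA : Module.finrank F (resid g) = A * blockDim F r) {m : ℕ} (hme : Even m) (T : Prop) :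
    (∃ W, ClsEven Q m T W ∧ Inv g W) ↔
      GoodEven (Module.finrank F V) (blockDim F r) m (BlockPlus F r) T (PlusOn Q (⊤ : Submodule F V)) A := by
  classical
  set c := blockDim F r
  obtain ⟨hKn, hRn, hKR, hRf⟩ := fixed_moved hQ hg hrq
  set K := LinearMap.ker (resMap g) with hK
  have hKd : Module.finrank F K = Module.finrank F V - A * c := by
    have := finrank_sup_perp hKn (perp_fixed_resid g)
    rw [hKR, finrank_top, hA] at this
    omega
  have hce : Even c := blockDim_even F r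
  have hKtype : Even (Module.finrank F K) →
      (PlusOn Q K ↔ (PlusOn Q (⊤ : Submodule F V) ↔ BlockPlus F r A)) := fun hev => by
    have h := plusOn_sup hKn hRn (perp_fixed_resid g) hev (hA ▸ hce.mul_left A)
    rw [hKR, plusOn_blocks hg hr2 hrq hRn (inv_resid g) hRf hA] at h
    rw [BlockPlus]; tauto
  constructor
  · rintro ⟨W, ⟨hWd, hWn, hWT⟩, hWi⟩
    obtain ⟨h1, h2, h3⟩ : NdOn Q (W ⊓ K) ∧ NdOn Q (W ⊓ resid g) ∧ (W ⊓ K) ⊔ (W ⊓ resid g) = W := inv_split hg hrq hWi hWn
    have hi2 : Inv g (W ⊓ resid g) := fun w hw => ⟨hWi w hw.1, inv_resid g w hw.2⟩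
    have hf2 : FixFree g (W ⊓ resid g) := fun w hw => hRf w hw.2
    obtain ⟨s, hs⟩ := blockDim_dvd hg hr2 hi2 h2 hf2
    rw [mul_comm] at hs
    change _ = s * c at hs
    have hperp : PerpTo Q (W ⊓ K) (W ⊓ resid g) := fun u hu w hw => perp_fixed_resid g u hu.2 w hw.2
    have hd := finrank_sup_perp h1 hperp
    rw [h3, hWd, hs] at hd
    have hle1 : Module.finrank F ↥(W ⊓ K) ≤ Module.finrank F K := Submodule.finrank_mono inf_le_right
    have hle2 : s * c ≤ A * c := hs ▸ hA ▸ Submodule.finrank_mono inf_le_right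
    have hev1 : Even (Module.finrank F ↥(W ⊓ K)) := by
      rw [show Module.finrank F ↥(W ⊓ K) = m - s * c by omega, Nat.even_sub (by omega)]
      exact iff_of_true hme (hce.mul_left s)
    have htype : T ↔ (PlusOn Q (W ⊓ K) ↔ BlockPlus F r s) := by
      rw [← hWT, BlockPlus, ← plusOn_blocks hg hr2 hrq h2 hi2 hf2 hs,
        ← plusOn_sup h1 h2 hperp hev1 (hs ▸ hce.mul_left s), h3]
    refine ⟨s, Nat.le_of_mul_le_mul_right hle2 (blockDim_pos hrq), by omega, by omega, fun he => ?_, fun he => ?_⟩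
    · rw [htype, iff_true_intro (plusOn_of_even_zero (show Module.finrank F ↥(W ⊓ K) = 0 by omega))]
      simp
    · have hWK : W ⊓ K = K := Submodule.eq_of_le_of_finrank_le inf_le_right (by omega)
      rw [htype, hWK, hKtype (hWK ▸ hev1)]
  · rintro ⟨s, hsA, hsm, hle, h0, h1⟩
    obtain ⟨B, hBR, hBn, hBi, hBd, hBt⟩ := exists_blocks hg hr2 hrq hRn (inv_resid g) hRf s
      (by rw [hA]; exact Nat.mul_le_mul_right c hsA)
    obtain ⟨k, hk⟩ : Even (m - s * c) := by
      rw [Nat.even_sub hsm]; exact iff_of_true hme (hce.mul_left s)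
    obtain ⟨W₁, hW₁K, hW₁d, hW₁n, hW₁t⟩ : ∃ W₁ ≤ K, Module.finrank F W₁ = m - s * c ∧ NdOn Q W₁ ∧
        (PlusOn Q W₁ ↔ (T ↔ BlockPlus F r s)) := by
      rcases lt_or_eq_of_le hle with hlt | heq
      · obtain ⟨P, hPK, hPd, hPn, hPt⟩ := exists_sub hKn (h := k) (by omega) (T ↔ BlockPlus F r s)
          (fun e => h0 (by omega))
        exact ⟨P, hPK, by omega, hPn, hPt⟩
      · refine ⟨K, le_rfl, by omega, hKn, ?_⟩
        rw [hKtype ⟨k, by omega⟩]
        have := h1 heq
        by_cases hs' : BlockPlus F r s <;> simp [hs'] at this ⊢ <;> simp [this]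
    have hperp : PerpTo Q W₁ B := fun u hu w hw => perp_fixed_resid g u (hW₁K hu) w (hBR hw)
    refine ⟨W₁ ⊔ B, ⟨by rw [finrank_sup_perp hW₁n hperp, hW₁d, hBd]; exact Nat.sub_add_cancel hsm, hW₁n.sup hBn hperp, ?_⟩,
      inv_sup (fun w hw => by rw [mem_ker_resMap.mp (hW₁K hw)]; exact hw) hBi⟩
    rw [plusOn_sup hW₁n hBn hperp ⟨k, by omega⟩ (hBd ▸ hce.mul_left s), hW₁t, hBt]
    change ((T ↔ BlockPlus F r s) ↔ BlockPlus F r s) ↔ T
    by_cases hs' : BlockPlus F r s <;> simp [hs']

/-- Members of an odd class fixed by an element. -/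
theorem inv_odd_iff (hQ : (polB Q).Nondegenerate) {g : orthGroup Q} (hg : g ^ r = 1) (hr2 : r ≠ 2)
    (hrq : ¬ r ∣ Fintype.card F) {A : ℕ} (hA : Module.finrank F (resid g) = A * blockDim F r) {m : ℕ} (hmo : Odd m)
    (hNe : Even (Module.finrank F V)) {W₀ : Submodule F V} (hW₀ : Module.finrank F W₀ = m) (hW₀n : NdOn Q W₀) :
    (∃ W, ClsIso Q m W₀ W ∧ Inv g W) ↔ GoodOdd (Module.finrank F V) (blockDim F r) m A := by
  classical
  set c := blockDim F r
  obtain ⟨hKn, hRn, hKR, hRf⟩ := fixed_moved hQ hg hrq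
  set K := LinearMap.ker (resMap g) with hK
  have hKd : Module.finrank F K = Module.finrank F V - A * c := by
    have := finrank_sup_perp hKn (perp_fixed_resid g)
    rw [hKR, finrank_top, hA] at this
    omega
  have hce : Even c := blockDim_even F r
  have hKe : Even (Module.finrank F K) := by
    rw [hKd]; exact hNe.tsub (hce.mul_left A)
  constructor
  · rintro ⟨W, ⟨hWd, hWn, -⟩, hWi⟩
    obtain ⟨h1, h2, h3⟩ : NdOn Q (W ⊓ K) ∧ NdOn Q (W ⊓ resid g) ∧ (W ⊓ K) ⊔ (W ⊓ resid g) = W := inv_split hg hrq hWi hWn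
    obtain ⟨s, hs⟩ := blockDim_dvd hg hr2 (fun w hw => ⟨hWi w hw.1, inv_resid g w hw.2⟩ : Inv g (W ⊓ resid g)) h2
      fun w hw => hRf w hw.2
    rw [mul_comm] at hs
    change _ = s * c at hs
    have hd := finrank_sup_perp h1 (fun u hu w hw => perp_fixed_resid g u hu.2 w hw.2 : PerpTo Q (W ⊓ K) (W ⊓ resid g))
    rw [h3, hWd, hs] at hd
    have hle1 : Module.finrank F ↥(W ⊓ K) ≤ Module.finrank F K := Submodule.finrank_mono inf_le_right
    have hle2 : s * c ≤ A * c := hs ▸ hA ▸ Submodule.finrank_mono inf_le_right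
    refine ⟨s, Nat.le_of_mul_le_mul_right hle2 (blockDim_pos hrq), by omega, lt_of_le_of_ne (by omega) fun e => ?_⟩
    obtain ⟨a, ha⟩ := hKe
    obtain ⟨b, hb⟩ := hce.mul_left s
    obtain ⟨j, hj⟩ := hmo
    omega
  · rintro ⟨s, hsA, hsm, hlt⟩
    obtain ⟨B, hBR, hBn, hBi, hBd, -⟩ := exists_blocks hg hr2 hrq hRn (inv_resid g) hRf s
      (by rw [hA]; exact Nat.mul_le_mul_right c hsA)
    change _ = s * c at hBd
    obtain ⟨b, hb⟩ := hce.mul_left s
    obtain ⟨j, hj⟩ := hmo
    obtain ⟨a, ha⟩ := hKe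
    have hjb : b ≤ j := by omega
    -- the even part
    obtain ⟨P, hPK, hPd, hPn, -⟩ := exists_sub hKn (h := j - b) (by omega) True (fun _ => trivial)
    obtain ⟨R, hRK, hRn', hPR, -, hd⟩ := exists_compl hKn hPK hPn
    have hBP : PerpTo Q B P := fun u hu w hw => by rw [polB_comm]; exact perp_fixed_resid g w (hPK hw) u (hBR hu)
    set U := B ⊔ P with hU
    have hUn : NdOn Q U := hBn.sup hPn hBP
    have hUd : Module.finrank F U = 2 * j := by rw [finrank_sup_perp hBn hBP, hBd, hPd]; omega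
    obtain ⟨U₀, hU₀W, hU₀d, hU₀n, hU₀t⟩ := exists_sub hW₀n (h := j) (by omega) (PlusOn Q U)
      (fun e => plusOn_of_even_zero (by omega))
    obtain ⟨L, hLW, hLn, hUL, hsup, hd0⟩ := exists_compl hW₀n hU₀W hU₀n
    obtain ⟨φ, hφ⟩ := ndOn_isometry_model hU₀n hUn hU₀d hUd hU₀t
    obtain ⟨v0, hv0, hv0ne⟩ := Submodule.exists_mem_ne_zero_of_ne_bot (p := L) fun e => by
      rw [e, finrank_bot] at hd0; omega
    have hspan : F ∙ v0 = L := Submodule.eq_of_le_of_finrank_le ((Submodule.span_singleton_le_iff_mem _ _).mpr hv0)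
      (by rw [finrank_span_singleton hv0ne]; omega)
    have hqv0 : polB Q v0 v0 ≠ 0 := fun e => hv0ne (hLn.eq_zero hv0 fun u hu => by
      rw [← hspan] at hu
      obtain ⟨t, rfl⟩ := Submodule.mem_span_singleton.mp hu
      rw [map_smul, LinearMap.smul_apply, e, smul_zero])
    have hQv0 : Q v0 ≠ 0 := fun e => hqv0 (by rw [polB_self, e, mul_zero])
    obtain ⟨v, hv⟩ := exists_qmap_eq hRn'.restrict (by omega) (Q v0) hQv0
    set w : V := (v : V) with hw
    have hQw : Q w = Q v0 := hv
    have hwn : NdOn Q (F ∙ w) := ndOn_of fun x hx h => by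
      obtain ⟨t, rfl⟩ := Submodule.mem_span_singleton.mp hx
      have := h w (Submodule.mem_span_singleton_self w)
      rw [map_smul, smul_eq_mul] at this
      rw [(mul_eq_zero.mp this).resolve_right (by rw [polB_self, hQw, ← polB_self]; exact hqv0), zero_smul]
    have hUw : PerpTo Q U (F ∙ w) := fun u hu x hx => by
      obtain ⟨t, rfl⟩ := Submodule.mem_span_singleton.mp hx
      obtain ⟨b', hb', p', hp', rfl⟩ := Submodule.mem_sup.mp hu
      rw [map_smul, map_add, LinearMap.add_apply, hPR p' hp' w v.2, polB_comm,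
        perp_fixed_resid g w (hRK v.2) b' (hBR hb'), add_zero, smul_zero]
    have hw0 : w ≠ 0 := fun e => hQv0 (by rw [← hQw, e, map_zero])
    set W := U ⊔ F ∙ w with hW
    refine ⟨W, ⟨by rw [finrank_sup_perp hUn hUw, hUd, finrank_span_singleton hw0]; omega, hUn.sup hwn hUw, ?_⟩,
      inv_sup (inv_sup hBi fun x hx => by rw [mem_ker_resMap.mp (hPK hx)]; exact hx) fun x hx => by
        obtain ⟨t, rfl⟩ := Submodule.mem_span_singleton.mp hx
        rw [map_smul, mem_ker_resMap.mp (hRK v.2)]; exact hx⟩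
    -- the isometry
    refine IsomTo.symm ?_
    have hWc : IsCompl (U₀.comap W₀.subtype) (L.comap W₀.subtype) := by
      constructor
      · rw [Submodule.disjoint_def]
        intro x hx hx'
        exact Subtype.ext (Submodule.disjoint_def.mp (disjoint_of_perp hU₀n hUL) (x : V) hx hx')
      · rw [codisjoint_iff, eq_top_iff]
        rintro ⟨x, hx⟩ -
        obtain ⟨u, hu, l, hl, rfl⟩ := Submodule.mem_sup.mp (show x ∈ U₀ ⊔ L by rw [hsup]; exact hx)
        exact Submodule.mem_sup.mpr ⟨⟨u, hU₀W hu⟩, hu, ⟨l, hLW hl⟩, hl, rfl⟩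
    let e1 : (U₀.comap W₀.subtype) ≃ₗ[F] U₀ := Submodule.comapSubtypeEquivOfLe hU₀W
    let e2 : (L.comap W₀.subtype) ≃ₗ[F] L := Submodule.comapSubtypeEquivOfLe hLW
    let eL : F ≃ₗ[F] L := (LinearEquiv.toSpanNonzeroSingleton F V v0 hv0ne).trans (LinearEquiv.ofEq _ _ hspan)
    let f : W₀ →ₗ[F] W :=
      ((Submodule.inclusion le_sup_left).comp (φ.toLinearMap.comp e1.toLinearMap)).coprod
        ((Submodule.inclusion le_sup_right).comp (((LinearEquiv.toSpanNonzeroSingleton F V w hw0).toLinearMap).comp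
          (eL.symm.toLinearMap.comp e2.toLinearMap))) ∘ₗ (Submodule.prodEquivOfIsCompl _ _ hWc).symm.toLinearMap
    have hfq : ∀ x : W₀, Q (f x : V) = Q (x : V) := fun x => by
      obtain ⟨⟨u, l⟩, rfl⟩ := (Submodule.prodEquivOfIsCompl _ _ hWc).surjective x
      simp only [f, LinearMap.comp_apply, LinearEquiv.coe_coe, LinearEquiv.symm_apply_apply, LinearMap.coprod_apply]
      rw [Submodule.coe_prodEquivOfIsCompl']
      set t := eL.symm (e2 l) with ht
      have hl : ((l : W₀) : V) = t • v0 := by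
        have h' : e2 l = eL t := (eL.apply_symm_apply _).symm
        have := congrArg Subtype.val h'
        simpa [e2, eL] using this
      show Q ((φ (e1 u) : V) + t • w) = Q (((u : W₀) : V) + ((l : W₀) : V))
      rw [qmap_add, qmap_add, qmap_smul, hφ, hl, qmap_smul, hQw,
        hUw _ (φ (e1 u)).2 _ (Submodule.smul_mem _ t (Submodule.mem_span_singleton_self w)),
        show polB Q ((u : W₀) : V) (t • v0) = 0 from hUL _ u.2 _ (L.smul_mem t hv0)]
      rfl
    have hinj : Function.Injective f := by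
      rw [← LinearMap.ker_eq_bot, eq_bot_iff]
      intro x hx
      refine (Submodule.mem_bot F).mpr (Subtype.ext (hW₀n.eq_zero x.2 fun y hy => ?_))
      rw [polB_apply, QuadraticMap.polar]
      have h1 := hfq (⟨y, hy⟩ + x)
      rw [map_add, LinearMap.mem_ker.mp hx, add_zero, hfq] at h1
      have h2 := hfq x
      rw [LinearMap.mem_ker.mp hx] at h2
      simp only [ZeroMemClass.coe_zero, map_zero] at h2
      change Q (y + (x : V)) - Q y - Q (x : V) = 0
      change Q y = Q (y + (x : V)) at h1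
      rw [← h1, ← h2]; ring
    refine ⟨LinearEquiv.ofBijective f ⟨hinj, (LinearMap.injective_iff_surjective_of_finrank_eq_finrank ?_).mp hinj⟩, hfq⟩
    rw [hW₀, finrank_sup_perp hUn hUw, hUd, finrank_span_singleton hw0]; omega

/-- The criterion for an even class. -/
theorem crit_even (hQ : (polB Q).Nondegenerate) (hr2 : r ≠ 2) (hrq : ¬ r ∣ Fintype.card F) {m : ℕ} (hme : Even m)
    (hmN : m < Module.finrank F V) (hm0 : 0 < m) (T RHS : Prop) (hdvd : r ∣ Nat.card {W : Submodule F V // ClsEven Q m T W})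
    (h1 : RHS → ∀ A, 1 ≤ A → RealBlocks Q r A →
      GoodEven (Module.finrank F V) (blockDim F r) m (BlockPlus F r) T (PlusOn Q (⊤ : Submodule F V)) A)
    (h2 : blockDim F r ≤ m → (∀ A, 1 ≤ A → RealBlocks Q r A →
      GoodEven (Module.finrank F V) (blockDim F r) m (BlockPlus F r) T (PlusOn Q (⊤ : Submodule F V)) A) → RHS) :
    (∀ g : orthGroup Q, g ^ r = 1 → g ≠ 1 → ∃ W, ClsEven Q m T W ∧ Inv g W) ↔ RHS := by
  obtain ⟨k, hk⟩ := hme
  constructor
  · intro hall
    by_cases hcm : blockDim F r ≤ m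
    · refine h2 hcm fun A hA1 hA => ?_
      obtain ⟨g, hg, hgd⟩ := exists_element hQ hr2 hrq A hA
      refine (inv_even_iff hQ hg hr2 hrq hgd ⟨k, hk⟩ T).mp (hall g hg fun e => ?_)
      rw [e, resid_one, finrank_bot] at hgd
      rcases Nat.mul_eq_zero.mp hgd.symm with h | h
      · omega
      · exact (blockDim_pos hrq).ne' h
    · exfalso
      obtain ⟨g, hg, hg1, hno⟩ := exists_derangement_big hQ hr2 hrq (m := m) (by omega) (P := ClsEven Q m T)
        (fun W hW => ⟨hW.1, hW.2.1⟩)
        (fun g W hW => ⟨(LinearEquiv.finrank_map_eq _ _).trans hW.1, ndOn_map g hW.2.1, (plusOn_map g W).trans hW.2.2⟩)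
        (fun W W' hW hW' => ndOn_isometry_model (h := k) hW.2.1 hW'.2.1 (hW.1.trans (by omega)) (hW'.1.trans (by omega))
          (hW.2.2.trans hW'.2.2.symm))
        (by
          obtain ⟨P, -, hPd, hPn, hPt⟩ := exists_sub (ndOn_top hQ) (h := k) (by rw [finrank_top]; omega) T (by omega)
          exact ⟨P, by omega, hPn, hPt⟩) hdvd
      obtain ⟨W, hW, hWi⟩ := hall g hg hg1
      exact hno W hW hWi
  · intro hR g hg hg1
    obtain ⟨A, hA, hreal, hA1⟩ := exists_blocks_of hQ hg hr2 hrq
    exact (inv_even_iff hQ hg hr2 hrq hA ⟨k, hk⟩ T).mpr (h1 hR A (hA1 hg1) hreal)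

/-- The criterion for an odd class. -/
theorem crit_odd (hQ : (polB Q).Nondegenerate) (hr2 : r ≠ 2) (hrq : ¬ r ∣ Fintype.card F) {m : ℕ} (hmo : Odd m)
    (hNe : Even (Module.finrank F V)) {W₀ : Submodule F V} (hW₀ : Module.finrank F W₀ = m) (hW₀n : NdOn Q W₀)
    (RHS : Prop) (hdvd : r ∣ Nat.card {W : Submodule F V // ClsIso Q m W₀ W})
    (h1 : RHS → ∀ A, 1 ≤ A → RealBlocks Q r A → GoodOdd (Module.finrank F V) (blockDim F r) m A)
    (h2 : blockDim F r ≤ m → (∀ A, 1 ≤ A → RealBlocks Q r A → GoodOdd (Module.finrank F V) (blockDim F r) m A) → RHS) :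
    (∀ g : orthGroup Q, g ^ r = 1 → g ≠ 1 → ∃ W, ClsIso Q m W₀ W ∧ Inv g W) ↔ RHS := by
  constructor
  · intro hall
    by_cases hcm : blockDim F r ≤ m
    · refine h2 hcm fun A hA1 hA => ?_
      obtain ⟨g, hg, hgd⟩ := exists_element hQ hr2 hrq A hA
      refine (inv_odd_iff hQ hg hr2 hrq hgd hmo hNe hW₀ hW₀n).mp (hall g hg fun e => ?_)
      rw [e, resid_one, finrank_bot] at hgd
      rcases Nat.mul_eq_zero.mp hgd.symm with h | h
      · omega
      · exact (blockDim_pos hrq).ne' h
    · exfalso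
      obtain ⟨g, hg, hg1, hno⟩ := exists_derangement_big hQ hr2 hrq (m := m) (by omega) (P := ClsIso Q m W₀)
        (fun W hW => ⟨hW.1, hW.2.1⟩)
        (fun g W hW => ⟨(LinearEquiv.finrank_map_eq _ _).trans hW.1, ndOn_map g hW.2.1, (isomTo_map g W).symm.trans hW.2.2⟩)
        (fun W W' hW hW' => hW.2.2.trans hW'.2.2.symm)
        ⟨W₀, hW₀, hW₀n, LinearEquiv.refl F W₀, fun w => rfl⟩ hdvd
      obtain ⟨W, hW, hWi⟩ := hall g hg hg1
      exact hno W hW hWi
  · intro hR g hg hg1
    obtain ⟨A, hA, hreal, hA1⟩ := exists_blocks_of hQ hg hr2 hrq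
    exact (inv_odd_iff hQ hg hr2 hrq hA hmo hNe hW₀ hW₀n).mpr (h1 hR A (hA1 hg1) hreal)

end crit

section matrices

variable {ι : Type} [Fintype ι] [DecidableEq ι] {q : QuadraticForm F (ι → F)}

lemma map_toGL_le_iff (g : orthGroup q) (W : Submodule F (ι → F)) :
    W.map (Matrix.toLin' ((H45.toGL q g : GL ι F) : Matrix ι ι F)) ≤ W ↔ Inv g W := by
  constructor
  · intro h w hw
    rw [← H45.toGL_apply q g w]
    exact h ⟨w, hw, Matrix.toLin'_apply _ _⟩
  · rintro h _ ⟨w, hw, rfl⟩
    rw [Matrix.toLin'_apply, H45.toGL_apply q g w]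
    exact h w hw

/-- Elements of order `r` modulo scalars, against isometries of order `r`. -/
theorem omega_reduce [Fintype F] (hq : (polB q).Nondegenerate) (hn : 5 ≤ Fintype.card ι) {r : ℕ} [hr : Fact r.Prime]
    (hr2 : r ≠ 2) (P : Submodule F (ι → F) → Prop) :
    (∀ x : GL ι F, x ∈ Cfsg.Geo.omegaGL ⇑q →
      (∃ z : F, ((x ^ r : GL ι F) : Matrix ι ι F) = z • (1 : Matrix ι ι F)) →
      (∀ z : F, (x : Matrix ι ι F) ≠ z • (1 : Matrix ι ι F)) →
      ∃ W, P W ∧ W.map (Matrix.toLin' (x : Matrix ι ι F)) ≤ W) ↔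
    (∀ g : orthGroup q, g ^ r = 1 → g ≠ 1 → ∃ W, P W ∧ Inv g W) := by
  have hN : 5 ≤ Module.finrank F (ι → F) := by rwa [Module.finrank_pi]
  obtain ⟨k, hk⟩ := hr.out.odd_of_ne_two hr2
  obtain ⟨v0, hv0⟩ := exists_qmap_eq hq (by omega) 1 one_ne_zero
  have hv00 : v0 ≠ 0 := fun e => by rw [e, map_zero] at hv0; exact zero_ne_one hv0
  constructor
  · intro h g hg hg1
    obtain ⟨W, hW, hWx⟩ := h (H45.toGL q g)
      (by rw [H45.omegaGL_eq_map]; exact ⟨g, mem_commutator_of_odd hq hN hr2 hg, rfl⟩)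
      ⟨1, by rw [← map_pow, hg, map_one, Units.val_one, one_smul]⟩ fun z hz => hg1 (by
        apply H45.toGL_injective q
        rw [map_one]
        have h1 := H45.toGL_apply q g v0
        rw [hz, Matrix.smul_mulVec, Matrix.one_mulVec] at h1
        have hz2 : z * z = 1 := by
          have := g.2 v0
          rw [← h1, qmap_smul, hv0, mul_one] at this
          exact this
        have hzr : z ^ r = 1 := by
          have h2 : ((H45.toGL q g ^ r : GL ι F) : Matrix ι ι F) = 1 := by rw [← map_pow, hg, map_one, Units.val_one]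
          rw [Units.val_pow_eq_pow_val, hz, _root_.smul_pow, one_pow] at h2
          have h3 := congrArg (fun M : Matrix ι ι F => M *ᵥ v0) h2
          simp only [Matrix.smul_mulVec, Matrix.one_mulVec] at h3
          exact smul_left_injective F hv00 (h3.trans (one_smul F v0).symm)
        rw [hk, pow_succ, pow_mul, pow_two, hz2, one_pow, one_mul] at hzr
        exact Units.ext (by rw [hz, hzr, one_smul, Units.val_one]))
    exact ⟨W, hW, (map_toGL_le_iff g W).mp hWx⟩
  · intro h x hx ⟨z, hz⟩ hns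
    rw [H45.omegaGL_eq_map] at hx
    obtain ⟨g, -, rfl⟩ := hx
    have hgr : ∀ v, (g ^ r).1 v = z • v := fun v => by
      rw [← H45.toGL_apply q (g ^ r) v, map_pow, hz, Matrix.smul_mulVec, Matrix.one_mulVec]
    have hzz : z * z = 1 := by
      have := (g ^ r).2 v0
      rw [hgr, qmap_smul, hv0, mul_one] at this
      exact this
    have hz0 : z ≠ 0 := fun e => by rw [e, zero_mul] at hzz; exact zero_ne_one hzz
    let Z : orthGroup q := ⟨LinearEquiv.smulOfUnit (Units.mk0 z hz0), fun v => by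
      show q (z • v) = q v
      rw [qmap_smul, hzz, one_mul]⟩
    have hZ : ∀ v, Z.1 v = z • v := fun v => rfl
    have hcomm : Commute Z g := orth_ext fun v => by rw [orth_mul_apply, orth_mul_apply, hZ, hZ, map_smul]
    have hg' : (Z * g) ^ r = 1 := by
      rw [hcomm.mul_pow]
      refine orth_ext fun v => ?_
      rw [orth_mul_apply, hgr]
      have hpow : ∀ n (w : ι → F), (Z ^ n).1 w = z ^ n • w := by
        intro n
        induction n with
        | zero => intro w; simp
        | succ n ih => intro w; rw [pow_succ', orth_mul_apply, ih, hZ, smul_smul, ← pow_succ']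
      rw [hpow, smul_smul, hk, ← pow_succ, show 2 * k + 1 + 1 = 2 * (k + 1) by ring, pow_mul, pow_two, hzz, one_pow, one_smul]
      rfl
    obtain ⟨W, hW, hWi⟩ := h (Z * g) hg' fun e => hns z (by
      refine Matrix.ext_iff_mulVec.2 fun v => ?_
      rw [H45.toGL_apply q g v, Matrix.smul_mulVec, Matrix.one_mulVec]
      have h1 := congrArg (fun a : orthGroup q => z • a.1 v) e
      simp only [orth_mul_apply, hZ, smul_smul, hzz, one_smul] at h1
      exact h1)
    refine ⟨W, hW, (map_toGL_le_iff g W).mpr fun w hw => ?_⟩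
    have := W.smul_mem z (hWi w hw)
    rwa [orth_mul_apply, hZ, smul_smul, hzz, one_smul] at this

/-- Elements of order `r`, against isometries of order `r`. -/
theorem omega_reduce_order [Fintype F] (hq : (polB q).Nondegenerate) (hn : 5 ≤ Fintype.card ι) {r : ℕ} [hr : Fact r.Prime]
    (hr2 : r ≠ 2) (P : Submodule F (ι → F) → Prop) :
    (∀ x : GL ι F, x ∈ Cfsg.Geo.omegaGL ⇑q → orderOf x = r →
      ∃ W, P W ∧ W.map (Matrix.toLin' (x : Matrix ι ι F)) ≤ W) ↔
    (∀ g : orthGroup q, g ^ r = 1 → g ≠ 1 → ∃ W, P W ∧ Inv g W) := by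
  have hN : 5 ≤ Module.finrank F (ι → F) := by rwa [Module.finrank_pi]
  constructor
  · intro h g hg hg1
    obtain ⟨W, hW, hWx⟩ := h (H45.toGL q g)
      (by rw [H45.omegaGL_eq_map]; exact ⟨g, mem_commutator_of_odd hq hN hr2 hg, rfl⟩)
      (by rw [orderOf_injective _ (H45.toGL_injective q)]; exact orderOf_eq_prime hg hg1)
    exact ⟨W, hW, (map_toGL_le_iff g W).mp hWx⟩
  · intro h x hx hord
    rw [H45.omegaGL_eq_map] at hx
    obtain ⟨g, -, rfl⟩ := hx
    rw [orderOf_injective _ (H45.toGL_injective q)] at hord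
    obtain ⟨W, hW, hWi⟩ := h g (hord ▸ pow_orderOf_eq_one g) fun e => by
      rw [e, orderOf_one] at hord; exact hr.out.one_lt.ne hord
    exact ⟨W, hW, (map_toGL_le_iff g W).mpr hWi⟩

lemma ndOn_iff_geo {W : Submodule F (ι → F)} :
    Cfsg.Geo.IsNondegenerateOn (QuadraticMap.polar ⇑q) W ↔ NdOn q W := by
  refine ⟨H45.orth_inf_eq_bot_of_nondegenerateOn, fun h w hw hw0 => ?_⟩
  have : ∃ x ∈ W, polB q x w ≠ 0 := by
    by_contra hall
    push Not at hall
    exact hw0 (h.eq_zero hw hall)
  obtain ⟨x, hx, hxw⟩ := this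
  exact ⟨⟨x, hx, hxw⟩, ⟨x, hx, by rw [← polB_apply, polB_comm]; exact hxw⟩⟩

end matrices

end H47
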