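import Mathlib
import Cfsg.Agent.H47.OrthCrit

/-!
Arithmetic of the block criteria.
-/

set_option autoImplicit false

namespace H47

variable {N c m : ℕ}

/-- `A` blocks fit. -/
def RealArith (N c : ℕ) (eps : ℕ → Prop) (TV : Prop) (A : ℕ) : Prop := A * c < N ∨ (A * c = N ∧ (TV ↔ eps A))

/-- All admissible numbers of blocks are good, odd dimension. -/
theorem good_odd_dim {eps : ℕ → Prop} {T TV : Prop} (hc : 0 < c) (hce : Even c) (hN : Odd N) (hme : Even m) (hmN : m < N)
    (hcN : c ≤ N) :
    (∀ A, 1 ≤ A → RealArith N c eps TV A → GoodEven N c m eps T TV A) ↔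
      (m % c < N % c ∧ (m % c = 0 → (T ↔ eps (m / c)))) := by
  obtain ⟨c', rfl⟩ := hce
  obtain ⟨N', rfl⟩ := hN
  obtain ⟨m', rfl⟩ := hme
  have eN := Nat.div_add_mod (2 * N' + 1) (c' + c')
  have em := Nat.div_add_mod (m' + m') (c' + c')
  have lN := Nat.mod_lt (2 * N' + 1) hc
  have lm := Nat.mod_lt (m' + m') hc
  set n' := (2 * N' + 1) / (c' + c') with hn'
  set k := (2 * N' + 1) % (c' + c') with hk
  set M := (m' + m') / (c' + c') with hM
  set l := (m' + m') % (c' + c') with hl
  rw [mul_comm, ← two_mul, mul_left_comm] at eN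
  rw [mul_comm, ← two_mul, mul_left_comm] at em
  simp only [RealArith, GoodEven, ← two_mul c', fun s : ℕ => mul_left_comm s 2 c']
  constructor
  · intro h
    have hn1 : 1 ≤ n' := (Nat.one_le_div_iff hc).mpr hcN
    obtain ⟨s, hs, hsm, hle, h0, -⟩ := h n' hn1 (Or.inl (by omega))
    have hsM : s = M := by
      rcases Nat.lt_trichotomy s M with hlt | he | hgt
      · have := Nat.mul_le_mul_right c' hlt; rw [Nat.succ_mul] at this; omega
      · exact he
      · have := Nat.mul_le_mul_right c' hgt; rw [Nat.succ_mul] at this; omega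
    subst hsM
    exact ⟨by omega, fun h => h0 (by omega)⟩
  · rintro ⟨hlk, h0⟩ A hA1 hA
    have hA' : 2 * (A * c') < 2 * N' + 1 := by rcases hA with h | ⟨h, -⟩ <;> omega
    have hAn : A ≤ n' := by
      by_contra hgt
      have := Nat.mul_le_mul_right c' (not_le.mp hgt); rw [Nat.succ_mul] at this; omega
    have hAn' := Nat.mul_le_mul_right c' hAn
    rcases le_or_gt M A with hMA | hMA
    · have hMA' := Nat.mul_le_mul_right c' hMA
      exact ⟨M, hMA, by omega, by omega, fun h => h0 (by omega), fun h => by omega⟩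
    · have hMA' := Nat.mul_le_mul_right c' hMA
      rw [Nat.succ_mul] at hMA'
      exact ⟨A, le_rfl, by omega, by omega, fun h => by omega, fun h => by omega⟩

/-- All admissible numbers of blocks are good, even dimension and even class. -/
theorem good_even_dim {i : ℕ} {T TV : Prop} (hc : 0 < c) (hce : Even c) (hN : Even N) (hme : Even m) (hmN : m < N)
    (hm0 : 0 < m) (hcN : c ≤ N) :
    (∀ A, 1 ≤ A → RealArith N c (fun s => Odd i ∨ Even s) TV A → GoodEven N c m (fun s => Odd i ∨ Even s) T TV A) ↔
      ((0 < N % c → m % c ≤ N % c ∧ (m % c = 0 → (T ↔ (Odd i ∨ Even (m / c)))) ∧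
          (m % c = N % c → (T ↔ ((TV ↔ (Odd i ∨ Even (N / c))) ↔ (Odd i ∨ Even (m / c)))))) ∧
        (N % c = 0 → (TV ↔ (Odd i ∨ Even (N / c))) → m % c = 0 ∧ (T ↔ (Odd i ∨ Even (m / c))))) := by
  classical
  obtain ⟨c', rfl⟩ := hce
  obtain ⟨N', rfl⟩ := hN
  obtain ⟨m', rfl⟩ := hme
  have eN := Nat.div_add_mod (N' + N') (c' + c')
  have em := Nat.div_add_mod (m' + m') (c' + c')
  have lN := Nat.mod_lt (N' + N') hc
  have lm := Nat.mod_lt (m' + m') hc
  set n' := (N' + N') / (c' + c') with hn'
  set k := (N' + N') % (c' + c') with hk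
  set M := (m' + m') / (c' + c') with hM
  set l := (m' + m') % (c' + c') with hl
  set ε : ℕ → Prop := fun s => Odd i ∨ Even s with hε
  rw [mul_comm, ← two_mul, mul_left_comm] at eN
  rw [mul_comm, ← two_mul, mul_left_comm] at em
  have hn1 : 1 ≤ n' := (Nat.one_le_div_iff hc).mpr hcN
  simp only [RealArith, GoodEven, ← two_mul c', fun s : ℕ => mul_left_comm s 2 c']
  constructor
  · intro h
    refine ⟨fun hk0 => ?_, fun hk0 hT => ?_⟩
    · obtain ⟨s, hs, hsm, hle, h0, h1⟩ := h n' hn1 (Or.inl (by omega))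
      have hsM : s = M := by
        rcases Nat.lt_trichotomy s M with hlt | he | hgt
        · have := Nat.mul_le_mul_right c' hlt; rw [Nat.succ_mul] at this; omega
        · exact he
        · have := Nat.mul_le_mul_right c' hgt; rw [Nat.succ_mul] at this; omega
      subst hsM
      exact ⟨by omega, fun e => h0 (by omega), fun e => h1 (by omega)⟩
    · obtain ⟨s, hs, hsm, hle, h0, -⟩ := h n' hn1 (Or.inr ⟨by omega, hT⟩)
      have hsM : s = M := by
        rcases Nat.lt_trichotomy s M with hlt | he | hgt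
        · have := Nat.mul_le_mul_right c' hlt; rw [Nat.succ_mul] at this; omega
        · exact he
        · have := Nat.mul_le_mul_right c' hgt; rw [Nat.succ_mul] at this; omega
      subst hsM
      exact ⟨by omega, h0 (by omega)⟩
  · rintro ⟨hk1, hk2⟩ A hA1 hA
    have hA' : 2 * (A * c') ≤ N' + N' := by
      rcases hA with h | ⟨h, -⟩ <;> omega
    have hAn : A ≤ n' := by
      by_contra hgt
      have := Nat.mul_le_mul_right c' (not_le.mp hgt); rw [Nat.succ_mul] at this; omega
    have hAn' := Nat.mul_le_mul_right c' hAn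
    rcases le_or_gt M A with hMA | hMA
    swap
    · have hMA' := Nat.mul_le_mul_right c' hMA
      rw [Nat.succ_mul] at hMA'
      exact ⟨A, le_rfl, by omega, by omega, fun h => by omega, fun h => by omega⟩
    have hMA' := Nat.mul_le_mul_right c' hMA
    rcases eq_or_lt_of_le hAn with rfl | hlt
    · by_cases hk0 : 0 < k
      · obtain ⟨a1, a2, a3⟩ := hk1 hk0
        exact ⟨M, hMA, by omega, by omega, fun h => a2 (by omega), fun h => a3 (by omega)⟩
      · have hT : TV ↔ ε n' := by
          rcases hA with h | ⟨-, h⟩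
          · omega
          · exact h
        obtain ⟨a1, a2⟩ := hk2 (by omega) hT
        refine ⟨M, hMA, by omega, by omega, fun _ => a2, fun _ => ?_⟩
        show T ↔ ((TV ↔ ε n') ↔ ε M)
        rw [iff_true_intro hT]
        simpa using a2
    · have hlt' := Nat.mul_le_mul_right c' hlt
      rw [Nat.succ_mul] at hlt'
      by_cases hl0 : l = 0
      · by_cases hTM : T ↔ ε M
        · exact ⟨M, hMA, by omega, by omega, fun _ => hTM, fun h => by omega⟩
        · have hk0 : k = 0 := Nat.eq_zero_of_not_pos fun hp => hTM ((hk1 hp).2.1 hl0)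
          have hT : ¬ (TV ↔ ε n') := fun h => hTM (hk2 hk0 h).2
          obtain ⟨M0, hM0⟩ : ∃ M0, M = M0 + 1 := ⟨M - 1, (Nat.sub_add_cancel (Nat.pos_of_ne_zero fun e => by
            rw [e, zero_mul] at em; omega)).symm⟩
          rw [hM0, Nat.succ_mul] at em
          refine ⟨M0, by omega, by omega, by omega, fun h => by omega, fun h => ?_⟩
          have hA1' : n' = A + 1 := Nat.eq_of_mul_eq_mul_right (show 0 < c' by omega) (by rw [Nat.succ_mul]; omega)
          rw [hA1'] at hT
          rw [hM0] at hTM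
          show T ↔ ((TV ↔ ε A) ↔ ε M0)
          simp only [hε, Nat.even_add_one] at hT hTM ⊢
          by_cases hi : Odd i <;> by_cases hA : Even A <;> by_cases hM : Even M0 <;> simp [hi, hA, hM] at hT hTM ⊢ <;> tauto
      · exact ⟨M, hMA, by omega, by omega, fun h => by omega, fun h => by omega⟩

/-- All admissible numbers of blocks are good, odd class. -/
theorem good_odd_class {eps : ℕ → Prop} {TV : Prop} (hc : 0 < c) (hce : Even c) (hN : Even N) (hmo : Odd m) (hmN : m < N)
    (hcN : c ≤ N) :
    (∀ A, 1 ≤ A → RealArith N c eps TV A → GoodOdd N c m A) ↔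
      ((0 < N % c → m % c < N % c) ∧ (N % c = 0 → ¬ (TV ↔ eps (N / c)))) := by
  classical
  obtain ⟨c', rfl⟩ := hce
  obtain ⟨N', rfl⟩ := hN
  obtain ⟨m', rfl⟩ := hmo
  have eN := Nat.div_add_mod (N' + N') (c' + c')
  have em := Nat.div_add_mod (2 * m' + 1) (c' + c')
  have lN := Nat.mod_lt (N' + N') hc
  have lm := Nat.mod_lt (2 * m' + 1) hc
  set n' := (N' + N') / (c' + c') with hn'
  set k := (N' + N') % (c' + c') with hk
  set M := (2 * m' + 1) / (c' + c') with hM
  set l := (2 * m' + 1) % (c' + c') with hl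
  rw [mul_comm, ← two_mul, mul_left_comm] at eN
  rw [mul_comm, ← two_mul, mul_left_comm] at em
  have hn1 : 1 ≤ n' := (Nat.one_le_div_iff hc).mpr hcN
  simp only [RealArith, GoodOdd, ← two_mul c', fun s : ℕ => mul_left_comm s 2 c']
  constructor
  · intro h
    refine ⟨fun hk0 => ?_, fun hk0 hT => ?_⟩
    · obtain ⟨s, hs, hsm, hlt⟩ := h n' hn1 (Or.inl (by omega))
      have hsM : s = M := by
        rcases Nat.lt_trichotomy s M with hlt' | he | hgt
        · have := Nat.mul_le_mul_right c' hlt'; rw [Nat.succ_mul] at this; omega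
        · exact he
        · have := Nat.mul_le_mul_right c' hgt; rw [Nat.succ_mul] at this; omega
      subst hsM
      omega
    · obtain ⟨s, hs, hsm, hlt⟩ := h n' hn1 (Or.inr ⟨by omega, hT⟩)
      omega
  · rintro ⟨hk1, hk2⟩ A hA1 hA
    have hA' : 2 * (A * c') ≤ N' + N' := by rcases hA with h | ⟨h, -⟩ <;> omega
    have hAn : A ≤ n' := by
      by_contra hgt
      have := Nat.mul_le_mul_right c' (not_le.mp hgt); rw [Nat.succ_mul] at this; omega
    have hAn' := Nat.mul_le_mul_right c' hAn
    rcases le_or_gt M A with hMA | hMA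
    · have hMA' := Nat.mul_le_mul_right c' hMA
      refine ⟨M, hMA, by omega, ?_⟩
      rcases eq_or_lt_of_le hAn with rfl | hlt
      · by_cases hk0 : 0 < k
        · have := hk1 hk0; omega
        · rcases hA with h | ⟨-, h⟩
          · omega
          · exact absurd h (hk2 (by omega))
      · have hlt' := Nat.mul_le_mul_right c' hlt
        rw [Nat.succ_mul] at hlt'
        omega
    · have hMA' := Nat.mul_le_mul_right c' hMA
      rw [Nat.succ_mul] at hMA'
      exact ⟨A, le_rfl, by omega, by omega⟩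

end H47
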