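import Mathlib
import Cfsg.Agent.H47.OrthCrit

/-!
Involutions and non-degenerate subspaces, odd characteristic.
-/

set_option autoImplicit false

namespace H47

open H43

variable {F : Type*} [Field F] [Fintype F] {V : Type*} [AddCommGroup V] [Module F V] [FiniteDimensional F V]
  {Q : QuadraticForm F V}

lemma orth_map_eq (hQ : (polB Q).Nondegenerate) (g : orthGroup Q) (W : Submodule F V) :
    ((polB Q).orthogonal W).map (g.1 : V →ₗ[F] V) = (polB Q).orthogonal (W.map (g.1 : V →ₗ[F] V)) := by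
  refine Submodule.eq_of_le_of_finrank_le ?_ ?_
  · rintro _ ⟨u, hu, rfl⟩ _ ⟨w, hw, rfl⟩
    show polB Q (g.1 w) (g.1 u) = 0
    simp only [polB_apply, QuadraticMap.polar, ← map_add, g.2 _]
    exact hu w hw
  · rw [LinearEquiv.finrank_map_eq]
    have h1 := finrank_orth_add hQ W
    have h2 := finrank_orth_add hQ (W.map (g.1 : V →ₗ[F] V))
    rw [LinearEquiv.finrank_map_eq] at h2
    omega

/-- An involution fixes a member of every even dimensional class. -/
theorem invol_fix_even (hQ : (polB Q).Nondegenerate) (h2 : (2 : F) ≠ 0) (h5 : 5 ≤ Module.finrank F V) {g : orthGroup Q}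
    (hg : g ^ 2 = 1) {m : ℕ} (hm : 0 < m) (hme : Even m) (hmN : m < Module.finrank F V) (T : Prop) :
    ∃ W, ClsEven Q m T W ∧ Inv g W := by
  classical
  have hne : ¬ 2 ∣ Fintype.card F := fun h => by
    obtain ⟨p, hp⟩ := CharP.exists F
    obtain ⟨n, hpp, hn⟩ := FiniteField.card F p
    rw [hn] at h
    have := (Nat.prime_dvd_prime_iff_eq Nat.prime_two hpp).mp (Nat.prime_two.dvd_of_dvd_pow h)
    exact h2 (by rw [show (2 : F) = ((2 : ℕ) : F) by norm_num, this]; exact CharP.cast_eq_zero F p)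
  haveI : Fact (Nat.Prime 2) := ⟨Nat.prime_two⟩
  obtain ⟨hKn, hRn, hKR, -⟩ := fixed_moved hQ hg hne
  have hperp := perp_fixed_resid g
  have hKi : ∀ {U : Submodule F V}, U ≤ LinearMap.ker (resMap g) → Inv g U := fun hU w hw => by
    rw [mem_ker_resMap.mp (hU hw)]; exact hw
  have hRi : ∀ {U : Submodule F V}, U ≤ resid g → Inv g U := by
    intro U hU w hw
    obtain ⟨u, rfl⟩ := hU hw
    have hgg : g.1 (g.1 u) = u := by rw [← orth_mul_apply, ← pow_two, hg]; rfl
    have : g.1 (resMap g u) = -resMap g u := by rw [resMap_apply, map_sub, hgg, neg_sub]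
    rw [this]; exact U.neg_mem hw
  have hsum : Module.finrank F (LinearMap.ker (resMap g)) + Module.finrank F (resid g) = Module.finrank F V := by
    rw [← finrank_sup_perp hKn hperp, hKR, finrank_top]
  -- the larger eigenspace
  obtain ⟨E, E', hEn, hE'n, hEE, hEi, hE'i, hsumE, hge⟩ : ∃ E E' : Submodule F V, NdOn Q E ∧ NdOn Q E' ∧ PerpTo Q E E' ∧
      (∀ {U : Submodule F V}, U ≤ E → Inv g U) ∧ (∀ {U : Submodule F V}, U ≤ E' → Inv g U) ∧
      Module.finrank F E + Module.finrank F E' = Module.finrank F V ∧ Module.finrank F E' ≤ Module.finrank F E := by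
    rcases le_total (Module.finrank F (resid g)) (Module.finrank F (LinearMap.ker (resMap g))) with h | h
    · exact ⟨_, _, hKn, hRn, hperp, hKi, hRi, hsum, h⟩
    · exact ⟨_, _, hRn, hKn, hperp.symm, hRi, hKi, by omega, h⟩
  obtain ⟨k, hk⟩ := hme
  by_cases hcase : m + 1 = Module.finrank F V
  · -- orthogonal complements of eigenvectors
    obtain ⟨P, -, hPd, hPn, hPt⟩ := exists_sub (ndOn_top hQ) (h := k) (by rw [finrank_top]; omega) T (by omega)
    have hLn := hPn.orth hQ
    have hLd := finrank_orth_add hQ P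
    obtain ⟨v0, hv0, hv0ne⟩ := Submodule.exists_mem_ne_zero_of_ne_bot (p := (polB Q).orthogonal P) fun e => by
      rw [e, finrank_bot] at hLd; omega
    have hspan : F ∙ v0 = (polB Q).orthogonal P := Submodule.eq_of_le_of_finrank_le
      ((Submodule.span_singleton_le_iff_mem _ _).mpr hv0) (by rw [finrank_span_singleton hv0ne]; omega)
    have hQv0 : Q v0 ≠ 0 := fun e => hv0ne (hLn.eq_zero hv0 fun u hu => by
      rw [← hspan] at hu
      obtain ⟨t, rfl⟩ := Submodule.mem_span_singleton.mp hu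
      rw [map_smul, LinearMap.smul_apply, polB_self, e, mul_zero, smul_zero])
    obtain ⟨v, hv⟩ := exists_qmap_eq hEn.restrict (by omega) (Q v0) hQv0
    have hvv : Q (v : V) = Q v0 := hv
    have hvne : (v : V) ≠ 0 := fun e => hQv0 (by rw [← hvv, e, map_zero])
    obtain ⟨h, hh⟩ := exists_orth_map hQ hv0ne hvne hvv.symm
    refine ⟨P.map (h.1 : V →ₗ[F] V), ⟨by rw [LinearEquiv.finrank_map_eq]; omega, ndOn_map h hPn,
      (plusOn_map h P).trans hPt⟩, ?_⟩
    have hP : P = (polB Q).orthogonal (F ∙ v0) := by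
      rw [hspan, LinearMap.BilinForm.orthogonal_orthogonal hQ (polB_isRefl Q)]
    have hvsp : (F ∙ v0).map (h.1 : V →ₗ[F] V) = F ∙ (v : V) := by
      rw [Submodule.map_span, Set.image_singleton]
      congr 2
    rw [hP, orth_map_eq hQ, hvsp]
    exact inv_orth (r := 2) hg (by omega) (hEi ((Submodule.span_singleton_le_iff_mem _ _).mpr v.2))
  · by_cases hme' : m < Module.finrank F E
    · obtain ⟨P, hPE, hPd, hPn, hPt⟩ := exists_sub hEn (h := k) (by omega) T (by omega)
      exact ⟨P, ⟨by omega, hPn, hPt⟩, hEi hPE⟩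
    · obtain ⟨a, ha1, ha2⟩ : ∃ a, 2 * a < Module.finrank F E ∧ Module.finrank F E ≤ 2 * a + 2 :=
        ⟨(Module.finrank F E - 1) / 2, by omega, by omega⟩
      have hb : 2 * (k - a) ≤ Module.finrank F E' := by omega
      obtain ⟨B, hBE, hBd, hBn⟩ : ∃ B ≤ E', Module.finrank F B = 2 * (k - a) ∧ NdOn Q B := by
        rcases lt_or_eq_of_le hb with h | h
        · obtain ⟨B, h1, h2', h3, -⟩ := exists_sub hE'n (h := k - a) h True (fun _ => trivial)
          exact ⟨B, h1, h2', h3⟩
        · exact ⟨E', le_rfl, h.symm, hE'n⟩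
      obtain ⟨A, hAE, hAd, hAn, hAt⟩ := exists_sub hEn (h := a) ha1 (T ↔ PlusOn Q B) (by omega)
      have hAB : PerpTo Q A B := fun u hu w hw => hEE u (hAE hu) w (hBE hw)
      refine ⟨A ⊔ B, ⟨by rw [finrank_sup_perp hAn hAB]; omega, hAn.sup hBn hAB, ?_⟩, inv_sup (hEi hAE) (hE'i hBE)⟩
      rw [plusOn_sup hAn hBn hAB ⟨a, by omega⟩ ⟨k - a, by omega⟩, hAt]
      tauto

end H47
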