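import Mathlib
import Cfsg.Prelude.Def_GeometricClasses
import Cfsg.Agent.H47.OrthCrit
import Cfsg.Agent.H47.OrthArith
import Cfsg.Agent.H47.OrthTwo
import Cfsg.Agent.H43.Disc

/-!
From the block criteria to the standard orthogonal spaces.
-/

set_option autoImplicit false

namespace H47

open H43 Matrix

variable {F : Type*} [Field F] {ι : Type} [Fintype ι] [DecidableEq ι] {q : QuadraticForm F (ι → F)}

lemma not_dvd_card [Fintype F] {p r : ℕ} [Fact p.Prime] [CharP F p] [hr : Fact r.Prime] (h : r ≠ p) :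
    ¬ r ∣ Fintype.card F := by
  obtain ⟨n, hp, hn⟩ := FiniteField.card F p
  rw [hn]
  exact fun hd => h ((Nat.prime_dvd_prime_iff_eq hr.out hp).mp (hr.out.dvd_of_dvd_pow hd))

lemma clsEven_plus_iff {m : ℕ} (W : Submodule F (ι → F)) :
    (Module.finrank F W = m ∧ Cfsg.Geo.IsNondegenerateOn (QuadraticMap.polar ⇑q) W ∧ Cfsg.Geo.IsPlusTypeOn ⇑q W) ↔
      ClsEven q m True W := by
  rw [ClsEven, ndOn_iff_geo, iff_true]; rfl

lemma clsEven_minus_iff {m : ℕ} (W : Submodule F (ι → F)) :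
    (Module.finrank F W = m ∧ Cfsg.Geo.IsNondegenerateOn (QuadraticMap.polar ⇑q) W ∧ ¬ Cfsg.Geo.IsPlusTypeOn ⇑q W) ↔
      ClsEven q m False W := by
  rw [ClsEven, ndOn_iff_geo, iff_false]; rfl

lemma clsIso_iff {m : ℕ} (W₀ W : Submodule F (ι → F)) :
    (Module.finrank F W = m ∧ Cfsg.Geo.IsNondegenerateOn (QuadraticMap.polar ⇑q) W ∧ Cfsg.Geo.AreIsometricFor ⇑q W W₀) ↔
      ClsIso q m W₀ W := by
  rw [ClsIso, ndOn_iff_geo]; rfl

/-- Elements of order two against involutions. -/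
lemma order_two_reduce (P : Submodule F (ι → F) → Prop) (h : ∀ g : orthGroup q, g ^ 2 = 1 → ∃ W, P W ∧ Inv g W) :
    ∀ x : GL ι F, x ∈ Cfsg.Geo.omegaGL ⇑q → orderOf x = 2 →
      ∃ W, P W ∧ W.map (Matrix.toLin' (x : Matrix ι ι F)) ≤ W := by
  intro x hx hord
  rw [H45.omegaGL_eq_map] at hx
  obtain ⟨g, -, rfl⟩ := hx
  rw [orderOf_injective _ (H45.toGL_injective q)] at hord
  obtain ⟨W, hW, hWi⟩ := h g (hord ▸ pow_orderOf_eq_one g)
  exact ⟨W, hW, (map_toGL_le_iff g W).mpr hWi⟩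

/-- The block dimension of the statements. -/
lemma blockDim_eq [Fintype F] (r : ℕ) {i c : ℕ} (hi : i = orderOf (Fintype.card F : ZMod r))
    (hc : c = if Even i then i else 2 * i) : blockDim F r = c ∧ BlockPlus F r = fun s => Odd i ∨ Even s := by
  subst hi
  exact ⟨hc.symm, rfl⟩

lemma two_ne_of_odd [Fintype F] (h : Odd (Fintype.card F)) : (2 : F) ≠ 0 := H43.two_ne_zero_of_odd_card h

/-- The odd dimensional criterion. -/
theorem crit_odd_dim [Fintype F] {V : Type*} [AddCommGroup V] [Module F V] [FiniteDimensional F V]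
    {Q : QuadraticForm F V} (hQ : (polB Q).Nondegenerate) {r : ℕ} [Fact r.Prime] (hr2 : r ≠ 2)
    (hrq : ¬ r ∣ Fintype.card F) {i c m : ℕ} (hi : i = orderOf (Fintype.card F : ZMod r))
    (hc : c = if Even i then i else 2 * i) (hN : Odd (Module.finrank F V)) (hme : Even m) (hm : 0 < m)
    (hmN : m < Module.finrank F V) (T : Prop) (hdvd : r ∣ Nat.card {W : Submodule F V // ClsEven Q m T W}) :
    (∀ g : orthGroup Q, g ^ r = 1 → g ≠ 1 → ∃ W, ClsEven Q m T W ∧ Inv g W) ↔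
      (c ≤ m ∧ m % c < Module.finrank F V % c ∧ (m % c = 0 → (T ↔ (Odd i ∨ Even (m / c))))) := by
  obtain ⟨hc', he⟩ := blockDim_eq r hi hc
  have hcp : 0 < blockDim F r := blockDim_pos hrq
  refine crit_even hQ hr2 hrq hme hmN hm T _ hdvd ?_ ?_
  · rintro ⟨h1, h2⟩ A hA1 hA
    rw [hc', he]
    refine (good_odd_dim (hc' ▸ hcp) (hc' ▸ blockDim_even F r) hN hme hmN (by omega)).mpr h2 A hA1 ?_
    have := hA
    rw [RealBlocks, hc', he] at this
    exact this
  · intro hle hall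
    rw [hc'] at hle
    refine ⟨hle, (good_odd_dim (eps := fun s => Odd i ∨ Even s) (T := T) (TV := PlusOn Q (⊤ : Submodule F V))
      (hc' ▸ hcp) (hc' ▸ blockDim_even F r) hN hme hmN (by omega)).mp fun A hA1 hA => ?_⟩
    have h3 := hall A hA1 (by rw [RealBlocks, hc', he]; exact hA)
    rwa [hc', he] at h3

end H47
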