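import Mathlib
import Cfsg.Prelude.Def_GeometricClasses
import Cfsg.Agent.H47.OrthStd
import Cfsg.Agent.H47.UniTargets
import Cfsg.Agent.H43.MaxSing

/-!
The criteria in even dimension, and the types of the standard spaces.
-/

set_option autoImplicit false

namespace H47

open H43

variable {F : Type*} [Field F] {V : Type*} [AddCommGroup V] [Module F V] [FiniteDimensional F V]

/-- The even dimensional criterion, even class. -/
theorem crit_even_dim [Fintype F] {Q : QuadraticForm F V} (hQ : (polB Q).Nondegenerate) {r : ℕ} [Fact r.Prime]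
    (hr2 : r ≠ 2) (hrq : ¬ r ∣ Fintype.card F) {i c m N : ℕ} (hi : i = orderOf (Fintype.card F : ZMod r))
    (hc : c = if Even i then i else 2 * i) (hNd : Module.finrank F V = N) (hN : Even N) (hme : Even m) (hm : 0 < m)
    (hmN : m < N) {T TV : Prop} (hTV : PlusOn Q (⊤ : Submodule F V) ↔ TV)
    (hdvd : r ∣ Nat.card {W : Submodule F V // ClsEven Q m T W}) (R : Prop)
    (h1 : R → ((0 < N % c → m % c ≤ N % c ∧ (m % c = 0 → (T ↔ (Odd i ∨ Even (m / c)))) ∧
          (m % c = N % c → (T ↔ ((TV ↔ (Odd i ∨ Even (N / c))) ↔ (Odd i ∨ Even (m / c)))))) ∧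
        (N % c = 0 → (TV ↔ (Odd i ∨ Even (N / c))) → m % c = 0 ∧ (T ↔ (Odd i ∨ Even (m / c))))))
    (h2 : c ≤ m → ((0 < N % c → m % c ≤ N % c ∧ (m % c = 0 → (T ↔ (Odd i ∨ Even (m / c)))) ∧
          (m % c = N % c → (T ↔ ((TV ↔ (Odd i ∨ Even (N / c))) ↔ (Odd i ∨ Even (m / c)))))) ∧
        (N % c = 0 → (TV ↔ (Odd i ∨ Even (N / c))) → m % c = 0 ∧ (T ↔ (Odd i ∨ Even (m / c))))) → R) :
    (∀ g : orthGroup Q, g ^ r = 1 → g ≠ 1 → ∃ W, ClsEven Q m T W ∧ Inv g W) ↔ R := by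
  subst hNd
  obtain ⟨hc', he⟩ := blockDim_eq r hi hc
  have hcp : 0 < c := hc' ▸ blockDim_pos hrq
  have hce : Even c := hc' ▸ blockDim_even F r
  have hTV' : PlusOn Q (⊤ : Submodule F V) = TV := propext hTV
  refine crit_even hQ hr2 hrq hme hmN hm T _ hdvd ?_ ?_
  · intro hR A hA1 hA
    rw [RealBlocks, hc', he, hTV'] at hA
    rw [hc', he, hTV']
    have hcN : c ≤ Module.finrank F V :=
      (Nat.le_mul_of_pos_left c hA1).trans (by rcases hA with h | ⟨h, -⟩ <;> omega)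
    exact (good_even_dim hcp hce hN hme hmN hm hcN).mpr (h1 hR) A hA1 hA
  · intro hle hall
    rw [hc'] at hle
    refine h2 hle ((good_even_dim (i := i) (T := T) (TV := TV) hcp hce hN hme hmN hm (hle.trans hmN.le)).mp fun A hA1 hA => ?_)
    have h3 := hall A hA1 (by rw [RealBlocks, hc', he, hTV']; exact hA)
    rwa [hc', he, hTV'] at h3

/-- The even dimensional criterion, odd class. -/
theorem crit_odd_cls [Fintype F] {Q : QuadraticForm F V} (hQ : (polB Q).Nondegenerate) {r : ℕ} [Fact r.Prime]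
    (hr2 : r ≠ 2) (hrq : ¬ r ∣ Fintype.card F) {i c m N : ℕ} (hi : i = orderOf (Fintype.card F : ZMod r))
    (hc : c = if Even i then i else 2 * i) (hNd : Module.finrank F V = N) (hN : Even N) (hmo : Odd m)
    (hmN : m < N) {TV : Prop} (hTV : PlusOn Q (⊤ : Submodule F V) ↔ TV) {W₀ : Submodule F V}
    (hW₀ : Module.finrank F W₀ = m) (hW₀n : NdOn Q W₀)
    (hdvd : r ∣ Nat.card {W : Submodule F V // ClsIso Q m W₀ W}) (R : Prop)
    (h1 : R → (0 < N % c → m % c < N % c) ∧ (N % c = 0 → ¬ (TV ↔ (Odd i ∨ Even (N / c)))))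
    (h2 : c ≤ m → (0 < N % c → m % c < N % c) ∧ (N % c = 0 → ¬ (TV ↔ (Odd i ∨ Even (N / c)))) → R) :
    (∀ g : orthGroup Q, g ^ r = 1 → g ≠ 1 → ∃ W, ClsIso Q m W₀ W ∧ Inv g W) ↔ R := by
  subst hNd
  obtain ⟨hc', he⟩ := blockDim_eq r hi hc
  have hcp : 0 < c := hc' ▸ blockDim_pos hrq
  have hce : Even c := hc' ▸ blockDim_even F r
  have hTV' : PlusOn Q (⊤ : Submodule F V) = TV := propext hTV
  refine crit_odd hQ hr2 hrq hmo hN hW₀ hW₀n _ hdvd ?_ ?_
  · intro hR A hA1 hA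
    rw [RealBlocks, hc', he, hTV'] at hA
    rw [hc']
    have hcN : c ≤ Module.finrank F V :=
      (Nat.le_mul_of_pos_left c hA1).trans (by rcases hA with h | ⟨h, -⟩ <;> omega)
    exact (good_odd_class (eps := fun s => Odd i ∨ Even s) hcp hce hN hmo hmN hcN).mpr (h1 hR) A hA1 hA
  · intro hle hall
    rw [hc'] at hle
    refine h2 hle ((good_odd_class (eps := fun s => Odd i ∨ Even s) (TV := TV) hcp hce hN hmo hmN (hle.trans hmN.le)).mp
      fun A hA1 hA => ?_)
    have h3 := hall A hA1 (by rw [RealBlocks, hc', he, hTV']; exact hA)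
    rwa [hc'] at h3

/-- The split space is of plus type. -/
lemma plusOn_qPlus (d : ℕ) (F : Type*) [Field F] : PlusOn (qPlus d F) (⊤ : Submodule F (Fin d ⊕ Fin d → F)) := by
  refine ⟨stdTS d F, le_top, (stdTS_isTS d F).2, ?_⟩
  rw [(stdTS_isTS d F).1, finrank_top, finrank_qPlus]

/-- The other space is not. -/
lemma not_plusOn_qMinus [Fintype F] {d : ℕ} (hd : 1 ≤ d) {a b : F}
    (hab : ∀ x y : F, x ^ 2 + a * x * y + b * y ^ 2 = 0 → x = 0 ∧ y = 0) :
    ¬ PlusOn (qMinus (d - 1) F a b) (⊤ : Submodule F ((Fin (d - 1) ⊕ Fin (d - 1)) ⊕ Fin 2 → F)) := by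
  rintro ⟨U, -, hU, hUd⟩
  have := minus_no_half hd hab U fun u hu => by rw [← coe_qMinus]; exact hU u hu
  rw [finrank_top, finrank_qMinus] at hUd
  omega

/-- The two sums of the statements. -/
lemma div_sum_sub {N m c : ℕ} (hc : 0 < c) (h : m % c = N % c) : (N + m - 2 * (N % c)) / c = N / c + m / c := by
  have e1 := Nat.div_add_mod N c
  have e2 := Nat.div_add_mod m c
  rw [show N + m - 2 * (N % c) = c * (N / c + m / c) by rw [Nat.mul_add]; omega, Nat.mul_div_cancel_left _ hc]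

end H47
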