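import Mathlib
import Cfsg.Agent.H47.OrthWitness

/-!
The irreducible factors of the cyclotomic polynomial, and simple invariant subspaces.
-/

set_option autoImplicit false

namespace H47

open H43 Polynomial

variable {F : Type*} [Field F] [Fintype F]

open scoped Classical in
/-- The classes of eigenvalue orbits. -/
noncomputable def classes (F : Type*) [Field F] (r : ℕ) : Finset F[X] :=
  (UniqueFactorizationMonoid.normalizedFactors (cyclotomic r F)).toFinset

variable {r : ℕ} [hr : Fact r.Prime]

lemma classes_irred {P : F[X]} (hP : P ∈ classes F r) : Irreducible P := by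
  classical
  rw [classes, Multiset.mem_toFinset] at hP
  exact UniqueFactorizationMonoid.irreducible_of_normalized_factor P hP

lemma classes_monic {P : F[X]} (hP : P ∈ classes F r) : P.Monic := by
  classical
  rw [classes, Multiset.mem_toFinset] at hP
  rw [← UniqueFactorizationMonoid.normalize_normalized_factor P hP]
  exact monic_normalize (UniqueFactorizationMonoid.irreducible_of_normalized_factor P hP).ne_zero

lemma classes_dvd {P : F[X]} (hP : P ∈ classes F r) : P ∣ cyclotomic r F := by
  classical
  rw [classes, Multiset.mem_toFinset] at hP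
  exact UniqueFactorizationMonoid.dvd_of_mem_normalizedFactors hP

lemma classes_coprime {P P' : F[X]} (hP : P ∈ classes F r) (hP' : P' ∈ classes F r) (h : P ≠ P') : IsCoprime P P' :=
  (classes_irred hP).coprime_iff_not_dvd.mpr fun hd =>
    h (eq_of_monic_of_associated (classes_monic hP) (classes_monic hP') ((classes_irred hP).associated_of_dvd (classes_irred hP') hd))

lemma classes_data (hrq : ¬ r ∣ Fintype.card F) :
    (classes F r).card = (r - 1) / orderOf (Fintype.card F : ZMod r) ∧
      ∀ P ∈ classes F r, P.natDegree = orderOf (Fintype.card F : ZMod r) := by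
  classical
  obtain ⟨p, hp⟩ := CharP.exists F
  obtain ⟨n, hpp, hn⟩ := FiniteField.card F p
  haveI : Fact p.Prime := ⟨hpp⟩
  have hco : p.Coprime r := (Nat.coprime_primes hpp hr.out).mpr fun h => hrq (by rw [hn, h]; exact dvd_pow_self _ n.ne_zero)
  have hord : orderOf (ZMod.unitOfCoprime _ (hco.pow_left (n : ℕ))) = orderOf (Fintype.card F : ZMod r) := by
    rw [← orderOf_units, ZMod.coe_unitOfCoprime, hn]
  refine ⟨?_, fun P hP => ?_⟩
  · rw [classes, Polynomial.normalizedFactors_cyclotomic_card (f := (n : ℕ)) hn hco, hord, Nat.totient_prime hr.out]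
  · rw [Polynomial.natDegree_of_dvd_cyclotomic_of_irreducible (f := (n : ℕ)) hn hco (classes_dvd hP) (classes_irred hP), hord]

lemma classes_eval_one (hrq : ¬ r ∣ Fintype.card F) {P : F[X]} (hP : P ∈ classes F r) : P.eval 1 ≠ 0 := by
  intro h
  obtain ⟨R, hR⟩ := classes_dvd hP
  have h1 := congrArg (Polynomial.eval 1) hR
  rw [eval_mul, h, zero_mul, eval_one_cyclotomic_prime] at h1
  exact cast_r_ne (F := F) hrq h1

variable {V : Type*} [AddCommGroup V] [Module F V] [FiniteDimensional F V] {Q : QuadraticForm F V} {g : orthGroup Q}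

omit [Fintype F] hr [FiniteDimensional F V] in
lemma aeval_fixed {S : Module.End F V} {v : V} (hv : S v = v) (P : F[X]) : aeval S P v = P.eval 1 • v := by
  induction P using Polynomial.induction_on with
  | C a => simp [Module.algebraMap_end_apply]
  | add p q hp hq => simp [hp, hq, add_smul]
  | monomial k a ih =>
    rw [pow_succ, ← mul_assoc, map_mul, aeval_X, Module.End.mul_apply, hv, ih, eval_mul, eval_mul, eval_C, eval_pow, eval_X]
    simp

omit [Fintype F] hr [FiniteDimensional F V] in
lemma eq_zero_of_coprime {S : Module.End F V} {P P' : F[X]} (h : IsCoprime P P') {v : V} (h1 : aeval S P v = 0)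
    (h2 : aeval S P' v = 0) : v = 0 := by
  obtain ⟨a, b, hab⟩ := h
  have h3 := congrArg (fun R => aeval S R v) hab
  simp only [map_add, map_mul, map_one, LinearMap.add_apply, Module.End.mul_apply, h1, h2, map_zero, add_zero,
    Module.End.one_apply] at h3
  exact h3.symm

omit [Fintype F] hr [FiniteDimensional F V] in
lemma inv_ker_poly (P : F[X]) {W : Submodule F V} (hW : Inv g W) : Inv g (LinearMap.ker (aeval (endT g) P) ⊓ W) := by
  rintro w ⟨hw1, hw2⟩
  refine ⟨?_, hW w hw2⟩
  change aeval (endT g) P (endT g w) = 0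
  have hc : Commute (aeval (endT g) P) (endT g) := by
    conv => arg 2; rw [← aeval_X (R := F) (endT g)]
    exact (Commute.all _ _).map _
  rw [← Module.End.mul_apply, hc.eq, Module.End.mul_apply, LinearMap.mem_ker.mp hw1, map_zero]

omit hr in
/-- Every invariant fixed point free subspace has a vector killed by a class. -/
lemma exists_class_vector [Fact r.Prime] (hg : g ^ r = 1) {W : Submodule F V} (hW : Inv g W) (hf : FixFree g W) (hW0 : W ≠ ⊥) :
    ∃ P ∈ classes F r, ∃ v ∈ W, v ≠ 0 ∧ aeval (endT g) P v = 0 := by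
  classical
  by_contra hall
  push Not at hall
  obtain ⟨w, hw, hw0⟩ := Submodule.exists_mem_ne_zero_of_ne_bot hW0
  have hinj : ∀ M : Multiset F[X], (∀ P ∈ M, P ∈ classes F r) → ∀ v ∈ W, aeval (endT g) M.prod v = 0 → v = 0 := by
    intro M
    induction M using Multiset.induction with
    | empty => intro _ v _ h; simpa using h
    | cons P M ih =>
      intro hM v hv h
      rw [Multiset.prod_cons, map_mul, Module.End.mul_apply] at h
      refine ih (fun Q hQ => hM Q (Multiset.mem_cons_of_mem hQ)) v hv ?_
      by_contra hne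
      exact hall P (hM P (Multiset.mem_cons_self _ _)) _ (aeval_mem (S := endT g) hW _ v hv) hne h
  refine hw0 (hinj (UniqueFactorizationMonoid.normalizedFactors (cyclotomic r F))
    (fun P hP => by rw [classes, Multiset.mem_toFinset]; exact hP) w hw ?_)
  obtain ⟨u, hu⟩ := UniqueFactorizationMonoid.prod_normalizedFactors (cyclotomic_ne_zero r F)
  have hz : aeval (endT g) (cyclotomic r F) w = 0 := by
    refine hf _ (aeval_mem (S := endT g) hW _ w hw) ?_
    have h := congrArg (fun R => aeval (endT g) R w) (cyclotomic_prime_mul_X_sub_one F r)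
    simp only [mul_comm (cyclotomic r F), map_mul, map_sub, map_one, map_pow, aeval_X, endT_pow_eq_one hg, sub_self,
      LinearMap.zero_apply, Module.End.mul_apply, LinearMap.sub_apply, Module.End.one_apply] at h
    exact sub_eq_zero.mp h
  rw [← hu, mul_comm, map_mul, Module.End.mul_apply] at hz
  obtain ⟨u', hu'⟩ : ∃ u' : F[X], u' * (u : F[X]) = 1 := ⟨_, u.inv_mul⟩
  have h := congrArg (fun R => aeval (endT g) R (aeval (endT g) (UniqueFactorizationMonoid.normalizedFactors (cyclotomic r F)).prod w)) hu'
  simp only [map_mul, map_one, Module.End.mul_apply, Module.End.one_apply, hz, map_zero] at h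
  exact h.symm

/-- Small invariant subspaces through class vectors. -/
lemma exists_simple_class (hg : g ^ r = 1) (hrq : ¬ r ∣ Fintype.card F) {W : Submodule F V} (hW : Inv g W) (hf : FixFree g W)
    (hW0 : W ≠ ⊥) :
    ∃ P ∈ classes F r, ∃ C ≤ W, Inv g C ∧ Module.finrank F C = orderOf (Fintype.card F : ZMod r) ∧
      ∀ v ∈ C, aeval (endT g) P v = 0 := by
  obtain ⟨P, hP, v, hv, hv0, hz⟩ := exists_class_vector hg hW hf hW0
  obtain ⟨C, hvC, hC, hCd, hmin⟩ := exists_cyclic (classes_monic hP) hz
  have hCW : C ≤ W := hmin W hW hv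
  refine ⟨P, hP, C, hCW, hC, le_antisymm (hCd.trans_eq ((classes_data hrq).2 P hP)) ?_, fun x hx => ?_⟩
  · refine Nat.le_of_dvd (Nat.pos_of_ne_zero fun e => hv0 ?_) (inv_dim_dvd hg hC fun w hw => hf w (hCW hw))
    rw [Submodule.finrank_eq_zero.mp e] at hvC
    exact (Submodule.mem_bot F).mp hvC
  · exact ((hmin _ (inv_ker_poly P hC) ⟨hz, hvC⟩) hx).1

/-- A subspace of the smallest dimension is killed by a class. -/
lemma class_of_small (hg : g ^ r = 1) (hrq : ¬ r ∣ Fintype.card F) {W : Submodule F V} (hW : Inv g W) (hf : FixFree g W)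
    (hd : Module.finrank F W = orderOf (Fintype.card F : ZMod r)) :
    ∃ P ∈ classes F r, ∀ v ∈ W, aeval (endT g) P v = 0 := by
  have hW0 : W ≠ ⊥ := fun e => by
    rw [e, finrank_bot] at hd; have := order_pos (F := F) hrq; omega
  obtain ⟨P, hP, C, hCW, -, hCd, hz⟩ := exists_simple_class hg hrq hW hf hW0
  rw [Submodule.eq_of_le_of_finrank_le hCW (by omega)] at hz
  exact ⟨P, hP, hz⟩

/-- Some power of a block isometry realises every class. -/
lemma exists_block_class (hr2 : r ≠ 2) (hrq : ¬ r ∣ Fintype.card F) {W : Submodule F V} (hW : NdOn Q W)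
    (hd : Module.finrank F W = orderOf (Fintype.card F : ZMod r)) (hi : Even (orderOf (Fintype.card F : ZMod r)))
    (ht : ¬ PlusOn Q W) {P : F[X]} (hP : P ∈ classes F r) :
    ∃ a : orthGroup (Q.restrict W), a ^ r = 1 ∧ (∀ w, a.1 w = w → w = 0) ∧ ∀ w, aeval (endT a) P w = 0 := by
  classical
  obtain ⟨a, har, hafix⟩ := exists_block_isometry hr2 hrq hW (by rw [blockDim, if_pos hi, hd])
    (iff_of_false ht (Nat.not_odd_iff_even.mpr hi))
  obtain ⟨P₀, hP₀, hz⟩ := class_of_small (g := a) (W := (⊤ : Submodule F W)) har hrq (fun _ _ => trivial)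
    (fun w _ => hafix w) (by rw [finrank_top, hd])
  haveI : NeZero (r : AlgebraicClosure F) := ⟨fun h => cast_r_ne (F := F) hrq (by
    apply (algebraMap F (AlgebraicClosure F)).injective; rw [map_natCast, map_zero]; exact h)⟩
  have hroot : ∀ R ∈ classes F r, ∃ x : AlgebraicClosure F, aeval x R = 0 ∧ IsPrimitiveRoot x r := by
    intro R hR
    obtain ⟨x, hx⟩ := IsAlgClosed.exists_aeval_eq_zero (AlgebraicClosure F) R (fun h => (classes_irred hR).not_isUnit
      (isUnit_iff_degree_eq_zero.mpr h))
    refine ⟨x, hx, isRoot_cyclotomic_iff.mp ?_⟩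
    obtain ⟨S, hS⟩ := classes_dvd hR
    rw [IsRoot.def, ← map_cyclotomic r (algebraMap F (AlgebraicClosure F)), hS, Polynomial.map_mul, eval_mul,
      eval_map_algebraMap, hx, zero_mul]
  obtain ⟨ρ, hρ, hρp⟩ := hroot P₀ hP₀
  obtain ⟨σ, hσ, hσp⟩ := hroot P hP
  obtain ⟨j, -, hj⟩ := hρp.eq_pow_of_pow_eq_one hσp.pow_eq_one
  have hP' : ∀ w, aeval (endT a ^ j) P w = 0 := by
    intro w
    rw [← Polynomial.expand_aeval]
    obtain ⟨S, hS⟩ : P₀ ∣ Polynomial.expand F j P := by
      rw [minpoly.eq_of_irreducible_of_monic (classes_irred hP₀) hρ (classes_monic hP₀)]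
      refine minpoly.dvd F ρ ?_
      rw [Polynomial.expand_aeval, hj]; exact hσ
    rw [hS, mul_comm, map_mul, Module.End.mul_apply, hz w trivial, map_zero]
  have hE : endT (a ^ j) = endT a ^ j := LinearMap.ext fun w => (endT_pow_apply j w).symm
  refine ⟨a ^ j, by rw [← pow_mul, mul_comm, pow_mul, har, one_pow], fun w hw => ?_, fun w => by rw [hE]; exact hP' w⟩
  have h := aeval_fixed (S := endT (a ^ j)) hw P
  rw [hE, hP'] at h
  exact (smul_eq_zero.mp h.symm).resolve_left (classes_eval_one hrq hP)

end H47
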