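import Mathlib
import Cfsg.Agent.H47.OrthType
import Cfsg.Agent.H43.AutPO.Recognition

/-!
The number of totally singular subspaces of given small dimension is `1` modulo the characteristic.
-/

set_option autoImplicit false

namespace H47

open H43

variable {F : Type*} [Field F] {V : Type*} [AddCommGroup V] [Module F V] [FiniteDimensional F V]
  {Q : QuadraticForm F V}

/-- Totally singular members of dimension `m` inside `W`. -/
def IsTSIn (Q : QuadraticForm F V) (W : Submodule F V) (m : ℕ) (U : Submodule F V) : Prop :=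
  U ≤ W ∧ Module.finrank F U = m ∧ ∀ u ∈ U, Q u = 0

/-- Totally singular subspaces of a non-degenerate space. -/
theorem exists_ts_iff [Finite F] {W : Submodule F V} (hW : NdOn Q W) (j : ℕ) :
    (∃ U, IsTSIn Q W j U) ↔ (2 * j < Module.finrank F W ∨ (2 * j = Module.finrank F W ∧ PlusOn Q W)) := by
  constructor
  · rintro ⟨U, hU, hd, h0⟩
    rcases lt_or_eq_of_le (hd ▸ two_mul_ts_le hW hU h0) with h | h
    · exact Or.inl h
    · exact Or.inr ⟨h, U, hU, h0, by omega⟩
  · rintro (h | ⟨h, U, hU, h0, hUd⟩)
    · obtain ⟨P, hP, hPd, -, hPt⟩ := exists_sub hW h True fun _ => trivial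
      obtain ⟨U, hU, h0, hUd⟩ := hPt.mpr trivial
      exact ⟨U, hU.trans hP, by omega, h0⟩
    · exact ⟨U, hU, by omega, h0⟩

omit [FiniteDimensional F V] in
lemma eichler_preserves {W : Submodule F V} {e w x : V} (he : Q e = 0) (hew : polB Q e w = 0) (heW : e ∈ W)
    (hwW : w ∈ W) (hx : x ∈ W) : (eichler Q e w).1 x ∈ W := by
  rw [eichler_apply he hew]
  exact W.sub_mem (W.sub_mem (W.add_mem hx (W.smul_mem _ hwW)) (W.smul_mem _ heW)) (W.smul_mem _ heW)

/-- The count modulo the characteristic. -/
theorem card_ts_modEq [Fintype F] {p : ℕ} [hp : Fact p.Prime] [CharP F p] :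
    ∀ (m : ℕ) (W : Submodule F V), NdOn Q W → 2 * m < Module.finrank F W →
      Nat.card {U : Submodule F V // IsTSIn Q W m U} ≡ 1 [MOD p] := by
  classical
  intro m
  induction m with
  | zero =>
    intro W _ _
    have h1 : Nat.card {U : Submodule F V // IsTSIn Q W 0 U} = 1 := by
      refine Nat.card_eq_one_iff_unique.mpr ⟨⟨fun a b => Subtype.ext ?_⟩, ⟨⟨⊥, bot_le, by simp, fun u hu => ?_⟩⟩⟩
      · rw [Submodule.finrank_eq_zero.mp a.2.2.1, Submodule.finrank_eq_zero.mp b.2.2.1]
      · rw [(Submodule.mem_bot F).mp hu, map_zero]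
    rw [h1]
  | succ m ih =>
    intro W hW hd
    haveI : Finite V := Module.finite_of_finite F
    obtain ⟨L, hLW, hLd, hL0⟩ := (exists_ts_iff hW 1).mpr (Or.inl (by omega))
    obtain ⟨e, heL, he0⟩ := Submodule.exists_mem_ne_zero_of_ne_bot (p := L) fun h => by
      rw [h, finrank_bot] at hLd; omega
    have heW := hLW heL
    have he : Q e = 0 := hL0 e heL
    obtain ⟨f', hf'⟩ := exists_hypPair hW.restrict (c := (⟨e, heW⟩ : W)) he fun h => he0 (congrArg Subtype.val h)
    set f : V := (f' : V) with hf
    have hef : HypPair Q e f := ⟨he, hf'.right, by rw [hf, ← hf'.pair, polB_restrict]⟩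
    have hse : polB Q e e = 0 := by rw [polB_self, he, mul_zero]
    have hsf : polB Q f f = 0 := by rw [polB_self, hef.right, mul_zero]
    set P := Submodule.span F ({e, f} : Set V) with hP
    have hPn : NdOn Q P := ndOn_of fun x hx h => by
      obtain ⟨a, b, rfl⟩ := Submodule.mem_span_pair.mp hx
      have h1 := h e (Submodule.subset_span (by simp))
      have h2 := h f (Submodule.subset_span (by simp))
      simp only [map_add, map_smul, smul_eq_mul, hef.pair, hef.symm.pair, hse, hsf, mul_zero, mul_one, zero_add, add_zero] at h1 h2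
      simp [h1, h2]
    have hPd : Module.finrank F P = 2 := by
      have h := finrank_span_eq_card hef.linearIndependent
      rwa [show Set.range ![e, f] = {e, f} by ext x; simp [eq_comm, or_comm], Fintype.card_fin] at h
    have hPW : P ≤ W := Submodule.span_le.mpr (by rintro _ (rfl | rfl); exacts [heW, f'.2])
    obtain ⟨R, hRW, hRn, hPR, hsup, hRd⟩ := exists_compl hW hPW hPn
    have heR : ∀ w : R, polB Q e (w : V) = 0 := fun w => hPR e (Submodule.subset_span (by simp)) _ w.2
    have hfR : ∀ w : R, polB Q f (w : V) = 0 := fun w => hPR f (Submodule.subset_span (by simp)) _ w.2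
    have hdec : ∀ v ∈ W, polB Q e v = 0 → ∃ (c : F) (w : R), v = c • e + (w : V) := by
      intro v hv hev
      obtain ⟨q', hq, w, hw, rfl⟩ := Submodule.mem_sup.mp (show v ∈ P ⊔ R by rw [hsup]; exact hv)
      obtain ⟨a, b, rfl⟩ := Submodule.mem_span_pair.mp hq
      simp only [map_add, map_smul, smul_eq_mul, hef.pair, hse, heR ⟨w, hw⟩, mul_zero, mul_one, zero_add, add_zero] at hev
      exact ⟨a, ⟨w, hw⟩, by rw [hev, zero_smul, add_zero]⟩
    let ψ : Multiplicative R →* orthGroup Q :=
      { toFun := fun w => eichler Q e ((w.toAdd : R) : V)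
        map_one' := by show eichler Q e ((0 : R) : V) = 1; rw [Submodule.coe_zero, eichler_zero he]
        map_mul' := fun a b => by rw [toAdd_mul, Submodule.coe_add, eichler_mul he (heR _) (heR _)] }
    let X := {U : Submodule F V // IsTSIn Q W (m + 1) U}
    letI act : MulAction (Multiplicative R) X :=
      { smul := fun w U => ⟨U.1.map ((ψ w).1 : V →ₗ[F] V), by
          rintro _ ⟨u, hu, rfl⟩
          exact eichler_preserves he (heR _) heW (hRW w.toAdd.2) (U.2.1 hu), by
          rw [LinearEquiv.finrank_map_eq]; exact U.2.2.1, by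
          rintro _ ⟨u, hu, rfl⟩
          exact ((ψ w).2 u).trans (U.2.2.2 u hu)⟩
        one_smul := fun U => Subtype.ext (by
          show U.1.map _ = U.1
          rw [map_one]; exact Submodule.map_id _)
        mul_smul := fun a b U => Subtype.ext (by
          show U.1.map _ = (U.1.map _).map _
          rw [map_mul, ← Submodule.map_comp]; rfl) }
    have hGp : IsPGroup p (Multiplicative R) := by
      obtain ⟨n, -, hn⟩ := FiniteField.card F p
      refine IsPGroup.of_card (n := (n : ℕ) * Module.finrank F R) ?_
      rw [Nat.card_congr Multiplicative.toAdd, Module.natCard_eq_pow_finrank (K := F), Nat.card_eq_fintype_card, hn,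
        ← pow_mul]
    have key : ∀ U : X, U ∈ MulAction.fixedPoints (Multiplicative R) X ↔ e ∈ U.1 := by
      intro U
      constructor
      · intro hU
        by_contra hne
        have hsub : ∀ w : R, ∀ v ∈ U.1, (eichler Q e (w : V)).1 v ∈ U.1 := fun w v hv => by
          have h := congrArg Subtype.val (hU (Multiplicative.ofAdd w))
          rw [← h]
          exact ⟨v, hv, rfl⟩
        have hperp : ∀ v ∈ U.1, polB Q v e = 0 := by
          intro v hv
          by_contra hb
          obtain ⟨z, hQz⟩ : ∃ z : R, Q (z : V) ≠ 0 := by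
            by_contra hall
            push Not at hall
            obtain ⟨u, hu, hu0⟩ := Submodule.exists_mem_ne_zero_of_ne_bot (p := R) fun h => by
              rw [h, finrank_bot] at hRd; omega
            exact hu0 (hRn.eq_zero hu fun x hx => polB_eq_zero_of_singular (fun y hy => hall ⟨y, hy⟩) hx hu)
          have hmem := U.1.sub_mem (hsub z v hv) hv
          have h0 := U.2.2.2 _ hmem
          rw [eichler_apply he (heR z),
            show v + polB Q v e • (z : V) - polB Q v (z : V) • e - (Q (z : V) * polB Q v e) • e - v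
              = polB Q v e • (z : V) + (-(polB Q v (z : V) + Q (z : V) * polB Q v e)) • e by module,
            qmap_add, qmap_smul, qmap_smul, he, map_smul, map_smul, LinearMap.smul_apply,
            show polB Q (z : V) e = 0 by rw [polB_comm]; exact heR z] at h0
          simp [hb, hQz] at h0
        have hbot : U.1 = ⊥ := by
          rw [eq_bot_iff]
          intro v hv
          have hev : polB Q e v = 0 := by rw [polB_comm]; exact hperp v hv
          obtain ⟨c, w, rfl⟩ := hdec v (U.2.1 hv) hev
          have hw0 : (w : V) = 0 := hRn.eq_zero w.2 fun u hu => by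
            by_contra hne'
            have hmem := U.1.sub_mem (hsub ⟨u, hu⟩ _ hv) hv
            rw [eichler_apply he (heR ⟨u, hu⟩), hperp _ hv, zero_smul, add_zero, mul_zero, zero_smul, sub_zero,
              sub_sub_cancel_left] at hmem
            simp only [map_add, map_smul, LinearMap.add_apply, LinearMap.smul_apply, smul_eq_mul, heR ⟨u, hu⟩, mul_zero, zero_add] at hmem
            apply hne
            have h2 := U.1.smul_mem (-(polB Q (w : V) u)⁻¹) hmem
            rw [smul_neg, neg_smul, neg_neg, smul_smul, inv_mul_cancel₀ (by rw [polB_comm]; exact hne'), one_smul] at h2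
            exact h2
          rw [hw0, add_zero] at hv ⊢
          by_cases hc : c = 0
          · simp [hc]
          · exact absurd (by simpa [smul_smul, inv_mul_cancel₀ hc] using U.1.smul_mem c⁻¹ hv) hne
        have := U.2.2.1
        rw [hbot, finrank_bot] at this
        omega
      · intro hU w
        refine Subtype.ext (Submodule.eq_of_le_of_finrank_le ?_ ?_)
        · rintro _ ⟨v, hv, rfl⟩
          show (eichler Q e ((w.toAdd : R) : V)).1 v ∈ U.1
          have hve : polB Q v e = 0 := polB_eq_zero_of_singular U.2.2.2 hv hU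
          rw [eichler_apply he (heR _), hve, zero_smul, add_zero, mul_zero, zero_smul, sub_zero]
          exact U.1.sub_mem hv (U.1.smul_mem _ hU)
        · exact (LinearEquiv.finrank_map_eq _ _).ge
    have hlift : ∀ U' : {U : Submodule F V // IsTSIn Q R m U}, IsTSIn Q W (m + 1) (F ∙ e ⊔ U'.1) := by
      intro U'
      have hdis : (F ∙ e) ⊓ U'.1 = ⊥ := by
        rw [eq_bot_iff]
        rintro x ⟨hx, hxU⟩
        obtain ⟨c, rfl⟩ := Submodule.mem_span_singleton.mp hx
        have := hfR ⟨_, U'.2.1 hxU⟩
        simp only [map_smul, smul_eq_mul, hef.symm.pair, mul_one] at this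
        rw [this, zero_smul]; exact zero_mem _
      refine ⟨sup_le ((Submodule.span_singleton_le_iff_mem _ _).mpr heW) (U'.2.1.trans hRW), ?_, fun x hx => ?_⟩
      · have h := Submodule.finrank_sup_add_finrank_inf_eq (F ∙ e) U'.1
        rw [hdis, finrank_bot, finrank_span_singleton he0, U'.2.2.1] at h
        omega
      · obtain ⟨y, hy, u, hu, rfl⟩ := Submodule.mem_sup.mp hx
        obtain ⟨c, rfl⟩ := Submodule.mem_span_singleton.mp hy
        rw [qmap_add, qmap_smul, he, U'.2.2.2 u hu, map_smul, LinearMap.smul_apply, heR ⟨u, U'.2.1 hu⟩]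
        simp
    let Φ : {U : Submodule F V // IsTSIn Q R m U} → MulAction.fixedPoints (Multiplicative R) X := fun U' =>
      ⟨⟨_, hlift U'⟩, (key ⟨_, hlift U'⟩).mpr (Submodule.mem_sup_left (Submodule.mem_span_singleton_self e))⟩
    have hΦ : Function.Bijective Φ := by
      constructor
      · intro a b hab
        have h : F ∙ e ⊔ a.1 = F ∙ e ⊔ b.1 := congrArg (fun x : MulAction.fixedPoints (Multiplicative R) X => x.1.1) hab
        have aux : ∀ a b : {U : Submodule F V // IsTSIn Q R m U}, F ∙ e ⊔ a.1 = F ∙ e ⊔ b.1 → a.1 ≤ b.1 := by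
          intro a b h x hx
          obtain ⟨y, hy, u, hu, hyu⟩ := Submodule.mem_sup.mp (show x ∈ F ∙ e ⊔ b.1 by rw [← h]; exact Submodule.mem_sup_right hx)
          obtain ⟨c, rfl⟩ := Submodule.mem_span_singleton.mp hy
          have hc := hfR ⟨x, a.2.1 hx⟩
          simp only [← hyu, map_add, map_smul, smul_eq_mul, hef.symm.pair, mul_one, hfR ⟨u, b.2.1 hu⟩, add_zero] at hc
          rw [← hyu, hc, zero_smul, zero_add]; exact hu
        exact Subtype.ext (le_antisymm (aux a b h) (aux b a h.symm))
      · rintro ⟨U, hUfix⟩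
        have heU := (key U).mp hUfix
        have heq : F ∙ e ⊔ (U.1 ⊓ R) = U.1 := by
          refine le_antisymm (sup_le ((Submodule.span_singleton_le_iff_mem _ _).mpr heU) inf_le_left) fun v hv => ?_
          obtain ⟨c, w, rfl⟩ := hdec v (U.2.1 hv) (polB_eq_zero_of_singular U.2.2.2 heU hv)
          exact Submodule.add_mem_sup (Submodule.smul_mem _ c (Submodule.mem_span_singleton_self e))
            ⟨(Submodule.add_mem_iff_right _ (U.1.smul_mem c heU)).mp hv, w.2⟩
        have hdis : (F ∙ e) ⊓ (U.1 ⊓ R) = ⊥ := by
          rw [eq_bot_iff]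
          rintro x ⟨hx, -, hxR⟩
          obtain ⟨c, rfl⟩ := Submodule.mem_span_singleton.mp hx
          have := hfR ⟨_, hxR⟩
          simp only [map_smul, smul_eq_mul, hef.symm.pair, mul_one] at this
          rw [this, zero_smul]; exact zero_mem _
        have hfr : Module.finrank F ↥(U.1 ⊓ R) = m := by
          have h := Submodule.finrank_sup_add_finrank_inf_eq (F ∙ e) (U.1 ⊓ R)
          rw [hdis, heq, finrank_bot, finrank_span_singleton he0, U.2.2.1] at h
          omega
        exact ⟨⟨U.1 ⊓ R, inf_le_right, hfr, fun u hu => U.2.2.2 u hu.1⟩, Subtype.ext (Subtype.ext heq)⟩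
    have h1 := hGp.card_modEq_card_fixedPoints X
    rw [Nat.card_congr (Equiv.ofBijective Φ hΦ).symm] at h1
    exact h1.trans (ih R hRn (by omega))

/-- The characteristic does not divide the number of totally singular subspaces. -/
theorem not_dvd_card_ts [Fintype F] {p : ℕ} [hp : Fact p.Prime] [CharP F p] (hQ : (polB Q).Nondegenerate) {m : ℕ}
    (hm : 2 * m < Module.finrank F V) :
    ¬ p ∣ Nat.card {U : Submodule F V // Module.finrank F U = m ∧ ∀ u ∈ U, Q u = 0} := by
  intro h
  have h1 := card_ts_modEq (p := p) (Q := Q) m ⊤ (ndOn_top hQ) (by rw [finrank_top]; exact hm)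
  have he : Nat.card {U : Submodule F V // IsTSIn Q ⊤ m U} = Nat.card {U : Submodule F V // Module.finrank F U = m ∧ ∀ u ∈ U, Q u = 0} :=
    Nat.card_congr (Equiv.subtypeEquivRight fun U => by simp [IsTSIn])
  rw [he] at h1
  exact hp.out.one_lt.ne' (Nat.dvd_one.mp ((Nat.ModEq.dvd_iff h1 dvd_rfl).mp h))

end H47
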