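import Mathlib
import Cfsg.Agent.H47.OrthCrit

/-!
A derangement, when invariant members of a class must be fixed pointwise.
-/

set_option autoImplicit false

namespace H47

open H43 Matrix

variable {F : Type*} [Field F] {V : Type*} [AddCommGroup V] [Module F V] [FiniteDimensional F V]
  {Q : QuadraticForm F V}

variable [Fintype F] {r : ℕ} [hr : Fact r.Prime]

/-- An element without invariant member. -/
theorem exists_derangement_fixed (hQ : (polB Q).Nondegenerate) (hr2 : r ≠ 2) (hrq : ¬ r ∣ Fintype.card F) {m : ℕ}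
    {P : Submodule F V → Prop} (hPd : ∀ W, P W → Module.finrank F W = m)
    (hlow : ∀ g : orthGroup Q, g ^ r = 1 → ∀ W, P W → Inv g W → W ≤ LinearMap.ker (resMap g))
    (hPmap : ∀ (g : orthGroup Q) W, P W → P (W.map (g.1 : V →ₗ[F] V))) (hPiso : ∀ W W', P W → P W' → IsomTo Q W W')
    (hex : ∃ W, P W) (hdvd : r ∣ Nat.card {W : Submodule F V // P W}) :
    ∃ g : orthGroup Q, g ^ r = 1 ∧ g ≠ 1 ∧ ∀ W, P W → ¬ Inv g W := by
  classical
  haveI : Finite V := Module.finite_of_finite F
  have hc := blockDim_pos (F := F) hrq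
  let p : ℕ → Prop := fun A => RealBlocks Q r A
  obtain ⟨N0, hN0⟩ : ∃ N0, Module.finrank F V = N0 := ⟨_, rfl⟩
  have hbd : ∀ A, p A → A ≤ N0 := fun A hA => by
    have h1 : A * blockDim F r ≤ N0 := by rcases hA with h | ⟨h, -⟩ <;> omega
    exact le_trans (Nat.le_mul_of_pos_right A hc) h1
  have hp0 : p 0 := by
    left; rw [zero_mul]
    obtain ⟨W, hW⟩ := hex
    by_contra h
    have hW0 : Module.finrank F V = 0 := by omega
    have hm := hPd W hW
    have := Submodule.finrank_le W
    have : ∀ W', P W' → W' = W := fun W' _ => by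
      haveI : Subsingleton V := Module.finrank_zero_iff.mp hW0
      exact Subsingleton.elim _ _
    have h1 : Nat.card {W : Submodule F V // P W} = 1 :=
      Nat.card_eq_one_iff_unique.mpr ⟨⟨fun a b => Subtype.ext ((this _ a.2).trans (this _ b.2).symm)⟩, ⟨⟨W, hW⟩⟩⟩
    rw [h1] at hdvd
    exact hr.out.one_lt.ne' (Nat.dvd_one.mp hdvd)
  set A := Nat.findGreatest p N0 with hA
  have hAp : p A := Nat.findGreatest_spec (Nat.zero_le _) hp0
  have hmax : ∀ B, p B → B ≤ A := fun B hB => Nat.le_findGreatest (hbd B hB) hB
  obtain ⟨g, hg, hgd⟩ := exists_element hQ hr2 hrq A hAp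
  obtain ⟨hKn, hRn, hKR, hRf⟩ := fixed_moved hQ hg hrq
  have key : ∀ W, P W → ¬ Inv g W := by
    intro W₀ hW₀ hW₀i
    set K := LinearMap.ker (resMap g) with hK
    have hle : ∀ W, P W → Inv g W → W ≤ K := fun W hW hWi => hlow g hg W hW hWi
    -- fixed members are one orbit of the isometry group of the fixed space
    let σ : Equiv.Perm {W : Submodule F V // P W} :=
      { toFun := fun W => ⟨W.1.map (g.1 : V →ₗ[F] V), hPmap g _ W.2⟩
        invFun := fun W => ⟨W.1.map ((g⁻¹ : orthGroup Q).1 : V →ₗ[F] V), hPmap g⁻¹ _ W.2⟩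
        left_inv := fun W => Subtype.ext (by
          show (W.1.map _).map _ = W.1
          rw [← Submodule.map_comp]
          convert Submodule.map_id W.1
          exact LinearMap.ext fun v => g.1.symm_apply_apply v)
        right_inv := fun W => Subtype.ext (by
          show (W.1.map _).map _ = W.1
          rw [← Submodule.map_comp]
          convert Submodule.map_id W.1
          exact LinearMap.ext fun v => g.1.apply_symm_apply v) }
    haveI : Fintype {W : Submodule F V // P W} := Fintype.ofFinite _
    have hσ : σ ^ r ^ 1 = 1 := by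
      rw [pow_one]
      have hpw : ∀ k (W : {W : Submodule F V // P W}), ((σ ^ k) W).1 = W.1.map ((g ^ k).1 : V →ₗ[F] V) := by
        intro k
        induction k with
        | zero => intro W; exact (Submodule.map_id W.1).symm
        | succ k ih =>
          intro W
          rw [pow_succ', Equiv.Perm.mul_apply]
          show ((σ ^ k) W).1.map _ = _
          rw [ih, ← Submodule.map_comp]
          congr 1
          exact LinearMap.ext fun v => by rw [pow_succ']; rfl
      exact Equiv.ext fun W => Subtype.ext (by rw [hpw, hg]; exact Submodule.map_id W.1)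
    have h := σ.card_compl_support_modEq hσ
    rw [← Nat.card_eq_fintype_card] at h
    have hd : r ∣ σ.supportᶜ.card := Nat.modEq_zero_iff_dvd.mp (h.trans (Nat.modEq_zero_iff_dvd.mpr hdvd))
    let K' := Q.restrict K
    letI := subAct K'
    let X₀ : Submodule F K := W₀.comap K.subtype
    have hX₀ : X₀.map K.subtype = W₀ :=
      Submodule.map_comap_eq_of_le (by rw [Submodule.range_subtype]; exact hle W₀ hW₀ hW₀i)
    have hcard : σ.supportᶜ.card = Nat.card (MulAction.orbit (orthGroup K') X₀) := by
      rw [← Nat.card_eq_finsetCard]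
      have hmem : ∀ W : {W : Submodule F V // P W}, W ∈ σ.supportᶜ ↔ Inv g W.1 := fun W => by
        rw [Finset.mem_compl, Equiv.Perm.mem_support, not_not, inv_iff_map]
        exact Subtype.ext_iff
      refine Nat.card_eq_of_bijective (fun W => ⟨W.1.1.comap K.subtype, ?_⟩) ⟨fun a b e => ?_, fun X => ?_⟩
      · obtain ⟨φ, hφ⟩ := hPiso W₀ W.1.1 hW₀ W.1.2
        have hWle := hle _ W.1.2 ((hmem W.1).mp W.2)
        let f : X₀ →ₗ[F] K :=
          { toFun := fun x => ⟨(φ ⟨(x : K), x.2⟩ : V), hWle (φ _).2⟩
            map_add' := fun x y => Subtype.ext (by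
              show (φ (⟨((x : K) : V), x.2⟩ + ⟨((y : K) : V), y.2⟩) : V)
                = (φ ⟨((x : K) : V), x.2⟩ : V) + (φ ⟨((y : K) : V), y.2⟩ : V)
              rw [map_add]; rfl)
            map_smul' := fun a x => Subtype.ext (by
              show (φ (a • ⟨((x : K) : V), x.2⟩) : V) = a • (φ ⟨((x : K) : V), x.2⟩ : V)
              rw [map_smul]; rfl) }
        have hf : Function.Injective f := fun x y e => by
          have h1 : φ ⟨((x : K) : V), x.2⟩ = φ ⟨((y : K) : V), y.2⟩ := Subtype.ext (congrArg (fun z : K => (z : V)) e)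
          exact Subtype.ext (Subtype.ext (congrArg (fun z : W₀ => (z : V)) (φ.injective h1)))
        obtain ⟨h, hh⟩ := witt_extend hKn.restrict X₀ f hf fun x => hφ ⟨((x : K) : V), x.2⟩
        refine ⟨h, ?_⟩
        show X₀.map (h.1 : K →ₗ[F] K) = W.1.1.comap K.subtype
        refine Submodule.eq_of_le_of_finrank_le ?_ ?_
        · rintro _ ⟨x, hx, rfl⟩
          show ((h.1 x : K) : V) ∈ W.1.1
          rw [hh ⟨x, hx⟩]; exact (φ _).2
        · rw [LinearEquiv.finrank_map_eq, ← Submodule.finrank_map_subtype_eq K X₀, hX₀,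
            ← Submodule.finrank_map_subtype_eq K (W.1.1.comap K.subtype),
            Submodule.map_comap_eq_of_le (by rwa [Submodule.range_subtype]), hPd _ W.1.2, hPd _ hW₀]
      · have e' := congrArg (fun X : MulAction.orbit (orthGroup K') X₀ => X.1.map K.subtype) e
        simp only at e'
        rw [Submodule.map_comap_eq_of_le (by rw [Submodule.range_subtype]; exact hle _ a.1.2 ((hmem _).mp a.2)),
          Submodule.map_comap_eq_of_le (by rw [Submodule.range_subtype]; exact hle _ b.1.2 ((hmem _).mp b.2))] at e'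
        exact Subtype.ext (Subtype.ext e')
      · obtain ⟨X, h, rfl⟩ := X
        let R := resid g
        obtain ⟨hext, hext', -⟩ := exists_glue hKn (perp_fixed_resid g) hKR h 1
        have heq : W₀.map (hext.1 : V →ₗ[F] V) = (h • X₀).map K.subtype := by
          show _ = (X₀.map (h.1 : K →ₗ[F] K)).map K.subtype
          conv_lhs => rw [← hX₀]
          rw [← Submodule.map_comp, ← Submodule.map_comp]
          congr 1
          exact LinearMap.ext fun v => hext' v
        have hP : P ((h • X₀).map K.subtype) := heq ▸ hPmap hext W₀ hW₀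
        refine ⟨⟨⟨_, hP⟩, (hmem _).mpr ?_⟩, Subtype.ext ?_⟩
        · rintro _ ⟨x, hx, rfl⟩
          exact ⟨x, hx, (mem_ker_resMap.mp x.2).symm⟩
        · exact Submodule.comap_map_eq_of_injective K.injective_subtype _
    haveI : Finite K := Subtype.finite
    haveI : Finite (orthGroup K') := finite_orthGroup
    rw [hcard] at hd
    have hG : r ∣ Nat.card (orthGroup K') := hd.trans (by
      rw [Nat.card_coe_set_eq, ← MulAction.index_stabilizer]; exact Subgroup.index_dvd_card _)
    obtain ⟨h, hh⟩ := exists_prime_orderOf_dvd_card' r hG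
    -- a larger moved space
    let aR : orthGroup (Q.restrict (resid g)) :=
      ⟨g.1.ofSubmodules (resid g) (resid g) (inv_iff_map.mp (inv_resid g)), fun w => g.2 w⟩
    obtain ⟨g', h1, h2⟩ := exists_glue hKn (perp_fixed_resid g) hKR h aR
    have haR : ∀ k (w : resid g), ((aR ^ k).1 w : V) = (g ^ k).1 (w : V) := by
      intro k
      induction k with
      | zero => intro w; rfl
      | succ k ih =>
        intro w
        rw [pow_succ', pow_succ', orth_mul_apply, orth_mul_apply, ← ih]
        rfl
    have hg' : g' ^ r = 1 := glue_pow_one hKR h1 h2 (hh ▸ pow_orderOf_eq_one h)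
      (orth_ext fun w => Subtype.ext (by rw [haR, hg]; rfl))
    obtain ⟨B, hB, hBreal, -⟩ := exists_blocks_of hQ hg' hr2 hrq
    have hfr := finrank_resid_glue hKn (perp_fixed_resid g) hKR h1 h2
    have hra : resid aR = ⊤ := by
      have hinj : Function.Injective (resMap aR) := by
        rw [← LinearMap.ker_eq_bot, eq_bot_iff]
        intro w hw
        exact (Submodule.mem_bot F).mpr (Subtype.ext (hRf (w : V) w.2 (congrArg Subtype.val (mem_ker_resMap.mp hw))))
      exact LinearMap.range_eq_top.mpr (LinearMap.injective_iff_surjective.mp hinj)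
    have hrh : 0 < Module.finrank F (resid h) := Nat.pos_of_ne_zero fun e => by
      rw [eq_one_of_resid_eq_bot (Submodule.finrank_eq_zero.mp e), orderOf_one] at hh
      exact hr.out.one_lt.ne hh
    rw [hra, finrank_top, hgd, hB] at hfr
    have := Nat.mul_le_mul_right (blockDim F r) (hmax B hBreal)
    omega
  refine ⟨g, hg, fun h1 => ?_, key⟩
  obtain ⟨W, hW⟩ := hex
  exact key W hW fun w hw => by rw [h1]; exact hw


end H47
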