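import Mathlib
import Cfsg.Agent.H47.OrthCrit
import Cfsg.Agent.H47.OrthTSClasses
import Cfsg.Agent.H47.OrthTSCount
import Cfsg.Agent.H47.OrthTSDerange

/-!
When does every element of odd prime order fix a totally singular subspace of given dimension?
-/

set_option autoImplicit false

namespace H47

open H43 Polynomial

variable {F : Type*} [Field F] [Fintype F] {r : ℕ} [hr : Fact r.Prime] {V : Type*} [AddCommGroup V] [Module F V]
  [FiniteDimensional F V] {Q : QuadraticForm F V} {g : orthGroup Q}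

/-- An invariant totally singular subspace. -/
def InvTS (g : orthGroup Q) (W U : Submodule F V) : Prop := U ≤ W ∧ Inv g U ∧ ∀ u ∈ U, Q u = 0

omit [Fintype F] hr [FiniteDimensional F V] in
lemma invTS_bot (g : orthGroup Q) (W : Submodule F V) : InvTS g W ⊥ :=
  ⟨bot_le, fun w hw => by rw [(Submodule.mem_bot F).mp hw, map_zero]; exact zero_mem _,
    fun u hu => by rw [(Submodule.mem_bot F).mp hu, map_zero]⟩

omit hr in
/-- Orthogonal sums of invariant totally singular subspaces. -/
lemma invTS_sup {W A B : Submodule F V} (hA : InvTS g W A) (hB : InvTS g W B) (hAB : PerpTo Q A B) :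
    InvTS g W (A ⊔ B) := by
  refine ⟨sup_le hA.1 hB.1, inv_sup hA.2.1 hB.2.1, fun x hx => ?_⟩
  obtain ⟨a, ha, b, hb, rfl⟩ := Submodule.mem_sup.mp hx
  rw [qmap_add, hA.2.2 a ha, hB.2.2 b hb, hAB a ha b hb, add_zero, add_zero]

/-- Odd order of `q`: any number of cyclic pieces up to half. -/
theorem exists_ts_odd (hg : g ^ r = 1) (hr2 : r ≠ 2) (hrq : ¬ r ∣ Fintype.card F)
    (hi : Odd (orderOf (Fintype.card F : ZMod r))) (A : ℕ) :
    ∀ W : Submodule F V, NdOn Q W → Inv g W → FixFree g W → Module.finrank F W = A * blockDim F r → ∀ s ≤ A,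
      ∃ U, InvTS g W U ∧ Module.finrank F U = s * orderOf (Fintype.card F : ZMod r) := by
  induction A with
  | zero =>
    intro W _ _ _ _ s hs
    exact ⟨⊥, invTS_bot g W, by rw [Nat.le_zero.mp hs]; simp⟩
  | succ A ih =>
    intro W hWn hWi hWf hWd s hs
    rcases s with _ | s
    · exact ⟨⊥, invTS_bot g W, by simp⟩
    have hW0 : W ≠ ⊥ := fun e => by
      rw [e, finrank_bot, Nat.succ_mul] at hWd; have := blockDim_pos (F := F) hrq; omega
    obtain ⟨B, hBW, hBn, hBi, hBd, -⟩ := exists_block hg hr2 hrq hWn hWi hWf hW0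
    have hBf : FixFree g B := fun w hw => hWf w (hBW hw)
    obtain ⟨R, hRW, hRn, hBR, hsup, hRd⟩ := exists_compl hWn hBW hBn
    have hRi := inv_compl hg hr.out.pos hWi hBi hBn hBR hsup
    obtain ⟨U, ⟨hUR, hUi, hU0⟩, hUd⟩ := ih R hRn hRi (fun w hw => hWf w (hRW hw))
      (by rw [Nat.succ_mul] at hWd; omega) s (by omega)
    obtain ⟨P, hP, M, hMB, hMi, hMd, -⟩ := exists_simple_class hg hrq hBi hBf (fun e => by
      rw [e, finrank_bot] at hBd; have := blockDim_pos (F := F) hrq; omega)
    have hMf : FixFree g M := fun w hw => hBf w (hMB hw)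
    have hM0 : ∀ x ∈ M, Q x = 0 := by
      refine ts_of_polar_zero hg hr2 hrq hMi hMf hMd.le fun a ha b hb => ?_
      have hne : M ⊓ (polB Q).orthogonal M ≠ ⊥ := fun e => by
        have := nd_dim_even hg hr2 hMi e hMf
        rw [hMd] at this
        exact Nat.not_even_iff_odd.mpr hi this
      have hd1 := inv_dim_dvd hg (fun w hw => ⟨hMi w hw.1, inv_orth hg hr.out.pos hMi w hw.2⟩ : Inv g (M ⊓ (polB Q).orthogonal M))
        fun w hw => hMf w hw.1
      have hpos : 0 < Module.finrank F ↥(M ⊓ (polB Q).orthogonal M) :=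
        Nat.pos_of_ne_zero fun e => hne (Submodule.finrank_eq_zero.mp e)
      have e := Submodule.eq_of_le_of_finrank_le (inf_le_left : M ⊓ (polB Q).orthogonal M ≤ M)
        (by rw [hMd]; exact Nat.le_of_dvd hpos hd1)
      exact (e.symm ▸ hb : b ∈ M ⊓ (polB Q).orthogonal M).2 a ha
    have hMU : PerpTo Q M U := fun a ha b hb => hBR a (hMB ha) b (hUR hb)
    refine ⟨M ⊔ U, invTS_sup ⟨hMB.trans hBW, hMi, hM0⟩ ⟨hUR.trans hRW, hUi, hU0⟩ hMU, ?_⟩
    have h := Submodule.finrank_sup_add_finrank_inf_eq M U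
    rw [((disjoint_of_perp hBn hBR).mono hMB hUR).eq_bot, finrank_bot] at h
    rw [Nat.succ_mul]; omega

/-- Polynomials in isotropy conditions. -/
lemma exists_common_isotropic {X : Type*} [AddCommGroup X] [Module F X] [FiniteDimensional F X] {n : ℕ}
    (β : Fin n → LinearMap.BilinForm F X) (h : 2 * n < Module.finrank F X) : ∃ x : X, x ≠ 0 ∧ ∀ k, β k x x = 0 := by
  classical
  obtain ⟨p, hp⟩ := CharP.exists F
  obtain ⟨-, hpp, -⟩ := FiniteField.card F p
  let b := Module.finBasis F X
  let f : Fin n → MvPolynomial (Fin (Module.finrank F X)) F := fun k =>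
    ∑ a, ∑ c, MvPolynomial.C (β k (b a) (b c)) * MvPolynomial.X a * MvPolynomial.X c
  have hdeg : ∀ k, (f k).totalDegree ≤ 2 := fun k => by
    refine MvPolynomial.totalDegree_finsetSum_le fun a _ => MvPolynomial.totalDegree_finsetSum_le fun c _ => ?_
    refine (MvPolynomial.totalDegree_mul _ _).trans ?_
    have h1 := MvPolynomial.totalDegree_mul (MvPolynomial.C (β k (b a) (b c))) (MvPolynomial.X a (R := F))
    rw [MvPolynomial.totalDegree_C, MvPolynomial.totalDegree_X] at h1
    rw [MvPolynomial.totalDegree_X]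
    omega
  have heval : ∀ k (v : Fin (Module.finrank F X) → F),
      MvPolynomial.eval v (f k) = β k (∑ a, v a • b a) (∑ a, v a • b a) := fun k v => by
    simp only [f, map_sum, map_mul, MvPolynomial.eval_C, MvPolynomial.eval_X, LinearMap.sum_apply, map_smul, LinearMap.smul_apply,
      smul_eq_mul]
    rw [Finset.sum_comm]
    refine Finset.sum_congr rfl fun c _ => ?_
    rw [Finset.mul_sum]
    exact Finset.sum_congr rfl fun a _ => by ring
  have hd : (∑ k : Fin n, (f k).totalDegree) < Fintype.card (Fin (Module.finrank F X)) := by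
    rw [Fintype.card_fin]
    refine lt_of_le_of_lt (Finset.sum_le_sum fun k _ => hdeg k) ?_
    simp; omega
  have hdvd := char_dvd_card_solutions_of_sum_lt p hd
  by_contra hall
  push Not at hall
  have h1 : Fintype.card {v : Fin (Module.finrank F X) → F // ∀ k ∈ (Finset.univ : Finset (Fin n)), MvPolynomial.eval v (f k) = 0} = 1 := by
    refine Fintype.card_eq_one_iff.mpr ⟨⟨0, fun k _ => by rw [heval]; simp⟩, fun v => Subtype.ext ?_⟩
    by_contra hv
    obtain ⟨k, hk⟩ := hall (∑ a, v.1 a • b a) fun e => hv (funext fun a => Fintype.linearIndependent_iff.mp b.linearIndependent v.1 e a)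
    exact hk ((heval k v.1).symm.trans (v.2 k (Finset.mem_univ k)))
  have h3 : p ∣ 1 := by rw [← h1]; convert hdvd
  exact hpp.one_lt.ne' (Nat.dvd_one.mp h3)

/-- Two blocks with one class contain a totally singular cyclic piece. -/
theorem exists_ts_pair (hg : g ^ r = 1) (hr2 : r ≠ 2) (hrq : ¬ r ∣ Fintype.card F) {h : ℕ}
    (hi : orderOf (Fintype.card F : ZMod r) = 2 * h) {X : Submodule F V} (hXn : NdOn Q X) (hXi : Inv g X)
    (hXf : FixFree g X) (hXd : 4 * h ≤ Module.finrank F X) {P : F[X]} (hP : P ∈ classes F r)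
    (hz : ∀ v ∈ X, aeval (endT g) P v = 0) :
    ∃ M, InvTS g X M ∧ Module.finrank F M = 2 * h := by
  classical
  have hh : 1 ≤ h := by have := order_pos (F := F) hrq; omega
  have hPd : P.natDegree = 2 * h := ((classes_data hrq).2 P hP).trans hi
  have hcyc : ∀ v ∈ X, v ≠ 0 → ∃ C ≤ X, v ∈ C ∧ Inv g C ∧ Module.finrank F C = 2 * h ∧
      ∀ W : Submodule F V, Inv g W → v ∈ W → C ≤ W := fun v hv hv0 => by
    obtain ⟨C, hvC, hC, hCd, hmin⟩ := exists_cyclic (classes_monic hP) (hz v hv)
    refine ⟨C, hmin X hXi hv, hvC, hC, le_antisymm (hCd.trans hPd.le) ?_, hmin⟩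
    rw [← hi]
    refine Nat.le_of_dvd (Nat.pos_of_ne_zero fun e => hv0 ?_) (inv_dim_dvd hg hC fun w hw => hXf w (hmin X hXi hv hw))
    rw [Submodule.finrank_eq_zero.mp e] at hvC
    exact (Submodule.mem_bot F).mp hvC
  rcases eq_or_lt_of_le hh with h1 | h2
  · obtain ⟨v, hv, hv0, hQv⟩ := exists_singular_in (Q := Q) X (by omega)
    obtain ⟨C, hCX, hvC, hC, hCd, -⟩ := hcyc v hv hv0
    have hCf : FixFree g C := fun w hw => hXf w (hCX hw)
    refine ⟨C, ⟨hCX, hC, ts_of_polar_zero hg hr2 hrq hC hCf (by omega) fun a ha b hb => ?_⟩, hCd⟩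
    have hne : C ⊓ (polB Q).orthogonal C ≠ ⊥ := fun e => by
      have ht := plusOn_blocks hg hr2 hrq (s := 1) e hC hCf (by
        rw [one_mul, blockDim, if_pos (hi ▸ even_two_mul h), hCd, hi])
      refine absurd (ht.mp ⟨F ∙ v, (Submodule.span_singleton_le_iff_mem _ _).mpr hvC, fun u hu => ?_, by
        rw [finrank_span_singleton hv0, hCd]; omega⟩) ?_
      · obtain ⟨c, rfl⟩ := Submodule.mem_span_singleton.mp hu
        rw [qmap_smul, hQv, mul_zero]
      · rw [hi]
        simp
    have hd1 := inv_dim_dvd hg (fun w hw => ⟨hC w hw.1, inv_orth hg hr.out.pos hC w hw.2⟩ : Inv g (C ⊓ (polB Q).orthogonal C))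
      fun w hw => hCf w hw.1
    have hpos : 0 < Module.finrank F ↥(C ⊓ (polB Q).orthogonal C) :=
      Nat.pos_of_ne_zero fun e => hne (Submodule.finrank_eq_zero.mp e)
    have e := Submodule.eq_of_le_of_finrank_le (inf_le_left : C ⊓ (polB Q).orthogonal C ≤ C)
      (by rw [hCd, ← hi]; exact Nat.le_of_dvd hpos hd1)
    exact (e.symm ▸ hb : b ∈ C ⊓ (polB Q).orthogonal C).2 a ha
  · -- isotropy for the first `h` powers
    let β₀ : LinearMap.BilinForm F X := (Q.restrict X).toBilin (Module.finBasis F X)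
    let β : Fin (h + 1) → LinearMap.BilinForm F X := fun k =>
      if (k : ℕ) = 0 then β₀ else (polB Q).compl₁₂ X.subtype ((endT g ^ (k : ℕ)).comp X.subtype)
    obtain ⟨x, hx0, hxβ⟩ := exists_common_isotropic β (by omega)
    set v : V := (x : V) with hv
    have hQv : Q v = 0 := by
      have h0 := hxβ 0
      simp only [β, Fin.val_zero, if_true, β₀] at h0
      have e := congrArg (fun R : QuadraticForm F X => R x) (QuadraticMap.toQuadraticMap_toBilin (Q.restrict X) (Module.finBasis F X))
      simp only [LinearMap.BilinMap.toQuadraticMap_apply] at e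
      exact e.symm.trans h0
    set f : ℕ → F := fun n => polB Q v ((endT g ^ n) v) with hf
    have hper : ∀ n, f (n + r) = f n := fun n => by
      simp only [hf, pow_add, endT_pow_eq_one hg, mul_one]
    have hsmall : ∀ k ≤ h, f k = 0 := by
      intro k hk
      rcases Nat.eq_zero_or_pos k with rfl | hkp
      · simp only [hf, pow_zero, Module.End.one_apply, polB_self, hQv, mul_zero]
      · have h0 := hxβ ⟨k, by omega⟩
        simp only [β, Nat.pos_iff_ne_zero.mp hkp, if_false, LinearMap.compl₁₂_apply] at h0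
        exact h0
    have hir : 2 * h + 1 ≤ r := by
      have hq0 : (Fintype.card F : ZMod r) ≠ 0 := fun h0 => hrq ((ZMod.natCast_eq_zero_iff _ r).mp h0)
      have := orderOf_dvd_of_pow_eq_one (ZMod.pow_card_sub_one_eq_one hq0)
      rw [hi] at this
      have hle := Nat.le_of_dvd (by have := hr.out.two_le; omega) this
      omega
    have hneg : ∀ k ≤ h, f (r - k) = 0 := fun k hk => by
      rw [← hsmall k hk]
      show polB Q v ((endT g ^ (r - k)) v) = polB Q v ((endT g ^ k) v)
      rw [← endT_adjoint (Q := Q) hg (a := k) (b := r - k) (by rw [Nat.add_sub_cancel' (by omega)]) v v, polB_comm]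
    have hrec : ∀ n, f (n + 2 * h) = -∑ k ∈ Finset.range (2 * h), P.coeff k * f (n + k) := by
      intro n
      have h0 : polB Q v (aeval (endT g) P ((endT g ^ n) v)) = 0 := by
        rw [hz _ (hXi.pow n v x.2), map_zero]
      rw [(classes_monic hP).as_sum, hPd, map_add, map_sum, LinearMap.add_apply, LinearMap.sum_apply, map_pow, aeval_X,
        map_add, map_sum, ← Module.End.mul_apply, ← pow_add, add_comm (2 * h) n] at h0
      rw [eq_neg_iff_add_eq_zero, ← h0]
      congr 1
      refine Finset.sum_congr rfl fun k _ => ?_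
      rw [map_mul, aeval_C, map_pow, aeval_X, Module.End.mul_apply, Module.algebraMap_end_apply, map_smul, smul_eq_mul,
        ← Module.End.mul_apply, ← pow_add, add_comm k n]
    have hbig : ∀ n, f (r - h + n) = 0 := by
      intro n
      induction n using Nat.strong_induction_on with
      | _ n ih =>
        by_cases hn : n ≤ 2 * h
        · by_cases hn' : n ≤ h
          · rw [show r - h + n = r - (h - n) by omega]; exact hneg _ (by omega)
          · rw [show r - h + n = (n - h) + r by omega, hper]; exact hsmall _ (by omega)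
        · rw [show r - h + n = (r - h + (n - 2 * h)) + 2 * h by omega, hrec,
            Finset.sum_eq_zero fun k hk => by
              rw [show r - h + (n - 2 * h) + k = r - h + (n - 2 * h + k) by omega,
                ih _ (by rw [Finset.mem_range] at hk; omega), mul_zero], neg_zero]
    have hzero : ∀ n, f n = 0 := fun n => by
      rw [← hper, show n + r = r - h + (n + h) by omega]; exact hbig _
    have hv0 : v ≠ 0 := fun e => hx0 (Subtype.ext e)
    obtain ⟨C, hCX, hvC, hC, hCd, hmin⟩ := hcyc v x.2 hv0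
    refine ⟨C, ⟨hCX, hC, ts_of_polar_zero hg hr2 hrq hC (fun w hw => hXf w (hCX hw)) (by omega) ?_⟩, hCd⟩
    -- the annihilator of `v` contains the cyclic piece
    let T : Submodule F V :=
      { carrier := {u | ∀ n, polB Q ((endT g ^ n) v) u = 0}
        zero_mem' := fun n => map_zero _
        add_mem' := fun ha hb n => by rw [map_add, ha n, hb n, add_zero]
        smul_mem' := fun c u hu n => by rw [map_smul, hu n, smul_zero] }
    have hCT : C ≤ T := by
      refine hmin T (fun u hu n => ?_) fun n => by rw [polB_comm]; exact hzero n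
      have h' := endT_polB (g := g) 1 ((endT g ^ (n + (r - 1))) v) u
      rw [← Module.End.mul_apply, ← pow_add, show 1 + (n + (r - 1)) = n + r by omega, pow_add, endT_pow_eq_one hg, mul_one,
        pow_one, hu] at h'
      exact h'
    intro a ha b hb
    have h2 : C ≤ LinearMap.ker ((polB Q).flip b) := by
      obtain ⟨C', hvC', hC', hCd', hmin'⟩ := exists_cyclic (classes_monic hP) (hz v x.2)
      intro u hu
      have hT : ∀ n, polB Q ((endT g ^ n) v) b = 0 := hCT hb
      let T' : Submodule F V :=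
        { carrier := {u | ∀ n, polB Q ((endT g ^ n) u) b = 0}
          zero_mem' := fun n => by rw [map_zero, map_zero, LinearMap.zero_apply]
          add_mem' := fun ha hb n => by rw [map_add, map_add, LinearMap.add_apply, ha n, hb n, add_zero]
          smul_mem' := fun c u hu n => by rw [map_smul, map_smul, LinearMap.smul_apply, hu n, smul_zero] }
      have := hmin T' (fun u hu n => by
        have := hu (n + 1)
        rwa [pow_succ, Module.End.mul_apply] at this) hT hu
      exact this 0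
    exact h2 ha

/-- A pair with one class, or distinct classes. -/
theorem collect_classes (hg : g ^ r = 1) (hr2 : r ≠ 2) (hrq : ¬ r ∣ Fintype.card F)
    (hi : Even (orderOf (Fintype.card F : ZMod r))) (A : ℕ) :
    ∀ W : Submodule F V, NdOn Q W → Inv g W → FixFree g W →
      Module.finrank F W = A * orderOf (Fintype.card F : ZMod r) →
      (∃ X ≤ W, NdOn Q X ∧ Inv g X ∧ Module.finrank F X = 2 * orderOf (Fintype.card F : ZMod r) ∧
        ∃ P ∈ classes F r, ∀ v ∈ X, aeval (endT g) P v = 0) ∨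
      ∃ S ⊆ classes F r, S.card = A ∧ ∀ P ∈ S, ∃ B ≤ W, NdOn Q B ∧ Inv g B ∧
        Module.finrank F B = orderOf (Fintype.card F : ZMod r) ∧ ∀ v ∈ B, aeval (endT g) P v = 0 := by
  classical
  induction A with
  | zero => intro W _ _ _ _; exact Or.inr ⟨∅, by simp, rfl, by simp⟩
  | succ A ih =>
    intro W hWn hWi hWf hWd
    have hbd : blockDim F r = orderOf (Fintype.card F : ZMod r) := by rw [blockDim, if_pos hi]
    have hW0 : W ≠ ⊥ := fun e => by
      rw [e, finrank_bot, Nat.succ_mul] at hWd; have := order_pos (F := F) hrq; omega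
    obtain ⟨B, hBW, hBn, hBi, hBd, -⟩ := exists_block hg hr2 hrq hWn hWi hWf hW0
    rw [hbd] at hBd
    obtain ⟨P, hP, hPB⟩ := class_of_small hg hrq hBi (fun w hw => hWf w (hBW hw)) hBd
    obtain ⟨R, hRW, hRn, hBR, hsup, hRd⟩ := exists_compl hWn hBW hBn
    have hRi := inv_compl hg hr.out.pos hWi hBi hBn hBR hsup
    rcases ih R hRn hRi (fun w hw => hWf w (hRW hw)) (by rw [Nat.succ_mul] at hWd; omega) with
      ⟨X, hXR, hX⟩ | ⟨S, hSc, hScard, hSB⟩
    · exact Or.inl ⟨X, hXR.trans hRW, hX⟩
    · by_cases hPS : P ∈ S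
      · obtain ⟨B', hB'R, hB'n, hB'i, hB'd, hB'P⟩ := hSB P hPS
        have hBB : PerpTo Q B B' := fun a ha b hb => hBR a ha b (hB'R hb)
        refine Or.inl ⟨B ⊔ B', sup_le hBW (hB'R.trans hRW), hBn.sup hB'n hBB, inv_sup hBi hB'i,
          by rw [finrank_sup_perp hBn hBB]; omega, P, hP, fun v hv => ?_⟩
        obtain ⟨a, ha, b, hb, rfl⟩ := Submodule.mem_sup.mp hv
        rw [map_add, hPB a ha, hB'P b hb, add_zero]
      · refine Or.inr ⟨insert P S, Finset.insert_subset hP hSc, by rw [Finset.card_insert_of_notMem hPS, hScard], fun P' hP' => ?_⟩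
        rcases Finset.mem_insert.mp hP' with rfl | h
        · exact ⟨B, hBW, hBn, hBi, hBd, hPB⟩
        · obtain ⟨B', hB'R, hrest⟩ := hSB P' h
          exact ⟨B', hB'R.trans hRW, hrest⟩

/-- Even order of `q`: pieces from repeated classes. -/
theorem exists_ts_even (hg : g ^ r = 1) (hr2 : r ≠ 2) (hrq : ¬ r ∣ Fintype.card F)
    (hi : Even (orderOf (Fintype.card F : ZMod r))) (A : ℕ) :
    ∀ W : Submodule F V, NdOn Q W → Inv g W → FixFree g W →
      Module.finrank F W = A * orderOf (Fintype.card F : ZMod r) →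
      ∀ s ≤ (A + 1 - (classes F r).card) / 2,
      ∃ U, InvTS g W U ∧ Module.finrank F U = s * orderOf (Fintype.card F : ZMod r) := by
  classical
  induction A using Nat.strong_induction_on with
  | _ A ih =>
    intro W hWn hWi hWf hWd s hs
    rcases s with _ | s
    · exact ⟨⊥, invTS_bot g W, by simp⟩
    rcases collect_classes hg hr2 hrq hi A W hWn hWi hWf hWd with ⟨X, hXW, hXn, hXi, hXd, P, hP, hPX⟩ | ⟨S, hSc, hScard, -⟩
    · obtain ⟨h, hh⟩ := hi
      obtain ⟨M, ⟨hMX, hMi, hM0⟩, hMd⟩ := exists_ts_pair hg hr2 hrq (h := h) (by omega) hXn hXi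
        (fun w hw => hWf w (hXW hw)) (by omega) hP hPX
      obtain ⟨R, hRW, hRn, hXR, hsup, hRd⟩ := exists_compl hWn hXW hXn
      have hRi := inv_compl hg hr.out.pos hWi hXi hXn hXR hsup
      have hc1 : 1 ≤ (classes F r).card := Finset.card_pos.mpr ⟨P, hP⟩
      obtain ⟨U, ⟨hUR, hUi, hU0⟩, hUd⟩ := ih (A - 2) (by omega) R hRn hRi (fun w hw => hWf w (hRW hw))
        (by rw [Nat.sub_mul]; omega) s (by omega)
      have hMU : PerpTo Q M U := fun a ha b hb => hXR a (hMX ha) b (hUR hb)
      refine ⟨M ⊔ U, invTS_sup ⟨hMX.trans hXW, hMi, hM0⟩ ⟨hUR.trans hRW, hUi, hU0⟩ hMU, ?_⟩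
      have h' := Submodule.finrank_sup_add_finrank_inf_eq M U
      rw [((disjoint_of_perp hXn hXR).mono hMX hUR).eq_bot, finrank_bot] at h'
      rw [Nat.succ_mul]; omega
    · have := Finset.card_le_card hSc
      omega

/-- The number of pieces available to every element with `A` blocks. -/
def tsPieces (i t A : ℕ) : ℕ := if Even i then (A + 1 - t) / 2 else A

/-- Splitting of invariant subspaces along fixed and moved vectors. -/
lemma inv_split_any (hg : g ^ r = 1) (hrq : ¬ r ∣ Fintype.card F) {W : Submodule F V} (hW : Inv g W) :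
    (W ⊓ LinearMap.ker (resMap g)) ⊔ (W ⊓ resid g) = W := by
  have hr0 := cast_r_ne (F := F) hrq
  refine le_antisymm (sup_le inf_le_left inf_le_left) fun w hw => ?_
  set s : V := ∑ k ∈ Finset.range r, (g ^ k).1 w with hs
  have hsW : s ∈ W := Submodule.sum_mem _ fun k _ => by rw [← endT_pow_apply]; exact hW.pow k w hw
  have hfix : g.1 s = s := by
    have h1 := Finset.sum_range_sub' (fun k => (g ^ k).1 w) r
    rw [hg, pow_zero, sub_self, Finset.sum_sub_distrib, sub_eq_zero] at h1
    rw [hs, map_sum]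
    conv_rhs => rw [h1]
    exact Finset.sum_congr rfl fun k _ => by rw [← orth_mul_apply, ← pow_succ']
  have h2 : ∀ k, w - (g ^ k).1 w ∈ resid g := by
    intro k
    induction k with
    | zero => rw [pow_zero]; show w - w ∈ _; rw [sub_self]; exact zero_mem _
    | succ k ih =>
      rw [pow_succ', orth_mul_apply]
      have := add_mem ih (resMap_mem g ((g ^ k).1 w))
      rwa [resMap_apply, sub_add_sub_cancel] at this
  have h3 : ∑ k ∈ Finset.range r, (w - (g ^ k).1 w) ∈ resid g := Submodule.sum_mem _ fun k _ => h2 k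
  rw [Finset.sum_sub_distrib, Finset.sum_const, Finset.card_range, ← hs, ← Nat.cast_smul_eq_nsmul F] at h3
  have h4 := (resid g).smul_mem (r : F)⁻¹ h3
  rw [smul_sub, smul_smul, inv_mul_cancel₀ hr0, one_smul] at h4
  exact Submodule.mem_sup.mpr ⟨(r : F)⁻¹ • s, ⟨W.smul_mem _ hsW, mem_ker_resMap.mpr (by rw [map_smul, hfix])⟩,
    w - (r : F)⁻¹ • s, ⟨sub_mem hw (W.smul_mem _ hsW), h4⟩, add_sub_cancel _ _⟩

omit [Fintype F] hr [FiniteDimensional F V] in
/-- Transport of polynomials along a glued piece. -/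
lemma aeval_piece {R : Submodule F V} {b : orthGroup (Q.restrict R)} (hb : ∀ v : R, g.1 (v : V) = (b.1 v : V))
    (P : F[X]) (v : R) : aeval (endT g) P (v : V) = (aeval (endT b) P v : V) := by
  have hR : ∀ w ∈ R, endT g w ∈ R := fun w hw => by
    show g.1 w ∈ R
    rw [hb ⟨w, hw⟩]; exact Subtype.coe_prop _
  rw [← aeval_restrict hR]
  congr 2
  exact congrArg (fun S => aeval S P) (LinearMap.ext fun w => Subtype.ext (hb w))

/-- The bound adds up over coprime pieces. -/
lemma ts_bound_split {W B W' : Submodule F V} (hBn : NdOn Q B) (hBW : PerpTo Q B W') (hsup : B ⊔ W' = W)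
    (P : F[X]) (hB : ∀ v ∈ B, aeval (endT g) P v = 0) (hW' : Inv g W') (hinj : ∀ v ∈ W', aeval (endT g) P v = 0 → v = 0)
    {b b' : ℕ} (hb : ∀ U, InvTS g B U → Module.finrank F U ≤ b) (hb' : ∀ U, InvTS g W' U → Module.finrank F U ≤ b')
    (hBi : Inv g B) {U : Submodule F V} (hU : InvTS g W U) : Module.finrank F U ≤ b + b' := by
  obtain ⟨hUW, hUi, hU0⟩ := hU
  have h1 : InvTS g B (U ⊓ B) := ⟨inf_le_right, fun w hw => ⟨hUi w hw.1, hBi w hw.2⟩, fun u hu => hU0 u hu.1⟩
  have h2 : InvTS g W' (U ⊓ W') := ⟨inf_le_right, fun w hw => ⟨hUi w hw.1, hW' w hw.2⟩, fun u hu => hU0 u hu.1⟩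
  set f := (aeval (endT g) P).domRestrict U with hf
  have hrange : LinearMap.range f ≤ U ⊓ W' := by
    rintro _ ⟨⟨u, hu⟩, rfl⟩
    refine ⟨aeval_mem (S := endT g) hUi P u hu, ?_⟩
    obtain ⟨x, hx, y, hy, rfl⟩ := Submodule.mem_sup.mp (show u ∈ B ⊔ W' by rw [hsup]; exact hUW hu)
    show aeval (endT g) P (x + y) ∈ W'
    rw [map_add, hB x hx, zero_add]
    exact aeval_mem (S := endT g) hW' P y hy
  have hker : (LinearMap.ker f).map U.subtype ≤ U ⊓ B := by
    rintro _ ⟨⟨u, hu⟩, hk, rfl⟩
    refine ⟨hu, ?_⟩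
    obtain ⟨x, hx, y, hy, rfl⟩ := Submodule.mem_sup.mp (show u ∈ B ⊔ W' by rw [hsup]; exact hUW hu)
    have h0 : aeval (endT g) P (x + y) = 0 := hk
    rw [map_add, hB x hx, zero_add] at h0
    show x + y ∈ B
    rw [hinj y hy h0, add_zero]; exact hx
  have h3 := (Submodule.finrank_mono hrange).trans (hb' _ h2)
  have h4 := Submodule.finrank_mono hker
  rw [Submodule.finrank_map_subtype_eq] at h4
  have h5 := hb _ h1
  have h6 := f.finrank_range_add_finrank_ker
  omega

end H47
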