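import Mathlib
import Cfsg.Agent.H47.OrthTwo
import Cfsg.Agent.H43.Omega

/-!
Isometries squaring to `-1`, odd characteristic.
-/

set_option autoImplicit false

namespace H47

open H43

variable {F : Type*} [Field F] {V : Type*} [AddCommGroup V] [Module F V] [FiniteDimensional F V]
  {Q : QuadraticForm F V}

/-- The plane rotation by a right angle. -/
noncomputable def quarterTurn (Q : QuadraticForm F V) (x y : V) : orthGroup Q := refl Q (x + y) * refl Q x

/-- Data of an orthogonal pair of equal norm. -/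
def EqPair (Q : QuadraticForm F V) (x y : V) : Prop := Q x ≠ 0 ∧ Q y = Q x ∧ polB Q x y = 0

omit [FiniteDimensional F V] in
lemma EqPair.sum_ne (h2 : (2 : F) ≠ 0) {x y : V} (h : EqPair Q x y) : Q (x + y) = 2 * Q x ∧ Q (x + y) ≠ 0 := by
  have e : Q (x + y) = 2 * Q x := by rw [qmap_add, h.2.1, h.2.2]; ring
  exact ⟨e, e ▸ mul_ne_zero h2 h.1⟩

omit [FiniteDimensional F V] in
lemma quarterTurn_fst (h2 : (2 : F) ≠ 0) {x y : V} (h : EqPair Q x y) : (quarterTurn Q x y).1 x = y := by
  obtain ⟨e, hne⟩ := h.sum_ne h2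
  rw [quarterTurn, orth_mul_apply, refl_self h.1, map_neg, refl_apply, e, map_add, polB_self, h.2.2, add_zero,
    inv_mul_cancel₀ (mul_ne_zero h2 h.1), one_smul]
  abel

omit [FiniteDimensional F V] in
lemma quarterTurn_snd (h2 : (2 : F) ≠ 0) {x y : V} (h : EqPair Q x y) : (quarterTurn Q x y).1 y = -x := by
  obtain ⟨e, hne⟩ := h.sum_ne h2
  rw [quarterTurn, orth_mul_apply, refl_fix (v := x) (x := y) (by rw [polB_comm]; exact h.2.2), refl_apply, e, map_add, polB_self,
    h.2.1, polB_comm y x, h.2.2, zero_add, inv_mul_cancel₀ (mul_ne_zero h2 h.1), one_smul]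
  abel

omit [FiniteDimensional F V] in
lemma quarterTurn_perp {x y u : V} (hx : polB Q u x = 0) (hy : polB Q u y = 0) : (quarterTurn Q x y).1 u = u := by
  rw [quarterTurn, orth_mul_apply, refl_fix hx, refl_fix (by rw [map_add, hx, hy, add_zero])]

lemma invHom_quarterTurn (hQ : (polB Q).Nondegenerate) (h2 : (2 : F) ≠ 0) {x y : V} (h : EqPair Q x y) :
    invHom hQ (reflGenerates_of_two_ne_zero h2) (quarterTurn Q x y) = (1, sqc (2 : F)) := by
  obtain ⟨e, hne⟩ := h.sum_ne h2
  rw [quarterTurn, map_mul, invHom_refl hQ _ hne, invHom_refl hQ _ h.1, e]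
  refine Prod.ext (show Multiplicative.ofAdd (1 : ZMod 2) * Multiplicative.ofAdd 1 = 1 from rfl) ?_
  show sqc (2 * Q x) * sqc (Q x) = sqc 2
  rw [sqc_mul h2 h.1, mul_assoc, sqClass_mul_self, mul_one]

omit [FiniteDimensional F V] in
lemma mem_pair {x y v : V} (hv : v ∈ Submodule.span F ({x, y} : Set V)) : ∃ a b : F, a • x + b • y = v :=
  Submodule.mem_span_pair.mp hv

omit [FiniteDimensional F V] in
lemma EqPair.qmap {x y : V} (h : EqPair Q x y) (a b : F) : Q (a • x + b • y) = (a * a + b * b) * Q x := by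
  rw [qmap_add, qmap_smul, qmap_smul, h.2.1]
  simp only [map_smul, LinearMap.smul_apply, h.2.2, smul_zero]
  ring

lemma EqPair.plane (h2 : (2 : F) ≠ 0) {x y : V} (h : EqPair Q x y) :
    Module.finrank F (Submodule.span F ({x, y} : Set V)) = 2 ∧ NdOn Q (Submodule.span F ({x, y} : Set V)) ∧
      (PlusOn Q (Submodule.span F ({x, y} : Set V)) ↔ IsSquare (-1 : F)) := by
  have key : ∀ a b : F, (∀ u ∈ Submodule.span F ({x, y} : Set V), polB Q u (a • x + b • y) = 0) → a = 0 ∧ b = 0 := by
    intro a b H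
    have hx := H x (Submodule.subset_span (by simp))
    have hy := H y (Submodule.subset_span (by simp))
    simp only [map_add, map_smul, smul_eq_mul, polB_self, polB_comm y x, h.2.2, h.2.1, mul_zero, add_zero, zero_add] at hx hy
    exact ⟨(mul_eq_zero.mp hx).resolve_right (mul_ne_zero h2 h.1), (mul_eq_zero.mp hy).resolve_right (mul_ne_zero h2 h.1)⟩
  have hfr : Module.finrank F (Submodule.span F ({x, y} : Set V)) = 2 := by
    have hli : LinearIndependent F ![x, y] := by
      rw [LinearIndependent.pair_iff]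
      intro a b e
      exact key a b fun u _ => by rw [e, map_zero]
    have := finrank_span_eq_card hli
    rwa [show Set.range ![x, y] = {x, y} by ext v; simp [eq_comm, or_comm], Fintype.card_fin] at this
  refine ⟨hfr, ndOn_of fun w hw hw' => ?_, ?_⟩
  · obtain ⟨a, b, rfl⟩ := mem_pair hw
    obtain ⟨rfl, rfl⟩ := key a b hw'
    simp
  · constructor
    · rintro ⟨U, hU, hU0, hUd⟩
      obtain ⟨u, hu, hu0⟩ := Submodule.exists_mem_ne_zero_of_ne_bot (p := U) fun e => by
        rw [e, finrank_bot, hfr] at hUd; omega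
      obtain ⟨a, b, rfl⟩ := mem_pair (hU hu)
      have he := hU0 _ hu
      rw [h.qmap, mul_eq_zero, or_iff_left h.1] at he
      have hb : b ≠ 0 := fun e => hu0 (by
        rw [e, mul_zero, add_zero, mul_self_eq_zero] at he
        simp [he, e])
      exact ⟨a / b, by field_simp; linear_combination -he⟩
    · rintro ⟨t, ht⟩
      refine ⟨F ∙ (t • x + (1 : F) • y), (Submodule.span_singleton_le_iff_mem _ _).mpr
        (Submodule.mem_span_pair.mpr ⟨t, 1, rfl⟩), fun u hu => ?_, ?_⟩
      · obtain ⟨c, rfl⟩ := Submodule.mem_span_singleton.mp hu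
        rw [qmap_smul, h.qmap, ← ht]; ring
      · rw [finrank_span_singleton, hfr]
        intro e
        exact one_ne_zero (key t 1 fun u _ => by rw [e, map_zero]).2

omit [FiniteDimensional F V] in
lemma perp_pair {x y u : V} (hx : polB Q u x = 0) (hy : polB Q u y = 0) :
    ∀ v ∈ Submodule.span F ({x, y} : Set V), polB Q u v = 0 := fun v hv => by
  obtain ⟨a, b, rfl⟩ := mem_pair hv
  rw [map_add, map_smul, map_smul, hx, hy, smul_zero, smul_zero, add_zero]

omit [FiniteDimensional F V] in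
lemma polB_orth_apply (g : orthGroup Q) (x y : V) : polB Q (g.1 x) (g.1 y) = polB Q x y := by
  simp only [polB_apply, QuadraticMap.polar, ← map_add, g.2 _]

/-- First step: an invariant plane and its complement. -/
lemma split_plane (h2 : (2 : F) ≠ 0) {g : orthGroup Q} {W : Submodule F V} (hW : NdOn Q W) (hW0 : W ≠ ⊥) (hi : Inv g W)
    (hg : ∀ w ∈ W, g.1 (g.1 w) = -w) :
    ∃ x, x ∈ W ∧ EqPair Q x (g.1 x) ∧ ∃ R ≤ W, NdOn Q R ∧ PerpTo Q (Submodule.span F ({x, g.1 x} : Set V)) R ∧
      Submodule.span F ({x, g.1 x} : Set V) ⊔ R = W ∧ Module.finrank F R + 2 = Module.finrank F W ∧ Inv g R := by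
  obtain ⟨x, hx, hQx⟩ : ∃ x ∈ W, Q x ≠ 0 := by
    by_contra hall
    push Not at hall
    exact hW0 ((eq_bot_iff).mpr fun w hw => (Submodule.mem_bot F).mpr
      (hW.eq_zero hw fun u hu => polB_eq_zero_of_singular hall hu hw))
  have hp : EqPair Q x (g.1 x) := ⟨hQx, g.2 x, by
    have h1 : polB Q (g.1 x) (g.1 (g.1 x)) = polB Q x (g.1 x) := polB_orth_apply g x (g.1 x)
    rw [hg x hx, map_neg, polB_comm] at h1
    have h3 : (2 : F) * polB Q x (g.1 x) = 0 := by linear_combination -h1
    exact (mul_eq_zero.mp h3).resolve_left h2⟩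
  obtain ⟨hPd, hPn, -⟩ := hp.plane h2
  have hPW : Submodule.span F ({x, g.1 x} : Set V) ≤ W :=
    Submodule.span_le.mpr (by rintro _ (rfl | rfl); exacts [hx, hi x hx])
  obtain ⟨R, hRW, hRn, hPR, hsup, hd⟩ := exists_compl hW hPW hPn
  refine ⟨x, hx, hp, R, hRW, hRn, hPR, hsup, by omega, fun r hr => ?_⟩
  obtain ⟨p, hp', r', hr', e⟩ := Submodule.mem_sup.mp (show g.1 r ∈ _ ⊔ R by rw [hsup]; exact hi r (hRW hr))
  have hp0 : p = 0 := hPn.eq_zero hp' fun u hu => by
    obtain ⟨a, b, rfl⟩ := mem_pair hu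
    have h1 : polB Q (a • x + b • g.1 x) (g.1 r) = 0 := by
      have : a • x + b • g.1 x = g.1 (b • x + (-a) • g.1 x) := by
        rw [map_add, map_smul, map_smul, hg x hx, neg_smul, smul_neg, neg_neg, add_comm]
      rw [this, polB_orth_apply]
      exact hPR _ (Submodule.mem_span_pair.mpr ⟨b, -a, rfl⟩) r hr
    rw [← e, map_add, hPR _ (Submodule.mem_span_pair.mpr ⟨a, b, rfl⟩) r' hr', add_zero] at h1
    exact h1
  rw [← e, hp0, zero_add]; exact hr'

/-- Invariant subspaces: dimension, type and spinor norm. -/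
theorem struct_i [Finite F] (hQ : (polB Q).Nondegenerate) (h2 : (2 : F) ≠ 0) (g : orthGroup Q) (W : Submodule F V)
    (hW : NdOn Q W) (hi : Inv g W) (hg : ∀ w ∈ W, g.1 (g.1 w) = -w) :
    ∃ h, Module.finrank F W = 2 * h ∧ (PlusOn Q W ↔ (IsSquare (-1 : F) ∨ Even h)) ∧
      (∀ k, k ≤ h → ∃ U ≤ W, Module.finrank F U = 2 * k ∧ NdOn Q U ∧ Inv g U) ∧
      ∃ g' : orthGroup Q, (∀ w ∈ W, g'.1 w = g.1 w) ∧ (∀ u, (∀ w ∈ W, polB Q u w = 0) → g'.1 u = u) ∧
        invHom hQ (reflGenerates_of_two_ne_zero h2) g' = (1, sqc (2 : F) ^ h) := by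
  obtain ⟨n, hn⟩ : ∃ n, Module.finrank F W = n := ⟨_, rfl⟩
  induction n using Nat.strong_induction_on generalizing W with
  | _ n ih =>
    by_cases hW0 : W = ⊥
    · subst hW0
      refine ⟨0, by simp, iff_of_true plusOn_bot (Or.inr ⟨0, rfl⟩),
        fun k hk => ⟨⊥, le_rfl, by simp; omega, ndOn_bot, hi⟩, 1, fun w hw => ?_, fun u _ => rfl, ?_⟩
      · rw [(Submodule.mem_bot F).mp hw, map_zero, map_zero]
      · rw [map_one, pow_zero]; rfl
    obtain ⟨x, hx, hp, R, hRW, hRn, hPR, hsup, hd, hRi⟩ := split_plane h2 hW hW0 hi hg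
    obtain ⟨hPd, hPn, hPt⟩ := hp.plane h2
    set P := Submodule.span F ({x, g.1 x} : Set V) with hP
    obtain ⟨h, hRd, hRt, hsub, g', hg'1, hg'2, hg'3⟩ := ih _ (by omega) R hRn hRi (fun w hw => hg w (hRW hw)) rfl
    have hPi : Inv g P := fun v hv => by
      obtain ⟨a, b, rfl⟩ := mem_pair hv
      rw [map_add, map_smul, map_smul, hg x hx, smul_neg, ← neg_smul, add_comm]
      exact Submodule.mem_span_pair.mpr ⟨-b, a, rfl⟩
    refine ⟨h + 1, by omega, ?_, fun k hk => ?_, quarterTurn Q x (g.1 x) * g', fun w hw => ?_, fun u hu => ?_, ?_⟩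
    · rw [← hsup, plusOn_sup hPn hRn hPR ⟨1, hPd⟩ ⟨h, by omega⟩, hPt, hRt, Nat.even_add_one]
      by_cases hs : IsSquare (-1 : F) <;> simp [hs]
    · rcases k with _ | k
      · exact ⟨⊥, bot_le, by simp, ndOn_bot, fun w hw => by rw [(Submodule.mem_bot F).mp hw, map_zero]; exact zero_mem _⟩
      obtain ⟨U, hUR, hUd, hUn, hUi⟩ := hsub k (by omega)
      have hPU : PerpTo Q P U := fun p hp u hu => hPR p hp u (hUR hu)
      exact ⟨P ⊔ U, sup_le (hsup ▸ le_sup_left) (hUR.trans hRW), by rw [finrank_sup_perp hPn hPU]; omega,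
        hPn.sup hUn hPU, inv_sup hPi hUi⟩
    · rw [← hsup] at hw
      obtain ⟨p, hp', r, hr, rfl⟩ := Submodule.mem_sup.mp hw
      have hgr : g'.1 (p + r) = p + g.1 r := by rw [map_add, hg'1 r hr, hg'2 p fun w hw => hPR p hp' w hw]
      have hxr : polB Q (g.1 r) x = 0 ∧ polB Q (g.1 r) (g.1 x) = 0 :=
        ⟨by rw [polB_comm]; exact hPR x (Submodule.subset_span (by simp)) _ (hRi r hr),
         by rw [polB_comm]; exact hPR _ (Submodule.subset_span (by simp)) _ (hRi r hr)⟩
      obtain ⟨a, b, rfl⟩ := mem_pair hp'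
      rw [orth_mul_apply, hgr]
      simp only [map_add, map_smul, quarterTurn_fst h2 hp, quarterTurn_snd h2 hp, hg x hx, quarterTurn_perp hxr.1 hxr.2]
    · rw [orth_mul_apply, hg'2 u fun w hw => hu w (hRW hw), quarterTurn_perp (hu x hx) (hu _ (hi x hx))]
    · rw [map_mul, invHom_quarterTurn hQ h2 hp, hg'3, Prod.mk_mul_mk, one_mul, pow_succ']

/-- Membership in the derived group. -/
theorem mem_commutator_i [Finite F] (hQ : (polB Q).Nondegenerate) (h2 : (2 : F) ≠ 0) {g : orthGroup Q}
    (hg : ∀ v, g.1 (g.1 v) = -v) {d : ℕ} (hN : Module.finrank F V = 2 * d) (hd : 1 ≤ d) :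
    g ∈ commutator (orthGroup Q) ↔ IsSquare ((2 : F) ^ d) := by
  obtain ⟨h, hh, -, -, g', h1, -, h3⟩ := struct_i hQ h2 g ⊤ (ndOn_top hQ) (fun _ _ => trivial) fun w _ => hg w
  obtain rfl : h = d := by rw [finrank_top] at hh; omega
  have : g' = g := orth_ext fun v => h1 v trivial
  subst this
  rw [commutator_eq_invKer hQ (reflGenerates_of_two_ne_zero h2) (by omega), MonoidHom.mem_ker, h3, Prod.mk_eq_one,
    ← sqc_eq_one_iff (pow_ne_zero _ h2)]
  have : ∀ k : ℕ, sqc ((2 : F) ^ k) = sqc (2 : F) ^ k := fun k => by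
    induction k with
    | zero => simp [sqc_one]
    | succ k ihk => rw [pow_succ, pow_succ, sqc_mul (pow_ne_zero _ h2) h2, ihk]
  rw [this]
  exact and_iff_right rfl

/-- Existence. -/
theorem exists_i [Finite F] (h2 : (2 : F) ≠ 0) (h : ℕ) (W : Submodule F V) (hW : NdOn Q W)
    (hd : Module.finrank F W = 2 * h) (ht : PlusOn Q W ↔ (IsSquare (-1 : F) ∨ Even h)) :
    ∃ g : orthGroup Q, Inv g W ∧ (∀ w ∈ W, g.1 (g.1 w) = -w) ∧ ∀ u, (∀ w ∈ W, polB Q u w = 0) → g.1 u = u := by
  induction h generalizing W with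
  | zero =>
    have hW0 : W = ⊥ := Submodule.finrank_eq_zero.mp (by omega)
    exact ⟨1, fun w hw => hw, fun w hw => by rw [hW0] at hw; simp [(Submodule.mem_bot F).mp hw], fun u _ => rfl⟩
  | succ h ih =>
    haveI := Fintype.ofFinite F
    obtain ⟨x', hx'⟩ := exists_qmap_eq hW.restrict (by omega) 1 one_ne_zero
    set x : V := (x' : V)
    have hQx : Q x = 1 := hx'
    have hxn : NdOn Q (F ∙ x) := ndOn_of fun v hv hv' => by
      obtain ⟨t, rfl⟩ := Submodule.mem_span_singleton.mp hv
      have := hv' x (Submodule.mem_span_singleton_self x)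
      rw [map_smul, polB_self, hQx, smul_eq_mul, mul_one] at this
      rw [(mul_eq_zero.mp this).resolve_right h2, zero_smul]
    have hx0 : x ≠ 0 := fun e => by rw [e, map_zero] at hQx; exact zero_ne_one hQx
    obtain ⟨L, hLW, hLn, hxL, hsup, hLd⟩ := exists_compl hW ((Submodule.span_singleton_le_iff_mem _ _).mpr x'.2) hxn
    rw [finrank_span_singleton hx0] at hLd
    obtain ⟨y, hyL, hQy⟩ : ∃ y ∈ L, Q y = 1 := by
      rcases Nat.eq_zero_or_pos h with rfl | hpos
      · obtain ⟨y, hy, hy0⟩ := Submodule.exists_mem_ne_zero_of_ne_bot (p := L) fun e => by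
          rw [e, finrank_bot] at hLd; omega
        have hspan : F ∙ y = L := Submodule.eq_of_le_of_finrank_le ((Submodule.span_singleton_le_iff_mem _ _).mpr hy)
          (by rw [finrank_span_singleton hy0]; omega)
        have hQy : Q y ≠ 0 := fun e => hy0 (hLn.eq_zero hy fun u hu => by
          rw [← hspan] at hu
          obtain ⟨t, rfl⟩ := Submodule.mem_span_singleton.mp hu
          rw [map_smul, LinearMap.smul_apply, polB_self, e, mul_zero, smul_zero])
        -- the type decides the class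
        have hsq : IsSquare (-Q y) ↔ IsSquare (-1 : F) := by
          have hxy : polB Q x y = 0 := hxL x (Submodule.mem_span_singleton_self x) y hy
          rw [or_iff_left (by decide)] at ht
          rw [← ht]
          constructor
          · rintro ⟨t, ht'⟩
            refine ⟨F ∙ (t • x + y), (Submodule.span_singleton_le_iff_mem _ _).mpr
              (W.add_mem (W.smul_mem t x'.2) (hLW hy)), fun u hu => ?_, ?_⟩
            · obtain ⟨c, rfl⟩ := Submodule.mem_span_singleton.mp hu
              rw [qmap_smul, qmap_add, qmap_smul, hQx, map_smul, LinearMap.smul_apply, hxy, smul_zero, add_zero, ← neg_neg (Q y)]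
              rw [ht']; ring
            · rw [finrank_span_singleton, hd]
              intro e
              have := congrArg (polB Q y) e
              rw [map_add, map_smul, polB_comm y x, hxy, smul_zero, zero_add, polB_self, map_zero] at this
              exact mul_ne_zero h2 hQy this
          · rintro ⟨U, hU, hU0, hUd⟩
            obtain ⟨u, hu, hu0⟩ := Submodule.exists_mem_ne_zero_of_ne_bot (p := U) fun e => by
              rw [e, finrank_bot, hd] at hUd; omega
            obtain ⟨p, hp, l, hl, rfl⟩ := Submodule.mem_sup.mp (show u ∈ (F ∙ x) ⊔ L by rw [hsup]; exact hU hu)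
            rw [← hspan] at hl
            obtain ⟨a, rfl⟩ := Submodule.mem_span_singleton.mp hp
            obtain ⟨b, rfl⟩ := Submodule.mem_span_singleton.mp hl
            have he := hU0 _ hu
            rw [qmap_add, qmap_smul, qmap_smul, hQx] at he
            simp only [map_smul, LinearMap.smul_apply, hxy, smul_zero, add_zero] at he
            have hb : b ≠ 0 := fun e => hu0 (by
              rw [e, zero_mul, zero_mul, add_zero, mul_one, mul_self_eq_zero] at he
              simp [he, e])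
            exact ⟨a / b, by field_simp; linear_combination -he⟩
        obtain ⟨t, ht'⟩ : IsSquare (Q y) := by
          classical
          have hm : (-1 : F) ≠ 0 := neg_ne_zero.mpr one_ne_zero
          rcases em (IsSquare (-1 : F)) with h1 | h1
          · have := (hsq.mpr h1).mul h1
            simpa using this
          · have h1' := quadraticChar_neg_one_iff_not_isSquare.mpr h1
            have h2' := quadraticChar_neg_one_iff_not_isSquare.mpr (hsq.not.mpr h1)
            rw [← quadraticChar_one_iff_isSquare hQy, show Q y = (-1) * (-Q y) by ring, map_mul, h1', h2']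
            rfl
        have ht0 : t ≠ 0 := fun e => hQy (by rw [ht', e, mul_zero])
        exact ⟨t⁻¹ • y, L.smul_mem _ hy, by rw [qmap_smul, ht']; field_simp⟩
      · obtain ⟨y, hy⟩ := exists_qmap_eq hLn.restrict (by omega) 1 one_ne_zero
        exact ⟨y, y.2, hy⟩
    have hp : EqPair Q x y := ⟨by rw [hQx]; exact one_ne_zero, by rw [hQx, hQy], hxL x (Submodule.mem_span_singleton_self x) y hyL⟩
    obtain ⟨hPd, hPn, hPt⟩ := hp.plane h2
    set P := Submodule.span F ({x, y} : Set V) with hP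
    obtain ⟨R, hRW, hRn, hPR, hsup', hd'⟩ := exists_compl hW
      (show P ≤ W from Submodule.span_le.mpr (by rintro _ (rfl | rfl); exacts [x'.2, hLW hyL])) hPn
    have hRt : PlusOn Q R ↔ (IsSquare (-1 : F) ∨ Even h) := by
      rw [← hsup', plusOn_sup hPn hRn hPR ⟨1, hPd⟩ ⟨h, by omega⟩, hPt, Nat.even_add_one] at ht
      by_cases hs : IsSquare (-1 : F) <;> by_cases he : Even h <;> simp [hs, he] at ht ⊢ <;> tauto
    obtain ⟨g, hgi, hg1, hg2⟩ := ih R hRn (by omega) hRt
    have hxR : ∀ r ∈ R, polB Q r x = 0 ∧ polB Q r y = 0 := fun r hr =>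
      ⟨by rw [polB_comm]; exact hPR x (Submodule.subset_span (by simp)) r hr,
       by rw [polB_comm]; exact hPR y (Submodule.subset_span (by simp)) r hr⟩
    have hR : ∀ r ∈ R, (quarterTurn Q x y * g).1 r = g.1 r := fun r hr => by
      rw [orth_mul_apply, quarterTurn_perp (hxR _ (hgi r hr)).1 (hxR _ (hgi r hr)).2]
    have hP' : ∀ a b : F, (quarterTurn Q x y * g).1 (a • x + b • y) = (-b) • x + a • y := fun a b => by
      rw [orth_mul_apply, hg2 _ fun w hw => hPR _ (Submodule.mem_span_pair.mpr ⟨a, b, rfl⟩) w hw, map_add, map_smul,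
        map_smul, quarterTurn_fst h2 hp, quarterTurn_snd h2 hp, smul_neg, neg_smul, add_comm]
    refine ⟨quarterTurn Q x y * g, ?_, ?_, fun u hu => ?_⟩
    · intro w hw
      rw [← hsup'] at hw ⊢
      obtain ⟨p, hp', r, hr, rfl⟩ := Submodule.mem_sup.mp hw
      obtain ⟨a, b, rfl⟩ := mem_pair hp'
      rw [map_add, hR r hr, hP']
      exact Submodule.add_mem_sup (Submodule.mem_span_pair.mpr ⟨_, _, rfl⟩) (hgi r hr)
    · intro w hw
      rw [← hsup'] at hw
      obtain ⟨p, hp', r, hr, rfl⟩ := Submodule.mem_sup.mp hw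
      obtain ⟨a, b, rfl⟩ := mem_pair hp'
      rw [map_add, hR r hr, hP', map_add, hR _ (hgi r hr), hP', hg1 r hr, neg_smul, neg_smul]
      abel
    · rw [orth_mul_apply, hg2 u fun w hw => hu w (hRW hw), quarterTurn_perp (hu x x'.2) (hu y (hLW hyL))]

omit [FiniteDimensional F V] in
lemma i_nonscalar (h2 : (2 : F) ≠ 0) {g : orthGroup Q} (hg : ∀ v, g.1 (g.1 v) = -v) {v : V} (hv : Q v ≠ 0) (z : F) :
    g.1 v ≠ z • v := by
  intro e
  have h1 := g.2 v
  rw [e, qmap_smul] at h1
  have h3 : z * z = 1 := mul_right_cancel₀ hv (by rw [h1, one_mul])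
  have h4 := hg v
  rw [e, map_smul, e, smul_smul, h3, one_smul] at h4
  have h5 : (2 : F) • v = 0 := by rw [two_smul]; exact add_eq_zero_iff_eq_neg.mpr h4
  exact hv (by rw [(smul_eq_zero.mp h5).resolve_left h2, map_zero])

end H47
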