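import Mathlib
import Cfsg.Prelude.Def_GeometricClasses
import Cfsg.Prelude.Def_ClassicalGeometry
import Cfsg.Agent.H47.Symp
import Cfsg.Agent.H49.PrimeOrder
import Cfsg.Agent.H46.AschBasic
import Cfsg.Agent.H49.ExtFieldOver
import Cfsg.Agent.H49.SpBlock

/-!
The symplectic group over an extension field inside the symplectic group.
-/

set_option autoImplicit false

namespace H47

open Matrix
open H48 (sf)

variable {F : Type*} [Field F] {d : ℕ} {E : Type*} [Field E] [Algebra F E] [FiniteDimensional F E]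

/-- Coordinates over the extension field. -/
theorem exists_ext_coords (ρ : E →ₐ[F] Matrix (Fin d ⊕ Fin d) (Fin d ⊕ Fin d) F)
    (hsa : ∀ c x y, sf (ρ c *ᵥ x) y = sf x (ρ c *ᵥ y)) (halt : ∀ c x, sf (ρ c *ᵥ x) x = 0) :
    ∃ (e : ℕ) (L : (Fin e ⊕ Fin e → E) ≃ₗ[F] (Fin d ⊕ Fin d → F)) (τ : E →ₗ[F] F),
      Module.finrank F E * e = d ∧ τ ≠ 0 ∧ (∀ c v, L (c • v) = ρ c *ᵥ L v) ∧
      ∀ u v, sf (L u) (L v) = τ (sf u v) := by
  classical
  let ρe : E →ₐ[F] Module.End F (Fin d ⊕ Fin d → F) :=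
    (Matrix.toLinAlgEquiv' (R := F) (n := Fin d ⊕ Fin d)).toAlgHom.comp ρ
  obtain ⟨τ, hτ⟩ : ∃ τ : E →ₗ[F] F, τ ≠ 0 := exists_ne 0
  obtain ⟨φ, hφ⟩ := H49.exists_extForm ρe hτ
  have hφ' : ∀ c x y, τ (c * φ x y) = sf (ρ c *ᵥ x) y := fun c x y => hφ c x y
  have ext' : ∀ {x y : Fin d ⊕ Fin d → F} {a : E}, (∀ c, τ (c * a) = sf (ρ c *ᵥ x) y) → φ x y = a :=
    fun h => H49.tau_ext hτ fun c => by rw [hφ', h]
  letI : Module E (Fin d ⊕ Fin d → F) := Module.compHom _ ρe.toRingHom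
  have hsmul : ∀ (c : E) v, c • v = ρ c *ᵥ v := fun c v => Matrix.toLin'_apply _ v
  haveI : IsScalarTower F E (Fin d ⊕ Fin d → F) := ⟨fun a c v => by
    rw [hsmul, hsmul, map_smul, Matrix.smul_mulVec]⟩
  haveI : Module.Finite E (Fin d ⊕ Fin d → F) := Module.Finite.of_restrictScalars_finite F E _
  let b := Module.finBasis E (Fin d ⊕ Fin d → F)
  let N := Module.finrank E (Fin d ⊕ Fin d → F)
  let eN : (Fin N → E) ≃ₗ[E] (Fin d ⊕ Fin d → F) := b.equivFun.symm
  let f : (Fin N → E) → (Fin N → E) → E := fun u v => φ (eN u) (eN v)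
  have hskew : ∀ x y : Fin d ⊕ Fin d → F, φ x y = -φ y x := fun x y => ext' fun c => by
    rw [mul_neg, map_neg, hφ', hsa c y x, ← H48.sf_swap]
  have haddl : ∀ x x' y, φ (x + x') y = φ x y + φ x' y := fun x x' y => ext' fun c => by
    rw [mul_add, map_add, hφ', hφ', Matrix.mulVec_add, map_add, LinearMap.add_apply]
  have hsmull : ∀ (a : E) x y, φ (a • x) y = a * φ x y := fun a x y => ext' fun c => by
    rw [← mul_assoc, hφ', hsmul, map_mul, Matrix.mulVec_mulVec]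
  have hf : Cfsg.Geo.IsSymplecticForm f := by
    refine ⟨⟨fun u u' v => by simp only [f, map_add, haddl], fun a u v => by simp only [f, map_smul, hsmull],
      fun u v v' => ?_, fun a u v => ?_⟩, fun u v => hskew _ _, fun u => ext' fun c => by rw [mul_zero, map_zero, halt],
      fun u hu => ?_⟩
    · simp only [f, map_add]
      rw [hskew, haddl, hskew (eN v), hskew (eN v')]; ring
    · simp only [f, map_smul]
      rw [hskew, hsmull, hskew (eN v)]; ring
    · obtain ⟨y, hy⟩ := H48.exists_sf_ne (u := eN u) fun h => hu (eN.injective (by rw [h, map_zero]))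
      have hne : φ (eN u) y ≠ 0 := fun h => hy (by
        have := hφ' 1 (eN u) y
        rwa [h, mul_zero, map_zero, map_one, Matrix.one_mulVec, eq_comm] at this)
      exact ⟨⟨eN.symm y, by simp only [f, LinearEquiv.apply_symm_apply]; rw [hskew]; exact neg_ne_zero.mpr hne⟩,
        ⟨eN.symm y, by simpa [f] using hne⟩⟩
  obtain ⟨e, he⟩ := H46.even_card_of_symplectic hf
  rw [Fintype.card_fin] at he
  obtain ⟨ψ, hψ⟩ := exists_symp_coords (m := e) (by rw [Fintype.card_fin]; omega) hf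
  let L₀ : (Fin e ⊕ Fin e → E) ≃ₗ[E] (Fin d ⊕ Fin d → F) := ψ.symm.trans eN
  have hdim : Module.finrank F E * e = d := by
    have h1 := Module.finrank_mul_finrank F E (Fin d ⊕ Fin d → F)
    have h2 : Module.finrank F (Fin d ⊕ Fin d → F) = d + d := by simp
    change Module.finrank F E * N = _ at h1
    rw [h2, he, mul_add] at h1
    omega
  refine ⟨e, L₀.restrictScalars F, τ, hdim, hτ, fun c v => ?_, fun u v => ?_⟩
  · show L₀ (c • v) = _
    rw [map_smul, hsmul]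
    rfl
  · have h1 : φ (L₀ u) (L₀ v) = sf u v := by
      show f (ψ.symm u) (ψ.symm v) = _
      rw [← hψ, LinearEquiv.apply_symm_apply, LinearEquiv.apply_symm_apply, H48.sympForm_eq_sf]
    have h2 := hφ' 1 (L₀ u) (L₀ v)
    rw [one_mul, map_one, Matrix.one_mulVec, h1] at h2
    exact h2.symm

variable {e : ℕ} {ρ : E →ₐ[F] Matrix (Fin d ⊕ Fin d) (Fin d ⊕ Fin d) F}
  {L : (Fin e ⊕ Fin e → E) ≃ₗ[F] (Fin d ⊕ Fin d → F)} {τ : E →ₗ[F] F}

omit [FiniteDimensional F E] in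
/-- The symplectic group over the extension field, inside the normaliser. -/
theorem exists_ext_embedding (hρ : ∀ c v, L (c • v) = ρ c *ᵥ L v) (hL : ∀ u v, sf (L u) (L v) = τ (sf u v)) :
    ∃ G : Matrix.symplecticGroup (Fin e) E →* GL (Fin d ⊕ Fin d) F, Function.Injective G ∧
      ∀ Y, G Y ∈ Cfsg.spGL d F ∧ G Y ∈ Cfsg.Geo.subalgebraNormalizer ρ.range := by
  classical
  let lin : Matrix.symplecticGroup (Fin e) E → ((Fin d ⊕ Fin d → F) →ₗ[F] (Fin d ⊕ Fin d → F)) := fun Y =>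
    L.toLinearMap ∘ₗ ((Matrix.toLin' (Y : Matrix (Fin e ⊕ Fin e) (Fin e ⊕ Fin e) E)).restrictScalars F) ∘ₗ L.symm.toLinearMap
  have hlin : ∀ Y x, lin Y x = L (Y • L.symm x) := fun Y x => rfl
  let hom : Matrix.symplecticGroup (Fin e) E →* Matrix (Fin d ⊕ Fin d) (Fin d ⊕ Fin d) F :=
    { toFun := fun Y => LinearMap.toMatrix' (lin Y)
      map_one' := by
        refine Matrix.ext_iff_mulVec.2 fun v => ?_
        rw [LinearMap.toMatrix'_mulVec, hlin, one_smul, LinearEquiv.apply_symm_apply, Matrix.one_mulVec]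
      map_mul' := fun Y Z => by
        refine Matrix.ext_iff_mulVec.2 fun v => ?_
        rw [← Matrix.mulVec_mulVec]
        simp only [LinearMap.toMatrix'_mulVec, hlin, LinearEquiv.symm_apply_apply, mul_smul] }
  let G := hom.toHomUnits
  have hG : ∀ Y v, ((G Y : GL (Fin d ⊕ Fin d) F) : Matrix _ _ F) *ᵥ v = L (Y • L.symm v) := fun Y v => by
    show LinearMap.toMatrix' (lin Y) *ᵥ v = _
    rw [LinearMap.toMatrix'_mulVec, hlin]
  refine ⟨G, fun Y Z h => H48.sp_ext fun u => ?_, fun Y => ⟨fun u v => ?_, ?_⟩⟩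
  · apply L.injective
    have h1 := hG Y (L u)
    rw [h, hG Z (L u), LinearEquiv.symm_apply_apply] at h1
    exact h1.symm
  · change sf ((G Y : Matrix (Fin d ⊕ Fin d) (Fin d ⊕ Fin d) F) *ᵥ u) ((G Y : Matrix (Fin d ⊕ Fin d) (Fin d ⊕ Fin d) F) *ᵥ v) = sf u v
    rw [hG, hG, hL, H48.sf_smul_smul, ← hL, LinearEquiv.apply_symm_apply, LinearEquiv.apply_symm_apply]
  · have hc : ∀ c, (G Y : Matrix _ _ F) * ρ c = ρ c * (G Y : Matrix _ _ F) := fun c => by
      refine Matrix.ext_iff_mulVec.2 fun v => ?_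
      obtain ⟨u, rfl⟩ := L.surjective v
      rw [← Matrix.mulVec_mulVec, ← Matrix.mulVec_mulVec, ← hρ, hG, hG, LinearEquiv.symm_apply_apply,
        LinearEquiv.symm_apply_apply, ← hρ, H48.spSmulDef, H48.spSmulDef, Matrix.mulVec_smul]
    intro m
    constructor
    · rintro ⟨c, rfl⟩
      refine ⟨c, ?_⟩
      show ρ c = _
      rw [show (G Y : Matrix _ _ F) * ρ.toRingHom c = (G Y : Matrix _ _ F) * ρ c from rfl, hc, mul_assoc, Units.mul_inv, mul_one]
    · rintro ⟨c, hcm⟩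
      refine ⟨c, ?_⟩
      change ρ c = _ at hcm
      show ρ c = m
      apply (Units.mul_right_inj (G Y)).1
      rw [hc, hcm, mul_assoc, Units.inv_mul, mul_one]

omit [FiniteDimensional F E] in
/-- An element centralising the field, over the extension field. -/
theorem exists_ext_element (hτ : τ ≠ 0) (hρ : ∀ c v, L (c • v) = ρ c *ᵥ L v) (hL : ∀ u v, sf (L u) (L v) = τ (sf u v))
    {y : GL (Fin d ⊕ Fin d) F} (hy : y ∈ Cfsg.spGL d F)
    (hyc : ∀ c, (y : Matrix _ _ F) * ρ c = ρ c * (y : Matrix _ _ F)) :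
    ∃ Y : Matrix.symplecticGroup (Fin e) E, ∀ u, L (Y • u) = (y : Matrix _ _ F) *ᵥ L u := by
  classical
  let f : (Fin e ⊕ Fin e → E) →ₗ[E] (Fin e ⊕ Fin e → E) :=
    { toFun := fun u => L.symm ((y : Matrix _ _ F) *ᵥ L u)
      map_add' := fun u v => by rw [map_add, Matrix.mulVec_add, map_add]
      map_smul' := fun c u => by
        apply L.injective
        rw [RingHom.id_apply, LinearEquiv.apply_symm_apply, hρ, hρ, LinearEquiv.apply_symm_apply, Matrix.mulVec_mulVec, hyc,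
          Matrix.mulVec_mulVec] }
  have hpres : ∀ u v : Fin d ⊕ Fin d → F, sf ((y : Matrix (Fin d ⊕ Fin d) (Fin d ⊕ Fin d) F) *ᵥ u)
      ((y : Matrix (Fin d ⊕ Fin d) (Fin d ⊕ Fin d) F) *ᵥ v) = sf u v := hy
  have hmem : LinearMap.toMatrix' f ∈ Matrix.symplecticGroup (Fin e) E := by
    rw [H48.mem_symplectic_iff]
    intro u v
    rw [LinearMap.toMatrix'_mulVec, LinearMap.toMatrix'_mulVec]
    refine H49.tau_ext hτ fun c => ?_
    have e1 : ∀ a b : Fin e ⊕ Fin e → E, c * sf a b = sf (c • a) b := fun a b => by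
      rw [map_smul, LinearMap.smul_apply, smul_eq_mul]
    rw [e1, e1, ← map_smul f, ← hL, ← hL]
    show sf (L (L.symm _)) (L (L.symm _)) = _
    rw [LinearEquiv.apply_symm_apply, LinearEquiv.apply_symm_apply, hpres]
  refine ⟨⟨_, hmem⟩, fun u => ?_⟩
  rw [H48.spSmulDef]
  show L (LinearMap.toMatrix' f *ᵥ u) = _
  rw [LinearMap.toMatrix'_mulVec]
  exact L.apply_symm_apply _

omit [FiniteDimensional F E] in
/-- Moved spaces, over both fields. -/
lemma rank_ext {y : GL (Fin d ⊕ Fin d) F} {Y : Matrix.symplecticGroup (Fin e) E}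
    (hY : ∀ u, L (Y • u) = (y : Matrix _ _ F) *ᵥ L u) :
    ((y : Matrix (Fin d ⊕ Fin d) (Fin d ⊕ Fin d) F) - 1).rank =
      Module.finrank F E * ((Y : Matrix (Fin e ⊕ Fin e) (Fin e ⊕ Fin e) E) - 1).rank := by
  rw [Matrix.rank, Matrix.rank]
  set R := LinearMap.range ((Y : Matrix (Fin e ⊕ Fin e) (Fin e ⊕ Fin e) E) - 1).mulVecLin with hR
  rw [Module.finrank_mul_finrank F E R]
  have e1 : (R.restrictScalars F).map L.toLinearMap =
      LinearMap.range ((y : Matrix (Fin d ⊕ Fin d) (Fin d ⊕ Fin d) F) - 1).mulVecLin := by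
    ext v
    constructor
    · rintro ⟨u, ⟨w, rfl⟩, rfl⟩
      refine ⟨L w, ?_⟩
      rw [Matrix.mulVecLin_apply, Matrix.sub_mulVec, Matrix.one_mulVec, LinearEquiv.coe_coe, Matrix.mulVecLin_apply,
        Matrix.sub_mulVec, Matrix.one_mulVec, ← hY, H48.spSmulDef, map_sub]
    · rintro ⟨w, rfl⟩
      obtain ⟨w, rfl⟩ := L.surjective w
      refine ⟨(Y : Matrix (Fin e ⊕ Fin e) (Fin e ⊕ Fin e) E) *ᵥ w - w, ⟨w, by simp [Matrix.sub_mulVec]⟩, ?_⟩
      rw [LinearEquiv.coe_coe, Matrix.mulVecLin_apply, Matrix.sub_mulVec, Matrix.one_mulVec, ← hY, H48.spSmulDef, map_sub]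
  rw [← e1, LinearEquiv.finrank_map_eq]
  rfl

end H47
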