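import Mathlib
import Cfsg.Prelude.Def_GeometricClasses

set_option autoImplicit false
open scoped MatrixGroups Matrix
open Matrix

namespace H47

variable {F : Type*} [Field F]

lemma two_ch (A : Matrix (Fin 2) (Fin 2) F) :
    A * A = A.trace • A - A.det • (1 : Matrix (Fin 2) (Fin 2) F) := by
  ext i j
  fin_cases i <;> fin_cases j <;>
    simp [Matrix.mul_apply, Fin.sum_univ_two, Matrix.trace_fin_two, Matrix.det_fin_two] <;> ring

lemma two_commutant {M A B : Matrix (Fin 2) (Fin 2) F} (hA : M * A = A * M) (hB : M * B = B * M)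
    (hne : A * B ≠ B * A) : ∃ c : F, M = c • (1 : Matrix (Fin 2) (Fin 2) F) := by
  have e := fun i j => congrFun (congrFun hA i) j
  have f := fun i j => congrFun (congrFun hB i) j
  simp only [Matrix.mul_apply, Fin.sum_univ_two] at e f
  have a00 := e 0 0; have a01 := e 0 1; have a10 := e 1 0
  have b00 := f 0 0; have b01 := f 0 1; have b10 := f 1 0
  by_contra hc
  apply hne
  have key : M 0 1 ≠ 0 ∨ M 1 0 ≠ 0 ∨ M 0 0 - M 1 1 ≠ 0 := by
    by_contra h
    push Not at h
    obtain ⟨h1, h2, h3⟩ := h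
    refine hc ⟨M 0 0, ?_⟩
    ext i j
    fin_cases i <;> fin_cases j <;> simp [h1, h2]
    linear_combination (norm := ring_nf) -h3
  have cancel : ∀ t : F, t ≠ 0 → (∀ i j, t * (A * B) i j = t * (B * A) i j) → A * B = B * A := by
    intro t ht h
    ext i j
    exact mul_left_cancel₀ ht (h i j)
  rcases key with h | h | h
  · refine cancel _ h fun i j => ?_
    fin_cases i <;> fin_cases j <;> simp [Matrix.mul_apply, Fin.sum_univ_two] <;> grind
  · refine cancel _ h fun i j => ?_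
    fin_cases i <;> fin_cases j <;> simp [Matrix.mul_apply, Fin.sum_univ_two] <;> grind
  · refine cancel _ h fun i j => ?_
    fin_cases i <;> fin_cases j <;> simp [Matrix.mul_apply, Fin.sum_univ_two] <;> grind

lemma two_companion {A : Matrix (Fin 2) (Fin 2) F} (hA : ∀ c : F, A ≠ c • (1 : Matrix (Fin 2) (Fin 2) F)) :
    ∃ P : Matrix (Fin 2) (Fin 2) F, P.det ≠ 0 ∧ A * P = P * !![0, -A.det; 1, A.trace] := by
  have key : ∃ x y : F, x * (A 1 0 * x + A 1 1 * y) - y * (A 0 0 * x + A 0 1 * y) ≠ 0 := by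
    by_contra h
    push Not at h
    have h1 := h 1 0
    have h2 := h 0 1
    have h3 := h 1 1
    refine hA (A 0 0) ?_
    ext i j
    fin_cases i <;> fin_cases j <;> simp <;> grind
  obtain ⟨x, y, hxy⟩ := key
  refine ⟨!![x, A 0 0 * x + A 0 1 * y; y, A 1 0 * x + A 1 1 * y], ?_, ?_⟩
  · rw [Matrix.det_fin_two]
    simp only [Matrix.of_apply, Matrix.cons_val', Matrix.cons_val_zero, Matrix.cons_val_one,
      Matrix.empty_val', Matrix.cons_val_fin_one]
    exact fun e => hxy (by linear_combination e)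
  · ext i j
    fin_cases i <;> fin_cases j <;>
      simp [Matrix.mul_apply, Fin.sum_univ_two, Matrix.trace_fin_two, Matrix.det_fin_two] <;> ring

lemma two_norm_surjective [Fintype F] (h2 : (2 : F) ≠ 0) {s : F} (hs : s * s ≠ 4) (t : F) :
    ∃ a b : F, a * a + a * b * s + b * b = t := by
  classical
  have h4 : (4 : F) ≠ 0 := by
    have : (4 : F) = 2 * 2 := by norm_num
    rw [this]; exact mul_ne_zero h2 h2
  obtain ⟨u, hu⟩ : ∃ u : F, u = 1 - s * s / 4 := ⟨_, rfl⟩
  have hu0 : u ≠ 0 := by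
    rw [hu]; intro h
    apply hs
    field_simp at h
    linear_combination -h
  have d1 : (Polynomial.X ^ 2 - Polynomial.C t : Polynomial F).degree = 2 :=
    Polynomial.degree_X_pow_sub_C (by norm_num) t
  have d2 : (Polynomial.C u * Polynomial.X ^ 2 : Polynomial F).degree = 2 :=
    Polynomial.degree_C_mul_X_pow 2 hu0
  have hodd : Fintype.card F % 2 = 1 := by
    apply FiniteField.odd_card_of_char_ne_two
    intro h
    apply h2
    have := CharP.cast_eq_zero F (ringChar F)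
    rw [h] at this
    exact_mod_cast this
  obtain ⟨α, β, h⟩ := FiniteField.exists_root_sum_quadratic d1 d2 hodd
  simp only [Polynomial.eval_sub, Polynomial.eval_pow, Polynomial.eval_X, Polynomial.eval_C,
    Polynomial.eval_mul] at h
  refine ⟨α - β * s / 2, β, ?_⟩
  rw [hu] at h
  field_simp at h ⊢
  linear_combination h

/-- Two non-central elements of SL₂ with the same trace `s`, `s² ≠ 4`, are conjugate in SL₂. -/
lemma two_sl_conj [Fintype F] (h2 : (2 : F) ≠ 0) {A B : GL (Fin 2) F}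
    (hA : (A : Matrix (Fin 2) (Fin 2) F).det = 1) (hB : (B : Matrix (Fin 2) (Fin 2) F).det = 1)
    (htr : (A : Matrix (Fin 2) (Fin 2) F).trace = (B : Matrix (Fin 2) (Fin 2) F).trace)
    (hs : (A : Matrix (Fin 2) (Fin 2) F).trace * (A : Matrix (Fin 2) (Fin 2) F).trace ≠ 4) :
    ∃ g ∈ Cfsg.Geo.specialLinear (Fin 2) F, g⁻¹ * A * g = B := by
  have nonsc : ∀ M : Matrix (Fin 2) (Fin 2) F, M.det = 1 → M.trace * M.trace ≠ 4 →
      ∀ c : F, M ≠ c • (1 : Matrix (Fin 2) (Fin 2) F) := by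
    intro M hd ht c hc
    subst hc
    simp [Matrix.det_smul, Matrix.trace_smul] at hd ht
    apply ht
    rcases hd with rfl | rfl <;> norm_num
  obtain ⟨P, hP, hAP⟩ := two_companion (nonsc _ hA hs)
  obtain ⟨P', hP', hBP⟩ := two_companion (nonsc _ hB (htr ▸ hs))
  rw [hA] at hAP
  rw [hB, ← htr] at hBP
  obtain ⟨S, hS⟩ : ∃ S : GL (Fin 2) F, (S : Matrix (Fin 2) (Fin 2) F) = P :=
    ⟨Matrix.GeneralLinearGroup.mkOfDetNeZero P hP, rfl⟩
  obtain ⟨S', hS'⟩ : ∃ S : GL (Fin 2) F, (S : Matrix (Fin 2) (Fin 2) F) = P' :=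
    ⟨Matrix.GeneralLinearGroup.mkOfDetNeZero P' hP', rfl⟩
  set C : Matrix (Fin 2) (Fin 2) F := !![0, -1; 1, (A : Matrix (Fin 2) (Fin 2) F).trace] with hC
  set g₀ : GL (Fin 2) F := S * S'⁻¹ with hg₀
  have hconj : (A : Matrix (Fin 2) (Fin 2) F) * (g₀ : Matrix (Fin 2) (Fin 2) F)
      = (g₀ : Matrix (Fin 2) (Fin 2) F) * B := by
    have e : C * ((S'⁻¹ : GL (Fin 2) F) : Matrix (Fin 2) (Fin 2) F)
        = ((S'⁻¹ : GL (Fin 2) F) : Matrix (Fin 2) (Fin 2) F) * B := by
      calc C * ((S'⁻¹ : GL (Fin 2) F) : Matrix (Fin 2) (Fin 2) F)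
          = ((S'⁻¹ : GL (Fin 2) F) : Matrix (Fin 2) (Fin 2) F) * (P' * C) *
              ((S'⁻¹ : GL (Fin 2) F) : Matrix (Fin 2) (Fin 2) F) := by
            rw [← hS', ← Matrix.mul_assoc, ← Units.val_mul, inv_mul_cancel, Units.val_one,
              Matrix.one_mul]
        _ = _ := by
            rw [← hBP, ← hS', Matrix.mul_assoc, Matrix.mul_assoc, ← Units.val_mul, mul_inv_cancel,
              Units.val_one, Matrix.mul_one]
    rw [hg₀, Units.val_mul, ← Matrix.mul_assoc, hS, hAP, Matrix.mul_assoc, e, Matrix.mul_assoc]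
  have hd0 : (g₀ : Matrix (Fin 2) (Fin 2) F).det ≠ 0 := (Matrix.isUnits_det_units g₀).ne_zero
  obtain ⟨a, b, hab⟩ := two_norm_surjective h2 hs ((g₀ : Matrix (Fin 2) (Fin 2) F).det)⁻¹
  set M : Matrix (Fin 2) (Fin 2) F := a • 1 + b • (A : Matrix (Fin 2) (Fin 2) F) with hM
  have hMd : M.det = ((g₀ : Matrix (Fin 2) (Fin 2) F).det)⁻¹ := by
    rw [← hab, hM, Matrix.det_fin_two]
    have hd := hA
    rw [Matrix.det_fin_two] at hd
    simp [Matrix.trace_fin_two]
    linear_combination (b * b) * hd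
  obtain ⟨T, hT⟩ : ∃ S : GL (Fin 2) F, (S : Matrix (Fin 2) (Fin 2) F) = M :=
    ⟨Matrix.GeneralLinearGroup.mkOfDetNeZero M (hMd ▸ inv_ne_zero hd0), rfl⟩
  refine ⟨T * g₀, ?_, ?_⟩
  · rw [Cfsg.Geo.specialLinear, MonoidHom.mem_ker]
    apply Units.ext
    rw [Matrix.GeneralLinearGroup.val_det_apply, Units.val_mul, Matrix.det_mul, hT, hMd,
      Units.val_one, inv_mul_cancel₀ hd0]
  · have : A * (T * g₀) = (T * g₀) * B := by
      apply Units.ext
      simp only [Units.val_mul, hT]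
      rw [← Matrix.mul_assoc, show (A : Matrix (Fin 2) (Fin 2) F) * M = M * A by
        simp [hM, mul_add, add_mul], Matrix.mul_assoc, hconj, Matrix.mul_assoc]
    rw [mul_assoc, this, ← mul_assoc, inv_mul_cancel, one_mul]

end H47
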