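import Mathlib
import Cfsg.Prelude.Def_GeometricClasses
import Cfsg.Agent.H42.FieldSubalgebra
import Cfsg.Agent.H47.Two

/-!
Field subalgebras of matrix algebras over finite fields: conjugacy by SL, and the quadratic case.
-/

set_option autoImplicit false

namespace H47

open Matrix

variable {F : Type*} [Field F] {n : ℕ}

/-- Coordinates of a matrix representation of a field. -/
lemma exists_rep_frame {E : Type*} [Field E] [Algebra F E] [FiniteDimensional F E]
    (ρ : E →ₐ[F] Matrix (Fin n) (Fin n) F) :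
    Module.finrank F E ∣ n ∧
    ∃ Φ : (Fin (n / Module.finrank F E) → E) ≃ₗ[F] (Fin n → F),
      ∀ e c, Φ (e • c) = ρ e *ᵥ Φ c := by
  letI : Module E (Fin n → F) :=
    Module.compHom (Fin n → F) ((Matrix.toLinAlgEquiv' (R := F) (n := Fin n)).toAlgHom.comp ρ).toRingHom
  have hsmul : ∀ (y : E) (v : Fin n → F), y • v = ρ y *ᵥ v :=
    fun y v => Matrix.toLin'_apply _ v
  haveI : IsScalarTower F E (Fin n → F) := ⟨fun c y v => by
    rw [hsmul, hsmul, map_smul, Matrix.smul_mulVec]⟩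
  haveI : Module.Finite E (Fin n → F) := Module.Finite.of_restrictScalars_finite F E _
  have hmul : Module.finrank F E * Module.finrank E (Fin n → F) = n := by
    rw [Module.finrank_mul_finrank, Module.finrank_fin_fun]
  have hpos : 0 < Module.finrank F E := Module.finrank_pos
  refine ⟨⟨_, hmul.symm⟩, ?_⟩
  have hdim : Module.finrank E (Fin n → F) = n / Module.finrank F E :=
    Nat.eq_div_of_mul_eq_right hpos.ne' hmul
  let b := Module.finBasisOfFinrankEq E (Fin n → F) hdim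
  exact ⟨b.equivFun.symm.restrictScalars F, fun e c =>
    (b.equivFun.symm.map_smul e c).trans (hsmul _ _)⟩

/-- Two representations of a finite field are conjugate by an element of SL. -/
theorem exists_sl_intertwine [Fintype F] {E : Type*} [Field E] [Algebra F E] [FiniteDimensional F E]
    (hn : 0 < n) (ρ₁ ρ₂ : E →ₐ[F] Matrix (Fin n) (Fin n) F) :
    ∃ P : GL (Fin n) F, (P : Matrix (Fin n) (Fin n) F).det = 1 ∧
      ∀ e, (P : Matrix (Fin n) (Fin n) F) * ρ₁ e = ρ₂ e * (P : Matrix (Fin n) (Fin n) F) := by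
  classical
  obtain ⟨hd, Φ₁, hΦ₁⟩ := exists_rep_frame ρ₁
  obtain ⟨-, Φ₂, hΦ₂⟩ := exists_rep_frame ρ₂
  haveI : Finite E := Module.finite_of_finite F
  have hm : 0 < n / Module.finrank F E :=
    Nat.div_pos (Nat.le_of_dvd hn hd) Module.finrank_pos
  set L₀ : (Fin n → F) ≃ₗ[F] (Fin n → F) := Φ₁.symm.trans Φ₂ with hL₀
  set δ := LinearMap.det (L₀ : (Fin n → F) →ₗ[F] (Fin n → F)) with hδ
  have hδ0 : δ ≠ 0 := (LinearEquiv.isUnit_det' L₀).ne_zero
  obtain ⟨a, ha⟩ := FiniteField.norm_surjective F E δ⁻¹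
  set c : Fin (n / Module.finrank F E) → E := fun i => if i = ⟨0, hm⟩ then a else 1 with hc
  set D : (Fin (n / Module.finrank F E) → E) →ₗ[F] (Fin (n / Module.finrank F E) → E) :=
    LinearMap.pi fun i => (Algebra.lmul F E (c i)).comp (LinearMap.proj i) with hD
  have hdetD : LinearMap.det D = δ⁻¹ := by
    rw [hD, LinearMap.det_pi]
    simp only [← Algebra.norm_apply, hc, apply_ite (Algebra.norm F), map_one,
      Finset.prod_ite_eq', Finset.mem_univ, if_pos, ha]
  set L : (Fin n → F) →ₗ[F] (Fin n → F) :=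
    (L₀ : (Fin n → F) →ₗ[F] (Fin n → F)) ∘ₗ ((Φ₁ : _ →ₗ[F] (Fin n → F)) ∘ₗ D ∘ₗ (Φ₁.symm : (Fin n → F) →ₗ[F] _))
    with hL
  have hdet : (LinearMap.toMatrix' L).det = 1 := by
    rw [LinearMap.det_toMatrix', hL, LinearMap.det_comp, LinearMap.det_conj, hdetD, ← hδ,
      mul_inv_cancel₀ hδ0]
  refine ⟨Matrix.GeneralLinearGroup.mkOfDetNeZero _ (by rw [hdet]; exact one_ne_zero), hdet, fun e => ?_⟩
  show LinearMap.toMatrix' L * ρ₁ e = ρ₂ e * LinearMap.toMatrix' L
  apply Matrix.toLin'.injective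
  refine LinearMap.ext fun v => ?_
  simp only [Matrix.toLin'_apply, ← Matrix.mulVec_mulVec, LinearMap.toMatrix'_mulVec]
  obtain ⟨w, rfl⟩ := Φ₁.surjective v
  rw [← hΦ₁]
  have h1 : ∀ u, L (Φ₁ u) = Φ₂ (D u) := fun u => by simp [hL, hL₀]
  rw [h1, h1, ← hΦ₂]
  congr 1
  funext i
  simp [hD, mul_left_comm]

/-- Field subalgebras of the same degree are conjugate by an element of SL. -/
theorem fieldSubalgebra_sl_conj [Fintype F] (hn : 0 < n) {r : ℕ} (hr : 0 < r)
    {K K' : Subalgebra F (Matrix (Fin n) (Fin n) F)}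
    (hK : Cfsg.Geo.IsFieldSubalgebra r K) (hK' : Cfsg.Geo.IsFieldSubalgebra r K') :
    ∃ P : GL (Fin n) F, (P : Matrix (Fin n) (Fin n) F).det = 1 ∧
      ∀ k, k ∈ K ↔ (P : Matrix (Fin n) (Fin n) F) * k * ((P⁻¹ : GL (Fin n) F) : Matrix (Fin n) (Fin n) F) ∈ K' := by
  haveI : NeZero n := ⟨hn.ne'⟩
  haveI : NeZero r := ⟨hr.ne'⟩
  letI : Field ↥K := (H42.isField_of_isFieldSubalgebra hK).toField
  letI : Field ↥K' := (H42.isField_of_isFieldSubalgebra hK').toField
  obtain ⟨p, hp⟩ := CharP.exists F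
  haveI : Fact p.Prime := ⟨CharP.char_is_prime F p⟩
  let σ : ↥K ≃ₐ[F] ↥K' := (FiniteField.algEquivExtension F p r ↥K hK.finrank_eq).trans
    (FiniteField.algEquivExtension F p r ↥K' hK'.finrank_eq).symm
  obtain ⟨P, hP1, hP⟩ := exists_sl_intertwine hn K.val (K'.val.comp σ.toAlgHom)
  refine ⟨P, hP1, fun k => ⟨fun hk => ?_, fun hk => ?_⟩⟩
  · have h := hP ⟨k, hk⟩
    simp only [Subalgebra.coe_val] at h
    rw [h, mul_assoc, ← Units.val_mul, mul_inv_cancel, Units.val_one, mul_one]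
    exact (σ ⟨k, hk⟩).2
  · obtain ⟨e, he⟩ := σ.surjective ⟨_, hk⟩
    have h := hP e
    change (P : Matrix (Fin n) (Fin n) F) * (e : Matrix (Fin n) (Fin n) F) = (σ e : Matrix (Fin n) (Fin n) F) * _ at h
    rw [he] at h
    dsimp only at h
    rw [mul_assoc, ← Units.val_mul, inv_mul_cancel, Units.val_one, mul_one, Units.mul_right_inj] at h
    exact h ▸ e.2

/-- An element normalising some field subalgebra of degree `r` has an SL-conjugate normalising
a given one. -/
theorem exists_sl_conj_mem_normalizer [Fintype F] (hn : 0 < n) {r : ℕ} (hr : 0 < r)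
    {K K' : Subalgebra F (Matrix (Fin n) (Fin n) F)}
    (hK : Cfsg.Geo.IsFieldSubalgebra r K) (hK' : Cfsg.Geo.IsFieldSubalgebra r K')
    {x : GL (Fin n) F} (hx : x ∈ Cfsg.Geo.subalgebraNormalizer K') :
    ∃ P : GL (Fin n) F, (P : Matrix (Fin n) (Fin n) F).det = 1 ∧
      P⁻¹ * x * P ∈ Cfsg.Geo.subalgebraNormalizer K := by
  obtain ⟨P, hP1, hP⟩ := fieldSubalgebra_sl_conj hn hr hK hK'
  refine ⟨P, hP1, fun k => ?_⟩
  rw [hP k, hx, hP ((P⁻¹ * x * P : GL (Fin n) F) * k * ((P⁻¹ * x * P)⁻¹ : GL (Fin n) F))]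
  simp [mul_assoc, _root_.mul_inv_rev]

/-- The quadratic field subalgebra generated by a matrix without eigenvector. -/
theorem exists_quadratic [NeZero n] {J : Matrix (Fin n) (Fin n) F} {t u : F}
    (hJ : J * J = t • J + u • 1) (hev : ∀ (c : F) (v : Fin n → F), J *ᵥ v = c • v → v = 0) :
    ∃ K : Subalgebra F (Matrix (Fin n) (Fin n) F), Cfsg.Geo.IsFieldSubalgebra 2 K ∧
      ∀ g : GL (Fin n) F, (∃ a b : F, (g : Matrix (Fin n) (Fin n) F) * J = (a • 1 + b • J) * g) →
        g ∈ Cfsg.Geo.subalgebraNormalizer K := by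
  classical
  set S : Submodule F (Matrix (Fin n) (Fin n) F) := Submodule.span F {1, J} with hS
  have hmemS : ∀ y, y ∈ S ↔ ∃ a b : F, a • 1 + b • J = y := fun y => Submodule.mem_span_pair
  have hmul : ∀ a b c d : F, (a • 1 + b • J) * (c • 1 + d • J)
      = (a * c + b * d * u) • 1 + (a * d + b * c + b * d * t) • J := by
    intro a b c d
    simp only [add_mul, mul_add, smul_mul_assoc, mul_smul_comm, one_mul, mul_one, hJ, smul_add,
      smul_smul]
    match_scalars <;> ring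
  let K : Subalgebra F (Matrix (Fin n) (Fin n) F) := S.toSubalgebra
    ((hmemS 1).2 ⟨1, 0, by simp⟩) (by
      intro x y hx hy
      obtain ⟨a, b, rfl⟩ := (hmemS _).1 hx
      obtain ⟨c, d, rfl⟩ := (hmemS _).1 hy
      exact (hmemS _).2 ⟨_, _, (hmul a b c d).symm⟩)
  have hmem : ∀ y, y ∈ K ↔ ∃ a b : F, a • 1 + b • J = y := hmemS
  have hinj : ∀ a b : F, (a ≠ 0 ∨ b ≠ 0) → ∀ v, (a • 1 + b • J : Matrix (Fin n) (Fin n) F) *ᵥ v = 0 → v = 0 := by
    intro a b hab v hv
    rw [Matrix.add_mulVec, Matrix.smul_mulVec, Matrix.smul_mulVec, Matrix.one_mulVec] at hv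
    rcases eq_or_ne b 0 with rfl | hb
    · rw [zero_smul, add_zero] at hv
      exact (smul_eq_zero.1 hv).resolve_left (hab.resolve_right (by simp))
    · refine hev (-b⁻¹ * a) v ?_
      have h2 : b • (J *ᵥ v) = -(a • v) := eq_neg_of_add_eq_zero_right hv
      rw [← inv_smul_smul₀ hb (J *ᵥ v), h2, smul_neg, smul_smul, neg_mul, neg_smul]
  have hli : LinearIndependent F ![(1 : Matrix (Fin n) (Fin n) F), J] := by
    rw [LinearIndependent.pair_iff]
    intro a b hab
    by_contra hne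
    have h1 := hinj a b (by tauto) (Pi.single 0 1) (by rw [hab, Matrix.zero_mulVec])
    simpa using congrFun h1 0
  refine ⟨K, ⟨?_, ?_, ?_⟩, fun g hg => ?_⟩
  · intro x hx y hy
    obtain ⟨a, b, rfl⟩ := (hmem _).1 hx
    obtain ⟨c, d, rfl⟩ := (hmem _).1 hy
    rw [hmul, hmul]; match_scalars <;> ring
  · intro x hx hx0
    obtain ⟨a, b, rfl⟩ := (hmem _).1 hx
    have hab : a ≠ 0 ∨ b ≠ 0 := by
      by_contra h; push Not at h; exact hx0 (by simp [h.1, h.2])
    set s := a * (a + b * t) + b * -b * u with hs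
    have hxy : (a • 1 + b • J) * ((a + b * t) • 1 + (-b) • J) = s • (1 : Matrix (Fin n) (Fin n) F) := by
      rw [hmul]; match_scalars <;> simp [hs] <;> ring
    have hs0 : s ≠ 0 := by
      intro h0
      have hab' : a + b * t ≠ 0 ∨ -b ≠ 0 := by
        rcases eq_or_ne b 0 with rfl | hb
        · left; simpa using hab.resolve_right (by simp)
        · right; exact neg_ne_zero.2 hb
      have := hinj _ _ hab' (Pi.single 0 1) (hinj a b hab _ (by
        rw [Matrix.mulVec_mulVec, hxy, h0, zero_smul, Matrix.zero_mulVec]))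
      simpa using congrFun this 0
    refine ⟨s⁻¹ • ((a + b * t) • 1 + (-b) • J), ?_, ?_⟩
    · exact K.smul_mem ((hmem _).2 ⟨_, _, rfl⟩) _
    · rw [mul_smul_comm, hxy, inv_smul_smul₀ hs0]
  · show Module.finrank F ↥S = 2
    have h := finrank_span_eq_card hli
    rw [Fintype.card_fin] at h
    refine Eq.trans ?_ h
    rw [hS]
    have hr : Set.range ![(1 : Matrix (Fin n) (Fin n) F), J] = {1, J} := by
      simp [Matrix.range_cons, Set.pair_comm]
    rw [hr]
  · obtain ⟨a, b, hab⟩ := hg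
    let φ : Matrix (Fin n) (Fin n) F →ₗ[F] Matrix (Fin n) (Fin n) F :=
      { toFun := fun k => (g : Matrix (Fin n) (Fin n) F) * k * ((g⁻¹ : GL (Fin n) F) : Matrix (Fin n) (Fin n) F)
        map_add' := fun x y => by simp [mul_add, add_mul]
        map_smul' := fun c x => by simp }
    have hφinj : Function.Injective φ := by
      intro x y h
      have h' := congrArg (fun m => ((g⁻¹ : GL (Fin n) F) : Matrix (Fin n) (Fin n) F) * m * (g : Matrix (Fin n) (Fin n) F)) h
      simp only [φ, LinearMap.coe_mk, AddHom.coe_mk] at h'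
      simpa [mul_assoc] using h'
    have hle : S.map φ ≤ S := by
      rw [hS, Submodule.map_span_le]
      intro y hy
      rcases hy with hy | hy
      · subst hy; simpa [φ] using Submodule.subset_span (by simp)
      · rw [Set.mem_singleton_iff] at hy
        subst hy
        refine (hmemS _).2 ⟨a, b, ?_⟩
        show _ = (g : Matrix (Fin n) (Fin n) F) * _ * _
        rw [hab, mul_assoc, ← Units.val_mul, mul_inv_cancel, Units.val_one, mul_one]
    have heq : S.map φ = S := Submodule.eq_of_le_of_finrank_le hle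
      (Submodule.equivMapOfInjective φ hφinj S).finrank_eq.le
    intro k
    constructor
    · intro hk
      exact hle ⟨k, hk, rfl⟩
    · intro hk
      have hk' : φ k ∈ S.map φ := by rw [heq]; exact hk
      obtain ⟨k', hk1, hk2⟩ := hk'
      exact hφinj hk2 ▸ hk1

/-- For `n ≥ 3`, a scalar multiple of `1 + (rank one)` never normalises a quadratic field subalgebra. -/
theorem rankOne_not_mem_normalizer (hn : 3 ≤ n) {K : Subalgebra F (Matrix (Fin n) (Fin n) F)}
    (hK : Cfsg.Geo.IsFieldSubalgebra 2 K) {g : GL (Fin n) F} {c : F} (hc : c ≠ 0)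
    {u w : Fin n → F} (hu : u ≠ 0) (hw : w ≠ 0)
    (hg : (g : Matrix (Fin n) (Fin n) F) = c • (1 + Matrix.vecMulVec u w)) :
    g ∉ Cfsg.Geo.subalgebraNormalizer K := by
  haveI : NeZero n := ⟨by omega⟩
  intro hgK
  have hinj : ∀ x ∈ K, x ≠ 0 → ∀ v, x *ᵥ v = 0 → v = 0 := by
    intro x hx hx0 v hv
    obtain ⟨y, -, hy⟩ := hK.inv x hx hx0
    have hyx : y * x = 1 := mul_eq_one_comm.1 hy
    rw [← Matrix.one_mulVec v, ← hyx, ← Matrix.mulVec_mulVec, hv, Matrix.mulVec_zero]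
  obtain ⟨J, hJ, hJs⟩ : ∃ J ∈ K, ∀ a : F, J ≠ a • 1 := by
    by_contra h
    push Not at h
    have hb : K = ⊥ := eq_bot_iff.2 fun x hx => by
      obtain ⟨a, ha⟩ := h x hx
      exact Algebra.mem_bot.2 ⟨a, by rw [ha, Algebra.algebraMap_eq_smul_one]⟩
    have h2 := hK.finrank_eq
    rw [hb, Subalgebra.finrank_bot] at h2
    omega
  set J' := (g : Matrix (Fin n) (Fin n) F) * J * ((g⁻¹ : GL (Fin n) F) : Matrix (Fin n) (Fin n) F) with hJ'
  have hJ'K : J' ∈ K := (hgK J).1 hJ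
  have key : ∀ v, J *ᵥ v + (w ⬝ᵥ (J *ᵥ v)) • u = J' *ᵥ v + (w ⬝ᵥ v) • (J' *ᵥ u) := by
    intro v
    have h : (g : Matrix (Fin n) (Fin n) F) * J = J' * g := by
      rw [hJ', mul_assoc, ← Units.val_mul, inv_mul_cancel, Units.val_one, mul_one]
    rw [hg, smul_mul_assoc, mul_smul_comm] at h
    have h2 := congrArg (fun m => m *ᵥ v) (smul_right_injective _ hc h)
    simpa [Matrix.add_mulVec, ← Matrix.mulVec_mulVec, Matrix.vecMulVec_mulVec, Matrix.mulVec_add,
      Matrix.mulVec_smul] using h2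
  obtain ⟨v, hv0, hv1, hv2⟩ : ∃ v, v ≠ 0 ∧ w ⬝ᵥ v = 0 ∧ w ⬝ᵥ (J *ᵥ v) = 0 := by
    let T : (Fin n → F) →ₗ[F] (Fin 2 → F) :=
      Matrix.toLin' (Matrix.of ![w, w ᵥ* J])
    obtain ⟨v, hv, hv0⟩ := Submodule.exists_mem_ne_zero_of_ne_bot
      (LinearMap.ker_ne_bot_of_finrank_lt (f := T) (by simp; omega))
    refine ⟨v, hv0, ?_, ?_⟩
    · simpa [T, Matrix.mulVec] using congrFun (LinearMap.mem_ker.1 hv) 0
    · rw [Matrix.dotProduct_mulVec]
      simpa [T, Matrix.mulVec] using congrFun (LinearMap.mem_ker.1 hv) 1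
  have hJJ : J' = J := by
    by_contra hne
    refine hv0 (hinj _ (K.sub_mem hJ'K hJ) (sub_ne_zero.2 hne) v ?_)
    have := key v
    rw [hv1, hv2, zero_smul, zero_smul, add_zero, add_zero] at this
    rw [Matrix.sub_mulVec, this, sub_self]
  rw [hJJ] at key
  obtain ⟨i, hi⟩ := Function.ne_iff.1 hw
  set v₁ : Fin n → F := (w i)⁻¹ • Pi.single i 1 with hv₁
  have hwv : w ⬝ᵥ v₁ = 1 := by
    rw [hv₁, dotProduct_smul, dotProduct_single, mul_one, smul_eq_mul, inv_mul_cancel₀ hi]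
  have h3 := key v₁
  rw [hwv, one_smul, add_right_inj] at h3
  have hJne : J - (w ⬝ᵥ (J *ᵥ v₁)) • 1 ≠ 0 := sub_ne_zero.2 (hJs _)
  refine hu (hinj _ (K.sub_mem hJ (K.smul_mem K.one_mem _)) hJne u ?_)
  rw [Matrix.sub_mulVec, ← h3, Matrix.smul_mulVec, Matrix.one_mulVec, sub_self]

end H47
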