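import Mathlib
import Cfsg.Prelude.Def_GeometricClasses
import Cfsg.Agent.H47.FieldSub
import Cfsg.Agent.H37.Card

/-!
Elements of prime order `n` of `PSL n` and normalisers of Singer cycles.
-/

set_option autoImplicit false

namespace H47

open Matrix Polynomial

variable {F : Type*} [Field F] {n : ℕ}

/-- The image of a field in the matrix algebra is a field subalgebra. -/
lemma range_isFieldSubalgebra [NeZero n] {E : Type*} [Field E] [Algebra F E]
    (ρ : E →ₐ[F] Matrix (Fin n) (Fin n) F) :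
    Cfsg.Geo.IsFieldSubalgebra (Module.finrank F E) ρ.range where
  comm := by
    rintro _ ⟨a, rfl⟩ _ ⟨b, rfl⟩
    rw [← map_mul, ← map_mul, mul_comm]
  inv := by
    rintro _ ⟨a, rfl⟩ ha
    have ha0 : a ≠ 0 := fun h => ha (by simp [h])
    exact ⟨ρ a⁻¹, ⟨_, rfl⟩, by rw [show ρ.toRingHom a = ρ a from rfl, ← map_mul, mul_inv_cancel₀ ha0, map_one]⟩
  finrank_eq := ((AlgEquiv.ofInjective ρ (RingHom.injective (ρ : E →+* Matrix (Fin n) (Fin n) F))).toLinearEquiv.finrank_eq).symm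

/-- A cyclic matrix `Y` with `Y ^ n = 1` normalises a field subalgebra of degree `n`. -/
theorem cyclic_normalized [Fintype F] (hn : 0 < n) {x : GL (Fin n) F} {μ : F} (hμ : μ ≠ 0)
    {Y : Matrix (Fin n) (Fin n) F} (hx : (x : Matrix (Fin n) (Fin n) F) = μ • Y) (hY : Y ^ n = 1)
    (v : Fin n → F) (hcyc : ∀ g : F[X], g.natDegree < n → aeval Y g *ᵥ v = 0 → g = 0) :
    ∃ K : Subalgebra F (Matrix (Fin n) (Fin n) F), Cfsg.Geo.IsFieldSubalgebra n K ∧
      x ∈ Cfsg.Geo.subalgebraNormalizer K := by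
  classical
  haveI : NeZero n := ⟨hn.ne'⟩
  obtain ⟨p, hp⟩ := CharP.exists F
  haveI : Fact p.Prime := ⟨CharP.char_is_prime F p⟩
  have hfr : Module.finrank F (FiniteField.Extension F p n) = n := FiniteField.finrank_extension F p n
  haveI : Fintype (FiniteField.Extension F p n) := Fintype.ofFinite _
  set φ := FiniteField.frobeniusAlgEquivOfAlgebraic F (FiniteField.Extension F p n) with hφ
  let eG : Fin n ≃ Gal(FiniteField.Extension F p n/F) :=
    (finCongr hfr.symm).trans (Equiv.ofBijective _ (FiniteField.bijective_frobeniusAlgEquivOfAlgebraic_pow F _))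
  have heG : ∀ i, eG i = φ ^ (i : ℕ) := fun i => rfl
  set α := IsGalois.normalBasis F (FiniteField.Extension F p n) 1 with hα
  let bE := (IsGalois.normalBasis F (FiniteField.Extension F p n)).reindex eG.symm
  have hbE : ∀ i : Fin n, bE i = (φ ^ (i : ℕ)) α := fun i => by
    rw [Module.Basis.reindex_apply, Equiv.symm_symm, IsGalois.normalBasis_apply, heG]
  have hli : LinearIndependent F (fun i : Fin n => (Y ^ (i : ℕ)) *ᵥ v) := by
    rw [Fintype.linearIndependent_iff]
    intro c hc i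
    set g : F[X] := ∑ j : Fin n, C (c j) * X ^ (j : ℕ) with hg
    have hdeg : g.natDegree < n := by
      have : g.natDegree ≤ n - 1 := natDegree_sum_le_of_forall_le _ _ fun j _ =>
        (natDegree_C_mul_X_pow_le _ _).trans (by omega)
      omega
    have hg0 : g = 0 := hcyc g hdeg (by
      rw [hg, map_sum, Matrix.sum_mulVec, ← hc]
      refine Finset.sum_congr rfl fun j _ => ?_
      rw [map_mul, aeval_C, map_pow, aeval_X, Algebra.algebraMap_eq_smul_one, smul_mul_assoc, one_mul,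
        Matrix.smul_mulVec])
    have := congrArg (fun q : F[X] => q.coeff (i : ℕ)) hg0
    simpa [hg, coeff_C_mul_X_pow, Fin.val_inj] using this
  let bV : Module.Basis (Fin n) F (Fin n → F) :=
    basisOfLinearIndependentOfCardEqFinrank hli (by simp)
  have hbV : ∀ i : Fin n, bV i = (Y ^ (i : ℕ)) *ᵥ v := fun i => by
    simp [bV]
  let T := bE.equiv bV (Equiv.refl _)
  have hT : ∀ i, T (bE i) = bV i := fun i => by simp [T]
  have hφn : φ ^ n = 1 := by
    have h := FiniteField.orderOf_frobeniusAlgEquivOfAlgebraic (K := F) (L := FiniteField.Extension F p n)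
    rw [hfr] at h
    have h' := pow_orderOf_eq_one φ
    rwa [hφ, h] at h'
  have hall : ∀ m : ℕ, T ((φ ^ m) α) = (Y ^ m) *ᵥ v := by
    intro m
    have h1 : φ ^ m = φ ^ (m % n) := pow_eq_pow_mod m hφn
    have h2 : Y ^ m = Y ^ (m % n) := pow_eq_pow_mod m hY
    rw [h1, h2, ← hbE ⟨m % n, Nat.mod_lt _ hn⟩, hT, hbV]
  have hTφ : ∀ e, T (φ e) = Y *ᵥ T e := by
    have : (T.toLinearMap ∘ₗ φ.toLinearMap) = (Matrix.toLin' Y) ∘ₗ T.toLinearMap := by
      refine bE.ext fun i => ?_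
      show T (φ (bE i)) = Y *ᵥ T (bE i)
      rw [hbE, ← AlgEquiv.mul_apply, ← pow_succ', hall, hall, Matrix.mulVec_mulVec, ← pow_succ']
    exact fun e => LinearMap.congr_fun this e
  let ρ : FiniteField.Extension F p n →ₐ[F] Matrix (Fin n) (Fin n) F :=
    LinearMap.toMatrixAlgEquiv'.toAlgHom.comp ((T.conjAlgEquiv F).toAlgHom.comp (Algebra.lmul F _))
  have hρ : ∀ e w, ρ e *ᵥ T w = T (e * w) := fun e w => by
    show LinearMap.toMatrix' ((T.conjAlgEquiv F) (Algebra.lmul F _ e)) *ᵥ T w = _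
    rw [LinearMap.toMatrix'_mulVec]
    simp [LinearEquiv.conjAlgEquiv_apply]
  have hcomm : ∀ e, Y * ρ e = ρ (φ e) * Y := fun e => by
    apply Matrix.toLin'.injective
    refine LinearMap.ext fun w => ?_
    obtain ⟨w, rfl⟩ := T.surjective w
    simp only [Matrix.toLin'_apply, ← Matrix.mulVec_mulVec]
    rw [hρ, ← hTφ, ← hTφ, hρ, map_mul]
  refine ⟨ρ.range, by simpa [hfr] using range_isFieldSubalgebra ρ, ?_⟩
  have hxρ : ∀ e, (x : Matrix (Fin n) (Fin n) F) * ρ e * ((x⁻¹ : GL (Fin n) F) : Matrix (Fin n) (Fin n) F)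
      = ρ (φ e) := fun e => by
    rw [show (x : Matrix (Fin n) (Fin n) F) * ρ e = ρ (φ e) * x by
      rw [hx, smul_mul_assoc, hcomm, mul_smul_comm], mul_assoc, ← Units.val_mul, mul_inv_cancel,
      Units.val_one, mul_one]
  intro k
  constructor
  · rintro ⟨e, rfl⟩
    exact ⟨φ e, (hxρ e).symm⟩
  · rintro ⟨e, he⟩
    obtain ⟨e', rfl⟩ := φ.surjective e
    refine ⟨e', ?_⟩
    have h : ρ (φ e') = (x : Matrix (Fin n) (Fin n) F) * k * ((x⁻¹ : GL (Fin n) F) : Matrix (Fin n) (Fin n) F) := he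
    rw [← hxρ, Units.mul_left_inj, Units.mul_right_inj] at h
    exact h

/-- An element with two independent fixed vectors, other than `1`, normalises no field subalgebra
of prime degree `n`. -/
theorem fix_two_not_normalizing (hn : n.Prime) {K : Subalgebra F (Matrix (Fin n) (Fin n) F)}
    (hK : Cfsg.Geo.IsFieldSubalgebra n K) {g : GL (Fin n) F} {c : F} (hc : c ≠ 0)
    {M : Matrix (Fin n) (Fin n) F} (hg : (g : Matrix (Fin n) (Fin n) F) = c • M) (hM : M ≠ 1)
    {w₁ w₂ : Fin n → F} (h1 : M *ᵥ w₁ = w₁) (h2 : M *ᵥ w₂ = w₂) (hw1 : w₁ ≠ 0)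
    (hw2 : ∀ a : F, w₂ ≠ a • w₁) :
    g ∉ Cfsg.Geo.subalgebraNormalizer K := by
  haveI : NeZero n := ⟨hn.ne_zero⟩
  intro hgK
  letI : Field ↥K := (H42.isField_of_isFieldSubalgebra hK).toField
  haveI : FiniteDimensional F ↥K := Module.finite_of_finrank_pos (by rw [hK.finrank_eq]; exact hn.pos)
  have hinj : ∀ x ∈ K, x *ᵥ w₁ = 0 → x = 0 := by
    intro x hx hv
    by_contra hx0
    obtain ⟨y, -, hy⟩ := hK.inv x hx hx0
    apply hw1
    rw [← Matrix.one_mulVec w₁, ← mul_eq_one_comm.1 hy, ← Matrix.mulVec_mulVec, hv, Matrix.mulVec_zero]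
  let ev : ↥K →ₗ[F] (Fin n → F) :=
    { toFun := fun k => (k : Matrix (Fin n) (Fin n) F) *ᵥ w₁
      map_add' := fun a b => by simp [Matrix.add_mulVec]
      map_smul' := fun a b => by simp [Matrix.smul_mulVec] }
  have hevinj : Function.Injective ev := by
    intro a b h
    apply Subtype.ext
    refine sub_eq_zero.1 (hinj _ (K.sub_mem a.2 b.2) ?_)
    rw [Matrix.sub_mulVec]
    exact sub_eq_zero.2 h
  have hevsur : Function.Surjective ev :=
    (LinearMap.injective_iff_surjective_of_finrank_eq_finrank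
      (by rw [hK.finrank_eq, Module.finrank_fin_fun])).1 hevinj
  have hMK : ∀ k ∈ K, ∃ k' ∈ K, M * k = k' * M := by
    intro k hk
    refine ⟨_, (hgK k).1 hk, ?_⟩
    have h : (g : Matrix (Fin n) (Fin n) F) * k
        = ((g : Matrix (Fin n) (Fin n) F) * k * ((g⁻¹ : GL (Fin n) F) : Matrix (Fin n) (Fin n) F)) * g := by
      rw [mul_assoc (_ * k), ← Units.val_mul, inv_mul_cancel, Units.val_one, mul_one]
    generalize (g : Matrix (Fin n) (Fin n) F) * k * ((g⁻¹ : GL (Fin n) F) : Matrix (Fin n) (Fin n) F) = k' at h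
    rw [hg, smul_mul_assoc, mul_smul_comm] at h
    exact smul_right_injective _ hc h
  obtain ⟨k₂, hk₂⟩ := hevsur w₂
  replace hk₂ : (k₂ : Matrix (Fin n) (Fin n) F) *ᵥ w₁ = w₂ := hk₂
  have hk₂c : M * (k₂ : Matrix (Fin n) (Fin n) F) = (k₂ : Matrix (Fin n) (Fin n) F) * M := by
    obtain ⟨k', hk', he⟩ := hMK _ k₂.2
    have h := congrArg (· *ᵥ w₁) he
    simp only [← Matrix.mulVec_mulVec, hk₂, h1, h2] at h
    have : (k₂ : Matrix (Fin n) (Fin n) F) = k' :=
      sub_eq_zero.1 (hinj _ (K.sub_mem k₂.2 hk') (by rw [Matrix.sub_mulVec, hk₂, ← h, sub_self]))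
    rw [he, this]
  let S : Subalgebra F ↥K := (Subalgebra.centralizer F ({M} : Set (Matrix (Fin n) (Fin n) F))).comap K.val
  have hS : ∀ k : ↥K, k ∈ S ↔ M * k = (k : Matrix (Fin n) (Fin n) F) * M := fun k => by
    simp [S, Subalgebra.mem_centralizer_iff]
  haveI := Subalgebra.isSimpleOrder_of_finrank_prime F ↥K (by rw [hK.finrank_eq]; exact hn)
  rcases eq_bot_or_eq_top S with hb | ht
  · have : k₂ ∈ (⊥ : Subalgebra F ↥K) := hb ▸ (hS k₂).2 hk₂c
    obtain ⟨a, ha⟩ := Algebra.mem_bot.1 this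
    refine hw2 a ?_
    rw [← hk₂, ← ha]
    simp [Algebra.algebraMap_eq_smul_one, Matrix.smul_mulVec]
  · apply hM
    apply Matrix.toLin'.injective
    refine LinearMap.ext fun w => ?_
    obtain ⟨k, hk⟩ := hevsur w
    replace hk : (k : Matrix (Fin n) (Fin n) F) *ᵥ w₁ = w := hk
    have h := (hS k).1 (ht ▸ Algebra.mem_top)
    rw [Matrix.toLin'_apply, Matrix.toLin'_apply, Matrix.one_mulVec, ← hk, Matrix.mulVec_mulVec, h,
      ← Matrix.mulVec_mulVec, h1]

/-- `q` of order `n - 1` modulo `n`: a nontrivial element of order `n` is cyclic. -/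
theorem cyclic_of_orderOf_pred [Fintype F] (hn : n.Prime) (hn2 : n ≠ 2)
    (hq : orderOf (Fintype.card F : ZMod n) = n - 1)
    {Y : Matrix (Fin n) (Fin n) F} (hY : Y ^ n = 1) (hY1 : Y ≠ 1) :
    ∃ v, ∀ g : F[X], g.natDegree < n → aeval Y g *ᵥ v = 0 → g = 0 := by
  classical
  haveI : Fact n.Prime := ⟨hn⟩
  have hn3 : 3 ≤ n := by have := hn.two_le; omega
  have hnF : (n : F) ≠ 0 := by
    intro h
    obtain ⟨f, hp, hpf⟩ := FiniteField.card F (ringChar F)
    have hpn : ringChar F = n :=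
      (Nat.prime_dvd_prime_iff_eq hp hn).1 (ringChar.dvd h)
    have hq0 : (Fintype.card F : ZMod n) = 0 := by
      rw [hpf, hpn, Nat.cast_pow, ZMod.natCast_self, zero_pow f.pos.ne']
    rw [hq0, orderOf_zero] at hq
    omega
  set Φ : F[X] := cyclotomic n F with hΦ
  have hΦX : Φ * (X - 1) = X ^ n - 1 := cyclotomic_prime_mul_X_sub_one F n
  have hΦdeg : Φ.natDegree = n - 1 := by
    rw [hΦ, natDegree_cyclotomic, Nat.totient_prime hn]
  have hΦ1 : Φ.eval 1 = (n : F) := eval_one_cyclotomic_prime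
  have hΦirr : Irreducible Φ := by
    have hnu : ¬ IsUnit Φ := fun h => by
      have := natDegree_eq_zero_of_isUnit h
      omega
    obtain ⟨g, hg, hgΦ⟩ := WfDvdMonoid.exists_irreducible_factor hnu (cyclotomic_ne_zero n F)
    haveI := Fact.mk hg
    haveI : FiniteDimensional F (AdjoinRoot g) := (AdjoinRoot.powerBasis hg.ne_zero).finite
    haveI : Finite (AdjoinRoot g) := Module.finite_of_finite F
    haveI : Fintype (AdjoinRoot g) := Fintype.ofFinite _
    obtain ⟨ζ, hζdef⟩ : ∃ z : AdjoinRoot g, z = AdjoinRoot.root g := ⟨_, rfl⟩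
    have hζΦ : aeval ζ Φ = 0 := by
      obtain ⟨c, hc⟩ := hgΦ
      rw [hc, map_mul, hζdef, AdjoinRoot.aeval_eq, AdjoinRoot.mk_self, zero_mul]
    have hζn : ζ ^ n = 1 := by
      have := congrArg (aeval ζ) hΦX
      rw [map_mul, hζΦ, zero_mul] at this
      rw [map_sub, map_pow, aeval_X, map_one] at this
      exact sub_eq_zero.1 this.symm
    have hζ1 : ζ ≠ 1 := by
      intro h
      have h' := hζΦ
      rw [h, ← map_one (algebraMap F (AdjoinRoot g)), aeval_algebraMap_apply, map_eq_zero] at h'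
      rw [coe_aeval_eq_eval, hΦ1] at h'
      exact hnF h'
    have hζ0 : ζ ≠ 0 := by
      rintro rfl
      rw [zero_pow hn.ne_zero] at hζn
      exact zero_ne_one hζn
    have hord : orderOf ζ = n := orderOf_eq_prime hζn hζ1
    have hdvd : n ∣ Fintype.card F ^ g.natDegree - 1 := by
      have h1 : ζ ^ (Fintype.card (AdjoinRoot g) - 1) = 1 := FiniteField.pow_card_sub_one_eq_one ζ hζ0
      rw [Module.card_eq_pow_finrank (K := F), (AdjoinRoot.powerBasis hg.ne_zero).finrank,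
        AdjoinRoot.powerBasis_dim] at h1
      exact hord ▸ orderOf_dvd_of_pow_eq_one h1
    have hle : n - 1 ≤ g.natDegree := by
      refine hq ▸ Nat.le_of_dvd hg.natDegree_pos (orderOf_dvd_of_pow_eq_one ?_)
      have h1 : 1 ≤ Fintype.card F ^ g.natDegree := Nat.one_le_pow _ _ Fintype.card_pos
      have h2 := (ZMod.natCast_eq_zero_iff _ _).2 hdvd
      rw [Nat.cast_sub h1, sub_eq_zero, Nat.cast_pow, Nat.cast_one] at h2
      exact h2
    exact (associated_of_dvd_of_natDegree_le hgΦ (cyclotomic_ne_zero n F) (hΦdeg ▸ hle)).irreducible hg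
  have hprod : aeval Y Φ * (Y - 1) = 0 := by
    have := congrArg (aeval Y) hΦX
    simpa [hY] using this
  have hprod' : (Y - 1) * aeval Y Φ = 0 := by
    have := congrArg (aeval Y) ((mul_comm (X - 1) Φ).trans hΦX)
    simpa [hY] using this
  obtain ⟨u, hu0, huΦ⟩ : ∃ u : Fin n → F, u ≠ 0 ∧ aeval Y Φ *ᵥ u = 0 := by
    obtain ⟨u', hu'⟩ : ∃ u', (Y - 1) *ᵥ u' ≠ 0 := by
      by_contra h
      push Not at h
      exact hY1 (Matrix.toLin'.injective (LinearMap.ext fun w => by simpa [Matrix.sub_mulVec, sub_eq_zero] using h w))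
    exact ⟨_, hu', by rw [Matrix.mulVec_mulVec, hprod, Matrix.zero_mulVec]⟩
  obtain ⟨w, hw0, hwY⟩ : ∃ w : Fin n → F, w ≠ 0 ∧ Y *ᵥ w = w := by
    obtain ⟨w', hw'⟩ : ∃ w', aeval Y Φ *ᵥ w' ≠ 0 := by
      by_contra h
      push Not at h
      have h0 : aeval Y Φ = 0 :=
        Matrix.toLin'.injective (LinearMap.ext fun w => by simpa using h w)
      haveI := Fact.mk hΦirr
      haveI : FiniteDimensional F (AdjoinRoot Φ) := (AdjoinRoot.powerBasis hΦirr.ne_zero).finite
      let ρ : AdjoinRoot Φ →ₐ[F] Matrix (Fin n) (Fin n) F :=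
        Ideal.Quotient.liftₐ _ (aeval Y) (fun a ha => by
          obtain ⟨c, rfl⟩ := Ideal.mem_span_singleton.1 ha
          rw [map_mul, h0, zero_mul])
      have hd := (exists_rep_frame ρ).1
      rw [(AdjoinRoot.powerBasis hΦirr.ne_zero).finrank, AdjoinRoot.powerBasis_dim, hΦdeg] at hd
      rcases (Nat.dvd_prime hn).1 hd with h | h <;> omega
    refine ⟨_, hw', ?_⟩
    have := congrArg (· *ᵥ w') hprod'
    simpa [← Matrix.mulVec_mulVec, Matrix.sub_mulVec, sub_eq_zero] using this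
  refine ⟨u + w, fun g hg h => ?_⟩
  have haw : ∀ g : F[X], aeval Y g *ᵥ w = g.eval 1 • w := by
    intro g
    induction g using Polynomial.induction_on' with
    | add a b ha hb => rw [map_add, Matrix.add_mulVec, ha, hb, eval_add, add_smul]
    | monomial k a =>
      have hk : (Y ^ k) *ᵥ w = w := by
        induction k with
        | zero => simp
        | succ k ih => rw [pow_succ, ← Matrix.mulVec_mulVec, hwY, ih]
      rw [aeval_monomial, eval_monomial, one_pow, mul_one, Algebra.algebraMap_eq_smul_one, smul_mul_assoc,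
        one_mul, Matrix.smul_mulVec, hk]
  rw [Matrix.mulVec_add, haw] at h
  have hΦg : Φ ∣ g := by
    by_contra hndvd
    have hcop : IsCoprime Φ (g * (X - 1)) := by
      refine (hΦirr.coprime_iff_not_dvd).2 fun hd => ?_
      rcases hΦirr.prime.dvd_or_dvd hd with h' | h'
      · exact hndvd h'
      · have := natDegree_le_of_dvd h' (X_sub_C_ne_zero (1 : F))
        have hd1 : (X - 1 : F[X]).natDegree = 1 := natDegree_X_sub_C (1 : F)
        rw [hd1, hΦdeg] at this
        omega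
    obtain ⟨a, b, hab⟩ := hcop
    apply hu0
    have h3 : aeval Y (g * (X - 1)) *ᵥ u = 0 := by
      rw [mul_comm g, map_mul, ← Matrix.mulVec_mulVec, eq_neg_of_add_eq_zero_left h, Matrix.mulVec_neg,
        map_sub, aeval_X, map_one, Matrix.sub_mulVec, Matrix.one_mulVec, Matrix.mulVec_smul, hwY, sub_self,
        neg_zero]
    have h5 : aeval Y (a * Φ + b * (g * (X - 1))) *ᵥ u = aeval Y (1 : F[X]) *ᵥ u := by rw [hab]
    rw [map_add, map_mul (aeval Y) a, map_mul (aeval Y) b, Matrix.add_mulVec, ← Matrix.mulVec_mulVec,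
      ← Matrix.mulVec_mulVec, huΦ, h3, Matrix.mulVec_zero, Matrix.mulVec_zero, add_zero, map_one,
      Matrix.one_mulVec] at h5
    exact h5.symm
  obtain ⟨c, rfl⟩ := hΦg
  by_contra hne
  have hc0 : c ≠ 0 := fun hc => hne (by simp [hc])
  have hcdeg : c.natDegree = 0 := by
    rw [natDegree_mul (cyclotomic_ne_zero n F) hc0, hΦdeg] at hg
    omega
  obtain ⟨a, rfl⟩ : ∃ a, c = C a := ⟨_, eq_C_of_natDegree_eq_zero hcdeg⟩
  rw [map_mul, aeval_C, ← Matrix.mulVec_mulVec, Algebra.algebraMap_eq_smul_one, Matrix.smul_mulVec,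
    Matrix.one_mulVec, Matrix.mulVec_smul, huΦ, smul_zero, zero_add, eval_mul, eval_C, hΦ1] at h
  rcases smul_eq_zero.1 h with h | h
  · exact hc0 (by rw [(mul_eq_zero.1 h).resolve_left hnF, map_zero])
  · exact hw0 h

/-- A nontrivial element of SL with an `(n - i)`-dimensional space of fixed vectors and order dividing `n`. -/
theorem exists_sl_order_fix [Fintype F] (hn : n.Prime) {i : ℕ} (hi : 2 ≤ i) (hin : i + 2 ≤ n)
    (hdvd : n ∣ Nat.card (Matrix.SpecialLinearGroup (Fin i) F)) :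
    ∃ (M : Matrix (Fin n) (Fin n) F) (w₁ w₂ : Fin n → F), M.det = 1 ∧ M ^ n = 1 ∧ M ≠ 1 ∧
      M *ᵥ w₁ = w₁ ∧ M *ᵥ w₂ = w₂ ∧ w₁ ≠ 0 ∧ ∀ a : F, w₂ ≠ a • w₁ := by
  classical
  haveI : Fact n.Prime := ⟨hn⟩
  obtain ⟨A, hA⟩ := exists_prime_orderOf_dvd_card' n hdvd
  obtain ⟨j, rfl⟩ : ∃ j, n = i + j := ⟨n - i, by omega⟩
  let e : Fin i ⊕ Fin j ≃ Fin (i + j) := finSumFinEquiv
  let B : Matrix (Fin i ⊕ Fin j) (Fin i ⊕ Fin j) F := Matrix.fromBlocks (A : Matrix (Fin i) (Fin i) F) 0 0 1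
  have hB : ∀ k : ℕ, B ^ k = Matrix.fromBlocks ((A : Matrix (Fin i) (Fin i) F) ^ k) 0 0 1 := by
    intro k
    induction k with
    | zero => simp
    | succ k ih => rw [pow_succ, ih, pow_succ]; simp [B, Matrix.fromBlocks_multiply]
  have hpow : A ^ (i + j) = 1 := by rw [← hA]; exact pow_orderOf_eq_one A
  refine ⟨Matrix.reindexAlgEquiv F F e B, Pi.single (e (Sum.inr ⟨0, by omega⟩)) 1,
    Pi.single (e (Sum.inr ⟨1, by omega⟩)) 1, ?_, ?_, ?_, ?_, ?_, by simp, fun a h => ?_⟩
  · rw [Matrix.det_reindexAlgEquiv, Matrix.det_fromBlocks_zero₂₁, A.2, Matrix.det_one, mul_one]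
  · rw [← map_pow, hB, ← Matrix.SpecialLinearGroup.coe_pow, hpow, Matrix.SpecialLinearGroup.coe_one,
      Matrix.fromBlocks_one, map_one]
  · intro h
    have h1 : B = 1 := (Matrix.reindexAlgEquiv F F e).injective (h.trans (map_one _).symm)
    rw [← Matrix.fromBlocks_one] at h1
    have hA1 : A = 1 := Subtype.ext (Matrix.fromBlocks_inj.1 h1).1
    rw [hA1, orderOf_one] at hA
    omega
  · rw [Matrix.mulVec_single_one]
    ext k
    obtain ⟨k, rfl⟩ := e.surjective k
    rcases k with k | k <;> simp [B, Matrix.one_apply, Pi.single_apply, e.injective.eq_iff]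
  · rw [Matrix.mulVec_single_one]
    ext k
    obtain ⟨k, rfl⟩ := e.surjective k
    rcases k with k | k <;> simp [B, Matrix.one_apply, Pi.single_apply, e.injective.eq_iff]
  · have := congrFun h (e (Sum.inr ⟨1, by omega⟩))
    simp [Pi.single_apply, e.injective.eq_iff] at this

/-- Eigenvectors for distinct eigenvalues sum to a cyclic vector. -/
theorem cyclic_of_eigen {ι : Type} [Fintype ι] [DecidableEq ι] {Y : Matrix (Fin n) (Fin n) F}
    {r : ι → F} (hr : Function.Injective r) {v : ι → Fin n → F} (hv0 : ∀ j, v j ≠ 0)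
    (hv : ∀ j, Y *ᵥ v j = r j • v j) {g : F[X]} (hg : g.natDegree < Fintype.card ι)
    (h : aeval Y g *ᵥ (∑ j, v j) = 0) : g = 0 := by
  have hev : ∀ (P : F[X]) j, aeval Y P *ᵥ v j = P.eval (r j) • v j := by
    intro P j
    induction P using Polynomial.induction_on' with
    | add a b ha hb => rw [map_add, Matrix.add_mulVec, ha, hb, eval_add, add_smul]
    | monomial k a =>
      have hk : (Y ^ k) *ᵥ v j = r j ^ k • v j := by
        induction k with
        | zero => simp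
        | succ k ih => rw [pow_succ, ← Matrix.mulVec_mulVec, hv, Matrix.mulVec_smul, ih, smul_smul, pow_succ']
      rw [aeval_monomial, eval_monomial, Algebra.algebraMap_eq_smul_one, smul_mul_assoc,
        one_mul, Matrix.smul_mulVec, hk, smul_smul]
  refine eq_zero_of_natDegree_lt_card_of_eval_eq_zero g hr (fun j => ?_) hg
  let L : F[X] := ∏ k ∈ Finset.univ.erase j, (X - C (r k))
  have hL : L.eval (r j) ≠ 0 := by
    rw [eval_prod, Finset.prod_ne_zero_iff]
    intro k hk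
    rw [eval_sub, eval_X, eval_C, sub_ne_zero]
    exact fun e => (Finset.mem_erase.1 hk).1 (hr e).symm
  have hL' : ∀ k, k ≠ j → L.eval (r k) = 0 := fun k hk => by
    rw [eval_prod]
    exact Finset.prod_eq_zero (Finset.mem_erase.2 ⟨hk, Finset.mem_univ _⟩) (by simp)
  have h2 : aeval Y (L * g) *ᵥ (∑ k, v k) = 0 := by
    rw [map_mul, ← Matrix.mulVec_mulVec, h, Matrix.mulVec_zero]
  rw [Matrix.mulVec_sum, Finset.sum_eq_single j (fun k _ hk => by rw [hev, eval_mul, hL' k hk, zero_mul, zero_smul])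
    (by simp), hev, eval_mul] at h2
  exact (mul_eq_zero.1 ((smul_eq_zero.1 h2).resolve_right (hv0 j))).resolve_left hL

/-- `x ^ n` is a scalar which is no `n`-th power. -/
theorem nonpower_normalized [Fintype F] (hn : n.Prime) {x : GL (Fin n) F} {z : F}
    (hz : ((x : Matrix (Fin n) (Fin n) F)) ^ n = z • 1) (hns : ∀ b : F, b ^ n ≠ z) :
    ∃ K : Subalgebra F (Matrix (Fin n) (Fin n) F), Cfsg.Geo.IsFieldSubalgebra n K ∧
      x ∈ Cfsg.Geo.subalgebraNormalizer K := by
  haveI : NeZero n := ⟨hn.ne_zero⟩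
  have hirr := X_pow_sub_C_irreducible_of_prime hn hns
  haveI := Fact.mk hirr
  let ρ : AdjoinRoot (X ^ n - C z) →ₐ[F] Matrix (Fin n) (Fin n) F :=
    Ideal.Quotient.liftₐ _ (aeval (x : Matrix (Fin n) (Fin n) F)) (fun a ha => by
      obtain ⟨c, rfl⟩ := Ideal.mem_span_singleton.1 ha
      rw [map_mul, map_sub, map_pow, aeval_X, aeval_C, hz, Algebra.algebraMap_eq_smul_one, sub_self,
        zero_mul])
  have hd : Module.finrank F (AdjoinRoot (X ^ n - C z)) = n := by
    rw [(AdjoinRoot.powerBasis hirr.ne_zero).finrank, AdjoinRoot.powerBasis_dim, natDegree_X_pow_sub_C]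
  refine ⟨ρ.range, by simpa [hd] using range_isFieldSubalgebra ρ, ?_⟩
  have hc : ∀ k ∈ ρ.range, (x : Matrix (Fin n) (Fin n) F) * k = k * (x : Matrix (Fin n) (Fin n) F) := by
    rintro _ ⟨e, rfl⟩
    have hx : ρ (AdjoinRoot.root _) = (x : Matrix (Fin n) (Fin n) F) := by
      show aeval (x : Matrix (Fin n) (Fin n) F) X = _
      rw [aeval_X]
    show (x : Matrix (Fin n) (Fin n) F) * ρ e = ρ e * _
    rw [← hx, ← map_mul, ← map_mul, mul_comm]
  intro k
  constructor
  · intro hk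
    rwa [hc k hk, mul_assoc, ← Units.val_mul, mul_inv_cancel, Units.val_one, mul_one]
  · intro hk
    have h := hc _ hk
    generalize hk' : (x : Matrix (Fin n) (Fin n) F) * k * ((x⁻¹ : GL (Fin n) F) : Matrix (Fin n) (Fin n) F) = k' at h hk
    have : k = k' := by
      rw [← hk'] at h
      have h2 : (x : Matrix (Fin n) (Fin n) F) * ((x : Matrix (Fin n) (Fin n) F) * k * ((x⁻¹ : GL (Fin n) F) : Matrix (Fin n) (Fin n) F))
          = (x : Matrix (Fin n) (Fin n) F) * k := by
        rw [h, mul_assoc (_ * k), ← Units.val_mul, inv_mul_cancel, Units.val_one, mul_one]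
      rw [Units.mul_right_inj, hk'] at h2
      exact h2.symm
    exact this ▸ hk

/-- A scalar multiple of an element with two fixed vectors has no conjugate in the normaliser. -/
theorem not_all_normalizing (hn : n.Prime) {K : Subalgebra F (Matrix (Fin n) (Fin n) F)}
    (hK : Cfsg.Geo.IsFieldSubalgebra n K)
    (hall : ∀ x : Matrix.SpecialLinearGroup (Fin n) F,
      (∃ z : F, ((x ^ n : Matrix.SpecialLinearGroup (Fin n) F) : Matrix (Fin n) (Fin n) F) = z • (1 : Matrix (Fin n) (Fin n) F)) →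
      (∀ z : F, (x : Matrix (Fin n) (Fin n) F) ≠ z • (1 : Matrix (Fin n) (Fin n) F)) →
      ∃ P : Matrix.SpecialLinearGroup (Fin n) F, P⁻¹ * x * P ∈ ((Cfsg.Geo.subalgebraNormalizer K).comap (Matrix.SpecialLinearGroup.toGL : Matrix.SpecialLinearGroup (Fin n) F →* GL (Fin n) F)))
    {M : Matrix (Fin n) (Fin n) F} {c : F} (hd : c ^ n * M.det = 1) (hMn : M ^ n = 1) (hM1 : M ≠ 1)
    {w₁ w₂ : Fin n → F} (h1 : M *ᵥ w₁ = w₁) (h2 : M *ᵥ w₂ = w₂) (hw1 : w₁ ≠ 0)
    (hw2 : ∀ a : F, w₂ ≠ a • w₁) : False := by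
  have hc : c ≠ 0 := by
    rintro rfl
    simp [zero_pow hn.ne_zero] at hd
  have hdet : (c • M).det = 1 := by rw [Matrix.det_smul, Fintype.card_fin, hd]
  obtain ⟨X, hX⟩ : ∃ X : Matrix.SpecialLinearGroup (Fin n) F, X = ⟨c • M, hdet⟩ := ⟨_, rfl⟩
  obtain ⟨P, hP⟩ := hall X ⟨c ^ n, by rw [Matrix.SpecialLinearGroup.coe_pow, hX, _root_.smul_pow, hMn]⟩ (by
    intro z hz
    rw [hX] at hz
    apply hM1
    have h3 := congrArg (· *ᵥ w₁) hz
    simp only [Matrix.smul_mulVec, h1, Matrix.one_mulVec] at h3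
    have hcz : c = z := smul_left_injective F hw1 h3
    exact smul_right_injective _ hc (hz.trans (by rw [hcz])))
  rw [Subgroup.mem_comap, map_mul, map_mul, map_inv] at hP
  obtain ⟨G, hG⟩ : ∃ G : GL (Fin n) F, G = Matrix.SpecialLinearGroup.toGL P := ⟨_, rfl⟩
  rw [← hG] at hP
  set Gi := ((G⁻¹ : GL (Fin n) F) : Matrix (Fin n) (Fin n) F) with hGi
  set Gm := (G : Matrix (Fin n) (Fin n) F) with hGm
  have hGG : Gm * Gi = 1 := G.mul_inv
  have hfix : ∀ w, M *ᵥ w = w → (Gi * M * Gm) *ᵥ (Gi *ᵥ w) = Gi *ᵥ w := fun w hw => by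
    rw [Matrix.mulVec_mulVec, mul_assoc (Gi * M), hGG, mul_one, ← Matrix.mulVec_mulVec, hw]
  have hback : ∀ w, Gm *ᵥ (Gi *ᵥ w) = w := fun w => by rw [Matrix.mulVec_mulVec, hGG, Matrix.one_mulVec]
  refine fix_two_not_normalizing hn hK hc (M := Gi * M * Gm) ?_ ?_ (hfix _ h1) (hfix _ h2) ?_ ?_ hP
  · rw [Units.val_mul, Units.val_mul, hX]
    show Gi * (c • M) * Gm = _
    rw [mul_smul_comm, smul_mul_assoc]
  · intro h
    apply hM1
    calc M = Gm * (Gi * M * Gm) * Gi := by
          rw [← mul_assoc, ← mul_assoc, hGG, one_mul, mul_assoc, hGG, mul_one]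
      _ = 1 := by rw [h, mul_one, hGG]
  · intro h
    exact hw1 (by rw [← hback w₁, h, Matrix.mulVec_zero])
  · intro a h
    exact hw2 a (by rw [← hback w₂, h, Matrix.mulVec_smul, hback])

/-- If each element with scalar `n`-th power normalises some field subalgebra of degree `n`, all have
conjugates normalising the given one. -/
theorem all_normalizing [Fintype F] (hn : n.Prime) {K : Subalgebra F (Matrix (Fin n) (Fin n) F)}
    (hK : Cfsg.Geo.IsFieldSubalgebra n K) (x : Matrix.SpecialLinearGroup (Fin n) F)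
    (h : ∃ K' : Subalgebra F (Matrix (Fin n) (Fin n) F), Cfsg.Geo.IsFieldSubalgebra n K' ∧
      Matrix.SpecialLinearGroup.toGL x ∈ Cfsg.Geo.subalgebraNormalizer K') :
    ∃ P : Matrix.SpecialLinearGroup (Fin n) F, P⁻¹ * x * P ∈ ((Cfsg.Geo.subalgebraNormalizer K).comap (Matrix.SpecialLinearGroup.toGL : Matrix.SpecialLinearGroup (Fin n) F →* GL (Fin n) F)) := by
  obtain ⟨K', hK', hxK'⟩ := h
  obtain ⟨P, hPd, hP⟩ := exists_sl_conj_mem_normalizer hn.pos hn.pos hK hK' hxK'
  obtain ⟨Y, hY⟩ : ∃ Y : Matrix.SpecialLinearGroup (Fin n) F,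
      Y = ⟨(P : Matrix (Fin n) (Fin n) F), hPd⟩ := ⟨_, rfl⟩
  refine ⟨Y, ?_⟩
  rw [Subgroup.mem_comap, map_mul, map_mul, map_inv]
  have : Matrix.SpecialLinearGroup.toGL Y = P := by rw [hY]; exact Units.ext rfl
  rw [this]
  exact hP

/-- The split case: `q` of order `n - 1` modulo `n`. -/
theorem pred_order_normalized [Fintype F] (hn : n.Prime) (hn2 : n ≠ 2)
    (hq : orderOf (Fintype.card F : ZMod n) = n - 1) (x : Matrix.SpecialLinearGroup (Fin n) F)
    {z : F} (hz : ((x ^ n : Matrix.SpecialLinearGroup (Fin n) F) : Matrix (Fin n) (Fin n) F) = z • (1 : Matrix (Fin n) (Fin n) F))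
    (hns : ∀ c : F, (x : Matrix (Fin n) (Fin n) F) ≠ c • (1 : Matrix (Fin n) (Fin n) F)) :
    ∃ K : Subalgebra F (Matrix (Fin n) (Fin n) F), Cfsg.Geo.IsFieldSubalgebra n K ∧
      Matrix.SpecialLinearGroup.toGL x ∈ Cfsg.Geo.subalgebraNormalizer K := by
  classical
  haveI : NeZero n := ⟨hn.ne_zero⟩
  rw [Matrix.SpecialLinearGroup.coe_pow] at hz
  have hz0 : z ≠ 0 := by
    rintro rfl
    have h := congrArg Matrix.det hz
    rw [Matrix.det_pow, x.2, one_pow, zero_smul, Matrix.det_zero] at h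
    exact one_ne_zero h
  have hcop : (Nat.card Fˣ).Coprime n := by
    rw [Nat.coprime_comm, hn.coprime_iff_not_dvd, Nat.card_eq_fintype_card, Fintype.card_units]
    intro h
    have hF : 1 ≤ Fintype.card F := Fintype.card_pos
    have h1 : (Fintype.card F : ZMod n) = 1 := by
      have h2 := (ZMod.natCast_eq_zero_iff _ _).2 h
      rwa [Nat.cast_sub hF, sub_eq_zero, Nat.cast_one] at h2
    rw [h1, orderOf_one] at hq
    have := hn.two_le
    omega
  obtain ⟨μ, hμ⟩ := (powCoprime hcop).surjective (Units.mk0 z hz0)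
  replace hμ : (μ : F) ^ n = z := by simpa [powCoprime] using congrArg Units.val hμ
  set Y : Matrix (Fin n) (Fin n) F := (μ : F)⁻¹ • (x : Matrix (Fin n) (Fin n) F) with hY
  have hYn : Y ^ n = 1 := by
    rw [hY, _root_.smul_pow, hz, smul_smul, inv_pow, hμ, inv_mul_cancel₀ hz0, one_smul]
  have hxY : (x : Matrix (Fin n) (Fin n) F) = (μ : F) • Y := by
    rw [hY, smul_smul, mul_inv_cancel₀ μ.ne_zero, one_smul]
  obtain ⟨v, hv⟩ := cyclic_of_orderOf_pred hn hn2 hq hYn (fun h => hns μ (by rw [hxY, h]))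
  exact cyclic_normalized hn.pos μ.ne_zero (x := Matrix.SpecialLinearGroup.toGL x) hxY hYn v hv

end H47
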