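import Mathlib
import Cfsg.Prelude.Def_GeometricClasses
import Cfsg.Agent.H47.Basic
import Cfsg.Agent.H47.SympDer
import Cfsg.Agent.H51.Herm
import Cfsg.Agent.H51.Witt
import Cfsg.Agent.H50.Field
import Cfsg.Agent.H42.PGLPrimeOrder
import Cfsg.Agent.H44.JordanRealise

/-!
# The stabiliser of a pair of complementary totally singular subspaces of a unitary space
-/

set_option autoImplicit false
open scoped MatrixGroups Matrix
open Matrix

namespace H47

variable {F : Type*} [Field F] {n m : ℕ}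

/-- Block matrices on `Fin m ⊕ Fin m` moved to `Fin n` in the coordinates `Q`. -/
noncomputable def pairHom (e : Fin n ≃ Fin m ⊕ Fin m) (Q : GL (Fin n) F) :
    GL (Fin m ⊕ Fin m) F →* GL (Fin n) F :=
  (MulAut.conj Q).toMonoidHom.comp (glMove e.symm)

lemma pairHom_val (e : Fin n ≃ Fin m ⊕ Fin m) (Q : GL (Fin n) F) (Y : GL (Fin m ⊕ Fin m) F) :
    (pairHom e Q Y : Matrix (Fin n) (Fin n) F)
      = (Q : Matrix (Fin n) (Fin n) F) * (Y : Matrix (Fin m ⊕ Fin m) (Fin m ⊕ Fin m) F).submatrix e e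
        * ((Q⁻¹ : GL (Fin n) F) : Matrix (Fin n) (Fin n) F) := rfl

lemma pairHom_mulVec (e : Fin n ≃ Fin m ⊕ Fin m) (Q : GL (Fin n) F) (Y : GL (Fin m ⊕ Fin m) F)
    (u : Fin m ⊕ Fin m → F) :
    (pairHom e Q Y : Matrix (Fin n) (Fin n) F) *ᵥ ((Q : Matrix (Fin n) (Fin n) F) *ᵥ (u ∘ e))
      = (Q : Matrix (Fin n) (Fin n) F) *ᵥ (((Y : Matrix (Fin m ⊕ Fin m) (Fin m ⊕ Fin m) F) *ᵥ u) ∘ e) := by
  rw [pairHom_val, Matrix.mulVec_mulVec, Matrix.mul_assoc _ _ (Q : Matrix (Fin n) (Fin n) F), Units.inv_mul,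
    Matrix.mul_one, ← Matrix.mulVec_mulVec, Matrix.submatrix_mulVec_equiv, Function.comp_assoc,
    Equiv.self_comp_symm, Function.comp_id]

lemma pairHom_surjective (e : Fin n ≃ Fin m ⊕ Fin m) (Q : GL (Fin n) F) :
    Function.Surjective (pairHom e Q) := fun y => by
  refine ⟨glMove e (Q⁻¹ * y * Q), ?_⟩
  show Q * glMove e.symm (glMove e (Q⁻¹ * y * Q)) * Q⁻¹ = y
  have : glMove e.symm (glMove e (Q⁻¹ * y * Q)) = Q⁻¹ * y * Q := Units.ext (by
    show ((((Q⁻¹ * y * Q : GL (Fin n) F) : Matrix (Fin n) (Fin n) F)).submatrix e.symm e.symm).submatrix e e = _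
    rw [Matrix.submatrix_submatrix]; simp)
  rw [this]; group

lemma pairHom_rank (e : Fin n ≃ Fin m ⊕ Fin m) (Q : GL (Fin n) F) (Y : GL (Fin m ⊕ Fin m) F) (l : F) :
    ((pairHom e Q Y : Matrix (Fin n) (Fin n) F) - l • 1).rank
      = ((Y : Matrix (Fin m ⊕ Fin m) (Fin m ⊕ Fin m) F) - l • 1).rank := by
  have h : (pairHom e Q Y : Matrix (Fin n) (Fin n) F) - l • 1
      = (Q : Matrix (Fin n) (Fin n) F) * ((Y : Matrix (Fin m ⊕ Fin m) (Fin m ⊕ Fin m) F) - l • 1).submatrix e e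
        * ((Q⁻¹ : GL (Fin n) F) : Matrix (Fin n) (Fin n) F) := by
    rw [Matrix.submatrix_sub, Pi.sub_apply, Pi.sub_apply, Matrix.submatrix_smul, Pi.smul_apply, Pi.smul_apply,
      Matrix.submatrix_one_equiv, Matrix.mul_sub, Matrix.sub_mul, Matrix.mul_smul, Matrix.mul_one,
      Matrix.smul_mul, Units.mul_inv, pairHom_val]
  rw [h, Matrix.rank_mul_eq_left_of_isUnit_det _ _ (Matrix.isUnits_det_units Q⁻¹),
    Matrix.rank_mul_eq_right_of_isUnit_det _ _ (Matrix.isUnits_det_units Q), Matrix.rank_submatrix]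

lemma pairHom_det (e : Fin n ≃ Fin m ⊕ Fin m) (Q : GL (Fin n) F) (Y : GL (Fin m ⊕ Fin m) F) :
    (pairHom e Q Y : Matrix (Fin n) (Fin n) F).det = (Y : Matrix (Fin m ⊕ Fin m) (Fin m ⊕ Fin m) F).det := by
  rw [pairHom_val, Matrix.det_mul, Matrix.det_mul, mul_right_comm, ← Matrix.det_mul, Units.mul_inv,
    Matrix.det_one, one_mul, Matrix.det_submatrix_equiv_self]

variable [Fintype F] {q : ℕ} (hF : Fintype.card F = q ^ 2)
include hF

/-- Coordinates adapted to a pair of complementary totally singular subspaces. -/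
theorem exists_pair_coords {D : Fin 2 → Submodule F (Fin n → F)} (hn : n = m + m)
    (hD : Cfsg.Geo.IsMDecomposition m D)
    (hDs : ∀ i, Cfsg.Geo.IsTotallySingularFor (Cfsg.hermForm n F q) (D i)) :
    ∃ (e : Fin n ≃ Fin m ⊕ Fin m) (Q : GL (Fin n) F) (M : Matrix (Fin m) (Fin m) F), M.det ≠ 0 ∧
      (H51.adj hF (Q : Matrix (Fin n) (Fin n) F) * (Q : Matrix (Fin n) (Fin n) F)).submatrix e.symm e.symm
        = Matrix.fromBlocks 0 M (H51.adj hF M) 0 ∧
      (∀ u : Fin m ⊕ Fin m → F, (Q : Matrix (Fin n) (Fin n) F) *ᵥ (u ∘ e) ∈ D 0 ↔ u ∘ Sum.inr = 0) ∧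
      (∀ u : Fin m ⊕ Fin m → F, (Q : Matrix (Fin n) (Fin n) F) *ᵥ (u ∘ e) ∈ D 1 ↔ u ∘ Sum.inl = 0) := by
  classical
  let b₀ := Module.finBasisOfFinrankEq F (D 0) (hD.finrank_eq 0)
  let b₁ := Module.finBasisOfFinrankEq F (D 1) (hD.finrank_eq 1)
  have hcompl : IsCompl (D 0) (D 1) := by
    refine ⟨hD.indep.pairwiseDisjoint (by decide : (0 : Fin 2) ≠ 1), ?_⟩
    rw [codisjoint_iff, ← hD.iSup_eq_top]
    refine le_antisymm (sup_le (le_iSup D 0) (le_iSup D 1)) (iSup_le fun i => ?_)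
    fin_cases i
    · exact le_sup_left
    · exact le_sup_right
  let φ : ((Fin m ⊕ Fin m) → F) ≃ₗ[F] (Fin n → F) :=
    ((LinearEquiv.sumArrowLequivProdArrow (Fin m) (Fin m) F F).trans
      (b₀.equivFun.symm.prodCongr b₁.equivFun.symm)).trans (Submodule.prodEquivOfIsCompl (D 0) (D 1) hcompl)
  let e : Fin n ≃ Fin m ⊕ Fin m := (finCongr hn).trans finSumFinEquiv.symm
  let ψ : (Fin n → F) ≃ₗ[F] (Fin n → F) := (LinearEquiv.funCongrLeft F F e.symm).trans φ
  let Q : GL (Fin n) F :=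
    { val := LinearMap.toMatrix' ψ.toLinearMap
      inv := LinearMap.toMatrix' ψ.symm.toLinearMap
      val_inv := by rw [← LinearMap.toMatrix'_comp, ← LinearMap.toMatrix'_id]; congr 1; ext v; simp
      inv_val := by rw [← LinearMap.toMatrix'_comp, ← LinearMap.toMatrix'_id]; congr 1; ext v; simp }
  have hQ : ∀ u : Fin m ⊕ Fin m → F, (Q : Matrix (Fin n) (Fin n) F) *ᵥ (u ∘ e)
      = (b₀.equivFun.symm (u ∘ Sum.inl) : Fin n → F) + (b₁.equivFun.symm (u ∘ Sum.inr) : Fin n → F) := by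
    intro u
    show LinearMap.toMatrix' ψ.toLinearMap *ᵥ (u ∘ e) = _
    rw [LinearMap.toMatrix'_mulVec]
    show φ (LinearEquiv.funCongrLeft F F e.symm (u ∘ e)) = _
    rw [show LinearEquiv.funCongrLeft F F e.symm (u ∘ e) = u by
      funext i; simp [LinearEquiv.funCongrLeft_apply, LinearMap.funLeft]]
    show Submodule.prodEquivOfIsCompl (D 0) (D 1) hcompl
      (b₀.equivFun.symm (u ∘ Sum.inl), b₁.equivFun.symm (u ∘ Sum.inr)) = _
    rw [Submodule.coe_prodEquivOfIsCompl']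
  have h0 : ∀ u : Fin m ⊕ Fin m → F, (Q : Matrix (Fin n) (Fin n) F) *ᵥ (u ∘ e) ∈ D 0 ↔ u ∘ Sum.inr = 0 := by
    intro u
    rw [hQ, Submodule.add_mem_iff_right _ (b₀.equivFun.symm (u ∘ Sum.inl)).2]
    refine ⟨fun h => ?_, fun h => by rw [h, map_zero]; exact (D 0).zero_mem⟩
    have := Submodule.disjoint_def.mp hcompl.disjoint _ h (b₁.equivFun.symm (u ∘ Sum.inr)).2
    exact b₁.equivFun.symm.map_eq_zero_iff.mp (Subtype.ext this)
  have h1 : ∀ u : Fin m ⊕ Fin m → F, (Q : Matrix (Fin n) (Fin n) F) *ᵥ (u ∘ e) ∈ D 1 ↔ u ∘ Sum.inl = 0 := by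
    intro u
    rw [hQ, Submodule.add_mem_iff_left _ (b₁.equivFun.symm (u ∘ Sum.inr)).2]
    refine ⟨fun h => ?_, fun h => by rw [h, map_zero]; exact (D 1).zero_mem⟩
    have := Submodule.disjoint_def.mp hcompl.disjoint _ (b₀.equivFun.symm (u ∘ Sum.inl)).2 h
    exact b₀.equivFun.symm.map_eq_zero_iff.mp (Subtype.ext this)
  set G := (H51.adj hF (Q : Matrix (Fin n) (Fin n) F) * (Q : Matrix (Fin n) (Fin n) F)).submatrix e.symm e.symm
    with hG
  have hcol : ∀ i, (fun k => (Q : Matrix (Fin n) (Fin n) F) k (e.symm i))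
      = (Q : Matrix (Fin n) (Fin n) F) *ᵥ ((Pi.single i (1 : F) : Fin m ⊕ Fin m → F) ∘ e) := by
    intro i
    have : ((Pi.single i (1 : F) : Fin m ⊕ Fin m → F) ∘ e) = Pi.single (e.symm i) 1 := by
      funext j; simp [Pi.single_apply, Equiv.eq_symm_apply]
    rw [this, Matrix.mulVec_single_one]; rfl
  have hentry : ∀ i j, G i j = Cfsg.hermForm n F q (fun k => (Q : Matrix (Fin n) (Fin n) F) k (e.symm j))
      (fun k => (Q : Matrix (Fin n) (Fin n) F) k (e.symm i)) := by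
    intro i j
    simp only [hG, Matrix.submatrix_apply, Matrix.mul_apply, H51.adj_apply, Cfsg.hermForm]
    exact Finset.sum_congr rfl fun k _ => mul_comm _ _
  have hGh : H51.adj hF G = G := by
    have : H51.adj hF G
        = (H51.adj hF (H51.adj hF (Q : Matrix (Fin n) (Fin n) F) * (Q : Matrix (Fin n) (Fin n) F))).submatrix e.symm e.symm := by
      ext i j; simp [hG]
    rw [this, H51.adj_mul, H51.adj_adj]
  have hG11 : G.toBlocks₁₁ = 0 := by
    ext i j
    show G (Sum.inl i) (Sum.inl j) = 0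
    rw [hentry, hcol, hcol]
    exact hDs 0 _ ((h0 _).mpr (by funext k; simp)) _ ((h0 _).mpr (by funext k; simp))
  have hG22 : G.toBlocks₂₂ = 0 := by
    ext i j
    show G (Sum.inr i) (Sum.inr j) = 0
    rw [hentry, hcol, hcol]
    exact hDs 1 _ ((h1 _).mpr (by funext k; simp)) _ ((h1 _).mpr (by funext k; simp))
  have hG21 : G.toBlocks₂₁ = H51.adj hF G.toBlocks₁₂ := by
    ext i j
    rw [H51.adj_apply]
    show G (Sum.inr i) (Sum.inl j) = G (Sum.inl j) (Sum.inr i) ^ q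
    conv_lhs => rw [← hGh, H51.adj_apply]
  have hGb : G = Matrix.fromBlocks 0 G.toBlocks₁₂ (H51.adj hF G.toBlocks₁₂) 0 := by
    conv_lhs => rw [← Matrix.fromBlocks_toBlocks G, hG11, hG22, hG21]
  refine ⟨e, Q, G.toBlocks₁₂, ?_, hGb, h0, h1⟩
  intro hM
  have hGd : G.det ≠ 0 := by
    rw [hG, Matrix.det_submatrix_equiv_self, Matrix.det_mul, H51.det_adj hF]
    have := (Matrix.isUnits_det_units Q).ne_zero
    exact mul_ne_zero (pow_ne_zero _ this) this
  obtain ⟨v, hv, hv0⟩ := Matrix.exists_mulVec_eq_zero_iff.mpr hM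
  apply hGd
  rw [← Matrix.exists_mulVec_eq_zero_iff]
  refine ⟨Sum.elim 0 v, fun h => hv ?_, ?_⟩
  · funext i; exact congrFun h (Sum.inr i)
  · rw [hGb, Matrix.fromBlocks_mulVec, Sum.elim_comp_inl, Sum.elim_comp_inr, hv0, Matrix.mulVec_zero,
      Matrix.mulVec_zero, Matrix.zero_mulVec, add_zero]
    funext i; rcases i with i | i <;> rfl

/-- The pair coordinates turn isometries into congruences. -/
lemma pairHom_mem_GU (e : Fin n ≃ Fin m ⊕ Fin m) (Q : GL (Fin n) F) {G : Matrix (Fin m ⊕ Fin m) (Fin m ⊕ Fin m) F}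
    (hG : (H51.adj hF (Q : Matrix (Fin n) (Fin n) F) * (Q : Matrix (Fin n) (Fin n) F)).submatrix e.symm e.symm = G)
    (Y : GL (Fin m ⊕ Fin m) F) :
    pairHom e Q Y ∈ Cfsg.GU n F q ↔
      H51.adj hF (Y : Matrix (Fin m ⊕ Fin m) (Fin m ⊕ Fin m) F) * G * (Y : Matrix (Fin m ⊕ Fin m) (Fin m ⊕ Fin m) F) = G := by
  rw [H51.mem_GU_iff hF, pairHom_val]
  set Qm : Matrix (Fin n) (Fin n) F := (Q : Matrix (Fin n) (Fin n) F)
  set Qi : Matrix (Fin n) (Fin n) F := ((Q⁻¹ : GL (Fin n) F) : Matrix (Fin n) (Fin n) F)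
  set Ym : Matrix (Fin m ⊕ Fin m) (Fin m ⊕ Fin m) F := (Y : Matrix (Fin m ⊕ Fin m) (Fin m ⊕ Fin m) F)
  have hG' : H51.adj hF Qm * Qm = G.submatrix e e := by
    rw [← hG, Matrix.submatrix_submatrix]; simp
  have hadjY : H51.adj hF (Ym.submatrix e e) = (H51.adj hF Ym).submatrix e e := by ext i j; simp
  have hQQ : Qi * Qm = 1 := Units.inv_mul Q
  have hiff : H51.adj hF (Qm * Ym.submatrix e e * Qi) * (Qm * Ym.submatrix e e * Qi) = 1 ↔
      H51.adj hF (Ym.submatrix e e) * (H51.adj hF Qm * Qm) * Ym.submatrix e e = H51.adj hF Qm * Qm := by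
    constructor
    · intro h
      have := congrArg (fun A => H51.adj hF Qm * A * Qm) h
      simp only [H51.adj_mul, Matrix.mul_one] at this
      have hadjQ : H51.adj hF Qm * H51.adj hF Qi = 1 := by rw [← H51.adj_mul, hQQ, H51.adj_one]
      simpa [Matrix.mul_assoc, hQQ, ← Matrix.mul_assoc (H51.adj hF Qm) (H51.adj hF Qi), hadjQ] using this
    · intro h
      have hQQ' : Qm * Qi = 1 := Units.mul_inv Q
      calc H51.adj hF (Qm * Ym.submatrix e e * Qi) * (Qm * Ym.submatrix e e * Qi)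
          = H51.adj hF Qi * (H51.adj hF (Ym.submatrix e e) * (H51.adj hF Qm * Qm) * Ym.submatrix e e) * Qi := by
            simp only [H51.adj_mul, Matrix.mul_assoc]
        _ = H51.adj hF (Qm * Qi) * (Qm * Qi) := by rw [h, H51.adj_mul]; simp only [Matrix.mul_assoc]
        _ = 1 := by rw [hQQ', H51.adj_one, Matrix.one_mul]
  rw [hiff, hadjY, hG', Matrix.submatrix_mul_equiv, Matrix.submatrix_mul_equiv]
  refine ⟨fun h => ?_, fun h => by rw [h]⟩
  have := congrArg (fun A => A.submatrix e.symm e.symm) h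
  simpa [Matrix.submatrix_submatrix] using this

/-- Elements fixing both members: block diagonal. -/
lemma pair_diag_mem {D : Fin 2 → Submodule F (Fin n → F)} {e : Fin n ≃ Fin m ⊕ Fin m} {Q : GL (Fin n) F}
    (h0 : ∀ u : Fin m ⊕ Fin m → F, (Q : Matrix (Fin n) (Fin n) F) *ᵥ (u ∘ e) ∈ D 0 ↔ u ∘ Sum.inr = 0)
    (h1 : ∀ u : Fin m ⊕ Fin m → F, (Q : Matrix (Fin n) (Fin n) F) *ᵥ (u ∘ e) ∈ D 1 ↔ u ∘ Sum.inl = 0)
    (Y : GL (Fin m ⊕ Fin m) F) {A B : Matrix (Fin m) (Fin m) F}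
    (hY : (Y : Matrix (Fin m ⊕ Fin m) (Fin m ⊕ Fin m) F) = Matrix.fromBlocks A 0 0 B) :
    pairHom e Q Y ∈ Cfsg.Geo.decompositionStabilizer D := by
  refine ⟨1, fun i => ?_⟩
  rw [Equiv.Perm.one_apply]
  set y := pairHom e Q Y
  have hinj : Function.Injective (Matrix.toLin' (y : Matrix (Fin n) (Fin n) F)) := fun a b h => by
    rw [Matrix.toLin'_apply, Matrix.toLin'_apply] at h
    have := congrArg (((y⁻¹ : GL (Fin n) F) : Matrix (Fin n) (Fin n) F) *ᵥ ·) h
    simpa [Matrix.mulVec_mulVec] using this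
  refine Submodule.eq_of_le_of_finrank_eq ?_ ((Submodule.equivMapOfInjective _ hinj (D i)).finrank_eq.symm)
  rintro _ ⟨v, hv, rfl⟩
  rw [Matrix.toLin'_apply]
  obtain ⟨u, rfl⟩ : ∃ u : Fin m ⊕ Fin m → F, (Q : Matrix (Fin n) (Fin n) F) *ᵥ (u ∘ e) = v :=
    ⟨(((Q⁻¹ : GL (Fin n) F) : Matrix (Fin n) (Fin n) F) *ᵥ v) ∘ e.symm, by
      rw [Function.comp_assoc, Equiv.symm_comp_self, Function.comp_id, Matrix.mulVec_mulVec, Units.mul_inv,
        Matrix.one_mulVec]⟩
  rw [pairHom_mulVec, hY, Matrix.fromBlocks_mulVec]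
  fin_cases i
  · refine (h0 _).mpr ?_
    rw [Sum.elim_comp_inr, (h0 u).mp hv, Matrix.mulVec_zero, Matrix.zero_mulVec, add_zero]
  · refine (h1 _).mpr ?_
    rw [Sum.elim_comp_inl, (h1 u).mp hv, Matrix.mulVec_zero, Matrix.zero_mulVec, add_zero]

/-- The adjoint has the same rank. -/
lemma rank_adj {ι : Type} [Fintype ι] [DecidableEq ι] (C : Matrix ι ι F) : (H51.adj hF C).rank = C.rank := by
  classical
  rw [show H51.adj hF C = (C.map (H51.qFrob hF))ᵀ from rfl, Matrix.rank_transpose]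
  let σ := H51.qFrob hF
  have hσ : Function.Bijective (fun v : ι → F => σ ∘ v) :=
    Finite.injective_iff_bijective.mp fun a b h => funext fun i => σ.injective (congrFun h i)
  have key : Nat.card (LinearMap.range (C.map σ).mulVecLin) = Nat.card (LinearMap.range C.mulVecLin) := by
    refine Nat.card_congr ((Equiv.ofBijective _ hσ).subtypeEquiv fun v => ?_).symm
    simp only [LinearMap.mem_range, Matrix.mulVecLin_apply, Equiv.ofBijective_apply]
    constructor
    · rintro ⟨u, rfl⟩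
      exact ⟨σ ∘ u, funext fun i => (RingHom.map_mulVec σ C u i).symm⟩
    · rintro ⟨u, hu⟩
      obtain ⟨u', rfl⟩ := hσ.2 u
      refine ⟨u', hσ.1 (funext fun i => ?_)⟩
      show σ ((C *ᵥ u') i) = _
      rw [RingHom.map_mulVec]
      exact congrFun hu i
  have e : ∀ W : Submodule F (ι → F), Nat.card W = Nat.card F ^ Module.finrank F W :=
    fun W => Module.natCard_eq_pow_finrank
  rw [e, e] at key
  exact Nat.pow_right_injective Finite.one_lt_card key

/-- Elements of `GU` stabilising the pair. -/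
theorem pair_rank {D : Fin 2 → Submodule F (Fin n → F)} {e : Fin n ≃ Fin m ⊕ Fin m} {Q : GL (Fin n) F}
    {M : Matrix (Fin m) (Fin m) F} (hM : M.det ≠ 0)
    (hG : (H51.adj hF (Q : Matrix (Fin n) (Fin n) F) * (Q : Matrix (Fin n) (Fin n) F)).submatrix e.symm e.symm
        = Matrix.fromBlocks 0 M (H51.adj hF M) 0)
    (h0 : ∀ u : Fin m ⊕ Fin m → F, (Q : Matrix (Fin n) (Fin n) F) *ᵥ (u ∘ e) ∈ D 0 ↔ u ∘ Sum.inr = 0)
    (h1 : ∀ u : Fin m ⊕ Fin m → F, (Q : Matrix (Fin n) (Fin n) F) *ᵥ (u ∘ e) ∈ D 1 ↔ u ∘ Sum.inl = 0)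
    {y : GL (Fin n) F} (hy : y ∈ Cfsg.Geo.decompositionStabilizer D) (hyU : y ∈ Cfsg.GU n F q)
    {l : F} (hl : l ^ (q + 1) = 1) :
    Even ((y : Matrix (Fin n) (Fin n) F) - l • 1).rank ∨
      (((D 0).map (Matrix.toLin' (y : Matrix (Fin n) (Fin n) F)) = D 1 ∧
        (D 1).map (Matrix.toLin' (y : Matrix (Fin n) (Fin n) F)) = D 0) ∧
        ((y : Matrix (Fin n) (Fin n) F) * y = (l * l) • 1 → ((y : Matrix (Fin n) (Fin n) F) - l • 1).rank = m)) := by
  classical
  obtain ⟨Y, rfl⟩ := pairHom_surjective e Q y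
  obtain ⟨σ, hσ⟩ := hy
  set Ym : Matrix (Fin m ⊕ Fin m) (Fin m ⊕ Fin m) F := (Y : Matrix (Fin m ⊕ Fin m) (Fin m ⊕ Fin m) F) with hYm
  have himg : ∀ i (u : Fin m ⊕ Fin m → F), (Q : Matrix (Fin n) (Fin n) F) *ᵥ (u ∘ e) ∈ D i →
      (Q : Matrix (Fin n) (Fin n) F) *ᵥ ((Ym *ᵥ u) ∘ e) ∈ D (σ i) := by
    intro i u hu
    rw [← hσ i]
    exact ⟨_, hu, by rw [Matrix.toLin'_apply, pairHom_mulVec]⟩
  have hYU := (pairHom_mem_GU hF e Q hG Y).mp hyU
  have hadjl : ∀ A : Matrix (Fin m) (Fin m) F, (H51.adj hF A - (l ^ q) • 1).rank = (A - l • 1).rank := by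
    intro A
    have : H51.adj hF A - (l ^ q) • 1 = H51.adj hF (A - l • 1) := by
      rw [H51.adj_sub, H51.adj_smul, H51.adj_one]
    rw [this]
    exact rank_adj hF _
  rcases (show σ 0 = 0 ∨ σ 0 = 1 by omega) with hs | hs
  · left
    have hs1 : σ 1 = 1 := by
      rcases (show σ 1 = 0 ∨ σ 1 = 1 by omega) with h | h
      · exact absurd (σ.injective (hs.trans h.symm)) (by decide)
      · exact h
    have h21 : Ym.toBlocks₂₁ = 0 := by
      ext i j
      have := (h0 _).mp (hs ▸ himg 0 (Pi.single (Sum.inl j) 1) ((h0 _).mpr (by funext k; simp)))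
      simpa [Matrix.mulVec_single_one, Matrix.toBlocks₂₁] using congrFun this i
    have h12 : Ym.toBlocks₁₂ = 0 := by
      ext i j
      have := (h1 _).mp (hs1 ▸ himg 1 (Pi.single (Sum.inr j) 1) ((h1 _).mpr (by funext k; simp)))
      simpa [Matrix.mulVec_single_one, Matrix.toBlocks₁₂] using congrFun this i
    set A := Ym.toBlocks₁₁
    set B := Ym.toBlocks₂₂
    have hYb : Ym = Matrix.fromBlocks A 0 0 B := by
      conv_lhs => rw [← Matrix.fromBlocks_toBlocks Ym, h12, h21]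
    have hrel : H51.adj hF A * M * B = M := by
      have hadjb : H51.adj hF Ym = Matrix.fromBlocks (H51.adj hF A) 0 0 (H51.adj hF B) := by
        rw [hYb]; ext (i | i) (j | j) <;> simp [(H51.q_pos hF).ne']
      have := hYU
      rw [← hYm] at this
      rw [hadjb, hYb, Matrix.fromBlocks_multiply, Matrix.fromBlocks_multiply] at this
      simpa using congrArg Matrix.toBlocks₁₂ this
    have hAd : (H51.adj hF A).det ≠ 0 := fun h => hM (by
      rw [← hrel, Matrix.det_mul, Matrix.det_mul, h, zero_mul, zero_mul])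
    have hrB : (B - l • 1).rank = (A - l • 1).rank := by
      have hu : IsUnit (H51.adj hF A * M).det := by
        rw [Matrix.det_mul]; exact (mul_ne_zero hAd hM).isUnit
      have hl0 : l ≠ 0 := by rintro rfl; rw [zero_pow (by omega)] at hl; exact zero_ne_one hl
      have key : (H51.adj hF A * M) * (B - l • 1) = (-l) • ((H51.adj hF A - (l ^ q) • 1) * M) := by
        rw [Matrix.mul_sub, hrel, Matrix.mul_smul, Matrix.mul_one, Matrix.sub_mul, Matrix.smul_mul, Matrix.one_mul,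
          smul_sub, smul_smul, neg_smul, neg_mul, ← pow_succ', hl, neg_smul, one_smul]
        abel
      have h2 := congrArg Matrix.rank key
      rw [Matrix.rank_mul_eq_right_of_isUnit_det _ _ hu] at h2
      rw [h2, ← hadjl A, ← Matrix.smul_mul, Matrix.rank_mul_eq_left_of_isUnit_det _ _ (Ne.isUnit hM)]
      rw [show (-l) • (H51.adj hF A - (l ^ q) • 1)
        = ((-l) • (1 : Matrix (Fin m) (Fin m) F)) * (H51.adj hF A - (l ^ q) • 1) by rw [Matrix.smul_mul, Matrix.one_mul]]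
      exact Matrix.rank_mul_eq_right_of_isUnit_det _ _ (by
        rw [Matrix.det_smul, Matrix.det_one, mul_one]; exact (pow_ne_zero _ (neg_ne_zero.mpr hl0)).isUnit)
    rw [pairHom_rank, ← hYm, hYb,
      show (Matrix.fromBlocks A 0 0 B - l • 1) = Matrix.fromBlocks (A - l • 1) 0 0 (B - l • 1) by
        ext (i | i) (j | j) <;> simp [Matrix.one_apply],
      H44.rank_fromBlocks_zero, hrB]
    exact ⟨_, rfl⟩
  · right
    have hs1 : σ 1 = 0 := by
      rcases (show σ 1 = 0 ∨ σ 1 = 1 by omega) with h | h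
      · exact h
      · exact absurd (σ.injective (hs.trans h.symm)) (by decide)
    refine ⟨⟨hs ▸ hσ 0, hs1 ▸ hσ 1⟩, fun hy2 => ?_⟩
    have h11 : Ym.toBlocks₁₁ = 0 := by
      ext i j
      have := (h1 _).mp (hs ▸ himg 0 (Pi.single (Sum.inl j) 1) ((h0 _).mpr (by funext k; simp)))
      simpa [Matrix.mulVec_single_one, Matrix.toBlocks₁₁] using congrFun this i
    have h22 : Ym.toBlocks₂₂ = 0 := by
      ext i j
      have := (h0 _).mp (hs1 ▸ himg 1 (Pi.single (Sum.inr j) 1) ((h1 _).mpr (by funext k; simp)))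
      simpa [Matrix.mulVec_single_one, Matrix.toBlocks₂₂] using congrFun this i
    set B := Ym.toBlocks₁₂
    set C := Ym.toBlocks₂₁
    have hYb : Ym = Matrix.fromBlocks 0 B C 0 := by
      conv_lhs => rw [← Matrix.fromBlocks_toBlocks Ym, h11, h22]
    have hl0 : l ≠ 0 := by rintro rfl; rw [zero_pow (by omega)] at hl; exact zero_ne_one hl
    have hY2 : Ym * Ym = (l * l) • 1 := by
      have h := congrArg (fun A => (((Q⁻¹ : GL (Fin n) F) : Matrix (Fin n) (Fin n) F) * A * (Q : Matrix (Fin n) (Fin n) F)).submatrix e.symm e.symm) hy2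
      simpa [pairHom_val, hYm, Matrix.mul_assoc, Matrix.submatrix_mul_equiv, Matrix.submatrix_smul,
        Matrix.submatrix_submatrix] using h
    have hCB : C * B = (l * l) • 1 := by
      have := congrArg Matrix.toBlocks₂₂ hY2
      rw [hYb, Matrix.fromBlocks_multiply, ← Matrix.fromBlocks_one, Matrix.fromBlocks_smul] at this
      simpa using this
    rw [pairHom_rank, ← hYm, hYb]
    have hfac : (Matrix.fromBlocks 0 B C 0 - l • (1 : Matrix (Fin m ⊕ Fin m) (Fin m ⊕ Fin m) F))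
        = Matrix.fromBlocks 1 0 (-(l⁻¹ • C)) 1 *
          (Matrix.fromBlocks ((-l) • (1 : Matrix (Fin m) (Fin m) F)) 0 0 0 * Matrix.fromBlocks 1 (-(l⁻¹ • B)) 0 1) := by
      have e1 : (l⁻¹ * l⁻¹) * (-l) * (l * l) = -l := by field_simp
      rw [← Matrix.fromBlocks_one, Matrix.fromBlocks_smul, Matrix.fromBlocks_multiply, Matrix.fromBlocks_multiply]
      ext (i | i) (j | j) <;>
        simp [Matrix.smul_mul, Matrix.mul_smul, hCB, smul_smul, Matrix.one_apply, mul_inv_cancel₀ hl0,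
          inv_mul_cancel₀ hl0]
      · split_ifs <;> simp [mul_comm, mul_left_comm, hl0]
    rw [hfac, Matrix.rank_mul_eq_right_of_isUnit_det _ _ (by simp),
      Matrix.rank_mul_eq_left_of_isUnit_det _ _ (by simp), H44.rank_fromBlocks_zero, Matrix.rank_zero, add_zero,
      Matrix.rank_of_isUnit _ ((Matrix.isUnit_iff_isUnit_det _).mpr (by
        rw [Matrix.det_smul, Matrix.det_one, mul_one]; exact (pow_ne_zero _ (neg_ne_zero.mpr hl0)).isUnit)),
      Fintype.card_fin]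

end H47
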