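import Mathlib
import Cfsg.Agent.H47.GUPair
import Cfsg.Agent.H50.Hyperbolic
import Cfsg.Agent.H50.Count
import Cfsg.Agent.H51.Witt
import Cfsg.Agent.H37.Card

/-!
# Elements of `SU` against the stabiliser of a pair of totally singular subspaces
-/

set_option autoImplicit false
open scoped MatrixGroups Matrix
open Matrix Polynomial

namespace H47

variable {F : Type*} [Field F] {n m : ℕ}

/-- Diagonal matrices with the same multiplicities are conjugate. -/
lemma isConj_diagGL {ι : Type} [Fintype ι] [DecidableEq ι] {a b : ι → Fˣ}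
    (h : ∀ v, Nat.card {i // a i = v} = Nat.card {i // b i = v}) :
    ∃ e : Equiv.Perm ι, b ∘ e = a := by
  classical
  refine ⟨Equiv.ofFiberEquiv (f := a) (g := b) fun v => Classical.choice ?_, ?_⟩
  · exact ⟨(Finite.equivFinOfCardEq (h v)).trans (Finite.equivFin _).symm⟩
  · funext i; exact Equiv.ofFiberEquiv_map _ i

lemma diagGL_perm {a b : Fin n → Fˣ} {e : Equiv.Perm (Fin n)} (h : b ∘ e = a) :
    IsConj (H42.diagGL b) (H42.diagGL a) := by
  classical
  let P : GL (Fin n) F :=
    { val := e.permMatrix F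
      inv := e⁻¹.permMatrix F
      val_inv := by rw [← Matrix.permMatrix_mul]; simp
      inv_val := by rw [← Matrix.permMatrix_mul]; simp }
  refine isConj_iff.mpr ⟨P, ?_⟩
  rw [mul_inv_eq_iff_eq_mul]
  apply Units.ext
  rw [Units.val_mul, Units.val_mul, H42.coe_diagGL, H42.coe_diagGL]
  ext i j
  rw [Matrix.mul_diagonal, Matrix.diagonal_mul]
  simp only [P, Equiv.Perm.permMatrix, PEquiv.toMatrix_apply, Equiv.toPEquiv_apply, Option.mem_def,
    Option.some.injEq, ← h, Function.comp_apply]
  by_cases hij : e i = j <;> simp [hij, eq_comm]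

variable [Fintype F]

/-- Elements squaring to a nonzero square scalar are conjugate when the ranks agree. -/
theorem isConj_of_sq (h2 : (2 : F) ≠ 0) {l : F} (hl : l ≠ 0) {x y : GL (Fin n) F}
    (hx : (x : Matrix (Fin n) (Fin n) F) * x = (l * l) • 1) (hy : (y : Matrix (Fin n) (Fin n) F) * y = (l * l) • 1)
    (hr : ((x : Matrix (Fin n) (Fin n) F) - l • 1).rank = ((y : Matrix (Fin n) (Fin n) F) - l • 1).rank) :
    IsConj x y := by
  classical
  have hchar : ringChar F ≠ 2 := fun h => h2 (by exact_mod_cast (h ▸ ringChar.Nat.cast_ringChar : ((2 : ℕ) : F) = 0))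
  have hodd := FiniteField.odd_card_of_char_ne_two hchar
  have hdg : ∀ z : GL (Fin n) F, (z : Matrix (Fin n) (Fin n) F) * z = (l * l) • 1 →
      ∃ d : Fin n → Fˣ, IsConj z (H42.diagGL d) ∧ (∀ i, d i = Units.mk0 l hl ∨ d i = -Units.mk0 l hl) ∧
        ((z : Matrix (Fin n) (Fin n) F) - l • 1).rank = Fintype.card {i // d i ≠ Units.mk0 l hl} := by
    intro z hz
    set L : Fˣ := Units.mk0 l hl
    let c : GL (Fin n) F := H42.diagGL fun _ => L⁻¹
    have hc : ∀ A : GL (Fin n) F, ((c * A : GL (Fin n) F) : Matrix (Fin n) (Fin n) F)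
        = l⁻¹ • (A : Matrix (Fin n) (Fin n) F) := fun A => by
      rw [Units.val_mul, H42.coe_diagGL]
      ext i j
      simp [L]
    have hz2 : (c * z) ^ 2 = 1 := by
      refine Units.ext ?_
      rw [pow_two, Units.val_mul, hc, Matrix.smul_mul, Matrix.mul_smul, hz, smul_smul, smul_smul, Units.val_one,
        show l⁻¹ * l⁻¹ * (l * l) = 1 by field_simp, one_smul]
    obtain ⟨P, f, hP⟩ := H42.exists_diagonalize Nat.prime_two (by omega) (c * z) hz2
    have hzP : (z : Matrix (Fin n) (Fin n) F) = (P : Matrix (Fin n) (Fin n) F)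
        * Matrix.diagonal (fun i => l * ((f i : Fˣ) : F)) * ((P⁻¹ : GL (Fin n) F) : Matrix (Fin n) (Fin n) F) := by
      have h1 := congrArg (fun g : GL (Fin n) F => l • (g : Matrix (Fin n) (Fin n) F)) hP
      simp only [hc, smul_smul, mul_inv_cancel₀ hl, one_smul, Units.val_mul, H42.coe_diagGL] at h1
      rw [h1, ← Matrix.smul_mul, ← Matrix.mul_smul, ← Matrix.diagonal_smul]
      rfl
    refine ⟨fun i => L * (f i : Fˣ), ?_, fun i => ?_, ?_⟩
    · refine isConj_iff.mpr ⟨P⁻¹, Units.ext ?_⟩
      rw [Units.val_mul, Units.val_mul, inv_inv, hzP, H42.coe_diagGL]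
      simp only [← Matrix.mul_assoc, Units.inv_mul, Matrix.one_mul]
      rw [Matrix.mul_assoc, Units.inv_mul, Matrix.mul_one]
      congr 1
    · have hf := (f i).2
      rw [mem_rootsOfUnity] at hf
      rcases mul_self_eq_one_iff.mp (show ((f i : Fˣ) : F) * ((f i : Fˣ) : F) = 1 by
        rw [← pow_two, ← Units.val_pow_eq_pow_val, hf, Units.val_one]) with h | h
      · left; show L * ((f i : Fˣ)) = L; rw [Units.val_eq_one.mp h, mul_one]
      · right; ext; simp [h]
    · have : (z : Matrix (Fin n) (Fin n) F) - l • 1 = (P : Matrix (Fin n) (Fin n) F)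
          * Matrix.diagonal (fun i => l * ((f i : Fˣ) : F) - l) * ((P⁻¹ : GL (Fin n) F) : Matrix (Fin n) (Fin n) F) := by
        rw [← Matrix.diagonal_sub, Matrix.mul_sub, Matrix.sub_mul, ← hzP,
          ← Matrix.smul_one_eq_diagonal, Matrix.mul_smul, Matrix.mul_one, Matrix.smul_mul, Units.mul_inv]
      rw [this, Matrix.rank_mul_eq_left_of_isUnit_det _ _ (Matrix.isUnits_det_units P⁻¹),
        Matrix.rank_mul_eq_right_of_isUnit_det _ _ (Matrix.isUnits_det_units P), Matrix.rank_diagonal]
      refine Fintype.card_congr (Equiv.subtypeEquivRight fun i => ?_)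
      rw [ne_eq, ne_eq, sub_eq_zero, Units.ext_iff]
      rfl
  obtain ⟨a, ha, ha2, har⟩ := hdg x hx
  obtain ⟨b, hb, hb2, hbr⟩ := hdg y hy
  rw [har, hbr] at hr
  have hne : Units.mk0 l hl ≠ -Units.mk0 l hl := fun h => by
    have h' := congrArg Units.val h
    simp only [Units.val_mk0, Units.val_neg] at h'
    exact mul_ne_zero h2 hl (by linear_combination h')
  have hneg : ∀ (d : Fin n → Fˣ), (∀ i, d i = Units.mk0 l hl ∨ d i = -Units.mk0 l hl) → ∀ i,
      (d i ≠ Units.mk0 l hl ↔ d i = -Units.mk0 l hl) := fun d hd i =>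
    ⟨fun h => (hd i).resolve_left h, fun h h' => hne (h'.symm.trans h)⟩
  obtain ⟨e, he⟩ := isConj_diagGL (a := a) (b := b) fun v => by
    rw [Nat.card_eq_fintype_card, Nat.card_eq_fintype_card]
    by_cases h1 : v = Units.mk0 l hl
    · subst h1
      have e1 := Fintype.card_subtype_compl (fun i => a i = Units.mk0 l hl)
      have e2 := Fintype.card_subtype_compl (fun i => b i = Units.mk0 l hl)
      have l1 := Fintype.card_subtype_le (fun i => a i = Units.mk0 l hl)
      have l2 := Fintype.card_subtype_le (fun i => b i = Units.mk0 l hl)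
      simp only [ne_eq] at hr
      omega
    by_cases h3 : v = -Units.mk0 l hl
    · subst h3
      rw [← Fintype.card_congr (Equiv.subtypeEquivRight (hneg a ha2)),
        ← Fintype.card_congr (Equiv.subtypeEquivRight (hneg b hb2))]
      convert hr using 1
    · rw [Fintype.card_eq_zero_iff.mpr ⟨fun i => (ha2 i.1).elim (fun h => h1 (i.2.symm.trans h)) fun h => h3 (i.2.symm.trans h)⟩,
        Fintype.card_eq_zero_iff.mpr ⟨fun i => (hb2 i.1).elim (fun h => h1 (i.2.symm.trans h)) fun h => h3 (i.2.symm.trans h)⟩]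
  exact ha.trans ((diagGL_perm he).symm.trans hb.symm)

variable {q : ℕ} (hF : Fintype.card F = q ^ 2)
include hF

/-- The unitary partner of a block. -/
noncomputable def pairPartner (M : GL (Fin m) F) : GL (Fin m) F →* GL (Fin m ⊕ Fin m) F where
  toFun E :=
    { val := Matrix.fromBlocks (E : Matrix (Fin m) (Fin m) F) 0 0
        (((M⁻¹ : GL (Fin m) F) : Matrix (Fin m) (Fin m) F) * H51.adj hF ((E⁻¹ : GL (Fin m) F) : Matrix (Fin m) (Fin m) F)
          * (M : Matrix (Fin m) (Fin m) F))
      inv := Matrix.fromBlocks ((E⁻¹ : GL (Fin m) F) : Matrix (Fin m) (Fin m) F) 0 0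
        (((M⁻¹ : GL (Fin m) F) : Matrix (Fin m) (Fin m) F) * H51.adj hF (E : Matrix (Fin m) (Fin m) F)
          * (M : Matrix (Fin m) (Fin m) F))
      val_inv := by
        rw [Matrix.fromBlocks_multiply]
        simp only [Matrix.zero_mul, Matrix.mul_zero, add_zero, zero_add, Units.mul_inv, Matrix.mul_assoc]
        rw [← Matrix.mul_assoc (M : Matrix (Fin m) (Fin m) F), Units.mul_inv, Matrix.one_mul,
          ← Matrix.mul_assoc (H51.adj hF _) (H51.adj hF _), ← H51.adj_mul, Units.mul_inv, H51.adj_one,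
          Matrix.one_mul, Units.inv_mul, Matrix.fromBlocks_one]
      inv_val := by
        rw [Matrix.fromBlocks_multiply]
        simp only [Matrix.zero_mul, Matrix.mul_zero, add_zero, zero_add, Units.inv_mul, Matrix.mul_assoc]
        rw [← Matrix.mul_assoc (M : Matrix (Fin m) (Fin m) F), Units.mul_inv, Matrix.one_mul,
          ← Matrix.mul_assoc (H51.adj hF _) (H51.adj hF _), ← H51.adj_mul, Units.inv_mul, H51.adj_one,
          Matrix.one_mul, Units.inv_mul, Matrix.fromBlocks_one] }
  map_one' := Units.ext (by simp [Matrix.fromBlocks_one])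
  map_mul' A B := Units.ext (by
    show Matrix.fromBlocks _ _ _ _ = Matrix.fromBlocks _ _ _ _ * Matrix.fromBlocks _ _ _ _
    rw [Matrix.fromBlocks_multiply]
    simp only [Matrix.zero_mul, Matrix.mul_zero, add_zero, zero_add, Units.val_mul, _root_.mul_inv_rev, Matrix.mul_assoc,
      H51.adj_mul]
    congr 2
    rw [← Matrix.mul_assoc (M : Matrix (Fin m) (Fin m) F), Units.mul_inv, Matrix.one_mul])

lemma pairPartner_val (M E : GL (Fin m) F) :
    (pairPartner hF M E : Matrix (Fin m ⊕ Fin m) (Fin m ⊕ Fin m) F) = Matrix.fromBlocks (E : Matrix (Fin m) (Fin m) F) 0 0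
      (((M⁻¹ : GL (Fin m) F) : Matrix (Fin m) (Fin m) F) * H51.adj hF ((E⁻¹ : GL (Fin m) F) : Matrix (Fin m) (Fin m) F)
        * (M : Matrix (Fin m) (Fin m) F)) := rfl

lemma pairPartner_gram (M E : GL (Fin m) F) :
    H51.adj hF (pairPartner hF M E : Matrix (Fin m ⊕ Fin m) (Fin m ⊕ Fin m) F)
      * Matrix.fromBlocks 0 (M : Matrix (Fin m) (Fin m) F) (H51.adj hF (M : Matrix (Fin m) (Fin m) F)) 0
      * (pairPartner hF M E : Matrix (Fin m ⊕ Fin m) (Fin m ⊕ Fin m) F)
      = Matrix.fromBlocks 0 (M : Matrix (Fin m) (Fin m) F) (H51.adj hF (M : Matrix (Fin m) (Fin m) F)) 0 := by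
  set Em : Matrix (Fin m) (Fin m) F := (E : Matrix (Fin m) (Fin m) F)
  set Ei : Matrix (Fin m) (Fin m) F := ((E⁻¹ : GL (Fin m) F) : Matrix (Fin m) (Fin m) F)
  set Mm : Matrix (Fin m) (Fin m) F := (M : Matrix (Fin m) (Fin m) F)
  set Mi : Matrix (Fin m) (Fin m) F := ((M⁻¹ : GL (Fin m) F) : Matrix (Fin m) (Fin m) F)
  have hadjb : H51.adj hF (Matrix.fromBlocks Em 0 0 (Mi * H51.adj hF Ei * Mm))
      = Matrix.fromBlocks (H51.adj hF Em) 0 0 (H51.adj hF (Mi * H51.adj hF Ei * Mm)) := by
    ext (i | i) (j | j) <;> simp [(H51.q_pos hF).ne']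
  have hMM : Mm * Mi = 1 := Units.mul_inv M
  have hEE : H51.adj hF Em * H51.adj hF Ei = 1 := by
    rw [← H51.adj_mul, show Ei * Em = 1 from Units.inv_mul E, H51.adj_one]
  have h1 : H51.adj hF Em * Mm * (Mi * H51.adj hF Ei * Mm) = Mm := by
    calc _ = H51.adj hF Em * (Mm * Mi) * H51.adj hF Ei * Mm := by simp only [Matrix.mul_assoc]
      _ = _ := by rw [hMM, Matrix.mul_one, hEE, Matrix.one_mul]
  have h2 : H51.adj hF (Mi * H51.adj hF Ei * Mm) * H51.adj hF Mm * Em = H51.adj hF Mm := by
    have := congrArg (H51.adj hF) h1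
    simpa [H51.adj_mul, Matrix.mul_assoc] using this
  rw [pairPartner_val, hadjb, Matrix.fromBlocks_multiply, Matrix.fromBlocks_multiply]
  simp only [Matrix.zero_mul, Matrix.mul_zero, add_zero, zero_add]
  exact congrArg₂ (fun a b => Matrix.fromBlocks 0 a b 0) h1 h2

lemma pairPartner_det (M E : GL (Fin m) F) :
    (pairPartner hF M E : Matrix (Fin m ⊕ Fin m) (Fin m ⊕ Fin m) F).det
      = (E : Matrix (Fin m) (Fin m) F).det * ((E : Matrix (Fin m) (Fin m) F).det⁻¹) ^ q := by
  rw [pairPartner_val, Matrix.det_fromBlocks_zero₁₂, Matrix.det_mul, Matrix.det_mul, H51.det_adj hF,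
    mul_right_comm ((M⁻¹ : GL (Fin m) F) : Matrix (Fin m) (Fin m) F).det, ← Matrix.det_mul, Units.inv_mul,
    Matrix.det_one, one_mul]
  congr 2
  refine eq_inv_of_mul_eq_one_left ?_
  rw [← Matrix.det_mul, Units.inv_mul, Matrix.det_one]

/-- The elements squaring to a scalar, `(q + 1)₂ ≤ n₂`. -/
theorem pair_invol_conj (hn : n = m + m) (hqodd : Odd q) (hv : padicValNat 2 (q + 1) ≤ padicValNat 2 n) (hm : 0 < m)
    {D : Fin 2 → Submodule F (Fin n → F)} {e : Fin n ≃ Fin m ⊕ Fin m} {Q : GL (Fin n) F}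
    {M : Matrix (Fin m) (Fin m) F} (hM : M.det ≠ 0)
    (hG : (H51.adj hF (Q : Matrix (Fin n) (Fin n) F) * (Q : Matrix (Fin n) (Fin n) F)).submatrix e.symm e.symm
        = Matrix.fromBlocks 0 M (H51.adj hF M) 0)
    (h0 : ∀ u : Fin m ⊕ Fin m → F, (Q : Matrix (Fin n) (Fin n) F) *ᵥ (u ∘ e) ∈ D 0 ↔ u ∘ Sum.inr = 0)
    (h1 : ∀ u : Fin m ⊕ Fin m → F, (Q : Matrix (Fin n) (Fin n) F) *ᵥ (u ∘ e) ∈ D 1 ↔ u ∘ Sum.inl = 0)
    {x : GL (Fin n) F} (hxU : x ∈ Cfsg.GU n F q) (hxd : (x : Matrix (Fin n) (Fin n) F).det = 1)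
    {z : F} (hz : (x : Matrix (Fin n) (Fin n) F) * x = z • 1) :
    ∃ g ∈ Cfsg.GU n F q ⊓ Cfsg.Geo.specialLinear (Fin n) F, g⁻¹ * x * g ∈ Cfsg.Geo.decompositionStabilizer D := by
  classical
  haveI : Nonempty (Fin n) := ⟨⟨0, by omega⟩⟩
  have hFodd : Fintype.card F % 2 = 1 := by rw [hF, ← Nat.odd_iff]; exact hqodd.pow
  have h2 : (2 : F) ≠ 0 := by
    intro h
    have := CharP.ringChar_of_prime_eq_zero Nat.prime_two (R := F) (by exact_mod_cast h)
    have h' := FiniteField.even_card_iff_char_two.mp this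
    omega
  have hchar : ringChar F ≠ 2 := fun h => h2 (by exact_mod_cast (h ▸ ringChar.Nat.cast_ringChar : ((2 : ℕ) : F) = 0))
  have hxA := (H51.mem_GU_iff hF x).mp hxU
  have hz1 : z ^ (q + 1) = 1 := by
    have h := congrArg (fun A => H51.adj hF A * A) hz
    simp only [H51.adj_mul, H51.adj_smul, H51.adj_one, Matrix.smul_mul, Matrix.one_mul, smul_smul] at h
    rw [Matrix.mul_assoc, ← Matrix.mul_assoc (H51.adj hF (x : Matrix (Fin n) (Fin n) F)) (x : Matrix (Fin n) (Fin n) F),
      hxA, Matrix.one_mul, hxA] at h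
    have h' := congrFun (congrFun h (Classical.arbitrary _)) (Classical.arbitrary (Fin n))
    simpa [pow_succ] using h'.symm
  have hz0 : z ≠ 0 := by rintro rfl; rw [zero_pow (by omega)] at hz1; exact zero_ne_one hz1
  obtain ⟨k, hk⟩ := hqodd
  obtain ⟨l, rfl⟩ : IsSquare z := by
    rw [FiniteField.isSquare_iff hchar hz0, hF]
    have hdiv : q ^ 2 / 2 = (q + 1) * k := by
      rw [hk, show (2 * k + 1) ^ 2 = 2 * ((2 * k + 1 + 1) * k) + 1 by ring]; omega
    rw [hdiv, pow_mul, hz1, one_pow]
  have hl : l ≠ 0 := fun h => hz0 (by rw [h, mul_zero])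
  -- a block with the right rank
  obtain ⟨E, hE2, hEr⟩ : ∃ Ey : GL (Fin m) F,
      ((pairPartner hF (Matrix.GeneralLinearGroup.mkOfDetNeZero M hM) Ey : GL (Fin m ⊕ Fin m) F) : Matrix (Fin m ⊕ Fin m) (Fin m ⊕ Fin m) F)
        * (pairPartner hF (Matrix.GeneralLinearGroup.mkOfDetNeZero M hM) Ey : Matrix (Fin m ⊕ Fin m) (Fin m ⊕ Fin m) F)
        = (l * l) • 1 ∧
      ((pairPartner hF (Matrix.GeneralLinearGroup.mkOfDetNeZero M hM) Ey : Matrix (Fin m ⊕ Fin m) (Fin m ⊕ Fin m) F) - l • 1).rank
        = ((x : Matrix (Fin n) (Fin n) F) - l • 1).rank := by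
    set Mu := Matrix.GeneralLinearGroup.mkOfDetNeZero M hM
    set X : Matrix (Fin n) (Fin n) F := (x : Matrix (Fin n) (Fin n) F)
    have hll : (l ^ (q + 1)) * (l ^ (q + 1)) = 1 := by rw [← mul_pow]; exact hz1
    have hqinv : ∀ (d : Fin m → Fˣ), (∀ i, (d i : F) * (d i : F) = l * l) →
        ((pairPartner hF Mu (H42.diagGL d) : GL (Fin m ⊕ Fin m) F) : Matrix (Fin m ⊕ Fin m) (Fin m ⊕ Fin m) F)
          = Matrix.fromBlocks (Matrix.diagonal fun i => (d i : F)) 0 0
            (((Mu⁻¹ : GL (Fin m) F) : Matrix (Fin m) (Fin m) F) * Matrix.diagonal (fun i => l ^ (q + 1) * (d i : F)) * M) := by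
      intro d hd
      rw [pairPartner_val, H42.coe_diagGL]
      congr 2
      congr 1
      have hinv : ((H42.diagGL d)⁻¹ : GL (Fin m) F) = H42.diagGL (fun i => (d i)⁻¹) := by
        refine inv_eq_of_mul_eq_one_right (Units.ext ?_)
        rw [Units.val_mul, H42.coe_diagGL, H42.coe_diagGL, Matrix.diagonal_mul_diagonal]
        simp [← Matrix.diagonal_one]
      rw [hinv, H42.coe_diagGL]
      ext i j
      rw [H51.adj_apply]
      rcases eq_or_ne i j with rfl | hij
      · rw [Matrix.diagonal_apply_eq, Matrix.diagonal_apply_eq, Units.val_inv_eq_inv_val, inv_pow]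
        have hd0 : (d i : F) ≠ 0 := (d i).ne_zero
        have hdq : (d i : F) ^ (q + 1) = l ^ (q + 1) := by
          rw [show q + 1 = 2 * (k + 1) by omega, pow_mul, pow_mul, pow_two, pow_two, hd]
        refine inv_eq_of_mul_eq_one_right ?_
        calc (d i : F) ^ q * (l ^ (q + 1) * (d i : F)) = l ^ (q + 1) * (d i : F) ^ (q + 1) := by ring
          _ = 1 := by rw [hdq, hll]
      · rw [Matrix.diagonal_apply_ne _ hij, Matrix.diagonal_apply_ne _ hij.symm, zero_pow (H51.q_pos hF).ne']
    have hsq : ∀ (d : Fin m → Fˣ), (∀ i, (d i : F) * (d i : F) = l * l) →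
        ((pairPartner hF Mu (H42.diagGL d) : GL (Fin m ⊕ Fin m) F) : Matrix (Fin m ⊕ Fin m) (Fin m ⊕ Fin m) F)
          * (pairPartner hF Mu (H42.diagGL d) : Matrix (Fin m ⊕ Fin m) (Fin m ⊕ Fin m) F) = (l * l) • 1 ∧
        ((pairPartner hF Mu (H42.diagGL d) : Matrix (Fin m ⊕ Fin m) (Fin m ⊕ Fin m) F) - l • 1).rank
          = Fintype.card {i // (d i : F) - l ≠ 0} + Fintype.card {i // l ^ (q + 1) * (d i : F) - l ≠ 0} := by
      intro d hd
      rw [hqinv d hd]
      set Mi : Matrix (Fin m) (Fin m) F := ((Mu⁻¹ : GL (Fin m) F) : Matrix (Fin m) (Fin m) F)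
      have hMi : M * Mi = 1 := Units.mul_inv Mu
      have hiM : Mi * M = 1 := Units.inv_mul Mu
      constructor
      · rw [Matrix.fromBlocks_multiply, ← Matrix.fromBlocks_one, Matrix.fromBlocks_smul]
        simp only [Matrix.zero_mul, Matrix.mul_zero, add_zero, zero_add, smul_zero, Matrix.diagonal_mul_diagonal]
        congr 1
        · rw [Matrix.smul_one_eq_diagonal]; congr 1; funext i; exact hd i
        · calc _ = Mi * (Matrix.diagonal (fun i => l ^ (q + 1) * (d i : F)) * (M * Mi)
                * Matrix.diagonal (fun i => l ^ (q + 1) * (d i : F))) * M := by simp only [Matrix.mul_assoc]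
            _ = _ := by
              rw [hMi, Matrix.mul_one, Matrix.diagonal_mul_diagonal,
                show (fun i => l ^ (q + 1) * (d i : F) * (l ^ (q + 1) * (d i : F))) = fun _ : Fin m => l * l from
                  funext fun i => by rw [mul_mul_mul_comm, hll, one_mul, hd],
                ← Matrix.smul_one_eq_diagonal, Matrix.mul_smul, Matrix.mul_one, Matrix.smul_mul, hiM]
      · rw [show (Matrix.fromBlocks (Matrix.diagonal fun i => (d i : F)) 0 0
              (Mi * Matrix.diagonal (fun i => l ^ (q + 1) * (d i : F)) * M) - l • 1)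
            = Matrix.fromBlocks (Matrix.diagonal fun i => (d i : F) - l) 0 0
              (Mi * Matrix.diagonal (fun i => l ^ (q + 1) * (d i : F) - l) * M) by
          rw [← Matrix.fromBlocks_one, Matrix.fromBlocks_smul, sub_eq_add_neg, Matrix.fromBlocks_neg,
            Matrix.fromBlocks_add]
          simp only [smul_zero, neg_zero, add_zero, ← sub_eq_add_neg]
          congr 1
          · rw [Matrix.smul_one_eq_diagonal, Matrix.diagonal_sub]
          · rw [← Matrix.diagonal_sub, Matrix.mul_sub, Matrix.sub_mul, ← Matrix.smul_one_eq_diagonal,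
              Matrix.mul_smul, Matrix.mul_one, Matrix.smul_mul, hiM],
          H44.rank_fromBlocks_zero, Matrix.rank_diagonal,
          Matrix.rank_mul_eq_left_of_isUnit_det _ _ (Ne.isUnit hM),
          Matrix.rank_mul_eq_right_of_isUnit_det _ _ (Matrix.isUnits_det_units Mu⁻¹), Matrix.rank_diagonal]
    rcases mul_self_eq_one_iff.mp hll with he | he
    · -- the eigenspaces are non-degenerate
      have hxd' : ∃ b, ((X - l • 1).rank = b) ∧ (-1 : F) ^ b * l ^ n = 1 := by
        refine ⟨_, rfl, ?_⟩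
        let c : GL (Fin n) F := H42.diagGL fun _ => (Units.mk0 l hl)⁻¹
        have hc : ∀ A : GL (Fin n) F, ((c * A : GL (Fin n) F) : Matrix (Fin n) (Fin n) F)
            = l⁻¹ • (A : Matrix (Fin n) (Fin n) F) := fun A => by
          rw [Units.val_mul, H42.coe_diagGL]
          ext i j
          simp
        have hz2 : (c * x) ^ 2 = 1 := by
          refine Units.ext ?_
          rw [pow_two, Units.val_mul, hc, Matrix.smul_mul, Matrix.mul_smul, hz, smul_smul, smul_smul, Units.val_one,
            show l⁻¹ * l⁻¹ * (l * l) = 1 by field_simp, one_smul]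
        obtain ⟨P, f, hP⟩ := H42.exists_diagonalize Nat.prime_two (by omega) (c * x) hz2
        have hf : ∀ i, ((f i : Fˣ) : F) = 1 ∨ ((f i : Fˣ) : F) = -1 := fun i => by
          have hfi := (f i).2
          rw [mem_rootsOfUnity] at hfi
          exact mul_self_eq_one_iff.mp (by rw [← pow_two, ← Units.val_pow_eq_pow_val, hfi, Units.val_one])
        have hxP : X = (P : Matrix (Fin n) (Fin n) F)
            * Matrix.diagonal (fun i => l * ((f i : Fˣ) : F)) * ((P⁻¹ : GL (Fin n) F) : Matrix (Fin n) (Fin n) F) := by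
          have h1 := congrArg (fun g : GL (Fin n) F => l • (g : Matrix (Fin n) (Fin n) F)) hP
          simp only [hc, smul_smul, mul_inv_cancel₀ hl, one_smul, Units.val_mul, H42.coe_diagGL] at h1
          show (x : Matrix (Fin n) (Fin n) F) = _
          rw [h1, ← Matrix.smul_mul, ← Matrix.mul_smul, ← Matrix.diagonal_smul]
          rfl
        have hsub : X - l • 1 = (P : Matrix (Fin n) (Fin n) F)
            * Matrix.diagonal (fun i => l * ((f i : Fˣ) : F) - l) * ((P⁻¹ : GL (Fin n) F) : Matrix (Fin n) (Fin n) F) := by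
          rw [← Matrix.diagonal_sub, Matrix.mul_sub, Matrix.sub_mul, ← hxP,
            ← Matrix.smul_one_eq_diagonal, Matrix.mul_smul, Matrix.mul_one, Matrix.smul_mul, Units.mul_inv]
        rw [hsub, Matrix.rank_mul_eq_left_of_isUnit_det _ _ (Matrix.isUnits_det_units P⁻¹),
          Matrix.rank_mul_eq_right_of_isUnit_det _ _ (Matrix.isUnits_det_units P), Matrix.rank_diagonal]
        have hd : X.det = 1 := hxd
        rw [hxP, Matrix.det_mul, Matrix.det_mul, mul_right_comm, ← Matrix.det_mul, Units.mul_inv, Matrix.det_one,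
          one_mul, Matrix.det_diagonal, Finset.prod_mul_distrib, Finset.prod_const, Finset.card_univ,
          Fintype.card_fin] at hd
        rw [mul_comm]
        refine Eq.trans ?_ hd
        congr 1
        rw [Fintype.card_subtype, ← Finset.prod_const, Finset.prod_filter]
        refine Finset.prod_congr rfl fun i _ => ?_
        rcases hf i with h | h
        · simp [h]
        · rw [if_pos, h]
          intro h'
          rw [h] at h'
          exact mul_ne_zero h2 hl (by linear_combination -h')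
      obtain ⟨b, hb, hdet⟩ := hxd'
      have hbe : Even b := by
        rcases Nat.even_or_odd b with h | h
        · exact h
        exfalso
        rw [h.neg_one_pow, neg_one_mul, neg_eq_iff_eq_neg] at hdet
        obtain ⟨o, ho⟩ : 2 ^ padicValNat 2 (q + 1) ∣ q + 1 := pow_padicValNat_dvd
        haveI : Fact (Nat.Prime 2) := ⟨Nat.prime_two⟩
        obtain ⟨n', hn'⟩ : 2 ^ padicValNat 2 (q + 1) ∣ n := (padicValNat_dvd_iff_le (by omega)).mpr hv
        have hoo : Odd o := by
          rw [← Nat.not_even_iff_odd, even_iff_two_dvd]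
          rintro ⟨o', rfl⟩
          have h1' : padicValNat 2 (q + 1) + 1 ≤ padicValNat 2 (q + 1) :=
            (padicValNat_dvd_iff_le (by omega)).mp ⟨o', ho.trans (by rw [pow_succ, mul_assoc])⟩
          omega
        have h' : (l ^ n) ^ o = 1 := by
          rw [hn', ← pow_mul, show 2 ^ padicValNat 2 (q + 1) * n' * o = 2 ^ padicValNat 2 (q + 1) * o * n' by ring,
            ← ho, pow_mul, he, one_pow]
        rw [hdet, hoo.neg_one_pow] at h'
        exact h2 (by linear_combination -h')
      obtain ⟨c, hc⟩ := hbe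
      have hcm : c ≤ m := by
        have h1 := Matrix.rank_le_card_width (X - l • 1)
        rw [hb, Fintype.card_fin] at h1
        omega
      let d : Fin m → Fˣ := fun i => if (i : ℕ) < c then -Units.mk0 l hl else Units.mk0 l hl
      have hd : ∀ i, (d i : F) * (d i : F) = l * l := fun i => by simp only [d]; split_ifs <;> simp
      obtain ⟨e1, e2⟩ := hsq d hd
      refine ⟨_, e1, e2.trans ?_⟩
      rw [he, hb]
      simp only [one_mul]
      have : Fintype.card {i : Fin m // (d i : F) - l ≠ 0} = c := by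
        rw [Fintype.card_congr (Equiv.subtypeEquivRight (q := fun i : Fin m => (i : ℕ) < c) fun i => ?_)]
        · refine (Fintype.card_congr (β := Fin c) ?_).trans (Fintype.card_fin c)
          exact { toFun := fun i => ⟨i.1.1, i.2⟩, invFun := fun j => ⟨⟨j.1, by omega⟩, j.2⟩,
                  left_inv := fun i => rfl, right_inv := fun j => rfl }
        · simp only [d]
          split_ifs with h
          · simp only [h, iff_true, Units.val_neg, Units.val_mk0, ne_eq]
            intro h'
            exact mul_ne_zero h2 hl (by linear_combination -h')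
          · simp [h]
      omega
    · -- the eigenspaces are totally singular
      obtain ⟨e1, e2⟩ := hsq (fun _ => Units.mk0 l hl) (fun _ => rfl)
      refine ⟨_, e1, e2.trans ?_⟩
      have hpl : Fintype.card {i : Fin m // ((Units.mk0 l hl : Fˣ) : F) - l ≠ 0} = 0 :=
        Fintype.card_eq_zero_iff.mpr ⟨fun i => i.2 (by simp)⟩
      have hmi : Fintype.card {i : Fin m // l ^ (q + 1) * ((Units.mk0 l hl : Fˣ) : F) - l ≠ 0} = m := by
        rw [Fintype.card_congr (Equiv.subtypeUnivEquiv fun i => ?_), Fintype.card_fin]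
        rw [he, Units.val_mk0]
        intro h
        exact mul_ne_zero h2 hl (by linear_combination -h)
      rw [hpl, hmi, zero_add]
      -- `rank (X - l) = rank (X + l)`
      have hadj : H51.adj hF (X - l • 1) * X = l ^ q • (-(X + l • 1)) + (1 + l ^ (q + 1)) • 1 := by
        rw [H51.adj_sub, H51.adj_smul, H51.adj_one, Matrix.sub_mul, hxA, Matrix.smul_mul, Matrix.one_mul,
          neg_add, smul_add, smul_neg, smul_neg, smul_smul, ← pow_succ, add_smul, one_smul]
        abel
      rw [he, add_neg_cancel, zero_smul, add_zero] at hadj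
      have hrk := congrArg Matrix.rank hadj
      rw [Matrix.rank_mul_eq_left_of_isUnit_det _ _ (Matrix.isUnits_det_units x), rank_adj hF,
        show l ^ q • (-(X + l • 1)) = ((-(l ^ q)) • (1 : Matrix (Fin n) (Fin n) F)) * (X + l • 1) by
          rw [Matrix.smul_mul, Matrix.one_mul, neg_smul, smul_neg],
        Matrix.rank_mul_eq_right_of_isUnit_det _ _ (by
          rw [Matrix.det_smul, Matrix.det_one, mul_one]
          exact (pow_ne_zero _ (neg_ne_zero.mpr (pow_ne_zero _ hl))).isUnit)] at hrk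
      -- the two ranks add up to `n`
      have hkerrange : LinearMap.range (Matrix.mulVecLin (X + l • 1)) = LinearMap.ker (Matrix.mulVecLin (X - l • 1)) := by
        refine le_antisymm ?_ fun v hv => ?_
        · rintro _ ⟨v, rfl⟩
          rw [LinearMap.mem_ker, Matrix.mulVecLin_apply, Matrix.mulVecLin_apply, Matrix.mulVec_mulVec,
            Matrix.mul_add, Matrix.sub_mul, Matrix.sub_mul, hz]
          simp [Matrix.smul_mul, Matrix.mul_smul, smul_smul, sub_add_sub_cancel]
        · rw [LinearMap.mem_ker, Matrix.mulVecLin_apply, Matrix.sub_mulVec, sub_eq_zero, Matrix.smul_mulVec,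
            Matrix.one_mulVec] at hv
          refine ⟨(2 * l)⁻¹ • v, ?_⟩
          rw [Matrix.mulVecLin_apply, Matrix.mulVec_smul, Matrix.add_mulVec, hv, Matrix.smul_mulVec, Matrix.one_mulVec,
            ← add_smul, smul_smul, ← two_mul, inv_mul_cancel₀ (mul_ne_zero h2 hl), one_smul]
      have hrn := LinearMap.finrank_range_add_finrank_ker (Matrix.mulVecLin (X - l • 1))
      rw [← hkerrange, Module.finrank_fin_fun] at hrn
      unfold Matrix.rank at hrk ⊢
      omega
  set Mu := Matrix.GeneralLinearGroup.mkOfDetNeZero M hM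
  set Y := pairPartner hF Mu E
  have hyU : pairHom e Q Y ∈ Cfsg.GU n F q := (pairHom_mem_GU hF e Q hG Y).mpr (pairPartner_gram hF Mu E)
  have hy2 : (pairHom e Q Y : Matrix (Fin n) (Fin n) F) * pairHom e Q Y = (l * l) • 1 := by
    rw [← Units.val_mul, ← map_mul, pairHom_val, Units.val_mul, hE2, Matrix.submatrix_smul, Pi.smul_apply, Pi.smul_apply,
      Matrix.submatrix_one_equiv, Matrix.mul_smul, Matrix.mul_one, Matrix.smul_mul, Units.mul_inv]
  obtain ⟨u, hu, hux⟩ := H51.gu_conj_of_gl_conj hF hyU hxU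
    (isConj_of_sq h2 hl hy2 hz ((pairHom_rank e Q Y l).trans hEr))
  -- fix the determinant
  have hud : ((u : Matrix (Fin n) (Fin n) F).det) ^ q * (u : Matrix (Fin n) (Fin n) F).det = 1 :=
    H51.det_norm_GU hF ((H51.mem_GU_iff hF u).mp hu)
  obtain ⟨w, hw0, hw⟩ := H51.exists_hilbert90 hF (x := (u : Matrix (Fin n) (Fin n) F).det) (by rw [mul_comm]; exact hud)
  let i0 : Fin m := ⟨0, hm⟩
  let E' : GL (Fin m) F := H42.diagGL fun i => if i = i0 then (Units.mk0 w hw0)⁻¹ ^ 1 else 1
  have hE'd : (E' : Matrix (Fin m) (Fin m) F).det = w⁻¹ := by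
    rw [H42.coe_diagGL, Matrix.det_diagonal]
    simp [apply_ite (Units.val : Fˣ → F), Finset.prod_ite_eq']
  set h := pairHom e Q (pairPartner hF Mu E')
  have hhd : (h : Matrix (Fin n) (Fin n) F).det = ((u : Matrix (Fin n) (Fin n) F).det)⁻¹ := by
    rw [pairHom_det, pairPartner_det, hE'd, inv_inv]
    refine eq_inv_of_mul_eq_one_left ?_
    calc w⁻¹ * w ^ q * (u : Matrix (Fin n) (Fin n) F).det = w⁻¹ * ((u : Matrix (Fin n) (Fin n) F).det * w ^ q) := by ring
      _ = 1 := by rw [hw, inv_mul_cancel₀ hw0]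
  have hhU : h ∈ Cfsg.GU n F q := (pairHom_mem_GU hF e Q hG _).mpr (pairPartner_gram hF Mu E')
  refine ⟨u * h, Subgroup.mem_inf.mpr ⟨(Cfsg.GU n F q).mul_mem hu hhU, mem_sl_iff.2 ?_⟩, ?_⟩
  · rw [Units.val_mul, Matrix.det_mul, hhd, mul_inv_cancel₀ (Matrix.isUnits_det_units u).ne_zero]
  · have hhS : h ∈ Cfsg.Geo.decompositionStabilizer D := pair_diag_mem hF h0 h1 _ rfl
    have hyS : pairHom e Q Y ∈ Cfsg.Geo.decompositionStabilizer D := pair_diag_mem hF h0 h1 _ rfl
    rw [show (u * h)⁻¹ * x * (u * h) = h⁻¹ * pairHom e Q Y * h by rw [← hux]; group]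
    exact Subgroup.mul_mem _ (Subgroup.mul_mem _ (Subgroup.inv_mem _ hhS) hyS) hhS

end H47
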