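import Mathlib
import Cfsg.Prelude.Def_GeometricClasses
import Cfsg.Agent.H42.PGLPrimeOrder
import Cfsg.Agent.H47.GUPairTargets

/-!
# Extraspecial groups of order 27 in three dimensions
-/

set_option autoImplicit false
open scoped MatrixGroups Matrix
open Matrix

namespace H47

section Two27

private lemma cyc_comm {G : Type*} [Group G] [IsCyclic G] (x y : G) : x * y = y * x := by
  obtain ⟨g, hg⟩ := IsCyclic.exists_generator (α := G)
  obtain ⟨a, rfl⟩ := Subgroup.mem_zpowers_iff.mp (hg x)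
  obtain ⟨b, rfl⟩ := Subgroup.mem_zpowers_iff.mp (hg y)
  exact zpow_mul_comm g a b

/-- A group of order dividing nine is commutative; hence commutators of a group of order 27 are central. -/
lemma comm_central_27 {G : Type*} [Group G] (h : Nat.card G = 27) (a b c : G) :
    a * b * a⁻¹ * b⁻¹ * c = c * (a * b * a⁻¹ * b⁻¹) := by
  haveI : Fact (Nat.Prime 3) := ⟨Nat.prime_three⟩
  haveI : Finite G := Nat.finite_of_card_ne_zero (by omega)
  have hp : IsPGroup 3 G := IsPGroup.of_card (n := 3) (by rw [h]; norm_num)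
  have hcard := Subgroup.card_eq_card_quotient_mul_card_subgroup (Subgroup.center G)
  haveI : Nontrivial G := Finite.one_lt_card_iff_nontrivial.mp (by omega)
  haveI := hp.center_nontrivial
  have hc1 : 1 < Nat.card (Subgroup.center G) := Finite.one_lt_card
  have hcd : Nat.card (Subgroup.center G) ∣ 3 ^ 3 := by
    have := Subgroup.card_subgroup_dvd_card (Subgroup.center G); rwa [h] at this
  obtain ⟨k, hk, hkeq⟩ := (Nat.dvd_prime_pow Nat.prime_three).mp hcd
  have hab : ∀ x y : G ⧸ Subgroup.center G, x * y = y * x := by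
    interval_cases k
    · rw [hkeq] at hc1; norm_num at hc1
    · have hq : Nat.card (G ⧸ Subgroup.center G) = 3 ^ 2 := by
        rw [h, hkeq] at hcard; norm_num at hcard ⊢; omega
      exact IsPGroup.commutative_of_card_eq_prime_sq hq
    · have hq : Nat.card (G ⧸ Subgroup.center G) = 3 := by
        rw [h, hkeq] at hcard; norm_num at hcard ⊢; omega
      haveI := isCyclic_of_prime_card hq
      exact fun x y => cyc_comm x y
    · have hq : Nat.card (G ⧸ Subgroup.center G) = 1 := by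
        rw [h, hkeq] at hcard; norm_num at hcard ⊢; omega
      haveI := (Nat.card_eq_one_iff_unique.mp hq).1
      exact fun x y => Subsingleton.elim _ _
  have hmem : a * b * a⁻¹ * b⁻¹ ∈ Subgroup.center G := by
    rw [← QuotientGroup.eq_one_iff, QuotientGroup.mk_mul, QuotientGroup.mk_mul, QuotientGroup.mk_mul,
      QuotientGroup.mk_inv, QuotientGroup.mk_inv, hab (a : G ⧸ Subgroup.center G) b]
    group
  exact (Subgroup.mem_center_iff.mp hmem c).symm

end Two27

variable {F : Type*} [Field F]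

/-- `diag (1, w, w²)`. -/
noncomputable def dm27 (w : Fˣ) : GL (Fin 3) F := H42.diagGL ![1, w, w ^ 2]

/-- The cyclic shift of three coordinates. -/
def cm27 : GL (Fin 3) F :=
  { val := !![0, 0, 1; 1, 0, 0; 0, 1, 0]
    inv := !![0, 1, 0; 0, 0, 1; 1, 0, 0]
    val_inv := by ext i j; fin_cases i <;> fin_cases j <;> simp [Matrix.mul_apply, Fin.sum_univ_three]
    inv_val := by ext i j; fin_cases i <;> fin_cases j <;> simp [Matrix.mul_apply, Fin.sum_univ_three] }

/-- Minus the swap of the last two coordinates. -/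
def jm27 : GL (Fin 3) F :=
  { val := !![-1, 0, 0; 0, 0, -1; 0, -1, 0]
    inv := !![-1, 0, 0; 0, 0, -1; 0, -1, 0]
    val_inv := by ext i j; fin_cases i <;> fin_cases j <;> simp [Matrix.mul_apply, Fin.sum_univ_three]
    inv_val := by ext i j; fin_cases i <;> fin_cases j <;> simp [Matrix.mul_apply, Fin.sum_univ_three] }

/-- The standard extraspecial group of order 27. -/
noncomputable def extra27 (w : Fˣ) : Subgroup (GL (Fin 3) F) := Subgroup.closure {dm27 w, cm27}

lemma dm27_val (w : Fˣ) :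
    (dm27 w : Matrix (Fin 3) (Fin 3) F) = !![1, 0, 0; 0, (w : F), 0; 0, 0, (w : F) ^ 2] := by
  rw [dm27, H42.coe_diagGL]
  ext i j; fin_cases i <;> fin_cases j <;> simp

lemma cm27_val : ((cm27 : GL (Fin 3) F) : Matrix (Fin 3) (Fin 3) F) = !![0, 0, 1; 1, 0, 0; 0, 1, 0] := rfl

lemma jm27_val : ((jm27 : GL (Fin 3) F) : Matrix (Fin 3) (Fin 3) F) = !![-1, 0, 0; 0, 0, -1; 0, -1, 0] := rfl

lemma dm27_mem (w : Fˣ) : dm27 w ∈ extra27 w := Subgroup.subset_closure (Or.inl rfl)

lemma cm27_mem (w : Fˣ) : cm27 ∈ extra27 w := Subgroup.subset_closure (Or.inr rfl)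

lemma diagGL_const {n : ℕ} (c : Fˣ) :
    ((H42.diagGL fun _ : Fin n => c : GL (Fin n) F) : Matrix (Fin n) (Fin n) F) = (c : F) • 1 := by
  rw [H42.coe_diagGL, Matrix.smul_one_eq_diagonal]

lemma diagGL_const_comm {n : ℕ} (c : Fˣ) (g : GL (Fin n) F) :
    H42.diagGL (fun _ => c) * g = g * H42.diagGL fun _ => c := by
  apply Units.ext
  rw [Units.val_mul, Units.val_mul, diagGL_const, Matrix.smul_mul, Matrix.one_mul, Matrix.mul_smul, Matrix.mul_one]

lemma diagGL_mul {n : ℕ} (a b : Fin n → Fˣ) : H42.diagGL a * H42.diagGL b = H42.diagGL (a * b) := by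
  apply Units.ext
  rw [Units.val_mul, H42.coe_diagGL, H42.coe_diagGL, H42.coe_diagGL, Matrix.diagonal_mul_diagonal]
  simp

lemma diagGL_one {n : ℕ} : H42.diagGL (fun _ : Fin n => (1 : Fˣ)) = 1 := by
  apply Units.ext
  rw [diagGL_const]; simp

lemma diagGL_pow {n : ℕ} (a : Fin n → Fˣ) (k : ℕ) : H42.diagGL a ^ k = H42.diagGL (a ^ k) := by
  induction k with
  | zero => rw [pow_zero, pow_zero]; exact diagGL_one.symm
  | succ k ih => rw [pow_succ, ih, diagGL_mul, pow_succ]

lemma diagGL_det {n : ℕ} (a : Fin n → Fˣ) :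
    (H42.diagGL a : Matrix (Fin n) (Fin n) F).det = ∏ i, (a i : F) := by
  rw [H42.coe_diagGL, Matrix.det_diagonal]

lemma dm27_cm27 {w : Fˣ} (hw : w ^ 3 = 1) :
    dm27 w * cm27 = H42.diagGL (fun _ => w) * (cm27 * dm27 w) := by
  have hw' : (w : F) ^ 3 = 1 := by simpa using congrArg Units.val hw
  apply Units.ext
  rw [Units.val_mul, Units.val_mul, Units.val_mul, diagGL_const, dm27_val, cm27_val]
  ext i j
  fin_cases i <;> fin_cases j <;> simp [Matrix.mul_apply, Fin.sum_univ_three]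
  all_goals first | ring1 | linear_combination hw' | linear_combination -hw'

lemma scalar_mem_extra27 {w : Fˣ} (hw : w ^ 3 = 1) : H42.diagGL (fun _ => w) ∈ extra27 w := by
  have : H42.diagGL (fun _ => w) = dm27 w * cm27 * (cm27 * dm27 w)⁻¹ := by
    rw [dm27_cm27 hw, mul_inv_cancel_right]
  rw [this]
  exact mul_mem (mul_mem (dm27_mem w) (cm27_mem w)) (inv_mem (mul_mem (cm27_mem w) (dm27_mem w)))

lemma cube_root_eq_pow {w s : Fˣ} (hw : w ^ 3 = 1) (hw1 : w ≠ 1) (hs : s ^ 3 = 1) : ∃ k : ℕ, s = w ^ k := by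
  haveI : Fact (Nat.Prime 3) := ⟨Nat.prime_three⟩
  have hp : IsPrimitiveRoot w 3 := orderOf_eq_prime hw hw1 ▸ IsPrimitiveRoot.orderOf w
  have hp' : IsPrimitiveRoot (w : F) 3 := IsPrimitiveRoot.coe_units_iff.mpr hp
  obtain ⟨k, -, hk⟩ := hp'.eq_pow_of_pow_eq_one (show ((s : Fˣ) : F) ^ 3 = 1 by simpa using congrArg Units.val hs)
  exact ⟨k, Units.ext (by rw [Units.val_pow_eq_pow_val, hk])⟩

/-- Only scalars commute with the standard generators. -/
lemma extra27_commutant {w : Fˣ} (hw : w ^ 3 = 1) (hw1 : w ≠ 1) {y : Matrix (Fin 3) (Fin 3) F}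
    (hd : y * (dm27 w : Matrix (Fin 3) (Fin 3) F) = (dm27 w : Matrix (Fin 3) (Fin 3) F) * y)
    (hc : y * (cm27 : GL (Fin 3) F).1 = (cm27 : GL (Fin 3) F).1 * y) : y = y 0 0 • 1 := by
  have hne : (w : F) ≠ 1 := fun h => hw1 (Units.ext h)
  have hne2 : (w : F) ^ 2 ≠ 1 := by
    intro h; apply hne
    have hw' : (w : F) ^ 3 = 1 := by simpa using congrArg Units.val hw
    linear_combination hw' - (w : F) * h
  have hne3 : (w : F) ^ 2 ≠ (w : F) := fun h => hne (mul_right_cancel₀ w.ne_zero (by linear_combination h))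
  rw [dm27_val] at hd
  rw [cm27_val] at hc
  have e01 : y 0 1 = 0 := by
    have := congrFun (congrFun hd 0) 1
    simp [Matrix.mul_apply, Fin.sum_univ_three] at this
    exact (mul_eq_zero.mp (show ((w : F) - 1) * y 0 1 = 0 by linear_combination this)).resolve_left (sub_ne_zero.mpr hne)
  have e02 : y 0 2 = 0 := by
    have := congrFun (congrFun hd 0) 2
    simp [Matrix.mul_apply, Fin.sum_univ_three] at this
    exact (mul_eq_zero.mp (show ((w : F) ^ 2 - 1) * y 0 2 = 0 by linear_combination this)).resolve_left (sub_ne_zero.mpr hne2)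
  have e10 : y 1 0 = 0 := by
    have := congrFun (congrFun hd 1) 0
    simp [Matrix.mul_apply, Fin.sum_univ_three] at this
    exact (mul_eq_zero.mp (show ((w : F) - 1) * y 1 0 = 0 by linear_combination -this)).resolve_left (sub_ne_zero.mpr hne)
  have e12 : y 1 2 = 0 := by
    have := congrFun (congrFun hd 1) 2
    simp [Matrix.mul_apply, Fin.sum_univ_three] at this
    exact (mul_eq_zero.mp (show ((w : F) ^ 2 - w) * y 1 2 = 0 by linear_combination this)).resolve_left
      (sub_ne_zero.mpr hne3)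
  have e20 : y 2 0 = 0 := by
    have := congrFun (congrFun hd 2) 0
    simp [Matrix.mul_apply, Fin.sum_univ_three] at this
    exact (mul_eq_zero.mp (show ((w : F) ^ 2 - 1) * y 2 0 = 0 by linear_combination -this)).resolve_left (sub_ne_zero.mpr hne2)
  have e21 : y 2 1 = 0 := by
    have := congrFun (congrFun hd 2) 1
    simp [Matrix.mul_apply, Fin.sum_univ_three] at this
    exact (mul_eq_zero.mp (show ((w : F) ^ 2 - w) * y 2 1 = 0 by linear_combination -this)).resolve_left
      (sub_ne_zero.mpr hne3)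
  have e11 : y 1 1 = y 0 0 := by
    have := congrFun (congrFun hc 1) 0
    simpa [Matrix.mul_apply, Fin.sum_univ_three] using this
  have e22 : y 2 2 = y 0 0 := by
    have := congrFun (congrFun hc 2) 1
    simp [Matrix.mul_apply, Fin.sum_univ_three] at this
    rw [this, e11]
  ext i j
  fin_cases i <;> fin_cases j <;> simp [e01, e02, e10, e12, e20, e21, e11, e22]

variable [Fintype F]

lemma extra27_normalize {w : Fˣ} {g : GL (Fin 3) F} (h1 : g * dm27 w * g⁻¹ ∈ extra27 w)
    (h2 : g * cm27 * g⁻¹ ∈ extra27 w) : g ∈ Cfsg.Geo.subgroupNormalizer (extra27 w) := by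
  classical
  have hle : (extra27 w).map (MulAut.conj g).toMonoidHom ≤ extra27 w := by
    rw [extra27, MonoidHom.map_closure, Subgroup.closure_le]
    rintro _ ⟨y, hy, rfl⟩
    rcases hy with hy | hy <;> subst hy
    · exact h1
    · exact h2
  have heq : (extra27 w).map (MulAut.conj g).toMonoidHom = extra27 w :=
    Subgroup.eq_of_le_of_card_ge hle (le_of_eq (Subgroup.card_map_of_injective (MulAut.conj g).injective).symm)
  refine Subgroup.mem_normalizer_iff.mpr fun h => ⟨fun hh => ?_, fun hh => ?_⟩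
  · exact hle ⟨h, hh, rfl⟩
  · obtain ⟨y, hy, hyh⟩ : g * h * g⁻¹ ∈ (extra27 w).map (MulAut.conj g).toMonoidHom := by rw [heq]; exact hh
    have : y = h := (MulAut.conj g).injective hyh
    exact this ▸ hy

/-- Diagonal matrices whose entries have the same cube normalise the standard group. -/
lemma diag_normalize27 {w : Fˣ} (hw : w ^ 3 = 1) (hw1 : w ≠ 1) {d : Fin 3 → Fˣ} (hd : ∀ i, d i ^ 3 = d 0 ^ 3) :
    H42.diagGL d ∈ Cfsg.Geo.subgroupNormalizer (extra27 w) := by
  refine extra27_normalize ?_ ?_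
  · have : H42.diagGL d * dm27 w = dm27 w * H42.diagGL d := by rw [dm27, diagGL_mul, diagGL_mul, mul_comm]
    rw [this, mul_inv_cancel_right]; exact dm27_mem w
  · obtain ⟨k, hk⟩ := cube_root_eq_pow hw hw1 (s := d 0 / d 2)
      (by rw [div_pow, hd 2, div_self'])
    obtain ⟨j, hj⟩ := cube_root_eq_pow hw hw1 (s := d 1 * d 2 / d 0 ^ 2)
      (by rw [div_pow, mul_pow, hd 1, hd 2, ← pow_mul, ← pow_add, div_self'])
    have heq : H42.diagGL d * cm27 * (H42.diagGL d)⁻¹ = H42.diagGL (fun _ => w) ^ k * (dm27 w ^ j * cm27) := by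
      rw [mul_inv_eq_iff_eq_mul, dm27, diagGL_pow, diagGL_pow]
      apply Units.ext
      have hs : ((w : F) ^ k) * (d 2 : F) = (d 0 : F) := by
        rw [← Units.val_pow_eq_pow_val, ← hk, ← Units.val_mul, div_mul_cancel]
      have ht : ((w : F) ^ j) * (d 0 : F) ^ 2 = (d 1 : F) * (d 2 : F) := by
        rw [← Units.val_pow_eq_pow_val, ← hj, ← Units.val_pow_eq_pow_val, ← Units.val_mul, div_mul_cancel,
          Units.val_mul]
      have h13 : (d 1 : F) ^ 3 = (d 0 : F) ^ 3 := by exact_mod_cast congrArg Units.val (hd 1)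
      simp only [Units.val_mul, H42.coe_diagGL, cm27_val]
      ext i j'
      fin_cases i <;> fin_cases j' <;>
        simp [Matrix.mul_apply, Fin.sum_univ_three, Matrix.diagonal]
      · exact hs.symm
      · apply mul_right_cancel₀ (d 0).ne_zero
        apply mul_right_cancel₀ (d 2).ne_zero
        linear_combination -(d 0 : F) ^ 2 * (w : F) ^ j * hs - (d 0 : F) * ht
      · apply mul_right_cancel₀ (pow_ne_zero 4 (d 0).ne_zero)
        apply mul_right_cancel₀ (d 2).ne_zero
        rw [← pow_mul, mul_comm 2 j, pow_mul]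
        linear_combination (-((w : F) ^ k * (d 2 : F) * (d 1 : F)) * ((w : F) ^ j * (d 0 : F) ^ 2 + (d 1 : F) * (d 2 : F))) * ht
          + (-((d 1 : F) ^ 3 * (d 2 : F) ^ 2)) * hs - (d 0 : F) * (d 2 : F) ^ 2 * h13
    rw [heq]
    exact mul_mem (pow_mem (scalar_mem_extra27 hw) k) (mul_mem (pow_mem (dm27_mem w) j) (cm27_mem w))

lemma jm_normalize27 {w : Fˣ} (hw : w ^ 3 = 1) : jm27 ∈ Cfsg.Geo.subgroupNormalizer (extra27 w) := by
  have hw' : (w : F) ^ 3 = 1 := by simpa using congrArg Units.val hw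
  refine extra27_normalize ?_ ?_
  · have : jm27 * dm27 w * jm27⁻¹ = dm27 w ^ 2 := by
      rw [mul_inv_eq_iff_eq_mul, pow_two]
      apply Units.ext
      simp only [Units.val_mul, dm27_val, jm27_val]
      ext i j
      fin_cases i <;> fin_cases j <;> simp [Matrix.mul_apply, Fin.sum_univ_three]
      all_goals first | ring1 | linear_combination (w : F) * hw' | linear_combination -(w : F) * hw'
    rw [this]; exact pow_mem (dm27_mem w) 2
  · have : (jm27 : GL (Fin 3) F) * cm27 * jm27⁻¹ = cm27⁻¹ := by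
      rw [mul_inv_eq_iff_eq_mul]
      apply Units.ext
      show (!![-1, 0, 0; 0, 0, -1; 0, -1, 0] : Matrix (Fin 3) (Fin 3) F) * !![0, 0, 1; 1, 0, 0; 0, 1, 0]
        = !![0, 1, 0; 0, 0, 1; 1, 0, 0] * !![-1, 0, 0; 0, 0, -1; 0, -1, 0]
      ext i j
      fin_cases i <;> fin_cases j <;> simp [Matrix.mul_apply, Fin.sum_univ_three]
    rw [this]; exact inv_mem (cm27_mem w)

/-- A non-abelian group of order 27 and exponent 3 in dimension three is conjugate to the standard one. -/
theorem exists_extra27 (h3 : (3 : F) ≠ 0) {r0 : F} (hr0 : r0 ^ 2 + r0 + 1 = 0) {R : Subgroup (GL (Fin 3) F)} (hR : Nat.card R = 27)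
    (hRe : Monoid.exponent R = 3) (hRna : ¬ IsMulCommutative R) :
    ∃ (h : GL (Fin 3) F) (w : Fˣ), w ^ 3 = 1 ∧ w ≠ 1 ∧ R = (extra27 w).map (MulAut.conj h).toMonoidHom := by
  classical
  haveI : Fact (Nat.Prime 3) := ⟨Nat.prime_three⟩
  obtain ⟨a, b, hab⟩ : ∃ a b : R, a * b ≠ b * a := by
    by_contra hh
    push Not at hh
    exact hRna ⟨⟨hh⟩⟩
  have hpow : ∀ g : R, g ^ 3 = 1 := fun g => by
    have := Monoid.pow_exponent_eq_one g
    rwa [hRe] at this
  set c : R := a * b * a⁻¹ * b⁻¹ with hc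
  have hcne : c ≠ 1 := fun h => hab (by
    have h' : a * b * a⁻¹ * b⁻¹ = 1 := hc ▸ h
    calc a * b = a * b * a⁻¹ * b⁻¹ * (b * a) := by group
      _ = b * a := by rw [h', one_mul])
  let M : R →* Matrix (Fin 3) (Fin 3) F := (Units.coeHom _).comp R.subtype
  set A := M a with hA
  set B := M b with hB
  set C := M c with hC
  have hcube : ∀ g : R, M g * (M g * M g) = 1 := fun g => by
    rw [← map_mul, ← map_mul, ← pow_two, ← pow_succ', hpow, map_one]
  have hCA : C * A = A * C := by rw [hC, hA, ← map_mul, ← map_mul, hc, comm_central_27 hR]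
  have hCB : C * B = B * C := by rw [hC, hB, ← map_mul, ← map_mul, hc, comm_central_27 hR]
  have hABC : A * B = C * (B * A) := by
    rw [hC, hA, hB, ← map_mul, ← map_mul, ← map_mul, hc]; congr 1; group
  -- cube roots of unity in `F`
  obtain ⟨u0, v, hu0, hv0, hv⟩ : ∃ (u0 : F) (v : Fin 3 → F), u0 ≠ 1 ∧ v ≠ 0 ∧ C *ᵥ v = u0 • v := by
    obtain ⟨v, hv⟩ : ∃ v, C *ᵥ v - v ≠ 0 := by
      by_contra hh
      push Not at hh
      refine hcne (Subtype.ext (Units.ext ?_))
      show C = 1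
      exact Matrix.ext_of_mulVec_single fun i => by rw [Matrix.one_mulVec, sub_eq_zero.mp (hh _)]
    have hr3 : r0 ^ 3 = 1 := by linear_combination (r0 - 1) * hr0
    have hr1 : r0 ≠ 1 := fun h => h3 (by rw [h] at hr0; linear_combination hr0)
    have hr2 : r0 ^ 2 ≠ 1 := fun h => hr1 (by linear_combination hr3 - r0 * h)
    set z := C *ᵥ v - v with hz
    by_cases hz' : C *ᵥ z - r0 ^ 2 • z = 0
    · exact ⟨r0 ^ 2, z, hr2, hv, sub_eq_zero.mp hz'⟩
    refine ⟨r0, _, hr1, hz', ?_⟩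
    have hC3 : C *ᵥ (C *ᵥ (C *ᵥ v)) = v := by
      rw [Matrix.mulVec_mulVec, Matrix.mulVec_mulVec, Matrix.mul_assoc, hC, hcube, Matrix.one_mulVec]
    simp only [hz, Matrix.mulVec_sub, Matrix.mulVec_smul]
    ext i
    have := congrFun hC3 i
    simp only [Pi.sub_apply, Pi.smul_apply, smul_eq_mul] at this ⊢
    linear_combination this + ((C *ᵥ v) i - (C *ᵥ (C *ᵥ v)) i) * hr0 + ((C *ᵥ v) i - v i) * hr3
  have hu3 : u0 ^ 3 = 1 := by
    have h := congrArg (fun X : Matrix (Fin 3) (Fin 3) F => X *ᵥ v) (hcube c)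
    simp only [← hC, Matrix.one_mulVec, ← Matrix.mulVec_mulVec, hv, Matrix.mulVec_smul, smul_smul] at h
    have h' : (u0 ^ 3 - 1) • v = 0 := by rw [sub_smul, one_smul, pow_succ, pow_two, h, sub_self]
    exact sub_eq_zero.mp ((smul_eq_zero.mp h').resolve_right hv0)
  have hu00 : u0 ≠ 0 := fun h => by rw [h] at hu3; norm_num at hu3
  have hu2 : u0 ^ 2 ≠ 1 := fun h => hu0 (by linear_combination hu3 - u0 * h)
  -- an eigenvector of `A` in the eigenspace of `C`
  obtain ⟨u, l, hul, hu0', hCu, hAu⟩ : ∃ (u : Fin 3 → F) (l : F), l ^ 3 = 1 ∧ u ≠ 0 ∧ C *ᵥ u = u0 • u ∧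
      A *ᵥ u = l • u := by
    have hCAv : ∀ z : Fin 3 → F, C *ᵥ z = u0 • z → C *ᵥ (A *ᵥ z) = u0 • (A *ᵥ z) := fun z hz => by
      rw [Matrix.mulVec_mulVec, hCA, ← Matrix.mulVec_mulVec, hz, Matrix.mulVec_smul]
    let z1 := A *ᵥ v - (u0 ^ 2) • v
    by_cases hz1 : z1 = 0
    · exact ⟨v, u0 ^ 2, by rw [← pow_mul, mul_comm, pow_mul, hu3, one_pow], hv0, hv, sub_eq_zero.mp hz1⟩
    have hCz1 : C *ᵥ z1 = u0 • z1 := by
      simp only [z1, Matrix.mulVec_sub, Matrix.mulVec_smul, hCAv v hv, hv, smul_sub, smul_smul, mul_comm]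
    let z2 := A *ᵥ z1 - u0 • z1
    by_cases hz2 : z2 = 0
    · exact ⟨z1, u0, hu3, hz1, hCz1, sub_eq_zero.mp hz2⟩
    have hCz2 : C *ᵥ z2 = u0 • z2 := by
      simp only [z2, Matrix.mulVec_sub, Matrix.mulVec_smul, hCAv z1 hCz1, hCz1, smul_sub, smul_smul]
    refine ⟨z2, 1, one_pow 3, hz2, hCz2, ?_⟩
    rw [one_smul]
    have hsum : u0 ^ 2 + u0 + 1 = 0 := by
      have : (u0 - 1) * (u0 ^ 2 + u0 + 1) = 0 := by linear_combination hu3
      exact (mul_eq_zero.mp this).resolve_left (sub_ne_zero.mpr hu0)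
    have hA3 : A *ᵥ (A *ᵥ (A *ᵥ v)) = v := by
      rw [Matrix.mulVec_mulVec, Matrix.mulVec_mulVec, Matrix.mul_assoc, hA, hcube, Matrix.one_mulVec]
    simp only [z2, z1, Matrix.mulVec_sub, Matrix.mulVec_smul]
    ext i
    have := congrFun hA3 i
    simp only [Pi.sub_apply, Pi.smul_apply, smul_eq_mul] at this ⊢
    linear_combination this + ((A *ᵥ v) i - (A *ᵥ (A *ᵥ v)) i) * hsum + ((A *ᵥ v) i - v i) * hu3
  have hstep : ∀ (z : Fin 3 → F) (m : F), C *ᵥ z = u0 • z → A *ᵥ z = m • z →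
      C *ᵥ (B *ᵥ z) = u0 • (B *ᵥ z) ∧ A *ᵥ (B *ᵥ z) = (u0 * m) • (B *ᵥ z) := by
    intro z m hz hz'
    have h1 : C *ᵥ (B *ᵥ z) = u0 • (B *ᵥ z) := by
      rw [Matrix.mulVec_mulVec, hCB, ← Matrix.mulVec_mulVec, hz, Matrix.mulVec_smul]
    refine ⟨h1, ?_⟩
    rw [Matrix.mulVec_mulVec, hABC, ← Matrix.mulVec_mulVec, ← Matrix.mulVec_mulVec, hz', Matrix.mulVec_smul,
      Matrix.mulVec_smul, h1, smul_smul, mul_comm]
  have hBinj : ∀ z : Fin 3 → F, B *ᵥ z = 0 → z = 0 := fun z hz => by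
    have h := congrArg (fun X : Matrix (Fin 3) (Fin 3) F => X *ᵥ z) (hcube b)
    simp only [← hB, Matrix.one_mulVec, ← Matrix.mulVec_mulVec, hz, Matrix.mulVec_zero] at h
    exact h.symm
  -- shift to eigenvalue one
  obtain ⟨u1, hu10, hCu1, hAu1⟩ : ∃ u1 : Fin 3 → F, u1 ≠ 0 ∧ C *ᵥ u1 = u0 • u1 ∧ A *ᵥ u1 = (1 : F) • u1 := by
    obtain ⟨h1, h2⟩ := hstep u l hCu hAu
    obtain ⟨h3', h4⟩ := hstep _ _ h1 h2
    have hl : l = 1 ∨ u0 * l = 1 ∨ u0 * (u0 * l) = 1 := by
      have : (l - 1) * ((u0 * l - 1) * (u0 * (u0 * l) - 1)) = 0 := by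
        have hsum : u0 ^ 2 + u0 + 1 = 0 := by
          have : (u0 - 1) * (u0 ^ 2 + u0 + 1) = 0 := by linear_combination hu3
          exact (mul_eq_zero.mp this).resolve_left (sub_ne_zero.mpr hu0)
        linear_combination (l ^ 3) * hu3 + hul + (l - u0 * l ^ 2) * hsum
      rcases mul_eq_zero.mp this with h | h
      · exact Or.inl (sub_eq_zero.mp h)
      rcases mul_eq_zero.mp h with h | h
      · exact Or.inr (Or.inl (sub_eq_zero.mp h))
      · exact Or.inr (Or.inr (sub_eq_zero.mp h))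
    rcases hl with h | h | h
    · exact ⟨u, hu0', hCu, h ▸ hAu⟩
    · exact ⟨_, fun hh => hu0' (hBinj _ hh), h1, h ▸ h2⟩
    · exact ⟨_, fun hh => hu0' (hBinj _ (hBinj _ hh)), h3', h ▸ h4⟩
  obtain ⟨hC2, hA2⟩ := hstep u1 1 hCu1 hAu1
  obtain ⟨-, hA3⟩ := hstep _ _ hC2 hA2
  set u2 := B *ᵥ u1 with hu2def
  set u3 := B *ᵥ u2 with hu3def
  have hu20 : u2 ≠ 0 := fun hh => hu10 (hBinj _ hh)
  have hu30 : u3 ≠ 0 := fun hh => hu20 (hBinj _ hh)
  have hli : LinearIndependent F ![u1, u2, u3] := by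
    refine Module.End.eigenvectors_linearIndependent' (Matrix.toLin' A) ![1, u0, u0 ^ 2] ?_ _ ?_
    · have h12 : u0 ≠ u0 ^ 2 := fun h => hu0 (mul_left_cancel₀ hu00 (by linear_combination -h))
      intro i j hij
      fin_cases i <;> fin_cases j
      · rfl
      · exact absurd hij.symm hu0
      · exact absurd hij.symm hu2
      · exact absurd hij hu0
      · rfl
      · exact absurd hij h12
      · exact absurd hij hu2
      · exact absurd hij.symm h12
      · rfl
    · intro i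
      rw [Module.End.hasEigenvector_iff, Module.End.mem_eigenspace_iff, Matrix.toLin'_apply]
      fin_cases i
      · exact ⟨hAu1, hu10⟩
      · exact ⟨by simpa using hA2, hu20⟩
      · exact ⟨by simpa [pow_two, mul_assoc] using hA3, hu30⟩
  let Hm : Matrix (Fin 3) (Fin 3) F := Matrix.of fun i j => ![u1, u2, u3] j i
  have hHu : IsUnit Hm := (Matrix.linearIndependent_cols_iff_isUnit).mp hli
  set h : GL (Fin 3) F := hHu.unit with hh
  have hcol : ∀ j, (h : Matrix (Fin 3) (Fin 3) F).col j = ![u1, u2, u3] j := fun j => rfl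
  set w : Fˣ := Units.mk0 u0 hu00 with hw
  have hw3 : w ^ 3 = 1 := Units.ext (by simp [hw, hu3])
  have hw1 : w ≠ 1 := fun he => hu0 (by simpa [hw] using congrArg Units.val he)
  have hb3 : B *ᵥ u3 = u1 := by
    rw [hu3def, hu2def, Matrix.mulVec_mulVec, Matrix.mulVec_mulVec, hB, Matrix.mul_assoc, hcube, Matrix.one_mulVec]
  have hha : (a : GL (Fin 3) F) * h = h * dm27 w := by
    apply Units.ext
    rw [Units.val_mul, Units.val_mul]
    ext i j
    have hj : (A *ᵥ ![u1, u2, u3] j) i = (![1, u0, u0 ^ 2] : Fin 3 → F) j * ![u1, u2, u3] j i := by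
      fin_cases j
      · simpa using congrFun hAu1 i
      · simpa using congrFun hA2 i
      · simpa [pow_two, mul_assoc] using congrFun hA3 i
    calc ((a : GL (Fin 3) F).1 * (h : Matrix (Fin 3) (Fin 3) F)) i j = (A *ᵥ ![u1, u2, u3] j) i := rfl
      _ = (![1, u0, u0 ^ 2] : Fin 3 → F) j * ![u1, u2, u3] j i := hj
      _ = _ := by
        rw [dm27, H42.coe_diagGL, Matrix.mul_diagonal]
        show _ = Hm i j * _
        fin_cases j <;> simp [Hm, hw] <;> ring
  have hhb : (b : GL (Fin 3) F) * h = h * cm27 := by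
    apply Units.ext
    rw [Units.val_mul, Units.val_mul]
    ext i j
    calc ((b : GL (Fin 3) F).1 * (h : Matrix (Fin 3) (Fin 3) F)) i j = (B *ᵥ ![u1, u2, u3] j) i := rfl
      _ = ![u1, u2, u3] (j + 1) i := by
        fin_cases j
        · rfl
        · rfl
        · exact congrFun hb3 i
      _ = _ := by
        rw [cm27_val]
        show _ = (Hm * (_ : Matrix (Fin 3) (Fin 3) F)) i j
        fin_cases j <;> simp [Hm, Matrix.mul_apply, Fin.sum_univ_three]
  refine ⟨h, w, hw3, hw1, ?_⟩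
  have hgen : R = Subgroup.closure {(a : GL (Fin 3) F), (b : GL (Fin 3) F)} := by
    set S := Subgroup.closure {(a : GL (Fin 3) F), (b : GL (Fin 3) F)} with hS
    have hle : S ≤ R := by
      rw [hS, Subgroup.closure_le]; rintro y (rfl | rfl)
      · exact a.2
      · exact b.2
    have hdvd : Nat.card S ∣ 3 ^ 3 := by
      have := Subgroup.card_dvd_of_le hle; rwa [hR] at this
    obtain ⟨k, hk, hkeq⟩ := (Nat.dvd_prime_pow Nat.prime_three).mp hdvd
    refine (Subgroup.eq_of_le_of_card_ge hle ?_).symm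
    have haS : (a : GL (Fin 3) F) ∈ S := Subgroup.subset_closure (Or.inl rfl)
    have hbS : (b : GL (Fin 3) F) ∈ S := Subgroup.subset_closure (Or.inr rfl)
    have hnc : ¬ ∀ x y : S, x * y = y * x := fun hall => hab (Subtype.ext (by
      have := congrArg Subtype.val (hall ⟨_, haS⟩ ⟨_, hbS⟩); simpa using this))
    interval_cases k
    · haveI := (Nat.card_eq_one_iff_unique.mp hkeq).1
      exact absurd (fun x y => Subsingleton.elim _ _) hnc
    · haveI := isCyclic_of_prime_card (α := S) (p := 3) (by rw [hkeq, pow_one])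
      exact absurd (fun x y => cyc_comm x y) hnc
    · exact absurd (IsPGroup.commutative_of_card_eq_prime_sq hkeq) hnc
    · rw [hR, hkeq]; norm_num
  rw [hgen, extra27, MonoidHom.map_closure]
  congr 1
  have e1 : MulAut.conj h (dm27 w) = (a : GL (Fin 3) F) := by
    rw [MulAut.conj_apply, ← hha, mul_inv_cancel_right]
  have e2 : MulAut.conj h cm27 = (b : GL (Fin 3) F) := by
    rw [MulAut.conj_apply, ← hhb, mul_inv_cancel_right]
  simp [Set.image_pair, e1, e2]

end H47
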