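import Mathlib
import Cfsg.Prelude.Def_LieClassical
import Cfsg.Agent.H47.Extra27
import Cfsg.Agent.H37.Card
import Cfsg.Agent.H51.Herm
import Cfsg.Agent.H50.Count
import Cfsg.Agent.H50.Field

/-!
# Prime order elements normalising an extraspecial group of order 27
-/

set_option autoImplicit false
open scoped MatrixGroups Matrix
open Matrix

namespace H47

variable {F : Type*} [Field F] [Fintype F]

lemma exists_w27 (h : 3 ∣ Fintype.card F - 1) : ∃ r0 : F, r0 ^ 2 + r0 + 1 = 0 := by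
  classical
  haveI : Fact (Nat.Prime 3) := ⟨Nat.prime_three⟩
  obtain ⟨u, hu⟩ := exists_prime_orderOf_dvd_card' (G := Fˣ) 3 (by rwa [Nat.card_units, Nat.card_eq_fintype_card])
  refine ⟨(u : F), ?_⟩
  have h1 : (u : F) ^ 3 = 1 := by
    rw [← Units.val_pow_eq_pow_val, ← hu, pow_orderOf_eq_one, Units.val_one]
  have hne : (u : F) ≠ 1 := fun he => by
    have : u = 1 := Units.ext he
    rw [this, orderOf_one] at hu; omega
  exact (mul_eq_zero.mp (show ((u : F) - 1) * ((u : F) ^ 2 + u + 1) = 0 by linear_combination h1)).resolve_left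
    (sub_ne_zero.mpr hne)

/-- An element of prime order at least five modulo scalars does not normalise the group. -/
theorem normalizer27_scalar {R : Subgroup (GL (Fin 3) F)} (hR : Nat.card R = 27) {h : GL (Fin 3) F} {w : Fˣ}
    (hw : w ^ 3 = 1) (hw1 : w ≠ 1) (hRh : R = (extra27 w).map (MulAut.conj h).toMonoidHom)
    {r : ℕ} [hr : Fact r.Prime] (h5 : 5 ≤ r) {g : GL (Fin 3) F} (hg : g ∈ Cfsg.Geo.subgroupNormalizer R)
    {z : F} (hgr : ((g ^ r : GL (Fin 3) F) : Matrix (Fin 3) (Fin 3) F) = z • 1) :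
    ∃ c : F, (g : Matrix (Fin 3) (Fin 3) F) = c • 1 := by
  classical
  let S : GL (Fin 3) F := H42.diagGL fun _ => w
  have hS : S ∈ R := by
    rw [hRh]
    refine ⟨S, scalar_mem_extra27 hw, ?_⟩
    show h * S * h⁻¹ = S
    rw [← diagGL_const_comm, mul_inv_cancel_right]
  have hmem : ∀ x : GL (Fin 3) F, x ∈ R ↔ g * x * g⁻¹ ∈ R := Subgroup.mem_normalizer_iff.mp hg
  let σ : Equiv.Perm R :=
    { toFun := fun x => ⟨g * x * g⁻¹, (hmem x).mp x.2⟩
      invFun := fun x => ⟨g⁻¹ * x * g, (hmem _).mpr (by simp [mul_assoc])⟩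
      left_inv := fun x => Subtype.ext (by simp [mul_assoc])
      right_inv := fun x => Subtype.ext (by simp [mul_assoc]) }
  have hσpow : ∀ (k : ℕ) (x : R), (((σ ^ k) x : R) : GL (Fin 3) F) = g ^ k * x * (g ^ k)⁻¹ := by
    intro k
    induction k with
    | zero => intro x; simp
    | succ k ih =>
      intro x
      rw [pow_succ', Equiv.Perm.mul_apply]
      show g * _ * g⁻¹ = _
      rw [ih, pow_succ', _root_.mul_inv_rev]; group
  have hσr : σ ^ r ^ 1 = 1 := by
    refine Equiv.ext fun x => Subtype.ext ?_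
    rw [pow_one, hσpow, Equiv.Perm.one_apply, mul_inv_eq_iff_eq_mul]
    apply Units.ext
    rw [Units.val_mul, Units.val_mul, hgr, Matrix.smul_mul, Matrix.one_mul, Matrix.mul_smul, Matrix.mul_one]
  let C : Subgroup (GL (Fin 3) F) := R ⊓ Subgroup.centralizer {g}
  have hfix : Nat.card {x : R // σ x = x} = Nat.card C := by
    refine Nat.card_congr
      { toFun := fun x => ⟨x.1.1, x.1.2, ?_⟩
        invFun := fun x => ⟨⟨x.1, x.2.1⟩, ?_⟩
        left_inv := fun x => rfl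
        right_inv := fun x => rfl }
    · show _ ∈ Subgroup.centralizer _
      rw [Subgroup.mem_centralizer_singleton_iff]
      have := congrArg Subtype.val x.2
      exact ((mul_inv_eq_iff_eq_mul.mp this)).symm
    · apply Subtype.ext
      show g * x.1 * g⁻¹ = x.1
      rw [mul_inv_eq_iff_eq_mul]
      exact (Subgroup.mem_centralizer_singleton_iff.mp x.2.2).symm
  have hmod : Nat.card C ≡ 27 [MOD r] := by
    rw [← hfix, ← hR, Nat.card_eq_fintype_card, Nat.card_eq_fintype_card]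
    have := Equiv.Perm.card_compl_support_modEq hσr
    rwa [← Fintype.card_of_subtype σ.supportᶜ (p := fun x => σ x = x)
      (fun x => by rw [Finset.mem_compl, Equiv.Perm.mem_support, not_not])] at this
  have hdvd : Nat.card C ∣ 3 ^ 3 := by
    have := Subgroup.card_dvd_of_le (inf_le_left : C ≤ R); rwa [hR] at this
  have hSC : S ∈ C := ⟨hS, Subgroup.mem_centralizer_singleton_iff.mpr (diagGL_const_comm w g).symm.symm⟩
  have hne1 : Nat.card C ≠ 1 := by
    intro h1
    haveI := (Nat.card_eq_one_iff_unique.mp h1).1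
    have := congrArg Subtype.val (Subsingleton.elim (⟨S, hSC⟩ : C) 1)
    have h0 : (S : Matrix (Fin 3) (Fin 3) F) = ((1 : GL (Fin 3) F) : Matrix (Fin 3) (Fin 3) F) :=
      congrArg Units.val this
    rw [diagGL_const, Units.val_one] at h0
    have h' := congrFun (congrFun h0 0) 0
    exact hw1 (Units.ext (by simpa using h'))
  obtain ⟨k, hk, hkeq⟩ := (Nat.dvd_prime_pow Nat.prime_three).mp hdvd
  have hC : C = R := by
    refine Subgroup.eq_of_le_of_card_ge inf_le_left ?_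
    rw [hR]
    interval_cases k
    · exact absurd (hkeq.trans (pow_zero 3)) hne1
    · exfalso
      rw [hkeq] at hmod
      have hd : r ∣ 2 ^ 3 * 3 := (Nat.modEq_iff_dvd' (by norm_num)).mp hmod
      rcases hr.out.dvd_mul.mp hd with h | h
      · have := Nat.le_of_dvd (by norm_num) (hr.out.dvd_of_dvd_pow h); omega
      · have := Nat.le_of_dvd (by norm_num) h; omega
    · exfalso
      rw [hkeq] at hmod
      have hd : r ∣ 2 * 3 ^ 2 := (Nat.modEq_iff_dvd' (by norm_num)).mp hmod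
      rcases hr.out.dvd_mul.mp hd with h | h
      · have := Nat.le_of_dvd (by norm_num) h; omega
      · have := Nat.le_of_dvd (by norm_num) (hr.out.dvd_of_dvd_pow h); omega
    · rw [hkeq]; norm_num
  have hcomm : ∀ y ∈ extra27 w, (h⁻¹ * g * h) * y = y * (h⁻¹ * g * h) := by
    intro y hy
    have hyR : h * y * h⁻¹ ∈ R := by rw [hRh]; exact ⟨y, hy, rfl⟩
    rw [← hC] at hyR
    have h' : h * y * h⁻¹ * g = g * (h * y * h⁻¹) := Subgroup.mem_centralizer_singleton_iff.mp hyR.2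
    calc (h⁻¹ * g * h) * y = h⁻¹ * (g * (h * y * h⁻¹)) * h := by group
      _ = h⁻¹ * (h * y * h⁻¹ * g) * h := by rw [h']
      _ = y * (h⁻¹ * g * h) := by group
  set y : GL (Fin 3) F := h⁻¹ * g * h with hy
  have hsc := extra27_commutant hw hw1 (y := (y : Matrix (Fin 3) (Fin 3) F))
    (by have := congrArg Units.val (hcomm _ (dm27_mem w)); simpa using this)
    (by have := congrArg Units.val (hcomm _ (cm27_mem w)); simpa using this)
  refine ⟨(y : Matrix (Fin 3) (Fin 3) F) 0 0, ?_⟩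
  have hgy : g = h * y * h⁻¹ := by rw [hy]; group
  conv_lhs => rw [hgy, Units.val_mul, Units.val_mul, hsc]
  rw [Matrix.mul_smul, Matrix.mul_one, Matrix.smul_mul, Units.mul_inv]

/-- The element correcting the determinant. -/
noncomputable def tm27 (t : Fˣ) : GL (Fin 3) F := H42.diagGL ![t, 1, 1]

lemma tm27_det (t : Fˣ) : (tm27 t : Matrix (Fin 3) (Fin 3) F).det = t := by
  rw [tm27, diagGL_det]; simp [Fin.prod_univ_three]

lemma tm27_comm_diag (t : Fˣ) (d : Fin 3 → Fˣ) : tm27 t * H42.diagGL d = H42.diagGL d * tm27 t := by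
  rw [tm27, diagGL_mul, diagGL_mul, mul_comm]

lemma tm27_comm_jm (t : Fˣ) : tm27 t * jm27 = jm27 * tm27 t := by
  apply Units.ext
  rw [Units.val_mul, Units.val_mul, tm27, H42.coe_diagGL, jm27_val]
  ext i j
  fin_cases i <;> fin_cases j <;> simp [Matrix.mul_apply, Fin.sum_univ_three, Matrix.diagonal]

/-- Elements cubing to the cube of a scalar are diagonalisable. -/
theorem diag_form27 (h3 : 3 ∣ Fintype.card F - 1) {x : GL (Fin 3) F} {c : Fˣ}
    (hx : ((x ^ 3 : GL (Fin 3) F) : Matrix (Fin 3) (Fin 3) F) = (c : F) ^ 3 • 1) :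
    ∃ d : Fin 3 → Fˣ, IsConj x (H42.diagGL d) ∧ ∀ i, d i ^ 3 = c ^ 3 := by
  classical
  let K : GL (Fin 3) F := H42.diagGL fun _ => c
  have hK : Commute K⁻¹ x := (Commute.inv_left (diagGL_const_comm c x))
  have hx' : x ^ 3 = K ^ 3 := by
    apply Units.ext
    rw [hx, diagGL_pow]
    show _ = (H42.diagGL fun _ : Fin 3 => c ^ 3 : GL (Fin 3) F).1
    rw [diagGL_const, Units.val_pow_eq_pow_val]
  obtain ⟨P, f, hPf⟩ := H42.exists_diagonalize Nat.prime_three h3 (K⁻¹ * x)
    (by rw [hK.mul_pow, hx', inv_pow, inv_mul_cancel])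
  refine ⟨fun i => c * (f i : Fˣ), isConj_iff.mpr ⟨P⁻¹, ?_⟩, fun i => ?_⟩
  · have hKD : (H42.diagGL fun i => c * (f i : Fˣ)) = K * H42.diagGL fun i => (f i : Fˣ) := by
      rw [diagGL_mul]; rfl
    rw [hKD, inv_inv, eq_comm]
    have : x = K * (P * (H42.diagGL fun i => (f i : Fˣ)) * P⁻¹) := by rw [← hPf, mul_inv_cancel_left]
    rw [this]
    calc K * (H42.diagGL fun i => (f i : Fˣ))
        = (P⁻¹ * (K * P)) * (H42.diagGL fun i => (f i : Fˣ)) * (P⁻¹ * P) := by
          rw [diagGL_const_comm c P, inv_mul_cancel_left, inv_mul_cancel, mul_one]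
      _ = _ := by group
  · rw [mul_pow, (mem_rootsOfUnity 3 _).mp (f i).2, mul_one]

/-- Involutions modulo scalars of determinant one form one class. -/
theorem invol_form27 (h2 : (2 : F) ≠ 0) {x : GL (Fin 3) F} {c : Fˣ}
    (hx : ((x ^ 2 : GL (Fin 3) F) : Matrix (Fin 3) (Fin 3) F) = (c : F) ^ 2 • 1)
    (hd : (x : Matrix (Fin 3) (Fin 3) F).det = (c : F) ^ 3)
    (hns : ∀ z : F, (x : Matrix (Fin 3) (Fin 3) F) ≠ z • 1) :
    IsConj x ((H42.diagGL fun _ => c) * jm27) := by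
  classical
  let K : GL (Fin 3) F := H42.diagGL fun _ => c
  have hK : Commute K⁻¹ x := (Commute.inv_left (diagGL_const_comm c x))
  have hx' : x ^ 2 = K ^ 2 := by
    apply Units.ext
    rw [hx, diagGL_pow]
    show _ = (H42.diagGL fun _ : Fin 3 => c ^ 2 : GL (Fin 3) F).1
    rw [diagGL_const, Units.val_pow_eq_pow_val]
  have hchar : ringChar F ≠ 2 := fun h => h2 (by exact_mod_cast (h ▸ ringChar.Nat.cast_ringChar : ((2 : ℕ) : F) = 0))
  have hodd := FiniteField.odd_card_of_char_ne_two hchar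
  obtain ⟨P, f, hPf⟩ := H42.exists_diagonalize Nat.prime_two (by omega) (K⁻¹ * x)
    (by rw [hK.mul_pow, hx', inv_pow, inv_mul_cancel])
  have hxP : x = P * (K * H42.diagGL fun i => (f i : Fˣ)) * P⁻¹ := by
    have : x = K * (P * (H42.diagGL fun i => (f i : Fˣ)) * P⁻¹) := by rw [← hPf, mul_inv_cancel_left]
    calc x = K * (P * (H42.diagGL fun i => (f i : Fˣ)) * P⁻¹) := this
      _ = (K * P) * (H42.diagGL fun i => (f i : Fˣ)) * P⁻¹ := by group
      _ = _ := by rw [diagGL_const_comm c P]; simp only [K]; group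
  have hf : ∀ i, (f i : Fˣ) = 1 ∨ (f i : Fˣ) = -1 := fun i => by
    have h := congrArg Units.val ((mem_rootsOfUnity 2 _).mp (f i).2)
    rw [Units.val_pow_eq_pow_val, Units.val_one, sq_eq_one_iff] at h
    rcases h with h | h
    · exact Or.inl (Units.ext h)
    · exact Or.inr (Units.ext (by rw [h, Units.val_neg, Units.val_one]))
  have hprod : ((f 0 : Fˣ) : F) * (f 1 : Fˣ) * (f 2 : Fˣ) = 1 := by
    have hdet : (x : Matrix (Fin 3) (Fin 3) F).det = (c : F) ^ 3 * ∏ i, ((f i : Fˣ) : F) := by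
      rw [hxP, Units.val_mul, Units.val_mul, Matrix.det_mul, Matrix.det_mul, Units.val_mul, Matrix.det_mul,
        diagGL_const, Matrix.det_smul, Matrix.det_one, mul_one, diagGL_det, Fintype.card_fin]
      rw [mul_right_comm, ← Matrix.det_mul, Units.mul_inv, Matrix.det_one, one_mul]
    rw [hd, Fin.prod_univ_three] at hdet
    exact (mul_left_cancel₀ (pow_ne_zero 3 c.ne_zero) (by rw [← hdet, mul_one])).symm
  have hperm : ∃ e : Equiv.Perm (Fin 3), ![1, -1, -1] ∘ e = fun i => (f i : Fˣ) := by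
    rcases hf 0 with a | a <;> rcases hf 1 with b | b <;> rcases hf 2 with d | d <;>
      simp only [a, b, d, Units.val_one, Units.val_neg] at hprod
    · exfalso
      refine hns c ?_
      have : (H42.diagGL fun i => (f i : Fˣ)) = 1 := by
        rw [← diagGL_one]; congr 1; funext i; fin_cases i <;> assumption
      rw [hxP, this, mul_one, ← diagGL_const_comm c P, mul_inv_cancel_right]
      exact diagGL_const c
    · exact absurd (show (2 : F) = 0 by linear_combination -hprod) h2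
    · exact absurd (show (2 : F) = 0 by linear_combination -hprod) h2
    · exact ⟨1, by funext i; fin_cases i <;> simp [a, b, d]⟩
    · exact absurd (show (2 : F) = 0 by linear_combination -hprod) h2
    · exact ⟨Equiv.swap 0 1, by funext i; fin_cases i <;> simp [a, b, d, Equiv.swap_apply_def]⟩
    · exact ⟨Equiv.swap 0 2, by funext i; fin_cases i <;> simp [a, b, d, Equiv.swap_apply_def]⟩
    · exact absurd (show (2 : F) = 0 by linear_combination -hprod) h2
  obtain ⟨e, he⟩ := hperm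
  have hj : IsConj (H42.diagGL ![(1 : Fˣ), -1, -1]) jm27 := by
    let Q : GL (Fin 3) F := Matrix.GeneralLinearGroup.mkOfDetNeZero !![0, 1, 0; 1, 0, 1; -1, 0, 1]
      (by simp [Matrix.det_fin_three]; intro h; exact h2 (by linear_combination -h))
    refine isConj_iff.mpr ⟨Q, ?_⟩
    rw [mul_inv_eq_iff_eq_mul]
    apply Units.ext
    rw [Units.val_mul, Units.val_mul, H42.coe_diagGL, jm27_val]
    show (!![0, 1, 0; 1, 0, 1; -1, 0, 1] : Matrix (Fin 3) (Fin 3) F) * _
      = _ * (!![0, 1, 0; 1, 0, 1; -1, 0, 1] : Matrix (Fin 3) (Fin 3) F)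
    ext i j
    fin_cases i <;> fin_cases j <;> simp [Matrix.mul_apply, Fin.sum_univ_three, Matrix.diagonal]
  have hfj : IsConj (H42.diagGL fun i => (f i : Fˣ)) jm27 := (diagGL_perm he).symm.trans hj
  obtain ⟨Q, hQ⟩ := isConj_iff.mp hfj
  refine isConj_iff.mpr ⟨Q * P⁻¹, ?_⟩
  rw [hxP, ← hQ]
  calc (Q * P⁻¹) * (P * (K * H42.diagGL fun i => (f i : Fˣ)) * P⁻¹) * (Q * P⁻¹)⁻¹
      = (Q * K) * (H42.diagGL fun i => (f i : Fˣ)) * Q⁻¹ := by group
    _ = _ := by rw [← diagGL_const_comm c Q]; group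

/-- An element fixes a point when it is conjugate to a target commuting with the determinant corrections. -/
theorem sl_conj_of_target {R : Subgroup (GL (Fin 3) F)} {h : GL (Fin 3) F} {w : Fˣ}
    (hRh : R = (extra27 w).map (MulAut.conj h).toMonoidHom) (G : Subgroup (GL (Fin 3) F))
    (hG : ∀ t : Fˣ, (∃ u ∈ G, (u : Matrix (Fin 3) (Fin 3) F).det = t) → h * tm27 t * h⁻¹ ∈ G)
    {n : GL (Fin 3) F} (hn : n ∈ Cfsg.Geo.subgroupNormalizer (extra27 w)) (ht : ∀ t, tm27 t * n = n * tm27 t)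
    {x u : GL (Fin 3) F} (hu : u ∈ G) (hux : u * x * u⁻¹ = h * n * h⁻¹) :
    ∃ g ∈ G ⊓ Cfsg.Geo.specialLinear (Fin 3) F, g⁻¹ * x * g ∈ Cfsg.Geo.subgroupNormalizer R := by
  set t : Fˣ := Matrix.GeneralLinearGroup.det u⁻¹ with ht'
  have hT : h * tm27 t * h⁻¹ ∈ G := hG t ⟨u⁻¹, inv_mem hu, rfl⟩
  have htdet : Matrix.GeneralLinearGroup.det (tm27 t) = t := Units.ext (tm27_det t)
  refine ⟨u⁻¹ * (h * tm27 t * h⁻¹)⁻¹, Subgroup.mem_inf.mpr ⟨mul_mem (inv_mem hu) (inv_mem hT), ?_⟩, ?_⟩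
  · show Matrix.GeneralLinearGroup.det _ = 1
    rw [map_mul, map_inv, map_inv, map_mul, map_mul, map_inv, htdet, ht', map_inv]
    simp
  · have : (u⁻¹ * (h * tm27 t * h⁻¹)⁻¹)⁻¹ * x * (u⁻¹ * (h * tm27 t * h⁻¹)⁻¹) = h * n * h⁻¹ := by
      calc (u⁻¹ * (h * tm27 t * h⁻¹)⁻¹)⁻¹ * x * (u⁻¹ * (h * tm27 t * h⁻¹)⁻¹)
          = (h * tm27 t * h⁻¹) * (u * x * u⁻¹) * (h * tm27 t * h⁻¹)⁻¹ := by group
        _ = h * (tm27 t * n) * (tm27 t)⁻¹ * h⁻¹ := by rw [hux]; group
        _ = _ := by rw [ht]; group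
    rw [this, hRh]
    have hle := Subgroup.le_normalizer_map (H := extra27 w) (MulAut.conj h).toMonoidHom
    exact hle ⟨n, hn, rfl⟩

/-- An element of prime order at least five in a group of special linear type is a derangement. -/
theorem derangement27 {R : Subgroup (GL (Fin 3) F)} (hR : Nat.card R = 27) {h : GL (Fin 3) F} {w : Fˣ}
    (hw : w ^ 3 = 1) (hw1 : w ≠ 1) (hRh : R = (extra27 w).map (MulAut.conj h).toMonoidHom)
    {r : ℕ} [hr : Fact r.Prime] (h5 : 5 ≤ r) {G : Subgroup (GL (Fin 3) F)}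
    (hG : G ≤ Cfsg.Geo.specialLinear (Fin 3) F) (hdvd : r ∣ Nat.card G) :
    ∃ x ∈ G, ((x ^ r : GL (Fin 3) F) : Matrix (Fin 3) (Fin 3) F) = (1 : F) • 1 ∧
      (∀ z : F, (x : Matrix (Fin 3) (Fin 3) F) ≠ z • 1) ∧
      ∀ g : GL (Fin 3) F, g⁻¹ * x * g ∉ Cfsg.Geo.subgroupNormalizer R := by
  classical
  obtain ⟨x, hx⟩ := exists_prime_orderOf_dvd_card' (G := G) r hdvd
  have hxr : (x : GL (Fin 3) F) ^ r = 1 := by
    have := congrArg Subtype.val (pow_orderOf_eq_one x); rwa [hx] at this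
  have hx1 : (x : GL (Fin 3) F) ≠ 1 := fun he => by
    have : x = 1 := Subtype.ext he
    rw [this, orderOf_one] at hx; omega
  have hns : ∀ z : F, ((x : GL (Fin 3) F) : Matrix (Fin 3) (Fin 3) F) ≠ z • 1 := by
    intro z hz
    have hd : ((x : GL (Fin 3) F) : Matrix (Fin 3) (Fin 3) F).det = 1 := congrArg Units.val (hG x.2)
    rw [hz, Matrix.det_smul, Matrix.det_one, mul_one, Fintype.card_fin] at hd
    have hp := congrArg Units.val hxr
    rw [Units.val_pow_eq_pow_val, hz, smul_pow, one_pow, Units.val_one] at hp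
    have hzr : z ^ r = 1 := by simpa using congrFun (congrFun hp 0) 0
    have : z = 1 := by
      have h1 : orderOf z ∣ 3 := orderOf_dvd_of_pow_eq_one hd
      have h2 : orderOf z ∣ r := orderOf_dvd_of_pow_eq_one hzr
      have hco : Nat.Coprime 3 r := (Nat.coprime_primes Nat.prime_three hr.out).mpr (by omega)
      exact orderOf_eq_one_iff.mp (Nat.eq_one_of_dvd_coprimes hco h1 h2)
    exact hx1 (Units.ext (by rw [hz, this, one_smul, Units.val_one]))
  refine ⟨x, x.2, by rw [hxr, one_smul, Units.val_one], hns, fun g hg => ?_⟩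
  have hyr : (g⁻¹ * (x : GL (Fin 3) F) * g) ^ r = 1 := by
    have : g⁻¹ * (x : GL (Fin 3) F) * g = MulAut.conj g⁻¹ (x : GL (Fin 3) F) := by simp [MulAut.conj_apply]
    rw [this, ← map_pow, hxr, map_one]
  obtain ⟨c, hc⟩ := normalizer27_scalar hR hw hw1 hRh h5 hg (z := 1) (by rw [hyr, one_smul, Units.val_one])
  refine hns c ?_
  have : (x : GL (Fin 3) F) = g * (g⁻¹ * (x : GL (Fin 3) F) * g) * g⁻¹ := by group
  rw [this, Units.val_mul, Units.val_mul, hc, Matrix.mul_smul, Matrix.mul_one, Matrix.smul_mul, Units.mul_inv]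

end H47

namespace H47

variable {F : Type*} [Field F] [Fintype F]

omit [Fintype F] in
lemma extra27_map_le_sl {w : Fˣ} (hw : w ^ 3 = 1) (h : GL (Fin 3) F) :
    (extra27 w).map (MulAut.conj h).toMonoidHom ≤ Cfsg.Geo.specialLinear (Fin 3) F := by
  have hw' : (w : F) ^ 3 = 1 := by simpa using congrArg Units.val hw
  rw [Subgroup.map_le_iff_le_comap, extra27, Subgroup.closure_le]
  rintro y (rfl | rfl) <;>
    (show Matrix.GeneralLinearGroup.det (h * _ * h⁻¹) = 1
     rw [map_mul, map_mul, map_inv, mul_right_comm, mul_inv_cancel, one_mul]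
     apply Units.ext)
  · show (dm27 w : Matrix (Fin 3) (Fin 3) F).det = _
    rw [dm27_val]; simp [Matrix.det_fin_three]; linear_combination hw'
  · show ((cm27 : GL (Fin 3) F) : Matrix (Fin 3) (Fin 3) F).det = _
    rw [cm27_val]; simp [Matrix.det_fin_three]

/-- Ninth roots of unity give cube roots of cube roots of unity. -/
lemma exists_cube_root27 (h9 : 9 ∣ Fintype.card F - 1) (z : Fˣ) (hz : z ^ 3 = 1) :
    ∃ c : Fˣ, c ^ 3 = z ∧ c ^ 9 = 1 := by
  classical
  obtain ⟨g, hg⟩ := IsCyclic.exists_ofOrder_eq_natCard (α := Fˣ)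
  have hgo : orderOf g = Fintype.card F - 1 := by rw [hg, Nat.card_units, Nat.card_eq_fintype_card]
  obtain ⟨m, hm⟩ := h9
  have hlt : 1 < Fintype.card F := Fintype.one_lt_card
  set ζ := g ^ m with hζ
  have hζo : orderOf ζ = 9 := by
    rw [hζ, orderOf_pow' _ (by intro h0; rw [h0] at hm; omega), hgo, hm, Nat.gcd_mul_left_left,
      Nat.mul_div_cancel _ (by rcases Nat.eq_zero_or_pos m with h | h; · rw [h] at hm; omega
                               · exact h)]
  have h91 : ζ ^ 9 = 1 := by rw [← hζo]; exact pow_orderOf_eq_one ζ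
  have h31 : (ζ ^ 3) ^ 3 = 1 := by rw [← pow_mul]; exact h91
  have h3ne : ζ ^ 3 ≠ 1 := fun h => by
    have := Nat.le_of_dvd (by norm_num) (orderOf_dvd_of_pow_eq_one h); omega
  obtain ⟨k, hk⟩ := cube_root_eq_pow h31 h3ne hz
  refine ⟨ζ ^ k, (pow_right_comm ζ k 3).trans hk.symm, ?_⟩
  rw [← pow_mul, mul_comm, pow_mul, h91, one_pow]

omit [Fintype F] in
/-- The three-part of `|SL₃(p)|` when `p ≢ 1 (mod 9)`. -/
lemma not_81_sl (p k : ℕ) (hp : p % 3 = 1) (h9 : ¬ p % 9 = 1)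
    (h : (p - 1) * (81 * k) = (p ^ 3 - 1) * (p ^ 3 - p) * (p ^ 3 - p ^ 2)) : False := by
  obtain ⟨a, rfl⟩ : ∃ a, p = 3 * a + 1 := ⟨p / 3, by omega⟩
  have ha : a % 3 ≠ 0 := fun h0 => h9 (by omega)
  have e1 : (3 * a + 1) ^ 3 - 1 = 9 * (a * (3 * a ^ 2 + 3 * a + 1)) :=
    Nat.sub_eq_of_eq_add (by ring)
  have e2 : (3 * a + 1) ^ 3 - (3 * a + 1) = (3 * a + 1) * (3 * a * (3 * a + 2)) :=
    Nat.sub_eq_of_eq_add (by ring)
  have e3 : (3 * a + 1) ^ 3 - (3 * a + 1) ^ 2 = (3 * a + 1) ^ 2 * (3 * a) :=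
    Nat.sub_eq_of_eq_add (by ring)
  rw [Nat.add_sub_cancel, e1, e2, e3] at h
  have h' : 81 * (3 * a * k) =
      81 * (a ^ 3 * ((3 * a ^ 2 + 3 * a + 1) * (3 * a + 2) * (3 * a + 1) ^ 3)) := by
    linear_combination h
  have h'' : 3 ∣ a ^ 3 * ((3 * a ^ 2 + 3 * a + 1) * (3 * a + 2) * (3 * a + 1) ^ 3) :=
    ⟨a * k, by have := Nat.eq_of_mul_eq_mul_left (by norm_num) h'; rw [← this]; ring⟩
  have p3 := Nat.prime_three
  rcases p3.dvd_mul.mp h'' with h | h
  · have := p3.dvd_of_dvd_pow h; omega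
  rcases p3.dvd_mul.mp h with h | h
  · rcases p3.dvd_mul.mp h with h | h <;> omega
  · have := p3.dvd_of_dvd_pow h; omega

omit [Fintype F] in
/-- The three-part of `|GU₃(p)|` when `p ≢ 8 (mod 9)`. -/
lemma not_81_su (p k : ℕ) (hp : p % 3 = 2) (h9 : ¬ p % 9 = 8)
    (h : (p + 1) * (81 * k) = p ^ 3 * ((p + 1) * (p ^ 2 - 1) * (p ^ 3 + 1))) : False := by
  obtain ⟨a, rfl⟩ : ∃ a, p = 3 * a + 2 := ⟨p / 3, by omega⟩
  have ha : (a + 1) % 3 ≠ 0 := fun h0 => h9 (by omega)
  have e1 : (3 * a + 2) ^ 2 - 1 = 3 * (a + 1) * (3 * a + 1) := Nat.sub_eq_of_eq_add (by ring)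
  rw [e1] at h
  have h' : 81 * (3 * (a + 1) * k) =
      81 * ((a + 1) ^ 3 * ((3 * a ^ 2 + 3 * a + 1) * (3 * a + 1) * (3 * a + 2) ^ 3)) := by
    linear_combination h
  have h'' : 3 ∣ (a + 1) ^ 3 * ((3 * a ^ 2 + 3 * a + 1) * (3 * a + 1) * (3 * a + 2) ^ 3) :=
    ⟨(a + 1) * k, by have := Nat.eq_of_mul_eq_mul_left (by norm_num) h'; rw [← this]; ring⟩
  have p3 := Nat.prime_three
  rcases p3.dvd_mul.mp h'' with h | h
  · have := p3.dvd_of_dvd_pow h; omega
  rcases p3.dvd_mul.mp h with h | h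
  · rcases p3.dvd_mul.mp h with h | h <;> omega
  · have := p3.dvd_of_dvd_pow h; omega

end H47
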