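import Mathlib
import Cfsg.Agent.H47.Extra27Targets

/-!
# Unitary coordinates for an extraspecial group of order 27
-/

set_option autoImplicit false
open scoped MatrixGroups Matrix
open Matrix

namespace H47

variable {F : Type*} [Field F] [Fintype F] {q : ℕ} (hF : Fintype.card F = q ^ 2)
include hF

lemma diag_mem_GU27 {n : ℕ} {d : Fin n → Fˣ} (hd : ∀ i, d i ^ (q + 1) = 1) :
    H42.diagGL d ∈ Cfsg.GU n F q := by
  rw [H51.mem_GU_iff hF, H42.coe_diagGL]
  have : H51.adj hF (Matrix.diagonal fun i => (d i : F)) = Matrix.diagonal fun i => (d i : F) ^ q := by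
    rw [H51.adj_def, Matrix.diagonal_map (by exact zero_pow (H51.q_pos hF).ne'), Matrix.diagonal_transpose]
  rw [this, Matrix.diagonal_mul_diagonal, ← Matrix.diagonal_one]
  congr 1; funext i
  rw [← pow_succ, ← Units.val_pow_eq_pow_val, hd i, Units.val_one]

lemma cm27_mem_GU : (cm27 : GL (Fin 3) F) ∈ Cfsg.GU 3 F q := by
  rw [H51.mem_GU_iff hF, cm27_val]
  ext i j
  fin_cases i <;> fin_cases j <;>
    simp [Matrix.mul_apply, Fin.sum_univ_three, zero_pow (H51.q_pos hF).ne']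

lemma jm27_mem_GU : (jm27 : GL (Fin 3) F) ∈ Cfsg.GU 3 F q := by
  rw [H51.mem_GU_iff hF, jm27_val]
  ext i j
  fin_cases i <;> fin_cases j <;>
    simp [Matrix.mul_apply, Fin.sum_univ_three, zero_pow (H51.q_pos hF).ne', H51.neg_pow_q hF]

lemma dm27_mem_GU {w : Fˣ} (hw : w ^ 3 = 1) (h3 : 3 ∣ q + 1) : dm27 w ∈ Cfsg.GU 3 F q := by
  obtain ⟨m, hm⟩ := h3
  have : w ^ (q + 1) = 1 := by rw [hm, pow_mul, hw, one_pow]
  refine diag_mem_GU27 hF fun i => ?_
  fin_cases i <;> simp [pow_right_comm w 2, this]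

/-- The conjugating matrix may be taken unitary. -/
theorem exists_unitary_extra27 (h3 : 3 ∣ q + 1) {R : Subgroup (GL (Fin 3) F)} (hRU : R ≤ Cfsg.GU 3 F q)
    {h : GL (Fin 3) F} {w : Fˣ} (hw : w ^ 3 = 1) (hw1 : w ≠ 1)
    (hRh : R = (extra27 w).map (MulAut.conj h).toMonoidHom) :
    ∃ h' ∈ Cfsg.GU 3 F q, R = (extra27 w).map (MulAut.conj h').toMonoidHom := by
  classical
  set H : Matrix (Fin 3) (Fin 3) F := (h : Matrix (Fin 3) (Fin 3) F) with hH
  set M := H51.adj hF H * H with hM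
  have hcomm : ∀ d : GL (Fin 3) F, d ∈ extra27 w → d ∈ Cfsg.GU 3 F q →
      M * (d : Matrix (Fin 3) (Fin 3) F) = (d : Matrix (Fin 3) (Fin 3) F) * M := by
    intro d hd hdU
    set D : Matrix (Fin 3) (Fin 3) F := (d : Matrix (Fin 3) (Fin 3) F) with hD
    have hy : h * d * h⁻¹ ∈ Cfsg.GU 3 F q := hRU (by rw [hRh]; exact ⟨d, hd, rfl⟩)
    set Y : Matrix (Fin 3) (Fin 3) F := ((h * d * h⁻¹ : GL (Fin 3) F) : Matrix (Fin 3) (Fin 3) F) with hY
    have e1 : Y * H = H * D := by rw [hY, hH, hD, ← Units.val_mul, ← Units.val_mul, inv_mul_cancel_right]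
    have e2 : H51.adj hF Y * Y = 1 := (H51.mem_GU_iff hF _).mp hy
    have e3 : H51.adj hF D * D = 1 := (H51.mem_GU_iff hF _).mp hdU
    have e4 : H51.adj hF D * M * D = M := by
      calc H51.adj hF D * M * D = H51.adj hF (H * D) * (H * D) := by
            rw [H51.adj_mul, hM]; simp only [Matrix.mul_assoc]
        _ = H51.adj hF H * (H51.adj hF Y * Y) * H := by
            rw [← e1, H51.adj_mul]; simp only [Matrix.mul_assoc]
        _ = M := by rw [e2, Matrix.mul_one]
    calc M * D = (D * H51.adj hF D) * M * D := by rw [mul_eq_one_comm.mp e3, Matrix.one_mul]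
      _ = D * (H51.adj hF D * M * D) := by simp only [Matrix.mul_assoc]
      _ = D * M := by rw [e4]
  have hsc := extra27_commutant hw hw1 (hcomm _ (dm27_mem w) (dm27_mem_GU hF hw h3))
    (hcomm _ (cm27_mem w) (cm27_mem_GU hF))
  set c := M 0 0 with hc
  have hMadj : H51.adj hF M = M := by rw [hM, H51.adj_mul, H51.adj_adj]
  have hcq : c ^ q = c := congrFun (congrFun hMadj 0) 0
  obtain ⟨l, hl⟩ := H50.exists_norm_eq hF hcq
  have hc0 : c ≠ 0 := by
    intro h0
    rw [h0, zero_smul] at hsc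
    have hdet := congrArg Matrix.det hsc
    rw [hM, Matrix.det_mul, H51.det_adj, Matrix.det_zero] at hdet
    exact (Matrix.isUnits_det_units h).ne_zero
      ((mul_eq_zero.mp hdet).elim (fun h' => pow_eq_zero_iff (H51.q_pos hF).ne' |>.mp h') id)
  have hl0 : l ≠ 0 := fun h0 => hc0 (by rw [← hl, h0, zero_pow (Nat.succ_ne_zero q)])
  let L : Fˣ := (Units.mk0 l hl0)⁻¹
  refine ⟨H42.diagGL (fun _ => L) * h, ?_, ?_⟩
  · rw [H51.mem_GU_iff hF, Units.val_mul, diagGL_const, Matrix.smul_mul, Matrix.one_mul, H51.adj_smul,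
      Matrix.smul_mul, Matrix.mul_smul, smul_smul, ← hM, hsc, smul_smul]
    have : (L : F) ^ q * (L : F) * c = 1 := by
      rw [← pow_succ, ← hl, ← mul_pow]; simp [L, hl0]
    rw [this, one_smul]
  · rw [hRh]
    congr 1
    refine MonoidHom.ext fun y => ?_
    show h * y * h⁻¹ = (H42.diagGL (fun _ => L) * h) * y * (H42.diagGL (fun _ => L) * h)⁻¹
    calc h * y * h⁻¹ = H42.diagGL (fun _ => L) * (h * y * h⁻¹) * (H42.diagGL (fun _ => L))⁻¹ := by
          rw [diagGL_const_comm L, mul_inv_cancel_right]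
      _ = _ := by group

/-- The order of `GU₃ ⊓ SL₃`. -/
theorem card_gu_inf_sl {n : ℕ} (hn : 0 < n) :
    (q + 1) * Nat.card ↥(Cfsg.GU n F q ⊓ Cfsg.Geo.specialLinear (Fin n) F) = Nat.card (Cfsg.GU n F q) := by
  classical
  have hk : Nat.card ↥(Cfsg.GU n F q ⊓ Cfsg.Geo.specialLinear (Fin n) F)
      = Nat.card (H50.detGU (n := n) (F := F) (q := q)).ker :=
    Nat.card_congr
      { toFun := fun g => ⟨⟨g.1, g.2.1⟩, g.2.2⟩
        invFun := fun g => ⟨g.1.1, g.1.2, g.2⟩
        left_inv := fun _ => rfl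
        right_inv := fun _ => rfl }
  rw [hk, ← Subgroup.card_mul_index (H50.detGU (n := n) (F := F) (q := q)).ker, Subgroup.index_ker,
    H50.detGU_range hF hn, H50.natCard_norm_ker hF, mul_comm]

end H47
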