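import Mathlib
import Cfsg.Agent.H47.GUPairTargets

/-!
# Derangements for the pairs of totally singular subspaces
-/

set_option autoImplicit false
open scoped MatrixGroups Matrix
open Matrix

namespace H47

variable {F : Type*} [Field F] [Fintype F] {n m q : ℕ} (hF : Fintype.card F = q ^ 2)
include hF

/-- A transvection. -/
theorem gu_transvection {p : ℕ} [hp : Fact p.Prime] [CharP F p] (hn : 2 ≤ n) :
    ∃ x ∈ Cfsg.GU n F q, (x : Matrix (Fin n) (Fin n) F).det = 1 ∧ x ^ p = 1 ∧
      ((x : Matrix (Fin n) (Fin n) F) - 1).rank = 1 := by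
  classical
  obtain ⟨v, hv0, hv⟩ := H50.exists_isotropic hF hn
  obtain ⟨c, hc0, hc⟩ := H50.exists_trace_zero_ne_zero hF
  set T := Cfsg.unitaryTransvection n q v c
  have hiso : H50.IsIso q T := H50.ut_isIso_isotropic hF hv hc
  have hTd : T.det = 1 := by rw [H50.ut_det, hv, mul_zero, add_zero]
  let x : GL (Fin n) F := Matrix.GeneralLinearGroup.mkOfDetNeZero T (by rw [hTd]; exact one_ne_zero)
  set N : Matrix (Fin n) (Fin n) F := c • Matrix.vecMulVec v (fun j => v j ^ q)
  have hTN : T = 1 + N := rfl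
  haveI : Nonempty (Fin n) := ⟨⟨0, by omega⟩⟩
  have hN2 : N ^ 2 = 0 := by
    have h0 : (fun j => v j ^ q) ⬝ᵥ v = 0 := by rw [dotProduct_comm]; exact hv
    rw [pow_two, Matrix.smul_mul, Matrix.mul_smul, Matrix.vecMulVec_mul_vecMulVec, h0]
    simp
  refine ⟨x, hiso, hTd, Units.ext ?_, ?_⟩
  · haveI : CharP (Matrix (Fin n) (Fin n) F) p := Matrix.charP p
    show (((x ^ p : GL (Fin n) F)) : Matrix (Fin n) (Fin n) F) = 1
    rw [Units.val_pow_eq_pow_val]
    show T ^ p = 1
    rw [hTN, add_pow_char_of_commute p (Commute.one_left _), one_pow,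
      show N ^ p = 0 from pow_eq_zero_of_le hp.out.two_le hN2, add_zero]
  · show (T - 1).rank = 1
    rw [hTN, add_sub_cancel_left]
    refine le_antisymm ?_ ?_
    · rw [show N = Matrix.vecMulVec (c • v) (fun j => v j ^ q) by rw [Matrix.smul_vecMulVec]]
      exact Matrix.rank_vecMulVec_le _ _
    · rw [Nat.one_le_iff_ne_zero]
      intro h
      obtain ⟨i, hi⟩ := Function.ne_iff.mp hv0
      have hz := congrFun (congrFun (H44.eq_zero_of_rank N h) i) i
      rw [Pi.zero_apply] at hi
      simp [N, Matrix.vecMulVec_apply, hc0, hi] at hz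

/-- An element of order `r` with an odd number of non-trivial eigenvalues. -/
theorem gu_odd_rank {r j : ℕ} [hr : Fact r.Prime] (hr2 : r ≠ 2) (hjn : j < n)
    (hj : Odd j) (hdvd : r ∣ q ^ j + 1) (hn4 : 4 ≤ n) :
    ∃ x ∈ Cfsg.GU n F q, (x : Matrix (Fin n) (Fin n) F).det = 1 ∧ x ^ r = 1 ∧
      Odd ((x : Matrix (Fin n) (Fin n) F) - 1).rank := by
  classical
  by_cases hr1 : r ∣ q + 1
  · obtain ⟨w, hw⟩ := exists_prime_orderOf_dvd_card' r
      (show r ∣ Nat.card Fˣ by
        rw [Nat.card_units, Nat.card_eq_fintype_card, hF]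
        exact hr1.trans ⟨q - 1, by simpa [sq] using Nat.sq_sub_sq q 1⟩)
    have hwr : w ^ r = 1 := hw ▸ pow_orderOf_eq_one w
    have hwq : w ^ (q + 1) = 1 := orderOf_dvd_iff_pow_eq_one.mp (hw ▸ hr1)
    have hw1 : w ≠ 1 := fun h => by rw [h, orderOf_one] at hw; exact hr.out.one_lt.ne hw
    have hw2 : (w * w)⁻¹ ≠ 1 := fun h => by
      rw [inv_eq_one, ← pow_two] at h
      have := orderOf_dvd_of_pow_eq_one h
      rw [hw] at this
      exact hr2 ((Nat.prime_dvd_prime_iff_eq hr.out Nat.prime_two).1 this)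
    obtain ⟨k, rfl⟩ : ∃ k, n = k + 3 := ⟨n - 3, by omega⟩
    let d : Fin (k + 3) → Fˣ := Fin.cons w (Fin.cons w (Fin.cons (w * w)⁻¹ (fun _ => 1)))
    have hdq : ∀ i, (d i) ^ (q + 1) = 1 := fun i => by
      refine Fin.cases ?_ (fun i => ?_) i
      · simpa [d] using hwq
      refine Fin.cases ?_ (fun i => ?_) i
      · simpa [d] using hwq
      refine Fin.cases ?_ (fun i => ?_) i
      · simp only [d, Fin.cons_succ, Fin.cons_zero]
        rw [inv_pow, mul_pow, hwq, mul_one, inv_one]
      · simp [d]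
    refine ⟨H42.diagGL d, ?_, ?_, ?_, ?_⟩
    · rw [H51.mem_GU_iff hF, H42.coe_diagGL]
      have hadj : H51.adj hF (Matrix.diagonal fun i => (d i : F)) = Matrix.diagonal fun i => (d i : F) ^ q := by
        ext i i'
        rcases eq_or_ne i i' with rfl | hne <;> simp [*, Ne.symm, (H51.q_pos hF).ne']
      rw [hadj, Matrix.diagonal_mul_diagonal, ← Matrix.diagonal_one]
      congr 1
      funext i
      rw [← pow_succ, ← Units.val_pow_eq_pow_val, hdq, Units.val_one]
    · rw [H42.coe_diagGL, Matrix.det_diagonal, ← Units.coe_prod]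
      simp only [d, Fin.prod_univ_succ, Fin.cons_zero, Fin.cons_succ, Finset.prod_const_one, mul_one]
      rw [← mul_assoc, mul_inv_cancel, Units.val_one]
    · refine Units.ext ?_
      rw [Units.val_pow_eq_pow_val, H42.coe_diagGL, Matrix.diagonal_pow, Units.val_one, ← Matrix.diagonal_one]
      congr 1
      funext i
      rw [Pi.pow_apply, ← Units.val_pow_eq_pow_val, ← Units.val_one]
      congr 1
      refine Fin.cases ?_ (fun i => ?_) i
      · simpa [d] using hwr
      refine Fin.cases ?_ (fun i => ?_) i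
      · simpa [d] using hwr
      refine Fin.cases ?_ (fun i => ?_) i
      · simp only [d, Fin.cons_succ, Fin.cons_zero]
        rw [inv_pow, mul_pow, hwr, mul_one, inv_one]
      · simp [d]
    · rw [H42.coe_diagGL, ← Matrix.diagonal_one, Matrix.diagonal_sub, Matrix.rank_diagonal, Fintype.card_subtype,
        Finset.card_filter]
      simp only [Fin.sum_univ_succ, d, Fin.cons_zero, Fin.cons_succ, Units.val_one, sub_self, ne_eq,
        not_true_eq_false, if_false, Finset.sum_const_zero, sub_eq_zero, Units.val_eq_one, hw1, hw2,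
        not_false_eq_true, if_true]
      exact ⟨1, by norm_num⟩
  -- a torus element of dimension `j`
  obtain ⟨E, _, _, _, hE, hcard⟩ := exists_extension (F := F) j hj.pos
  haveI : Module.Finite F E := Module.finite_of_finrank_pos (by rw [hE]; exact hj.pos)
  haveI : Fintype E := Fintype.ofFinite E
  let bs : Module.Basis (Fin j) F E := Module.finBasisOfFinrankEq F E hE
  rw [Nat.card_eq_fintype_card, hF, ← pow_mul] at hcard
  set N := q ^ j with hNdef
  have hNN : N * N = Fintype.card E := by rw [hcard, hNdef, ← pow_add]; congr 1; omega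
  obtain ⟨u, hu⟩ := exists_prime_orderOf_dvd_card' r (show r ∣ Nat.card Eˣ by
    rw [Nat.card_units, Nat.card_eq_fintype_card, ← hNN]
    exact hdvd.trans ⟨N - 1, Nat.mul_self_sub_mul_self_eq N 1⟩)
  have hur : u ^ r = 1 := hu ▸ pow_orderOf_eq_one u
  have hu1 : u ≠ 1 := fun h => by rw [h, orderOf_one] at hu; exact hr.out.one_lt.ne hu
  have huN : (u : E) ^ N * (u : E) = 1 := by
    rw [← pow_succ, ← Units.val_pow_eq_pow_val, orderOf_dvd_iff_pow_eq_one.mp (hu ▸ hdvd), Units.val_one]
  obtain ⟨k, -, hqk, hpp⟩ := H51.exists_q_pow hF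
  haveI : Fact (ringChar F).Prime := ⟨hpp⟩
  haveI : CharP F (ringChar F) := ringChar.charP F
  haveI : CharP E (ringChar F) := charP_of_injective_algebraMap (algebraMap F E).injective _
  let σ : E →+* E := iterateFrobenius E (ringChar F) (k * j)
  have hσ : ∀ a : E, σ a = a ^ N := fun a => by
    rw [hNdef, hqk, ← pow_mul]; exact iterateFrobenius_def _ _ _
  have hσσ : ∀ a, σ (σ a) = a := fun a => by rw [hσ, hσ, ← pow_mul, hNN, FiniteField.pow_card]
  have hFN : ∀ c : F, c ^ N = c ^ q := by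
    intro c
    obtain ⟨i, hi⟩ := hj
    rw [hNdef, hi, pow_succ, pow_mul, pow_mul, ← hF, FiniteField.pow_card_pow]
  have hσF : ∀ c : F, σ (algebraMap F E c) = algebraMap F E (c ^ q) := fun c => by rw [hσ, ← map_pow, hFN]
  have htr : ∀ a, Algebra.trace F E (σ a) = Algebra.trace F E a ^ q := by
    intro a
    apply (algebraMap F E).injective
    rw [← hσF, FiniteField.algebraMap_trace_eq_sum_pow, FiniteField.algebraMap_trace_eq_sum_pow, map_sum]
    exact Finset.sum_congr rfl fun i _ => by rw [map_pow]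
  let G : Matrix (Fin j) (Fin j) F := Matrix.of fun a b => Algebra.trace F E (σ (bs a) * bs b)
  have hG : H51.adj hF G = G := by
    ext a b
    rw [H51.adj_apply]
    simp only [G, Matrix.of_apply]
    rw [← htr, map_mul σ, hσσ, mul_comm]
  have hG0 : G.det ≠ 0 := by
    intro h
    obtain ⟨v, hv, hv0⟩ := Matrix.exists_mulVec_eq_zero_iff.mpr h
    apply hv
    set a := ∑ i, v i • bs i with ha
    have h1 : ∀ z : E, Algebra.trace F E (σ z * a) = 0 := by
      intro z
      rw [← bs.sum_repr z, map_sum, Finset.sum_mul, map_sum]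
      refine Finset.sum_eq_zero fun i _ => ?_
      rw [Algebra.smul_def, map_mul σ, hσF, mul_assoc, ← Algebra.smul_def, map_smul]
      have h2 : Algebra.trace F E (σ (bs i) * a) = (G *ᵥ v) i := by
        rw [ha, Finset.mul_sum, map_sum]
        simp only [mul_smul_comm, map_smul, smul_eq_mul, G, Matrix.mulVec, dotProduct, Matrix.of_apply]
        exact Finset.sum_congr rfl fun l _ => mul_comm _ _
      rw [h2, hv0, Pi.zero_apply, smul_zero]
    have h2 : a = 0 := (traceForm_nondegenerate F E).2 a fun z => by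
      rw [Algebra.traceForm_apply, ← hσσ z]; exact h1 _
    exact funext fun i => Fintype.linearIndependent_iff.mp bs.linearIndependent v h2 i
  set U := Algebra.leftMulMatrix bs (u : E) with hU
  have hUG : H51.adj hF U * G * U = G := by
    ext a b
    have hcol : ∀ c, ∑ l, U l c • bs l = (u : E) * bs c := fun c => by
      conv_rhs => rw [← bs.sum_repr ((u : E) * bs c)]
      refine Finset.sum_congr rfl fun l _ => ?_
      rw [hU, Algebra.leftMulMatrix_eq_repr_mul]
    calc (H51.adj hF U * G * U) a b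
        = ∑ x, (∑ y, U y a ^ q * G y x) * U x b := by simp [Matrix.mul_apply]
      _ = ∑ x, ∑ y, Algebra.trace F E (σ (U y a • bs y) * (U x b • bs x)) := by
        refine Finset.sum_congr rfl fun x _ => ?_
        rw [Finset.sum_mul]
        refine Finset.sum_congr rfl fun y _ => ?_
        rw [Algebra.smul_def (U y a), map_mul σ, hσF, ← Algebra.smul_def, smul_mul_smul_comm,
          map_smul, smul_eq_mul]
        simp only [G, Matrix.of_apply]
        ring
      _ = Algebra.trace F E (σ (∑ y, U y a • bs y) * ∑ x, U x b • bs x) := by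
        rw [Finset.sum_comm, map_sum σ, Finset.sum_mul, map_sum]
        exact Finset.sum_congr rfl fun y _ => by rw [Finset.mul_sum, map_sum]
      _ = G a b := by
        rw [hcol, hcol, map_mul σ]
        simp only [G, Matrix.of_apply]
        congr 1
        rw [hσ (u : E)]
        calc (u : E) ^ N * σ (bs a) * ((u : E) * bs b) = ((u : E) ^ N * (u : E)) * (σ (bs a) * bs b) := by ring
          _ = _ := by rw [huN, one_mul]
  have hUr : U ^ r = 1 := by rw [hU, ← map_pow, ← Units.val_pow_eq_pow_val, hur, Units.val_one, map_one]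
  have hUd : U.det = 1 := by
    have h1 := congrArg Matrix.det hUG
    rw [Matrix.det_mul, Matrix.det_mul, H51.det_adj hF, mul_right_comm] at h1
    have h2 : U.det ^ (q + 1) = 1 := by
      rw [pow_succ]; exact mul_right_cancel₀ hG0 (h1.trans (one_mul _).symm)
    have h3 : U.det ^ r = 1 := by rw [← Matrix.det_pow, hUr, Matrix.det_one]
    by_contra hne
    have hd0 : U.det ≠ 0 := fun h => by rw [h, zero_pow hr.out.ne_zero] at h3; exact zero_ne_one h3
    have ho : orderOf (Units.mk0 U.det hd0) = r := orderOf_eq_prime (Units.ext (by simpa using h3))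
      (fun h => hne (congrArg Units.val h))
    exact hr1 (ho ▸ orderOf_dvd_of_pow_eq_one (Units.ext (by simpa using h2)))
  have hU1 : (U - 1).rank = j := by
    rw [hU, ← map_one (Algebra.leftMulMatrix bs), ← map_sub, Matrix.rank_of_isUnit _ ?_, Fintype.card_fin]
    exact (Ne.isUnit (sub_ne_zero.mpr fun h => hu1 (Units.ext h))).map (Algebra.leftMulMatrix bs)
  let e : Fin n ≃ Fin j ⊕ Fin (n - j) := (finCongr (by omega)).trans finSumFinEquiv.symm
  let GG : Matrix (Fin j ⊕ Fin (n - j)) (Fin j ⊕ Fin (n - j)) F := Matrix.fromBlocks G 0 0 1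
  let UU : Matrix (Fin j ⊕ Fin (n - j)) (Fin j ⊕ Fin (n - j)) F := Matrix.fromBlocks U 0 0 1
  have hGG : H51.adj hF GG = GG := by
    ext (a | a) (b | b)
    · simpa [GG] using congrFun (congrFun hG a) b
    all_goals simp [GG, Matrix.one_apply, apply_ite (fun t : F => t ^ q), (H51.q_pos hF).ne', eq_comm]
  have hGGd : GG.det ≠ 0 := by
    rw [Matrix.det_fromBlocks_zero₁₂, Matrix.det_one, mul_one]; exact hG0
  have hUUG : H51.adj hF UU * GG * UU = GG := by
    have hadj : H51.adj hF UU = Matrix.fromBlocks (H51.adj hF U) 0 0 1 := by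
      ext (a | a) (b | b) <;>
        simp [UU, Matrix.one_apply, apply_ite (fun t : F => t ^ q), (H51.q_pos hF).ne', eq_comm]
    rw [hadj, Matrix.fromBlocks_multiply, Matrix.fromBlocks_multiply]
    simp [GG, hUG]
  obtain ⟨C, hCu, hC⟩ := H51.exists_adj_mul_self hF hGG ((Matrix.isUnit_iff_isUnit_det _).mpr (Ne.isUnit hGGd))
  have hCd := (Matrix.isUnit_iff_isUnit_det _).mp hCu
  have hCC : C * C⁻¹ = 1 := Matrix.mul_nonsing_inv _ hCd
  have hCC' : C⁻¹ * C = 1 := Matrix.nonsing_inv_mul _ hCd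
  set Y := C * UU * C⁻¹ with hY
  have hYd : Y.det = 1 := by
    rw [hY, Matrix.det_mul, Matrix.det_mul, mul_right_comm, ← Matrix.det_mul, hCC, Matrix.det_one, one_mul,
      Matrix.det_fromBlocks_zero₁₂, hUd, Matrix.det_one, one_mul]
  let x : GL (Fin n) F := Matrix.GeneralLinearGroup.mkOfDetNeZero (Y.submatrix e e)
    (by rw [Matrix.det_submatrix_equiv_self, hYd]; exact one_ne_zero)
  refine ⟨x, (H51.mem_GU_iff hF x).mpr ?_, ?_, Units.ext ?_, ?_⟩
  · show H51.adj hF (Y.submatrix e e) * Y.submatrix e e = 1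
    have h1 : H51.adj hF (Y.submatrix e e) = (H51.adj hF Y).submatrix e e := by ext a b; simp
    rw [h1, Matrix.submatrix_mul_equiv, ← Matrix.submatrix_one_equiv e]
    congr 1
    calc H51.adj hF Y * Y = H51.adj hF C⁻¹ * (H51.adj hF UU * (H51.adj hF C * C) * UU) * C⁻¹ := by
          rw [hY, H51.adj_mul, H51.adj_mul]; simp only [Matrix.mul_assoc]
      _ = H51.adj hF (C * C⁻¹) * (C * C⁻¹) := by
          rw [hC, hUUG, ← hC, H51.adj_mul]; simp only [Matrix.mul_assoc]
      _ = 1 := by rw [hCC, H51.adj_one, Matrix.one_mul]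
  · show (Y.submatrix e e).det = 1
    rw [Matrix.det_submatrix_equiv_self, hYd]
  · rw [Units.val_pow_eq_pow_val]
    show (Y.submatrix e e) ^ r = 1
    have hconj : ∀ i : ℕ, (Y.submatrix e e) ^ i = (C * UU ^ i * C⁻¹).submatrix e e := by
      intro i
      induction i with
      | zero => simp [hCC]
      | succ i ih =>
        rw [pow_succ, ih, hY, Matrix.submatrix_mul_equiv, pow_succ]
        congr 1
        simp only [Matrix.mul_assoc]
        rw [← Matrix.mul_assoc C⁻¹ C, hCC', Matrix.one_mul]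
    have hUUr : UU ^ r = 1 := by
      rw [show UU = blockHom F j (n - j) (U, 1) from rfl, ← map_pow, Prod.pow_mk, hUr, one_pow]
      exact map_one _
    rw [hconj, hUUr, Matrix.mul_one, hCC, Matrix.submatrix_one_equiv]
  · show Odd (Y.submatrix e e - 1).rank
    rw [← Matrix.submatrix_one_equiv e, ← Pi.sub_apply, ← Pi.sub_apply, ← Matrix.submatrix_sub, Matrix.rank_submatrix,
      show Y - 1 = C * (UU - 1) * C⁻¹ by rw [Matrix.mul_sub, Matrix.sub_mul, Matrix.mul_one, hCC],
      Matrix.rank_mul_eq_left_of_isUnit_det _ _ (Matrix.isUnit_nonsing_inv_det _ hCd),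
      Matrix.rank_mul_eq_right_of_isUnit_det _ _ hCd,
      show UU - 1 = Matrix.fromBlocks (U - 1) 0 0 0 by ext (a | a) (b | b) <;> simp [UU, Matrix.one_apply],
      H44.rank_fromBlocks_zero, hU1, Matrix.rank_zero, add_zero]
    exact hj

/-- The odd primes dividing the index, not dividing `q`. -/
theorem pair_index_cases (hn : n = m + m) (hm : 0 < m) {D : Fin 2 → Submodule F (Fin n → F)}
    {e : Fin n ≃ Fin m ⊕ Fin m} {Q : GL (Fin n) F} {M : Matrix (Fin m) (Fin m) F} (hM : M.det ≠ 0)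
    (hG : (H51.adj hF (Q : Matrix (Fin n) (Fin n) F) * (Q : Matrix (Fin n) (Fin n) F)).submatrix e.symm e.symm
        = Matrix.fromBlocks 0 M (H51.adj hF M) 0)
    (h0 : ∀ u : Fin m ⊕ Fin m → F, (Q : Matrix (Fin n) (Fin n) F) *ᵥ (u ∘ e) ∈ D 0 ↔ u ∘ Sum.inr = 0)
    (h1 : ∀ u : Fin m ⊕ Fin m → F, (Q : Matrix (Fin n) (Fin n) F) *ᵥ (u ∘ e) ∈ D 1 ↔ u ∘ Sum.inl = 0)
    {r : ℕ} [hr : Fact r.Prime] (hrp : ¬ r ∣ q)
    (hΩ : r ∣ (Cfsg.Geo.decompositionStabilizer D).relIndex (Cfsg.GU n F q ⊓ Cfsg.Geo.specialLinear (Fin n) F)) :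
    ∃ j, Odd j ∧ j < n ∧ r ∣ q ^ j + 1 := by
  classical
  set S := Cfsg.GU n F q ⊓ Cfsg.Geo.specialLinear (Fin n) F
  set H := Cfsg.Geo.decompositionStabilizer D
  set Mu := Matrix.GeneralLinearGroup.mkOfDetNeZero M hM
  let ψ : GL (Fin m) F →* GL (Fin n) F := (pairHom e Q).comp (pairPartner hF Mu)
  have hψU : ∀ E, ψ E ∈ Cfsg.GU n F q := fun E => (pairHom_mem_GU hF e Q hG _).mpr (pairPartner_gram hF Mu E)
  let δ : GL (Fin m) F →* Fˣ := Matrix.GeneralLinearGroup.det.comp ψ
  have hδ : δ.range ≤ (powMonoidHom (q + 1) : Fˣ →* Fˣ).ker := by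
    rintro _ ⟨E, rfl⟩
    rw [MonoidHom.mem_ker, powMonoidHom_apply]
    refine Units.ext ?_
    rw [Units.val_pow_eq_pow_val, Units.val_one, pow_succ]
    exact H51.det_norm_GU hF ((H51.mem_GU_iff hF _).mp (hψU E))
  have hψinj : Function.Injective ψ := by
    intro a b h
    have h' : pairPartner hF Mu a = pairPartner hF Mu b := by
      apply Units.ext
      have h2 := congrArg (fun A : GL (Fin n) F => (((Q⁻¹ : GL (Fin n) F) : Matrix (Fin n) (Fin n) F)
        * (A : Matrix (Fin n) (Fin n) F) * (Q : Matrix (Fin n) (Fin n) F)).submatrix e.symm e.symm) h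
      simpa [ψ, pairHom_val, Matrix.mul_assoc, Matrix.submatrix_submatrix] using h2
    have h2 := congrArg (fun A : GL (Fin m ⊕ Fin m) F => (A : Matrix (Fin m ⊕ Fin m) (Fin m ⊕ Fin m) F).toBlocks₁₁) h'
    simp only [pairPartner_val, Matrix.toBlocks_fromBlocks₁₁] at h2
    exact Units.ext h2
  let f : δ.ker →* H.subgroupOf S :=
    { toFun := fun E => ⟨⟨ψ E.1, Subgroup.mem_inf.mpr ⟨hψU E.1,
        mem_sl_iff.2 (congrArg Units.val (MonoidHom.mem_ker.mp E.2))⟩⟩, pair_diag_mem hF h0 h1 _ rfl⟩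
      map_one' := Subtype.ext (Subtype.ext (map_one ψ))
      map_mul' := fun a b => Subtype.ext (Subtype.ext (map_mul ψ a.1 b.1)) }
  have hf : Function.Injective f := fun a b h => Subtype.ext
    (hψinj (congrArg (fun z : H.subgroupOf S => ((z : S) : GL (Fin n) F)) h))
  let sufun : Cfsg.SU n F q → S := fun g =>
    ⟨Matrix.SpecialLinearGroup.toGL g.1, Subgroup.mem_inf.mpr ⟨g.2, mem_sl_iff.2 g.1.2⟩⟩
  have hSU : Nat.card (Cfsg.SU n F q) = Nat.card S := Nat.card_congr (Equiv.ofBijective sufun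
    ⟨fun a b h => H50.SU_ext (congrArg (fun z : S => ((z : GL (Fin n) F) : Matrix (Fin n) (Fin n) F)) h),
      fun z => ⟨⟨⟨((z : GL (Fin n) F) : Matrix (Fin n) (Fin n) F), mem_sl_iff.1 (Subgroup.mem_inf.mp z.2).2⟩,
        (Subgroup.mem_inf.mp z.2).1⟩, Subtype.ext (Units.ext rfl)⟩⟩)
  have h1' : r * Nat.card (GL (Fin m) F) ∣ Nat.card (Cfsg.GU n F q) := by
    have hker : Nat.card (GL (Fin m) F) ∣ (q + 1) * Nat.card (H.subgroupOf S) := by
      rw [← Subgroup.card_mul_index δ.ker, Subgroup.index_ker, mul_comm]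
      refine mul_dvd_mul ?_ (Subgroup.card_dvd_of_injective f hf)
      exact (Subgroup.card_dvd_of_le hδ).trans (dvd_of_eq (H50.natCard_norm_ker hF))
    have := mul_dvd_mul hΩ hker
    rw [mul_left_comm ((H.relIndex S)), Subgroup.relIndex, Subgroup.index_mul_card, ← hSU,
      H50.card_SU_mul hF (by omega)] at this
    exact this
  rw [Matrix.card_GL_field, H50.card_GU hF, Fin.prod_univ_eq_prod_range
    (fun i => Fintype.card F ^ m - Fintype.card F ^ i) m] at h1'
  have hq1 := H51.one_lt_q hF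
  set A := ∏ i ∈ Finset.range m, (q ^ (2 * (i + 1)) - 1) with hA
  have hA0 : 0 < A := Finset.prod_pos fun i _ => Nat.sub_pos_of_lt (Nat.one_lt_pow (by omega) hq1)
  have hGL : ∏ i ∈ Finset.range m, (Fintype.card F ^ m - Fintype.card F ^ i)
      = q ^ (2 * ∑ i ∈ Finset.range m, i) * A := by
    rw [pow_mul, ← Finset.prod_pow_eq_pow_sum, hA,
      ← Finset.prod_range_reflect (fun i => q ^ (2 * (i + 1)) - 1) m, ← Finset.prod_mul_distrib]
    refine Finset.prod_congr rfl fun i hi => ?_
    rw [Finset.mem_range] at hi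
    rw [hF, show m - 1 - i + 1 = m - i by omega, Nat.mul_sub, mul_one, ← pow_mul, ← pow_mul, ← pow_add]
    congr 2
    omega
  have hU : ∀ k, ∏ i ∈ Finset.range (k + k), (if Even i then q ^ (i + 1) + 1 else q ^ (i + 1) - 1)
      = (∏ i ∈ Finset.range k, (q ^ (2 * i + 1) + 1)) * ∏ i ∈ Finset.range k, (q ^ (2 * (i + 1)) - 1) := by
    intro k
    induction k with
    | zero => simp
    | succ k ih =>
      rw [show k + 1 + (k + 1) = k + k + 1 + 1 by omega, Finset.prod_range_succ, Finset.prod_range_succ, ih,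
        Finset.prod_range_succ, Finset.prod_range_succ, if_pos (show Even (k + k) from ⟨k, rfl⟩),
        if_neg (show ¬ Even (k + k + 1) by rw [Nat.not_even_iff_odd]; exact ⟨k, by omega⟩),
        show k + k + 1 = 2 * k + 1 by omega, show 2 * k + 1 + 1 = 2 * (k + 1) by omega]
      ring
  rw [hGL, show n = m + m from hn, hU] at h1'
  have h2' : A * (r * q ^ (2 * ∑ i ∈ Finset.range m, i))
      ∣ A * (q ^ ((m + m) * (m + m - 1) / 2) * ∏ i ∈ Finset.range m, (q ^ (2 * i + 1) + 1)) :=
    (dvd_of_eq (by ring)).trans (h1'.trans (dvd_of_eq (by ring)))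
  rw [Nat.mul_dvd_mul_iff_left hA0] at h2'
  rcases hr.out.dvd_mul.1 ((dvd_mul_right r _).trans h2') with h | h
  · exact absurd (hr.out.dvd_of_dvd_pow h) hrp
  obtain ⟨i, hi, hi'⟩ := (Prime.dvd_finsetProd_iff hr.out.prime _).1 h
  rw [Finset.mem_range] at hi
  exact ⟨2 * i + 1, odd_two_mul_add_one i, by omega, hi'⟩

/-- An element with eigenvalue `-l` once, `lⁿ = -1`. -/
theorem gu_two_der (hqodd : Odd q) (hn : 2 ≤ n) (hne : Even n) (hv : padicValNat 2 n < padicValNat 2 (q + 1)) :
    ∃ (x : GL (Fin n) F) (l : F), x ∈ Cfsg.GU n F q ∧ l ^ (q + 1) = 1 ∧ (x : Matrix (Fin n) (Fin n) F).det = 1 ∧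
      (x : Matrix (Fin n) (Fin n) F) * x = (l * l) • 1 ∧ ((x : Matrix (Fin n) (Fin n) F) - l • 1).rank = 1 := by
  classical
  haveI : Fact (Nat.Prime 2) := ⟨Nat.prime_two⟩
  obtain ⟨o, ho⟩ : 2 ^ padicValNat 2 n ∣ n := pow_padicValNat_dvd
  have hoo : Odd o := by
    rw [← Nat.not_even_iff_odd, even_iff_two_dvd]
    rintro ⟨o', rfl⟩
    have h1 : padicValNat 2 n + 1 ≤ padicValNat 2 n :=
      (padicValNat_dvd_iff_le (by omega)).mp ⟨o', ho.trans (by rw [pow_succ, mul_assoc])⟩
    omega
  set a := padicValNat 2 n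
  have hdvd : 2 ^ (a + 1) ∣ q + 1 := (padicValNat_dvd_iff_le (by omega)).mpr hv
  obtain ⟨g, hg⟩ := IsCyclic.exists_generator (α := Fˣ)
  have hog : orderOf g = q ^ 2 - 1 := by
    rw [orderOf_eq_card_of_forall_mem_zpowers hg, Nat.card_units, Nat.card_eq_fintype_card, hF]
  obtain ⟨b, hb⟩ : 2 ^ (a + 1) ∣ q ^ 2 - 1 := hdvd.trans ⟨q - 1, by simpa [sq] using Nat.sq_sub_sq q 1⟩
  have hb0 : b ≠ 0 := by
    rintro rfl
    have := Nat.one_lt_pow two_ne_zero (H51.one_lt_q hF)
    omega
  set L := g ^ b with hLdef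
  have hoL : orderOf L = 2 ^ (a + 1) := by
    rw [hLdef, orderOf_pow_of_dvd hb0 (by rw [hog, hb]; exact dvd_mul_left _ _), hog, hb]
    exact Nat.mul_div_cancel _ (Nat.pos_of_ne_zero hb0)
  have hLq : L ^ (q + 1) = 1 := orderOf_dvd_iff_pow_eq_one.mp (hoL ▸ hdvd)
  have hF2 : (2 : F) ≠ 0 := by
    intro h
    have := CharP.ringChar_of_prime_eq_zero Nat.prime_two (R := F) (by exact_mod_cast h)
    have h' := FiniteField.even_card_iff_char_two.mp this
    rw [hF, Nat.pow_mod] at h'
    rw [Nat.odd_iff.mp hqodd] at h'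
    norm_num at h'
  have hLn : (L : F) ^ n = -1 := by
    have h1 : (L ^ 2 ^ a : Fˣ) * L ^ 2 ^ a = 1 := by
      rw [← pow_add, ← two_mul, ← pow_succ', ← hoL, pow_orderOf_eq_one]
    have h2 : L ^ 2 ^ a ≠ 1 := pow_ne_one_of_lt_orderOf (by positivity)
      (by rw [hoL]; exact Nat.pow_lt_pow_right one_lt_two (Nat.lt_succ_self a))
    have h3 : ((L ^ 2 ^ a : Fˣ) : F) = -1 := by
      rcases mul_self_eq_one_iff.mp (by rw [← Units.val_mul, h1, Units.val_one] :
        ((L ^ 2 ^ a : Fˣ) : F) * ((L ^ 2 ^ a : Fˣ) : F) = 1) with h | h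
      · exact absurd (Units.val_eq_one.mp h) h2
      · exact h
    rw [ho, pow_mul, ← Units.val_pow_eq_pow_val, h3, hoo.neg_one_pow]
  let i0 : Fin n := ⟨0, by omega⟩
  let d : Fin n → Fˣ := fun i => if i = i0 then -L else L
  refine ⟨H42.diagGL d, (L : F), ?_, by rw [← Units.val_pow_eq_pow_val, hLq, Units.val_one], ?_, ?_, ?_⟩
  · rw [H51.mem_GU_iff hF, H42.coe_diagGL]
    have hadj : H51.adj hF (Matrix.diagonal fun i => (d i : F)) = Matrix.diagonal fun i => (d i : F) ^ q := by
      ext i i'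
      rcases eq_or_ne i i' with rfl | hne <;> simp [*, Ne.symm, (H51.q_pos hF).ne']
    rw [hadj, Matrix.diagonal_mul_diagonal, ← Matrix.diagonal_one]
    congr 1
    funext i
    rw [← pow_succ, ← Units.val_pow_eq_pow_val]
    have : d i ^ (q + 1) = 1 := by
      simp only [d]; split_ifs
      · rw [(hqodd.add_one).neg_pow, hLq]
      · exact hLq
    rw [this, Units.val_one]
  · rw [H42.coe_diagGL, Matrix.det_diagonal, ← Finset.mul_prod_erase _ _ (Finset.mem_univ i0),
      Finset.prod_congr rfl (fun i hi => show (d i : F) = (L : F) by simp [d, (Finset.mem_erase.1 hi).1]),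
      Finset.prod_const, Finset.card_erase_of_mem (Finset.mem_univ _), Finset.card_univ, Fintype.card_fin]
    simp only [d, if_pos, Units.val_neg]
    rw [neg_mul, ← pow_succ', Nat.sub_add_cancel (by omega : 1 ≤ n), hLn, neg_neg]
  · rw [H42.coe_diagGL, Matrix.diagonal_mul_diagonal, Matrix.smul_one_eq_diagonal]
    congr 1
    funext i
    simp only [d]; split_ifs <;> simp
  · rw [H42.coe_diagGL, Matrix.smul_one_eq_diagonal, Matrix.diagonal_sub, Matrix.rank_diagonal]
    rw [Fintype.card_congr (Equiv.subtypeEquivRight (q := fun i => i = i0) fun i => ?_)]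
    · exact Fintype.card_subtype_eq i0
    · simp only [d]
      split_ifs with h
      · simp only [h, iff_true, Units.val_neg, ne_eq]
        intro h'
        exact mul_ne_zero hF2 L.ne_zero (by linear_combination -h')
      · simp [h]

end H47
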