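import Mathlib
import Cfsg.Agent.H47.OrthType
import Cfsg.Agent.H47.OrthBlocks
import Cfsg.Agent.H47.OrthWitness
import Cfsg.Agent.H43.Omega

/-!
Involutions and non-degenerate subspaces in characteristic two.
-/

set_option autoImplicit false

namespace H47

open H43

variable {F : Type*} [Field F] [Finite F] {V : Type*} [AddCommGroup V] [Module F V] [FiniteDimensional F V]
  {Q : QuadraticForm F V}

section invol

variable {g : orthGroup Q}

omit [Finite F] [FiniteDimensional F V] in
lemma neg_eq_self_of_two (h20 : (2 : F) = 0) (a : F) : -a = a := by linear_combination (-a) * h20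

omit [Finite F] [FiniteDimensional F V] in
lemma invol_apply (hg : g ^ 2 = 1) (v : V) : g.1 (g.1 v) = v := by rw [← orth_mul_apply, ← pow_two, hg]; rfl

omit [Finite F] [FiniteDimensional F V] in
lemma res_res (h20 : (2 : F) = 0) (hg : g ^ 2 = 1) (v : V) : resMap g (resMap g v) = 0 := by
  have h : (2 : F) • (v - g.1 v) = 0 := by rw [h20, zero_smul]
  rw [resMap_apply, resMap_apply, map_sub, invol_apply hg, ← h, two_smul]
  abel

omit [Finite F] [FiniteDimensional F V] in
lemma apply_res (h20 : (2 : F) = 0) (hg : g ^ 2 = 1) (v : V) : g.1 (resMap g v) = resMap g v :=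
  mem_ker_resMap.mp (LinearMap.mem_ker.mpr (res_res h20 hg v))

omit [Finite F] [FiniteDimensional F V] in
lemma polB_res (hg : g ^ 2 = 1) (x y : V) : polB Q (resMap g x) y = polB Q x (resMap g y) := by
  have h1 : polB Q (g.1 x) y = polB Q x (g.1 y) := by
    have h : ∀ a b : V, polB Q (g.1 a) (g.1 b) = polB Q a b := fun a b => by
      simp only [polB_apply, QuadraticMap.polar, ← map_add, g.2 _]
    rw [← h x (g.1 y), invol_apply hg]
  simp only [resMap_apply, map_sub, LinearMap.sub_apply, h1]

omit [Finite F] [FiniteDimensional F V] in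
lemma res_mem {W : Submodule F V} (hi : Inv g W) {x : V} (hx : x ∈ W) : resMap g x ∈ W := by
  rw [resMap_apply]; exact W.sub_mem hx (hi x hx)

omit [Finite F] [FiniteDimensional F V] in
lemma inv_of_res {W : Submodule F V} (h : ∀ x ∈ W, resMap g x ∈ W) : Inv g W := fun x hx => by
  have := W.sub_mem hx (h x hx)
  rwa [resMap_apply, sub_sub_cancel] at this

omit [Finite F] in
/-- The plane of a vector with anisotropic image. -/
lemma inv_plane (h20 : (2 : F) = 0) (hg : g ^ 2 = 1) {v : V} (hv : Q (resMap g v) ≠ 0) :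
    Module.finrank F (Submodule.span F ({v, resMap g v} : Set V)) = 2 ∧
      NdOn Q (Submodule.span F ({v, resMap g v} : Set V)) ∧ Inv g (Submodule.span F ({v, resMap g v} : Set V)) ∧
      (PlusOn Q (Submodule.span F ({v, resMap g v} : Set V)) ↔ ∃ t : F, Q v + t * t * Q (resMap g v) + t * Q (resMap g v) = 0) := by
  set n := resMap g v with hn
  have hb : polB Q v n = Q n := (qmap_resMap g v).symm
  have hs : ∀ x : V, polB Q x x = 0 := fun x => by rw [polB_self, h20, zero_mul]
  have key : ∀ a b : F, polB Q v (a • v + b • n) = b * Q n ∧ polB Q n (a • v + b • n) = a * Q n := fun a b => by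
    simp only [map_add, map_smul, smul_eq_mul, hs, hb, polB_comm n v, mul_zero, add_zero, zero_add, and_self]
  have hq : ∀ a b : F, Q (a • v + b • n) = a * a * Q v + b * b * Q n + a * b * Q n := fun a b => by
    rw [qmap_add, qmap_smul, qmap_smul]
    simp only [map_smul, LinearMap.smul_apply, smul_eq_mul, hb]
    ring
  have hfr : Module.finrank F (Submodule.span F ({v, n} : Set V)) = 2 := by
    have hli : LinearIndependent F ![v, n] := by
      rw [LinearIndependent.pair_iff]
      intro a b e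
      have h := key a b
      rw [e, map_zero, map_zero] at h
      exact ⟨(mul_eq_zero.mp h.2.symm).resolve_right hv, (mul_eq_zero.mp h.1.symm).resolve_right hv⟩
    have := finrank_span_eq_card hli
    rwa [show Set.range ![v, n] = {v, n} by ext x; simp [eq_comm, or_comm], Fintype.card_fin] at this
  refine ⟨hfr, ndOn_of fun x hx h => ?_, ?_, ?_⟩
  · obtain ⟨a, b, rfl⟩ := Submodule.mem_span_pair.mp hx
    have h1 := h v (Submodule.subset_span (by simp))
    have h2 := h n (Submodule.subset_span (by simp))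
    rw [(key a b).1] at h1
    rw [(key a b).2] at h2
    rw [(mul_eq_zero.mp h1).resolve_right hv, (mul_eq_zero.mp h2).resolve_right hv, zero_smul, zero_smul, add_zero]
  · refine inv_of_res fun x hx => ?_
    obtain ⟨a, b, rfl⟩ := Submodule.mem_span_pair.mp hx
    rw [map_add, map_smul, map_smul, hn, res_res h20 hg, smul_zero, add_zero]
    exact Submodule.smul_mem _ a (Submodule.subset_span (by simp))
  · constructor
    · rintro ⟨U, hU, hU0, hUd⟩
      obtain ⟨u, hu, hu0⟩ := Submodule.exists_mem_ne_zero_of_ne_bot (p := U) fun e => by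
        rw [e, finrank_bot, hfr] at hUd; omega
      obtain ⟨a, b, rfl⟩ := Submodule.mem_span_pair.mp (hU hu)
      have h := hU0 _ hu
      rw [hq] at h
      have ha : a ≠ 0 := fun e => hu0 (by
        simp only [e, zero_mul, zero_add, add_zero, mul_eq_zero, or_self, hv, or_false] at h
        simp [e, h])
      exact ⟨b / a, by field_simp; linear_combination h⟩
    · rintro ⟨t, ht⟩
      refine ⟨F ∙ ((1 : F) • v + t • n), (Submodule.span_singleton_le_iff_mem _ _).mpr
        (Submodule.mem_span_pair.mpr ⟨1, t, rfl⟩), fun u hu => ?_, ?_⟩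
      · obtain ⟨c, rfl⟩ := Submodule.mem_span_singleton.mp hu
        rw [qmap_smul, hq]
        linear_combination c * c * ht
      · rw [finrank_span_singleton, hfr]
        intro e
        have h := (key 1 t).2
        rw [e, map_zero, one_mul] at h
        exact hv h.symm

/-- An element outside the image of `t ↦ t² + t`. -/
lemma exists_not_pp (h20 : (2 : F) = 0) : ∃ s : F, ∀ t : F, t * t + t ≠ s := by
  by_contra hall
  push Not at hall
  have hs : Function.Surjective fun t : F => t * t + t := hall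
  have h := (Finite.injective_iff_surjective.mpr hs) (a₁ := (0 : F)) (a₂ := 1) (by simp [one_add_one_eq_two, h20])
  exact zero_ne_one h

/-- Both types, for a non-alternate involution. -/
theorem exists_nonalt (h20 : (2 : F) = 0) (hg : g ^ 2 = 1) {n : ℕ} (W : Submodule F V) (hW : NdOn Q W)
    (hd : Module.finrank F W = 2 * n) (hi : Inv g W) (hv : ∃ v ∈ W, Q (resMap g v) ≠ 0) {h : ℕ} (h1 : 1 ≤ h) (hn : h < n)
    (T : Prop) :
    ∃ U ≤ W, Module.finrank F U = 2 * h ∧ NdOn Q U ∧ Inv g U ∧ (PlusOn Q U ↔ T) := by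
  induction n generalizing W h T with
  | zero => omega
  | succ n ih =>
    classical
    obtain ⟨v₀, hv₀W, hv₀⟩ := hv
    -- a vector and a fixed vector to shift along
    obtain ⟨v, k, hvW, hlam, hkW, hk, hvk, hQk, hΦ⟩ : ∃ v k, v ∈ W ∧ Q (resMap g v) ≠ 0 ∧ k ∈ W ∧ resMap g k = 0 ∧
        polB Q v k = 0 ∧ Q k ≠ 0 ∧ ((∀ x ∈ W, ∃ c : F, resMap g x = c • resMap g v) ∨
          ∃ w ∈ W, polB Q v (resMap g w) = 0 ∧ Q (resMap g w) ≠ 0) := by
      obtain ⟨hPd, hPn, hPi, -⟩ := inv_plane h20 hg hv₀
      have hPW : Submodule.span F ({v₀, resMap g v₀} : Set V) ≤ W :=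
        Submodule.span_le.mpr (by rintro _ (rfl | rfl); exacts [hv₀W, res_mem hi hv₀W])
      obtain ⟨R, hRW, hRn, hPR, hsup, hRd⟩ := exists_compl hW hPW hPn
      have hRi := inv_compl hg one_le_two hi hPi hPn hPR hsup
      have hvR : ∀ x ∈ R, polB Q v₀ x = 0 := fun x hx => hPR v₀ (Submodule.subset_span (by simp)) x hx
      have hnR : ∀ x ∈ R, polB Q (resMap g v₀) x = 0 := fun x hx => hPR _ (Submodule.subset_span (by simp)) x hx
      by_cases hfixR : ∀ x ∈ R, resMap g x = 0
      · obtain ⟨k', hk'⟩ := exists_qmap_eq hRn.restrict (by omega) 1 one_ne_zero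
        have hQk' : Q (k' : V) = 1 := hk'
        refine ⟨v₀, k', hv₀W, hv₀, hRW k'.2, hfixR _ k'.2, hvR _ k'.2, by rw [hQk']; exact one_ne_zero, Or.inl fun x hx => ?_⟩
        obtain ⟨p, hp, r, hr, rfl⟩ := Submodule.mem_sup.mp (show x ∈ _ ⊔ R by rw [hsup]; exact hx)
        obtain ⟨a, b, rfl⟩ := Submodule.mem_span_pair.mp hp
        exact ⟨a, by rw [map_add, map_add, map_smul, map_smul, res_res h20 hg, smul_zero, add_zero, hfixR r hr, add_zero]⟩
      push Not at hfixR
      obtain ⟨w₁, hw₁, hw₁0⟩ := hfixR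
      by_cases hw : ∃ w ∈ R, Q (resMap g w) ≠ 0
      · obtain ⟨w, hwR, hwQ⟩ := hw
        have hb : polB Q v₀ (resMap g w) = 0 := hvR _ (res_mem hRi hwR)
        exact ⟨v₀, resMap g w, hv₀W, hv₀, res_mem hi (hRW hwR), res_res h20 hg w, hb, hwQ,
          Or.inr ⟨w, hRW hwR, hb, hwQ⟩⟩
      push Not at hw
      obtain ⟨w₂, hw₂, hb⟩ : ∃ w₂ ∈ R, polB Q w₂ (resMap g w₁) ≠ 0 := by
        by_contra hall
        push Not at hall
        exact hw₁0 (hRn.eq_zero (res_mem hRi hw₁) hall)
      set t : F := Q (resMap g v₀) / polB Q w₂ (resMap g w₁) with ht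
      have hz : ∀ u ∈ R, ∀ c : F, Q (resMap g (v₀ + c • u)) = Q (resMap g v₀) := fun u hu c => by
        rw [map_add, map_smul, qmap_add, qmap_smul, hw u hu, map_smul, hnR _ (res_mem hRi hu), smul_zero, mul_zero,
          add_zero, add_zero]
      have hvw : polB Q (v₀ + w₁) (resMap g (v₀ + t • w₂)) = 0 := by
        simp only [map_add, map_smul, LinearMap.add_apply, smul_eq_mul]
        rw [← qmap_resMap g v₀, hvR _ (res_mem hRi hw₂),
          show polB Q w₁ (resMap g v₀) = 0 by rw [polB_comm]; exact hnR w₁ hw₁,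
          show polB Q w₁ (resMap g w₂) = polB Q w₂ (resMap g w₁) by rw [← polB_res hg, polB_comm],
          ht, zero_add, add_zero, div_mul_cancel₀ _ hb]
        linear_combination Q (resMap g v₀) * h20
      have hwQ : Q (resMap g (v₀ + t • w₂)) ≠ 0 := by rw [hz w₂ hw₂]; exact hv₀
      have hwW : v₀ + t • w₂ ∈ W := W.add_mem hv₀W (W.smul_mem _ (hRW hw₂))
      refine ⟨v₀ + w₁, resMap g (v₀ + t • w₂), W.add_mem hv₀W (hRW hw₁), ?_, res_mem hi hwW, res_res h20 hg _, hvw, hwQ,
        Or.inr ⟨_, hwW, hvw, hwQ⟩⟩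
      rw [← one_smul F w₁, hz w₁ hw₁]; exact hv₀
    -- adjust the type of the plane
    obtain ⟨s, hs⟩ := exists_not_pp (F := F) h20
    have key : ∀ σ : Prop, ∃ P ≤ W, Module.finrank F P = 2 ∧ NdOn Q P ∧ Inv g P ∧ (PlusOn Q P ↔ σ) ∧
        ∃ R ≤ W, NdOn Q R ∧ PerpTo Q P R ∧ P ⊔ R = W ∧ Module.finrank F R = 2 * n ∧ Inv g R ∧
          ((∀ x ∈ R, g.1 x = x) ∨ ∃ x ∈ R, Q (resMap g x) ≠ 0) := by
      intro σ
      set a' : F := if σ then 0 else s * Q (resMap g v) with ha'
      obtain ⟨t, ht⟩ := isSquare_of_two_eq_zero h20 ((a' - Q v) / Q k)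
      set v' := v + t • k with hv'
      have hres : resMap g v' = resMap g v := by rw [hv', map_add, map_smul, hk, smul_zero, add_zero]
      have hQv' : Q v' = a' := by
        rw [hv', qmap_add_smul, hvk, mul_zero, add_zero, ← ht, div_mul_cancel₀ _ hQk, add_sub_cancel]
      have hv'W : v' ∈ W := W.add_mem hvW (W.smul_mem _ hkW)
      obtain ⟨hPd, hPn, hPi, hPt⟩ := inv_plane h20 hg (v := v') (by rw [hres]; exact hlam)
      have hPW : Submodule.span F ({v', resMap g v'} : Set V) ≤ W :=
        Submodule.span_le.mpr (by rintro _ (rfl | rfl); exacts [hv'W, res_mem hi hv'W])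
      obtain ⟨R, hRW, hRn, hPR, hsup, hRd⟩ := exists_compl hW hPW hPn
      have hRi := inv_compl hg one_le_two hi hPi hPn hPR hsup
      refine ⟨_, hPW, hPd, hPn, hPi, ?_, R, hRW, hRn, hPR, hsup, by omega, hRi, ?_⟩
      · rw [hPt, hres, hQv', ha']
        by_cases hσ : σ
        · rw [if_pos hσ]
          exact iff_of_true ⟨0, by ring⟩ hσ
        · rw [if_neg hσ]
          refine iff_of_false ?_ hσ
          rintro ⟨u, hu⟩
          apply hs u
          have h0 : (s + u * u + u) * Q (resMap g v) = 0 := by linear_combination hu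
          have h3 := (mul_eq_zero.mp h0).resolve_right hlam
          linear_combination h3 - s * h20
      · rcases hΦ with hall | ⟨w, hwW, hvw, hwQ⟩
        · left
          intro x hx
          obtain ⟨c, hc⟩ := hall x (hRW hx)
          have h0 : polB Q v' (resMap g x) = 0 := by
            rw [← polB_res hg]; exact hPR _ (Submodule.subset_span (by simp)) x hx
          rw [hc, ← hres, map_smul, smul_eq_mul, ← qmap_resMap, hres, mul_eq_zero, or_iff_left hlam] at h0
          exact mem_ker_resMap.mp (LinearMap.mem_ker.mpr (by rw [hc, h0, zero_smul]))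
        · right
          obtain ⟨p, hp, r, hr, rfl⟩ := Submodule.mem_sup.mp (show w ∈ _ ⊔ R by rw [hsup]; exact hwW)
          obtain ⟨a, b, rfl⟩ := Submodule.mem_span_pair.mp hp
          have h0 : polB Q v' (resMap g (a • v' + b • resMap g v' + r)) = 0 := by
            have e : polB Q v' = polB Q v + t • polB Q k := by rw [hv', map_add, map_smul]
            rw [e, LinearMap.add_apply, LinearMap.smul_apply, hvw, ← polB_res hg, hk, map_zero,
              LinearMap.zero_apply, smul_zero, add_zero]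
          have hexp : resMap g (a • v' + b • resMap g v' + r) = a • resMap g v' + resMap g r := by
            rw [map_add, map_add, map_smul, map_smul, res_res h20 hg, smul_zero, add_zero]
          rw [hexp] at h0 hwQ
          rw [map_add, map_smul, smul_eq_mul, ← qmap_resMap,
            hPR v' (Submodule.subset_span (by simp)) _ (res_mem hRi hr), add_zero, hres, mul_eq_zero, or_iff_left hlam] at h0
          rw [h0, zero_smul, zero_add] at hwQ
          exact ⟨r, hr, hwQ⟩
    rcases eq_or_lt_of_le h1 with rfl | h2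
    · obtain ⟨P, hPW, hPd, hPn, hPi, hPt, -⟩ := key T
      exact ⟨P, hPW, by omega, hPn, hPi, hPt⟩
    obtain ⟨P, hPW, hPd, hPn, hPi, hPt, R, hRW, hRn, hPR, -, hRd, hRi, hR⟩ := key True
    obtain ⟨U, hUR, hUd, hUn, hUi, hUt⟩ : ∃ U ≤ R, Module.finrank F U = 2 * (h - 1) ∧ NdOn Q U ∧ Inv g U ∧ (PlusOn Q U ↔ T) := by
      rcases hR with hfix | hne
      · obtain ⟨U, hUR, hUd, hUn, hUt⟩ := exists_sub hRn (h := h - 1) (by omega) T (fun e => by omega)
        exact ⟨U, hUR, hUd, hUn, fun x hx => by rw [hfix x (hUR hx)]; exact hx, hUt⟩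
      · exact ih R hRn hRd hRi hne (by omega) (by omega) T
    have hPU : PerpTo Q P U := fun p hp u hu => hPR p hp u (hUR hu)
    exact ⟨P ⊔ U, sup_le hPW (hUR.trans hRW), by rw [finrank_sup_perp hPn hPU]; omega, hPn.sup hUn hPU, inv_sup hPi hUi,
      by rw [plusOn_sup hPn hUn hPU ⟨1, hPd⟩ ⟨h - 1, by omega⟩, hPt, hUt, true_iff]⟩

/-- The structure of an alternate involution. -/
theorem exists_alt (h20 : (2 : F) = 0) (hg : g ^ 2 = 1) (W : Submodule F V) (hW : NdOn Q W)
    (hev : Even (Module.finrank F W)) (hi : Inv g W) (halt : ∀ v ∈ W, Q (resMap g v) = 0) :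
    ∃ (a : ℕ) (C : Submodule F V), C ≤ W ∧ NdOn Q C ∧ (∀ x ∈ C, g.1 x = x) ∧ (PlusOn Q C ↔ PlusOn Q W) ∧
      Module.finrank F C + 4 * a = Module.finrank F W ∧
      ∀ j ≤ a, ∃ U ≤ W, PerpTo Q U C ∧ Module.finrank F U = 4 * j ∧ NdOn Q U ∧ PlusOn Q U ∧ Inv g U := by
  obtain ⟨n, hn⟩ : ∃ n, Module.finrank F W = n := ⟨_, rfl⟩
  induction n using Nat.strong_induction_on generalizing W with
  | _ n ih =>
    by_cases hfix : ∀ x ∈ W, resMap g x = 0
    · refine ⟨0, W, le_rfl, hW, fun x hx => mem_ker_resMap.mp (LinearMap.mem_ker.mpr (hfix x hx)), Iff.rfl, by omega,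
        fun j hj => ⟨⊥, bot_le, fun u hu w _ => ?_, by simp; omega, ndOn_bot, plusOn_bot, fun x hx => ?_⟩⟩
      · rw [(Submodule.mem_bot F).mp hu, map_zero, LinearMap.zero_apply]
      · rw [(Submodule.mem_bot F).mp hx, map_zero]; exact zero_mem _
    push Not at hfix
    obtain ⟨v, hv, hv0⟩ := hfix
    obtain ⟨w₀, hw₀, hb⟩ : ∃ w ∈ W, polB Q w (resMap g v) ≠ 0 := by
      by_contra hall
      push Not at hall
      exact hv0 (hW.eq_zero (res_mem hi hv) hall)
    set w := (polB Q w₀ (resMap g v))⁻¹ • w₀ with hwdef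
    have hwW : w ∈ W := W.smul_mem _ hw₀
    have hwv : polB Q w (resMap g v) = 1 := by
      rw [hwdef, map_smul, LinearMap.smul_apply, smul_eq_mul, inv_mul_cancel₀ hb]
    set f : Fin 4 → V := ![resMap g v, resMap g w, v, w] with hf
    set P := Submodule.span F (Set.range f) with hP
    have hmem : ∀ i, f i ∈ P := fun i => Submodule.subset_span ⟨i, rfl⟩
    have hself : ∀ x ∈ W, polB Q x (resMap g x) = 0 := fun x hx => by rw [← qmap_resMap]; exact halt x hx
    have hnn : ∀ x y, polB Q (resMap g x) (resMap g y) = 0 := fun x y => by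
      rw [polB_res hg, res_res h20 hg, map_zero]
    have hvw : polB Q v (resMap g w) = 1 := by rw [← polB_res hg, polB_comm]; exact hwv
    have hs : ∀ x : V, polB Q x x = 0 := fun x => by rw [polB_self, h20, zero_mul]
    have key : ∀ c : Fin 4 → F, (∀ i, polB Q (f i) (∑ j, c j • f j) = 0) → c = 0 := by
      intro c h
      have h0 := h 0
      have h1 := h 1
      have h2 := h 2
      have h3 := h 3
      simp only [hf, Fin.sum_univ_four, map_add, map_smul, smul_eq_mul, Matrix.cons_val_zero, Matrix.cons_val_one,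
        Matrix.cons_val_two, Matrix.cons_val_three, Matrix.head_cons, Matrix.tail_cons, hnn, hs, hself v hv, hself w hwW,
        hwv, hvw, polB_comm (resMap g v) v, polB_comm (resMap g v) w, polB_comm (resMap g w) v, polB_comm (resMap g w) w,
        mul_zero, mul_one, add_zero, zero_add] at h0 h1 h2 h3
      rw [h0, zero_mul, add_zero] at h2
      rw [h1, zero_mul, add_zero] at h3
      funext i
      fin_cases i <;> assumption
    have hPd : Module.finrank F P = 4 := by
      have hli : LinearIndependent F f := Fintype.linearIndependent_iff.mpr fun c e i => by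
        rw [key c (fun i => by rw [e, map_zero])]; rfl
      rw [hP, finrank_span_eq_card hli, Fintype.card_fin]
    have hPn : NdOn Q P := ndOn_of fun x hx h => by
      obtain ⟨c, rfl⟩ := (Submodule.mem_span_range_iff_exists_fun F).mp hx
      rw [key c fun i => h _ (hmem i)]
      simp
    have hPi : Inv g P := inv_of_res fun x hx => by
      obtain ⟨c, rfl⟩ := (Submodule.mem_span_range_iff_exists_fun F).mp hx
      rw [map_sum]
      refine Submodule.sum_mem _ fun i _ => ?_
      rw [map_smul]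
      refine Submodule.smul_mem _ _ ?_
      fin_cases i
      · simp [hf, res_res h20 hg]
      · simp [hf, res_res h20 hg]
      · exact hmem 0
      · exact hmem 1
    have hPp : PlusOn Q P := by
      refine ⟨Submodule.span F ({resMap g v, resMap g w} : Set V), Submodule.span_le.mpr
        (by rintro _ (rfl | rfl); exacts [hmem 0, hmem 1]), fun u hu => ?_, ?_⟩
      · obtain ⟨a, b, rfl⟩ := Submodule.mem_span_pair.mp hu
        rw [qmap_add, qmap_smul, qmap_smul, halt v hv, halt w hwW, map_smul, map_smul, LinearMap.smul_apply, hnn]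
        simp
      · have hli : LinearIndependent F ![resMap g v, resMap g w] := by
          rw [LinearIndependent.pair_iff]
          intro a b e
          have h := key ![a, b, 0, 0] fun i => by rw [show ∑ j, ![a, b, 0, 0] j • f j = 0 by simpa [hf, Fin.sum_univ_four] using e, map_zero]
          exact ⟨congrFun h 0, congrFun h 1⟩
        have := finrank_span_eq_card hli
        rw [show Set.range ![resMap g v, resMap g w] = {resMap g v, resMap g w} by ext x; simp [eq_comm, or_comm],
          Fintype.card_fin] at this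
        omega
    have hPW : P ≤ W := Submodule.span_le.mpr (by
      rintro _ ⟨i, rfl⟩
      fin_cases i
      exacts [res_mem hi hv, res_mem hi hwW, hv, hwW])
    obtain ⟨R, hRW, hRn, hPR, hsup, hRd⟩ := exists_compl hW hPW hPn
    have hRi := inv_compl hg one_le_two hi hPi hPn hPR hsup
    obtain ⟨k, hk⟩ := hev
    have hRev : Even (Module.finrank F R) := ⟨k - 2, by omega⟩
    obtain ⟨a, C, hCR, hCn, hCf, hCt, hCd, hsub⟩ := ih _ (by omega) R hRn hRev hRi (fun x hx => halt x (hRW hx)) rfl
    refine ⟨a + 1, C, hCR.trans hRW, hCn, hCf, ?_, by omega, fun j hj => ?_⟩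
    · rw [hCt, ← hsup, plusOn_sup hPn hRn hPR ⟨2, hPd⟩ hRev, iff_true_intro hPp, true_iff]
    · rcases j with _ | j
      · exact ⟨⊥, bot_le, fun u hu w _ => by rw [(Submodule.mem_bot F).mp hu, map_zero, LinearMap.zero_apply], by simp,
          ndOn_bot, plusOn_bot, fun x hx => by rw [(Submodule.mem_bot F).mp hx, map_zero]; exact zero_mem _⟩
      obtain ⟨U, hUR, hUC, hUd, hUn, hUp, hUi⟩ := hsub j (by omega)
      have hPU : PerpTo Q P U := fun p hp u hu => hPR p hp u (hUR hu)
      refine ⟨P ⊔ U, sup_le hPW (hUR.trans hRW), fun x hx c hc => ?_, by rw [finrank_sup_perp hPn hPU]; omega,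
        hPn.sup hUn hPU, plusOn_sup_pp hPn hPU hPp hUp, inv_sup hPi hUi⟩
      obtain ⟨p, hp, u, hu, rfl⟩ := Submodule.mem_sup.mp hx
      rw [map_add, LinearMap.add_apply, hPR p hp c (hCR hc), hUC u hu c hc, add_zero]

/-- Every involution fixes a subspace of the wanted type. -/
theorem invol_fix_char2 (h20 : (2 : F) = 0) (hQ : (polB Q).Nondegenerate) (hg : g ^ 2 = 1) {d h : ℕ}
    (hN : Module.finrank F V = 2 * d) (h1 : 1 ≤ h) (hhd : h < d) {T : Prop} (hTV : PlusOn Q (⊤ : Submodule F V) ↔ T)
    (hp : T → Odd d ∨ Even h) (hm : ¬ T → Even d ∨ Odd h) :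
    ∃ U : Submodule F V, (Module.finrank F U = 2 * h ∧ NdOn Q U ∧ (PlusOn Q U ↔ T)) ∧ Inv g U := by
  classical
  have htop : Module.finrank F (⊤ : Submodule F V) = 2 * d := by rw [finrank_top, hN]
  by_cases halt : ∀ v ∈ (⊤ : Submodule F V), Q (resMap g v) = 0
  · obtain ⟨a, C, -, hCn, hCf, hCt, hCd, hsub⟩ :=
      exists_alt h20 hg ⊤ (ndOn_top hQ) (by rw [htop]; exact even_two_mul d) (fun _ _ => trivial) halt
    rw [htop] at hCd
    rw [hTV] at hCt
    have hC0 : ¬ T → Module.finrank F C ≠ 0 := fun hT e => hT (hCt.mp (plusOn_of_even_zero e))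
    have main : ∀ i j, j ≤ a → 2 * j + i = h → 2 * i ≤ Module.finrank F C → (i = 0 → T) →
        ∃ U : Submodule F V, (Module.finrank F U = 2 * h ∧ NdOn Q U ∧ (PlusOn Q U ↔ T)) ∧ Inv g U := by
      intro i j hj hij hic hi0
      obtain ⟨U, -, hUC, hUd, hUn, hUp, hUi⟩ := hsub j hj
      obtain ⟨D, hDC, hDd, hDn, hDt⟩ : ∃ D ≤ C, Module.finrank F D = 2 * i ∧ NdOn Q D ∧ (PlusOn Q D ↔ T) := by
        rcases lt_or_eq_of_le hic with hlt | he
        · exact exists_sub hCn hlt T hi0
        · exact ⟨C, le_rfl, he.symm, hCn, hCt⟩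
      have hUD : PerpTo Q U D := fun u hu x hx => hUC u hu x (hDC hx)
      exact ⟨U ⊔ D, ⟨by rw [finrank_sup_perp hUn hUD]; omega, hUn.sup hDn hUD,
        by rw [plusOn_sup hUn hDn hUD ⟨2 * j, by omega⟩ ⟨i, by omega⟩, iff_true_intro hUp, true_iff, hDt]⟩,
        inv_sup hUi fun x hx => by rw [hCf x (hDC hx)]; exact hx⟩
    rcases Nat.even_or_odd h with he | ho
    · obtain ⟨k, hk⟩ := he
      by_cases hT : T
      · by_cases hka : k ≤ a
        · exact main 0 k hka (by omega) (by omega) fun _ => hT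
        · exact main (h - 2 * a) a le_rfl (by omega) (by omega) fun _ => hT
      · have hd2 := (hm hT).resolve_right (fun ho => Nat.not_even_iff_odd.mpr ho ⟨k, hk⟩)
        have := hC0 hT
        obtain ⟨d', hd'⟩ := hd2
        by_cases hka : k ≤ a + 1
        · exact main 2 (k - 1) (by omega) (by omega) (by omega) fun e => absurd e (by norm_num)
        · exact main (h - 2 * a) a le_rfl (by omega) (by omega) fun e => absurd e (by omega)
    · obtain ⟨k, hk⟩ := ho
      have hc : Module.finrank F C ≠ 0 := by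
        by_cases hT : T
        · obtain ⟨d', hd'⟩ := (hp hT).resolve_right (fun he => Nat.not_even_iff_odd.mpr ⟨k, hk⟩ he)
          omega
        · exact hC0 hT
      by_cases hka : k ≤ a
      · exact main 1 k hka (by omega) (by omega) fun e => absurd e one_ne_zero
      · exact main (h - 2 * a) a le_rfl (by omega) (by omega) fun e => absurd e (by omega)
  · push Not at halt
    obtain ⟨U, -, hU1, hU2, hU3, hU4⟩ := exists_nonalt h20 hg ⊤ (ndOn_top hQ) htop (fun _ _ => trivial) halt h1 hhd T
    exact ⟨U, ⟨hU1, hU2, hU4⟩, hU3⟩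

end invol

/-- The product of transvections attached to a totally singular subspace of even dimension. -/
theorem exists_ts_invol (h20 : (2 : F) = 0) (hQ : (polB Q).Nondegenerate) (h5 : 5 ≤ Module.finrank F V) {a : ℕ}
    {U : Submodule F V} (hU : ∀ u ∈ U, Q u = 0) (hUd : Module.finrank F U = 2 * a) :
    ∃ g : orthGroup Q, g ^ 2 = 1 ∧ g ∈ commutator (orthGroup Q) ∧ resid g = U ∧
      LinearMap.ker (resMap g) = (polB Q).orthogonal U ∧ ∀ v, Q (resMap g v) = 0 := by
  classical
  haveI : Fintype F := Fintype.ofFinite F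
  let bU : Module.Basis (Fin 2 × Fin a) F U :=
    (Module.finBasisOfFinrankEq F U hUd).reindex finProdFinEquiv.symm
  let e : Fin 2 × Fin a → V := fun p => (bU p : V)
  have hee : ∀ p r, polB Q (e p) (e r) = 0 := fun p r => polB_eq_zero_of_singular hU (bU p).2 (bU r).2
  let L : V →ₗ[F] V := ∑ i : Fin a, (((polB Q).flip (e (0, i))).smulRight (e (1, i)) + ((polB Q).flip (e (1, i))).smulRight (e (0, i)))
  have hL : ∀ v, L v = ∑ i : Fin a, (polB Q v (e (0, i)) • e (1, i) + polB Q v (e (1, i)) • e (0, i)) := fun v => by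
    simp [L, LinearMap.sum_apply]
  have hLU : ∀ v, L v ∈ U := fun v => by
    rw [hL]
    exact Submodule.sum_mem _ fun i _ => U.add_mem (U.smul_mem _ (bU _).2) (U.smul_mem _ (bU _).2)
  have hneg : ∀ x : V, -x = x := fun x => by
    have h : (2 : F) • x = 0 := by rw [h20, zero_smul]
    rw [two_smul] at h
    exact neg_eq_of_add_eq_zero_left h
  have hLL : ∀ v, L (L v) = 0 := fun v => by
    rw [hL (L v)]
    refine Finset.sum_eq_zero fun i _ => ?_
    rw [polB_eq_zero_of_singular hU (hLU v) (bU _).2, polB_eq_zero_of_singular hU (hLU v) (bU _).2, zero_smul, zero_smul,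
      add_zero]
  let f : V →ₗ[F] V := LinearMap.id + L
  have hinv : Function.Involutive f := fun v => by
    show f v + L (f v) = v
    rw [show f v = v + L v from rfl, map_add, hLL, add_zero, add_assoc]
    nth_rewrite 2 [← hneg (L v)]
    rw [add_neg_cancel, add_zero]
  let g : orthGroup Q := ⟨LinearEquiv.ofInvolutive f hinv, fun v => by
    show Q (v + L v) = Q v
    rw [qmap_add, hU _ (hLU v), hL, map_sum, Finset.sum_eq_zero fun i _ => by
      rw [map_add, map_smul, map_smul, smul_eq_mul, smul_eq_mul]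
      linear_combination polB Q v (e (0, i)) * polB Q v (e (1, i)) * h20, add_zero, add_zero]⟩
  have hres : ∀ v, resMap g v = L v := fun v => by
    rw [resMap_apply]
    show v - (v + L v) = L v
    rw [sub_add_cancel_left, hneg]
  have hker : LinearMap.ker (resMap g) = (polB Q).orthogonal U := by
    ext v
    rw [LinearMap.mem_ker, hres]
    constructor
    · intro h u hu
      have h' : ∑ i : Fin a, (polB Q v (e (0, i)) • bU (1, i) + polB Q v (e (1, i)) • bU (0, i)) = 0 := by
        apply Subtype.ext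
        rw [hL] at h
        simpa [e] using h
      have hc : ∀ p, polB Q v (e p) = 0 := by
        let c : Fin 2 × Fin a → F := fun p => polB Q v (e (p.1 + 1, p.2))
        have hsum : ∑ p, c p • bU p = 0 := by
          rw [Fintype.sum_prod_type, Fin.sum_univ_two, ← Finset.sum_add_distrib, ← h']
          exact Finset.sum_congr rfl fun i _ => add_comm _ _
        have h0 := Fintype.linearIndependent_iff.mp bU.linearIndependent c hsum
        rintro ⟨j, i⟩
        have hh := h0 (j + 1, i)
        simp only [c] at hh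
        rwa [show j + 1 + 1 = j by fin_cases j <;> rfl] at hh
      have hall : ∀ u : U, polB Q v (u : V) = 0 := fun u => by
        have hz : (polB Q v).comp U.subtype = 0 := bU.ext fun p => hc p
        exact LinearMap.congr_fun hz u
      show polB Q u v = 0
      rw [polB_comm]; exact hall ⟨u, hu⟩
    · intro h
      rw [hL]
      refine Finset.sum_eq_zero fun i _ => ?_
      rw [show polB Q v (e (0, i)) = 0 by rw [polB_comm]; exact h _ (bU _).2,
        show polB Q v (e (1, i)) = 0 by rw [polB_comm]; exact h _ (bU _).2, zero_smul, zero_smul, add_zero]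
  have hresid : resid g = U := by
    refine Submodule.eq_of_le_of_finrank_le (fun x hx => ?_) ?_
    · obtain ⟨v, rfl⟩ := hx; rw [hres]; exact hLU v
    · have h1 := (resMap g).finrank_range_add_finrank_ker
      rw [hker] at h1
      have h2 := finrank_orth_add hQ U
      show Module.finrank F U ≤ Module.finrank F (LinearMap.range (resMap g))
      omega
  refine ⟨g, orth_ext fun v => hinv v, ?_, hresid, hker, fun v => by rw [hres]; exact hU _ (hLU v)⟩
  have hgen : ReflGenerates F V := reflGenerates_of_card (Or.inr (by omega))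
  rw [mem_commutator_iff hQ hgen (by omega)]
  refine ⟨?_, ?_⟩
  · rw [dickson, hresid, hUd, Nat.cast_mul, show ((2 : ℕ) : ZMod 2) = 0 from rfl, zero_mul]; rfl
  · exact (sqc_eq_one_iff (wallDisc_ne_zero hQ g)).mpr (isSquare_of_two_eq_zero h20 _)

/-- The witness: its invariant subspaces are restricted. -/
theorem exists_witness_char2 (h20 : (2 : F) = 0) (hQ : (polB Q).Nondegenerate) {d : ℕ}
    (hN : Module.finrank F V = 2 * d) (hd : 4 ≤ d) (heven : Even d → PlusOn Q (⊤ : Submodule F V)) :
    ∃ g : orthGroup Q, g ^ 2 = 1 ∧ g ∈ commutator (orthGroup Q) ∧ (∀ z : F, ∃ v, g.1 v ≠ z • v) ∧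
      ∀ (W : Submodule F V) (h : ℕ), Module.finrank F W = 2 * h → NdOn Q W → Inv g W →
        (Even d → Even h ∧ PlusOn Q W) ∧ (Odd d → (Even h ∨ PlusOn Q (⊤ : Submodule F V)) → PlusOn Q W) := by
  classical
  haveI : Fintype F := Fintype.ofFinite F
  obtain ⟨a, P, C₀, hPn, hPC, hPd, hPp, hC₀d, hC₀t⟩ : ∃ (a : ℕ) (P C₀ : Submodule F V), NdOn Q P ∧ PerpTo Q P C₀ ∧
      Module.finrank F P = 2 * (2 * a) ∧ PlusOn Q P ∧ Module.finrank F C₀ + 2 * (2 * a) = 2 * d ∧ (PlusOn Q C₀ ↔ PlusOn Q (⊤ : Submodule F V)) ∧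
      (d = 2 * a ∨ d = 2 * a + 1) := by
    rcases Nat.even_or_odd d with ⟨k, hk⟩ | ⟨k, hk⟩
    · exact ⟨k, ⊤, ⊥, ndOn_top hQ, fun u _ x hx => by rw [(Submodule.mem_bot F).mp hx, map_zero],
        by rw [finrank_top]; omega, heven ⟨k, hk⟩, by simp; omega, iff_of_true plusOn_bot (heven ⟨k, hk⟩), by omega⟩
    · obtain ⟨P, -, hPd, hPn, hPt⟩ := exists_sub (ndOn_top hQ) (h := 2 * k) (by rw [finrank_top]; omega) True
        (fun _ => trivial)
      obtain ⟨C₀, -, hCn, hPC, hsup, hCd⟩ := exists_compl (ndOn_top hQ) le_top hPn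
      rw [finrank_top] at hCd
      refine ⟨k, P, C₀, hPn, hPC, hPd, hPt.mpr trivial, by omega, ?_, by omega⟩
      rw [← hsup, plusOn_sup hPn hCn hPC ⟨2 * k, by omega⟩ ⟨1, by omega⟩, hPt, true_iff]
  obtain ⟨hC₀t, hda⟩ := hC₀t
  obtain ⟨U, hUP, hU0, hU2⟩ := hPp
  have hUd : Module.finrank F U = 2 * a := by omega
  obtain ⟨g, hg, hgc, hres, hker, halt⟩ := exists_ts_invol h20 hQ (by omega) hU0 hUd
  have hUK : U ≤ (polB Q).orthogonal U := fun u hu x hx => polB_eq_zero_of_singular hU0 hx hu
  have hUo := finrank_orth_add hQ U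
  refine ⟨g, hg, hgc, fun z => ?_, fun W h hWd hWn hWi => ?_⟩
  · obtain ⟨u, hu, hu0⟩ := Submodule.exists_mem_ne_zero_of_ne_bot (p := U) fun e => by
      rw [e, finrank_bot] at hUd; omega
    by_contra hall
    push Not at hall
    have hfu : g.1 u = u := mem_ker_resMap.mp (hker ▸ hUK hu)
    have hz : z = 1 := smul_left_injective F hu0 (by show z • u = (1 : F) • u; rw [← hall u, hfu, one_smul])
    have : (u : V) ∈ resid g := hres.symm ▸ hu
    obtain ⟨v, hv⟩ := this
    rw [resMap_apply, hall v, hz, one_smul, sub_self] at hv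
    exact hu0 hv.symm
  obtain ⟨a', C, hCW, hCn, hCf, hCt, hCd, -⟩ := exists_alt h20 hg W hWn (by rw [hWd]; exact even_two_mul h) hWi fun v _ => halt v
  rw [hWd] at hCd
  have hCK : C ≤ (polB Q).orthogonal U := hker ▸ fun x hx => mem_ker_resMap.mpr (hCf x hx)
  have hdis : C ⊓ U = ⊥ := by
    rw [eq_bot_iff]
    rintro x ⟨hx, hxU⟩
    exact (Submodule.mem_bot F).mpr (hCn.eq_zero hx fun c hc => by rw [polB_comm]; exact hCK hc x hxU)
  have hsum := Submodule.finrank_sup_add_finrank_inf_eq C U
  rw [hdis, finrank_bot] at hsum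
  have hle : Module.finrank F ↥(C ⊔ U) ≤ Module.finrank F ((polB Q).orthogonal U) := Submodule.finrank_mono (sup_le hCK hUK)
  refine ⟨fun hde => ?_, fun hdo hor => ?_⟩
  · obtain ⟨k, hk⟩ := hde
    exact ⟨⟨a', by omega⟩, hCt.mp (plusOn_of_even_zero (by omega))⟩
  · obtain ⟨k, hk⟩ := hdo
    by_cases hC0 : Module.finrank F C = 0
    · exact hCt.mp (plusOn_of_even_zero hC0)
    have hC2 : Module.finrank F C = 2 := by omega
    refine hCt.mp ?_
    have hTop : PlusOn Q (⊤ : Submodule F V) := hor.resolve_left fun ⟨j, hj⟩ => by omega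
    obtain ⟨Z, hZC, hZ0, hZd⟩ := hC₀t.mpr hTop
    obtain ⟨z, hz, hz0⟩ := Submodule.exists_mem_ne_zero_of_ne_bot (p := Z) fun e => by
      rw [e, finrank_bot] at hZd; omega
    have hzK : z ∈ (polB Q).orthogonal U := fun u hu => hPC u (hUP hu) z (hZC hz)
    have heq : C ⊔ U = (polB Q).orthogonal U := Submodule.eq_of_le_of_finrank_le (sup_le hCK hUK) (by omega)
    obtain ⟨c, hc, u, hu, hcu⟩ := Submodule.mem_sup.mp (show z ∈ C ⊔ U by rw [heq]; exact hzK)
    have hc0 : c ≠ 0 := fun e => by
      rw [e, zero_add] at hcu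
      exact hz0 (Submodule.disjoint_def.mp (disjoint_of_perp hPn hPC) z (hUP (hcu ▸ hu)) (hZC hz))
    have hQc : Q c = 0 := by
      have h0 := hZ0 z hz
      rw [← hcu, qmap_add, hU0 u hu, polB_comm, (hCK hc) u hu, add_zero, add_zero] at h0
      exact h0
    refine ⟨F ∙ c, (Submodule.span_singleton_le_iff_mem _ _).mpr hc, fun x hx => ?_, by
      rw [finrank_span_singleton hc0, hC2]⟩
    obtain ⟨t, rfl⟩ := Submodule.mem_span_singleton.mp hx
    rw [qmap_smul, hQc, mul_zero]

end H47
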