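import Mathlib
import Cfsg.Prelude.Def_GeometricClasses
import Cfsg.Agent.H47.OrthStd

/-!
Small conversions for the even class statements.
-/

set_option autoImplicit false

namespace H47

open H43

variable {F : Type*} [Field F] {ι : Type} [Fintype ι] [DecidableEq ι] {q : QuadraticForm F (ι → F)}

/-- A spelled-out hyperbolic class. -/
lemma clsEven_plus_iff_alt {m : ℕ} (W : Submodule F (ι → F)) :
    (Module.finrank F W = m ∧ (∀ u ∈ W, u ≠ 0 → ∃ v ∈ W, QuadraticMap.polar ⇑q u v ≠ 0) ∧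
      ∃ U : Submodule F (ι → F), U ≤ W ∧ 2 * Module.finrank F U = m ∧ ∀ u ∈ U, q u = 0) ↔
      ClsEven q m True W := by
  constructor
  · rintro ⟨hd, hn, U, hUW, hUd, hU⟩
    refine ⟨hd, ndOn_of fun w hw h => ?_, iff_true_intro ⟨U, hUW, hU, by omega⟩⟩
    by_contra hw0
    obtain ⟨v, hv, hne⟩ := hn w hw hw0
    exact hne (by rw [← polB_apply, polB_comm]; exact h v hv)
  · rintro ⟨hd, hn, ht⟩
    obtain ⟨U, hUW, hU, hUd⟩ := ht.mpr trivial
    refine ⟨hd, fun u hu hu0 => ?_, U, hUW, by omega, hU⟩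
    by_contra hall
    push Not at hall
    exact hu0 (hn.eq_zero hu fun v hv => by rw [polB_comm]; exact hall v hv)

/-- The order of a field of characteristic two. -/
lemma card_mod_two [Fintype F] [CharP F 2] : Fintype.card F % 2 = 0 := by
  haveI : Fact (Nat.Prime 2) := ⟨Nat.prime_two⟩
  obtain ⟨n, -, hn⟩ := FiniteField.card F 2
  rw [hn]
  exact Nat.dvd_iff_mod_eq_zero.mp (dvd_pow_self 2 n.ne_zero)

end H47
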