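import Mathlib
import Cfsg.Prelude.Def_GeometricClasses
import Cfsg.Agent.H47.OrthChar2
import Cfsg.Agent.H47.OrthStd

/-!
Elements of order two and even classes, characteristic two.
-/

set_option autoImplicit false

namespace H47

open H43 Matrix

variable {F : Type*} [Field F] [Fintype F] {ι : Type} [Fintype ι] [DecidableEq ι] {q : QuadraticForm F (ι → F)}

/-- The class of the type of the space. -/
theorem crit_char2_same (hq : (polB q).Nondegenerate) (h20 : (2 : F) = 0) {d m : ℕ}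
    (hN : Module.finrank F (ι → F) = 2 * d) (hd : 4 ≤ d) (hme : Even m) (hm : 0 < m) (hmN : m < 2 * d) {T : Prop}
    (hTV : PlusOn q (⊤ : Submodule F (ι → F)) ↔ T) :
    (∀ x : GL ι F, x ∈ Cfsg.Geo.omegaGL ⇑q →
      (∃ z : F, ((x ^ 2 : GL ι F) : Matrix ι ι F) = z • (1 : Matrix ι ι F)) →
      (∀ z : F, (x : Matrix ι ι F) ≠ z • (1 : Matrix ι ι F)) →
      ∃ W, ClsEven q m T W ∧ W.map (Matrix.toLin' (x : Matrix ι ι F)) ≤ W) ↔
    ((T → Odd d ∨ m % 4 = 0) ∧ (¬ T → Even d ∨ m % 4 = 2)) := by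
  classical
  obtain ⟨h, rfl⟩ := hme
  obtain ⟨v₀, hv₀⟩ := exists_qmap_eq hq (by omega) 1 one_ne_zero
  constructor
  · intro hall
    by_contra hnot
    obtain ⟨g, hg, hgc, hgs, hW⟩ : ∃ g : orthGroup q, g ^ 2 = 1 ∧ g ∈ commutator (orthGroup q) ∧
        (∀ z : F, ∃ v, g.1 v ≠ z • v) ∧
        ∀ (W : Submodule F (ι → F)) (j : ℕ), Module.finrank F W = 2 * j → NdOn q W → Inv g W →
          (Even d → Even j ∧ PlusOn q W) ∧ (Odd d → (Even j ∨ PlusOn q (⊤ : Submodule F (ι → F))) → PlusOn q W) := by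
      refine exists_witness_char2 h20 hq hN hd fun hde => ?_
      by_contra hT
      exact hnot ⟨fun h => absurd (hTV.mpr h) hT, fun _ => Or.inl hde⟩
    obtain ⟨W, ⟨hWd, hWn, hWT⟩, hWx⟩ := hall (H45.toGL q g) (by rw [H45.omegaGL_eq_map]; exact ⟨g, hgc, rfl⟩)
      ⟨1, Matrix.ext_iff_mulVec.2 fun v => by rw [← map_pow, hg, map_one, Units.val_one, one_smul]⟩
      (fun z e => by
        obtain ⟨v, hv⟩ := hgs z
        exact hv (by rw [← H45.toGL_apply q g v, e, Matrix.smul_mulVec, Matrix.one_mulVec]))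
    obtain ⟨hE, hO⟩ := hW W h (by omega) hWn ((map_toGL_le_iff g W).mp hWx)
    apply hnot
    refine ⟨fun hT => ?_, fun hT => ?_⟩
    · rcases Nat.even_or_odd d with hde | hdo
      · right
        obtain ⟨k, hk⟩ := (hE hde).1
        omega
      · exact Or.inl hdo
    · rcases Nat.even_or_odd d with hde | hdo
      · exact Or.inl hde
      · right
        rcases Nat.even_or_odd h with hhe | ⟨k, hk⟩
        · exact absurd (hWT.mp (hO hdo (Or.inl hhe))) hT
        · omega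
  · rintro ⟨hp, hn⟩ x hx hz _
    rw [H45.omegaGL_eq_map] at hx
    obtain ⟨g, -, rfl⟩ := hx
    obtain ⟨z, hz⟩ := hz
    have hgg : ∀ v, g.1 (g.1 v) = z • v := fun v => by
      rw [← orth_mul_apply, ← pow_two, ← H45.toGL_apply q (g ^ 2) v, map_pow, hz, Matrix.smul_mulVec, Matrix.one_mulVec]
    have hzz : z * z = 1 := mul_right_cancel₀ (show q v₀ ≠ 0 by rw [hv₀]; exact one_ne_zero)
      (by rw [← qmap_smul, ← hgg, g.2, g.2, one_mul])
    have hz1 : z = 1 := by
      rcases mul_self_eq_one_iff.mp hzz with e | e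
      · exact e
      · rw [e]; exact neg_eq_self_of_two h20 1
    subst hz1
    obtain ⟨U, hU, hUi⟩ := invol_fix_char2 h20 hq (g := g) (orth_ext fun v => by
      rw [pow_two, orth_mul_apply, hgg, one_smul]; rfl) hN (h := h) (by omega) (by omega) hTV
      (fun hT => (hp hT).imp_right fun e => ⟨h / 2, by omega⟩) (fun hT => (hn hT).imp_right fun e => ⟨h / 2, by omega⟩)
    exact ⟨U, ⟨by omega, hU.2.1, hU.2.2⟩, (map_toGL_le_iff g U).mpr hUi⟩

/-- The other class in the split space. -/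
theorem crit_char2_other (hq : (polB q).Nondegenerate) (h20 : (2 : F) = 0) {d m : ℕ}
    (hN : Module.finrank F (ι → F) = 2 * d) (hd : 4 ≤ d) (hme : Even m)
    (hTV : PlusOn q (⊤ : Submodule F (ι → F))) :
    ¬ ∀ x : GL ι F, x ∈ Cfsg.Geo.omegaGL ⇑q →
      (∃ z : F, ((x ^ 2 : GL ι F) : Matrix ι ι F) = z • (1 : Matrix ι ι F)) →
      (∀ z : F, (x : Matrix ι ι F) ≠ z • (1 : Matrix ι ι F)) →
      ∃ W, ClsEven q m False W ∧ W.map (Matrix.toLin' (x : Matrix ι ι F)) ≤ W := by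
  intro hall
  obtain ⟨h, rfl⟩ := hme
  obtain ⟨g, hg, hgc, hgs, hW⟩ := exists_witness_char2 h20 hq hN hd fun _ => hTV
  obtain ⟨W, ⟨hWd, hWn, hWT⟩, hWx⟩ := hall (H45.toGL q g) (by rw [H45.omegaGL_eq_map]; exact ⟨g, hgc, rfl⟩)
    ⟨1, Matrix.ext_iff_mulVec.2 fun v => by rw [← map_pow, hg, map_one, Units.val_one, one_smul]⟩
    (fun z e => by
      obtain ⟨v, hv⟩ := hgs z
      exact hv (by rw [← H45.toGL_apply q g v, e, Matrix.smul_mulVec, Matrix.one_mulVec]))
  obtain ⟨hE, hO⟩ := hW W h (by omega) hWn ((map_toGL_le_iff g W).mp hWx)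
  rcases Nat.even_or_odd d with hde | hdo
  · exact hWT.mp (hE hde).2
  · exact hWT.mp (hO hdo (Or.inr hTV))

end H47
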