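import Mathlib
import Cfsg.Prelude.Def_GeometricClasses
import Cfsg.Agent.H47.OrthI
import Cfsg.Agent.H47.OrthStd

/-!
Elements of projective order two, odd characteristic.
-/

set_option autoImplicit false

namespace H47

open H43

variable {F : Type*} [Field F] {V : Type*} [AddCommGroup V] [Module F V] [FiniteDimensional F V]
  {Q : QuadraticForm F V}

omit [FiniteDimensional F V] in
lemma isomTo_span_singleton {v w : V} (hv : v ≠ 0) (hw : w ≠ 0) (h : Q w = Q v) : IsomTo Q (F ∙ v) (F ∙ w) := by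
  refine ⟨(LinearEquiv.toSpanNonzeroSingleton F V v hv).symm.trans (LinearEquiv.toSpanNonzeroSingleton F V w hw), fun x => ?_⟩
  obtain ⟨t, rfl⟩ := (LinearEquiv.toSpanNonzeroSingleton F V v hv).surjective x
  rw [LinearEquiv.trans_apply, LinearEquiv.symm_apply_apply]
  show Q (t • w) = Q (t • v)
  rw [qmap_smul, qmap_smul, h]

omit [FiniteDimensional F V] in
/-- Orthogonal sums of isometries. -/
lemma isomTo_sup {U U' L L' : Submodule F V} (hU : NdOn Q U) (hU' : NdOn Q U') (hUL : PerpTo Q U L)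
    (hUL' : PerpTo Q U' L') (h1 : IsomTo Q U U') (h2 : IsomTo Q L L') : IsomTo Q (U ⊔ L) (U' ⊔ L') := by
  obtain ⟨φ, hφ⟩ := h1
  obtain ⟨ψ, hψ⟩ := h2
  have key : ∀ {A B : Submodule F V}, NdOn Q A → PerpTo Q A B →
      ∃ e : (A × B) ≃ₗ[F] ↥(A ⊔ B), ∀ a b, (e (a, b) : V) = a + b := by
    intro A B hA hAB
    have hinj : Function.Injective (A.subtype.coprod B.subtype) := by
      rw [← LinearMap.ker_eq_bot, LinearMap.ker_eq_bot']
      rintro ⟨a, b⟩ e
      have e' : (a : V) = -(b : V) := eq_neg_of_add_eq_zero_left e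
      have ha : (a : V) = 0 := Submodule.disjoint_def.mp (disjoint_of_perp hA hAB) _ a.2 (e' ▸ neg_mem b.2)
      have hb : (b : V) = 0 := by
        have h0 : (a : V) + (b : V) = 0 := e
        rwa [ha, zero_add] at h0
      exact Prod.ext (Subtype.ext ha) (Subtype.ext hb)
    refine ⟨(LinearEquiv.ofInjective _ hinj).trans (LinearEquiv.ofEq _ _ (by
      rw [LinearMap.range_coprod, Submodule.range_subtype, Submodule.range_subtype])), fun a b => rfl⟩
  obtain ⟨e, he⟩ := key hU hUL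
  obtain ⟨e', he'⟩ := key hU' hUL'
  refine ⟨(e.symm.trans (φ.prodCongr ψ)).trans e', fun x => ?_⟩
  obtain ⟨⟨u, l⟩, rfl⟩ := e.surjective x
  rw [LinearEquiv.trans_apply, LinearEquiv.trans_apply, LinearEquiv.symm_apply_apply, he]
  show Q (e' (φ u, ψ l) : V) = _
  rw [he', qmap_add, qmap_add, hφ, hψ, hUL' _ (φ u).2 _ (ψ l).2, hUL _ u.2 _ l.2]

/-- An isometric copy inside a larger subspace. -/
lemma exists_copy [Finite F] {W₀ E : Submodule F V} (hW₀ : NdOn Q W₀) (hE : NdOn Q E) {m : ℕ} (hm : Odd m)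
    (hd : Module.finrank F W₀ = m) (hlt : m < Module.finrank F E) :
    ∃ W ≤ E, Module.finrank F W = m ∧ NdOn Q W ∧ IsomTo Q W W₀ := by
  obtain ⟨j, rfl⟩ := hm
  obtain ⟨U₀, hU₀W, hU₀d, hU₀n, -⟩ := exists_sub hW₀ (h := j) (by omega) True (fun _ => trivial)
  obtain ⟨L, hLW, hLn, hUL, hsup, hLd⟩ := exists_compl hW₀ hU₀W hU₀n
  obtain ⟨v, hv, hv0⟩ := Submodule.exists_mem_ne_zero_of_ne_bot (p := L) fun e => by
    rw [e, finrank_bot] at hLd; omega
  have hspan : F ∙ v = L := Submodule.eq_of_le_of_finrank_le ((Submodule.span_singleton_le_iff_mem _ _).mpr hv)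
    (by rw [finrank_span_singleton hv0]; omega)
  have hQv : Q v ≠ 0 := fun e => hv0 (hLn.eq_zero hv fun u hu => by
    rw [← hspan] at hu
    obtain ⟨t, rfl⟩ := Submodule.mem_span_singleton.mp hu
    rw [map_smul, LinearMap.smul_apply, polB_self, e, mul_zero, smul_zero])
  have hv2 : polB Q v v ≠ 0 := fun e => hv0 (hLn.eq_zero hv fun u hu => by
    rw [← hspan] at hu
    obtain ⟨t, rfl⟩ := Submodule.mem_span_singleton.mp hu
    rw [map_smul, LinearMap.smul_apply, e, smul_zero])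
  obtain ⟨w', hw'⟩ := exists_qmap_eq hE.restrict (by omega) (Q v) hQv
  set w : V := (w' : V)
  have hQw : Q w = Q v := hw'
  have hw0 : w ≠ 0 := fun e => hQv (by rw [← hQw, e, map_zero])
  have hwn : NdOn Q (F ∙ w) := ndOn_of fun x hx h => by
    obtain ⟨t, rfl⟩ := Submodule.mem_span_singleton.mp hx
    have h' := h w (Submodule.mem_span_singleton_self w)
    rw [map_smul, smul_eq_mul, polB_self, hQw, ← polB_self] at h'
    rw [(mul_eq_zero.mp h').resolve_right hv2, zero_smul]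
  obtain ⟨R, hRE, hRn, hwR, -, hRd⟩ := exists_compl hE ((Submodule.span_singleton_le_iff_mem _ _).mpr w'.2) hwn
  rw [finrank_span_singleton hw0] at hRd
  obtain ⟨P, hPR, hPd, hPn, hPt⟩ := exists_sub hRn (h := j) (by omega) (PlusOn Q U₀)
    (fun e => plusOn_of_even_zero (by omega))
  have hPw : PerpTo Q P (F ∙ w) := fun u hu x hx => by rw [polB_comm]; exact hwR x hx u (hPR hu)
  refine ⟨P ⊔ F ∙ w, sup_le (hPR.trans hRE) ((Submodule.span_singleton_le_iff_mem _ _).mpr w'.2),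
    by rw [finrank_sup_perp hPn hPw, hPd, finrank_span_singleton hw0], hPn.sup hwn hPw, ?_⟩
  rw [← hsup]
  exact isomTo_sup hPn hU₀n hPw hUL (ndOn_isometry_model hPn hU₀n hPd hU₀d hPt)
    (hspan ▸ isomTo_span_singleton hw0 hv0 hQw.symm)

/-- An involution fixes a member of every odd class of small dimension. -/
theorem invol_fix_odd [Fintype F] (hQ : (polB Q).Nondegenerate) (h2 : (2 : F) ≠ 0) {g : orthGroup Q}
    (hg : g ^ 2 = 1) {m : ℕ} (hm : Odd m) (hmN : 2 * m < Module.finrank F V) {W₀ : Submodule F V}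
    (hW₀ : Module.finrank F W₀ = m) (hW₀n : NdOn Q W₀) :
    ∃ W, ClsIso Q m W₀ W ∧ Inv g W := by
  classical
  have hne : ¬ 2 ∣ Fintype.card F := fun h => by
    obtain ⟨p, hp⟩ := CharP.exists F
    obtain ⟨n, hpp, hn⟩ := FiniteField.card F p
    rw [hn] at h
    have := (Nat.prime_dvd_prime_iff_eq Nat.prime_two hpp).mp (Nat.prime_two.dvd_of_dvd_pow h)
    exact h2 (by rw [show (2 : F) = ((2 : ℕ) : F) by norm_num, this]; exact CharP.cast_eq_zero F p)
  haveI : Fact (Nat.Prime 2) := ⟨Nat.prime_two⟩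
  obtain ⟨hKn, hRn, hKR, -⟩ := fixed_moved hQ hg hne
  have hsum : Module.finrank F (LinearMap.ker (resMap g)) + Module.finrank F (resid g) = Module.finrank F V := by
    rw [← finrank_sup_perp hKn (perp_fixed_resid g), hKR, finrank_top]
  rcases le_total (Module.finrank F (resid g)) (Module.finrank F (LinearMap.ker (resMap g))) with h | h
  · obtain ⟨W, hWE, hWd, hWn, hWi⟩ := exists_copy hW₀n hKn hm hW₀ (by omega)
    exact ⟨W, ⟨hWd, hWn, hWi⟩, fun w hw => by rw [mem_ker_resMap.mp (hWE hw)]; exact hw⟩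
  · obtain ⟨W, hWE, hWd, hWn, hWi⟩ := exists_copy hW₀n hRn hm hW₀ (by omega)
    refine ⟨W, ⟨hWd, hWn, hWi⟩, fun w hw => ?_⟩
    obtain ⟨u, rfl⟩ := hWE hw
    have hgg : g.1 (g.1 u) = u := by rw [← orth_mul_apply, ← pow_two, hg]; rfl
    have : g.1 (resMap g u) = -resMap g u := by rw [resMap_apply, map_sub, hgg, neg_sub]
    rw [this]; exact W.neg_mem hw

section matrices

variable {ι : Type} [Fintype ι] [DecidableEq ι] {q : QuadraticForm F (ι → F)}

/-- Projective order two, against isometries squaring to `-1`. -/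
theorem omega_reduce_two (hq : (polB q).Nondegenerate) (P : Submodule F (ι → F) → Prop) {v₀ : ι → F} (hv₀ : q v₀ ≠ 0)
    (h2 : (2 : F) ≠ 0) (h : ∀ g : orthGroup q, g ^ 2 = 1 → ∃ W, P W ∧ Inv g W) :
    (∀ x : GL ι F, x ∈ Cfsg.Geo.omegaGL ⇑q →
      (∃ z : F, ((x ^ 2 : GL ι F) : Matrix ι ι F) = z • (1 : Matrix ι ι F)) →
      (∀ z : F, (x : Matrix ι ι F) ≠ z • (1 : Matrix ι ι F)) →
      ∃ W, P W ∧ W.map (Matrix.toLin' (x : Matrix ι ι F)) ≤ W) ↔
    (∀ g ∈ commutator (orthGroup q), (∀ v, g.1 (g.1 v) = -v) → ∃ W, P W ∧ Inv g W) := by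
  constructor
  · intro hall g hg hgg
    obtain ⟨W, hW, hWx⟩ := hall (H45.toGL q g) (by rw [H45.omegaGL_eq_map]; exact ⟨g, hg, rfl⟩)
      ⟨-1, Matrix.ext_iff_mulVec.2 fun v => by
        rw [← map_pow, H45.toGL_apply, pow_two, orth_mul_apply, hgg, Matrix.smul_mulVec, Matrix.one_mulVec, neg_one_smul]⟩
      (fun z e => i_nonscalar h2 hgg hv₀ z (by rw [← H45.toGL_apply q g v₀, e, Matrix.smul_mulVec, Matrix.one_mulVec]))
    exact ⟨W, hW, (map_toGL_le_iff g W).mp hWx⟩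
  · intro hall x hx hz _
    rw [H45.omegaGL_eq_map] at hx
    obtain ⟨g, hg, rfl⟩ := hx
    obtain ⟨z, hz⟩ := hz
    have hgg : ∀ v, g.1 (g.1 v) = z • v := fun v => by
      rw [← orth_mul_apply, ← pow_two, ← H45.toGL_apply q (g ^ 2) v, map_pow, hz, Matrix.smul_mulVec, Matrix.one_mulVec]
    have hzz : z * z = 1 := mul_right_cancel₀ hv₀ (by rw [← qmap_smul, ← hgg, g.2, g.2, one_mul])
    rcases mul_self_eq_one_iff.mp hzz with rfl | rfl
    · obtain ⟨W, hW, hWi⟩ := h g (orth_ext fun v => by rw [pow_two, orth_mul_apply, hgg, one_smul]; rfl)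
      exact ⟨W, hW, (map_toGL_le_iff g W).mpr hWi⟩
    · obtain ⟨W, hW, hWi⟩ := hall g hg fun v => by rw [hgg, neg_one_smul]
      exact ⟨W, hW, (map_toGL_le_iff g W).mpr hWi⟩

/-- Even classes. -/
theorem crit_two_even [Fintype F] (hq : (polB q).Nondegenerate) (h2 : (2 : F) ≠ 0) {d m : ℕ}
    (hN : Module.finrank F (ι → F) = 2 * d) (hd : 3 ≤ d) (hme : Even m) (hm : 0 < m) (hmN : m < 2 * d) (T : Prop) :
    (∀ x : GL ι F, x ∈ Cfsg.Geo.omegaGL ⇑q →
      (∃ z : F, ((x ^ 2 : GL ι F) : Matrix ι ι F) = z • (1 : Matrix ι ι F)) →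
      (∀ z : F, (x : Matrix ι ι F) ≠ z • (1 : Matrix ι ι F)) →
      ∃ W, ClsEven q m T W ∧ W.map (Matrix.toLin' (x : Matrix ι ι F)) ≤ W) ↔
    (¬ ((PlusOn q (⊤ : Submodule F (ι → F)) ↔ (IsSquare (-1 : F) ∨ Even d)) ∧ IsSquare ((2 : F) ^ d)) ∨
      (T ↔ (IsSquare (-1 : F) ∨ Even (m / 2)))) := by
  obtain ⟨v₀, hv₀⟩ := exists_qmap_eq hq (by omega) 1 one_ne_zero
  rw [omega_reduce_two hq _ (v₀ := v₀) (by rw [hv₀]; exact one_ne_zero) h2 fun g hg =>
    invol_fix_even hq h2 (by omega) hg hm hme (by omega) T]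
  constructor
  · intro hall
    rw [or_iff_not_imp_left, not_not]
    rintro ⟨hTV, hsq⟩
    obtain ⟨g, -, hg, -⟩ := exists_i h2 d ⊤ (ndOn_top hq) (by rw [finrank_top, hN]) hTV
    have hgg : ∀ v, g.1 (g.1 v) = -v := fun v => hg v trivial
    obtain ⟨W, ⟨hWd, hWn, hWT⟩, hWi⟩ := hall g ((mem_commutator_i hq h2 hgg hN (by omega)).mpr hsq) hgg
    obtain ⟨h, hh, ht, -⟩ := struct_i hq h2 g W hWn hWi fun w _ => hgg w
    rw [← hWT, ht, show m / 2 = h by omega]
  · intro hR g hg hgg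
    obtain ⟨h, hh, ht, hsub, -⟩ := struct_i hq h2 g ⊤ (ndOn_top hq) (fun _ _ => trivial) fun w _ => hgg w
    rw [finrank_top, hN] at hh
    obtain rfl : h = d := by omega
    rw [mem_commutator_i hq h2 hgg hN (by omega)] at hg
    have hT := hR.resolve_left (not_not.mpr ⟨ht, hg⟩)
    obtain ⟨j, hj⟩ := hme
    obtain ⟨W, -, hWd, hWn, hWi⟩ := hsub j (by omega)
    obtain ⟨h', hh', ht', -⟩ := struct_i hq h2 g W hWn hWi fun w _ => hgg w
    refine ⟨W, ⟨by omega, hWn, ?_⟩, hWi⟩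
    rw [ht', hT, show m / 2 = h' by omega]

/-- Odd classes. -/
theorem crit_two_odd [Fintype F] (hq : (polB q).Nondegenerate) (h2 : (2 : F) ≠ 0) {d m : ℕ}
    (hN : Module.finrank F (ι → F) = 2 * d) (hd : 3 ≤ d) (hm : Odd m) (hmd : m < d) {W₀ : Submodule F (ι → F)}
    (hW₀ : Module.finrank F W₀ = m) (hW₀n : NdOn q W₀) :
    (∀ x : GL ι F, x ∈ Cfsg.Geo.omegaGL ⇑q →
      (∃ z : F, ((x ^ 2 : GL ι F) : Matrix ι ι F) = z • (1 : Matrix ι ι F)) →
      (∀ z : F, (x : Matrix ι ι F) ≠ z • (1 : Matrix ι ι F)) →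
      ∃ W, ClsIso q m W₀ W ∧ W.map (Matrix.toLin' (x : Matrix ι ι F)) ≤ W) ↔
    ¬ ((PlusOn q (⊤ : Submodule F (ι → F)) ↔ (IsSquare (-1 : F) ∨ Even d)) ∧ IsSquare ((2 : F) ^ d)) := by
  obtain ⟨v₀, hv₀⟩ := exists_qmap_eq hq (by omega) 1 one_ne_zero
  rw [omega_reduce_two hq _ (v₀ := v₀) (by rw [hv₀]; exact one_ne_zero) h2 fun g hg =>
    invol_fix_odd hq h2 hg hm (by omega) hW₀ hW₀n]
  constructor
  · rintro hall ⟨hTV, hsq⟩
    obtain ⟨g, -, hg, -⟩ := exists_i h2 d ⊤ (ndOn_top hq) (by rw [finrank_top, hN]) hTV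
    have hgg : ∀ v, g.1 (g.1 v) = -v := fun v => hg v trivial
    obtain ⟨W, ⟨hWd, hWn, -⟩, hWi⟩ := hall g ((mem_commutator_i hq h2 hgg hN (by omega)).mpr hsq) hgg
    obtain ⟨h, hh, -⟩ := struct_i hq h2 g W hWn hWi fun w _ => hgg w
    obtain ⟨j, hj⟩ := hm
    omega
  · intro hR g hg hgg
    obtain ⟨h, hh, ht, -⟩ := struct_i hq h2 g ⊤ (ndOn_top hq) (fun _ _ => trivial) fun w _ => hgg w
    rw [finrank_top, hN] at hh
    obtain rfl : h = d := by omega
    rw [mem_commutator_i hq h2 hgg hN (by omega)] at hg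
    exact absurd ⟨ht, hg⟩ hR

end matrices

/-- Squares, by congruences. -/
lemma isSquare_data [Fintype F] (h2 : (2 : F) ≠ 0) :
    (IsSquare (-1 : F) ↔ Fintype.card F % 4 = 1) ∧
    ∀ d : ℕ, IsSquare ((2 : F) ^ d) ↔ (Even d ∨ Fintype.card F % 8 = 1 ∨ Fintype.card F % 8 = 7) := by
  have hodd : Fintype.card F % 2 = 1 := FiniteField.odd_card_of_char_ne_two (fun h => h2 (by
    rw [show (2 : F) = ((2 : ℕ) : F) by norm_num, ← h]; exact CharP.cast_eq_zero F _))
  refine ⟨by rw [FiniteField.isSquare_neg_one_iff]; omega, fun d => ?_⟩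
  rcases Nat.even_or_odd d with he | ho
  · exact iff_of_true (he.isSquare_pow 2) (Or.inl he)
  · obtain ⟨k, rfl⟩ := ho
    have : IsSquare ((2 : F) ^ (2 * k + 1)) ↔ IsSquare (2 : F) := by
      rw [pow_succ, pow_mul, ← pow_mul, mul_comm 2 k, pow_mul]
      constructor
      · rintro ⟨t, ht⟩
        exact ⟨t / (2 : F) ^ k, by rw [div_mul_div_comm, ← ht, ← pow_two, mul_div_cancel_left₀ _ (pow_ne_zero _ (pow_ne_zero _ h2))]⟩
      · rintro ⟨t, ht⟩
        exact ⟨(2 : F) ^ k * t, by rw [mul_mul_mul_comm, ← ht, pow_two]⟩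
    rw [this, FiniteField.isSquare_two_iff]
    have : ¬ Even (2 * k + 1) := Nat.not_even_iff_odd.mpr (odd_two_mul_add_one k)
    simp only [this, false_or]
    omega

end H47
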