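import Mathlib
import Cfsg.Prelude.Def_GeometricClasses
import Cfsg.Agent.H47.Symp
import Cfsg.Agent.H47.Nilpotent
import Cfsg.Agent.H42.PowResidue

/-!
# Involutions of `PSL n` and the symplectic similarity group
-/

set_option autoImplicit false
open scoped MatrixGroups Matrix
open Matrix

namespace H47

variable {F : Type*} [Field F]

lemma J_facts (l : Type) [Fintype l] [DecidableEq l] :
    (Matrix.J l F)ᵀ = -Matrix.J l F ∧ (∀ v, v ⬝ᵥ (Matrix.J l F *ᵥ v) = 0) ∧
      (Matrix.J l F).det ≠ 0 :=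
  ⟨Matrix.J_transpose l F, fun v => H48.sf_self v, (Matrix.isUnit_det_J l F).ne_zero⟩

lemma blockJ_facts {α β : Type} [Fintype α] [DecidableEq α] [Fintype β] [DecidableEq β]
    {A : Matrix α α F} {B : Matrix β β F}
    (hA : Aᵀ = -A ∧ (∀ v, v ⬝ᵥ (A *ᵥ v) = 0) ∧ A.det ≠ 0)
    (hB : Bᵀ = -B ∧ (∀ v, v ⬝ᵥ (B *ᵥ v) = 0) ∧ B.det ≠ 0) :
    (fromBlocks A 0 0 B)ᵀ = -fromBlocks A 0 0 B ∧ (∀ v, v ⬝ᵥ (fromBlocks A 0 0 B *ᵥ v) = 0) ∧
      (fromBlocks A 0 0 B).det ≠ 0 := by
  refine ⟨?_, ?_, ?_⟩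
  · simp [fromBlocks_transpose, hA.1, hB.1, fromBlocks_neg]
  · intro v
    simp only [fromBlocks_mulVec, Matrix.zero_mulVec, add_zero, zero_add, dotProduct,
      Fintype.sum_sum_type, Sum.elim_inl, Sum.elim_inr]
    have h1 := hA.2.1 (v ∘ Sum.inl)
    have h2 := hB.2.1 (v ∘ Sum.inr)
    simp only [dotProduct, Function.comp_apply] at h1 h2
    rw [h1, h2, add_zero]
  · rw [Matrix.det_fromBlocks_zero₁₂]
    exact mul_ne_zero hA.2.2 hB.2.2

/-- A matrix that preserves some symplectic form up to a scalar, with enough centralising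
determinants, has an `SL`-conjugate in the similarity group of any symplectic form. -/
theorem exists_sl_similarity {n m : ℕ} (hnm : n = 2 * m) {f : (Fin n → F) → (Fin n → F) → F}
    (hf : Cfsg.Geo.IsSymplecticForm f) {κ : Type} [Fintype κ] [DecidableEq κ]
    (x Q : GL (Fin n) F) (e : Fin n ≃ κ) (G D : Matrix κ κ F)
    (hG : Gᵀ = -G ∧ (∀ v, v ⬝ᵥ (G *ᵥ v) = 0) ∧ G.det ≠ 0)
    (hx : (x : Matrix (Fin n) (Fin n) F) * (Q : Matrix (Fin n) (Fin n) F)
      = (Q : Matrix (Fin n) (Fin n) F) * D.submatrix e e)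
    (c : Fˣ) (hD : Dᵀ * G * D = (c : F) • G)
    (hdet : ∀ t : F, t ≠ 0 → ∃ C : Matrix κ κ F, C * D = D * C ∧ C.det = t) :
    ∃ P : GL (Fin n) F, (P : Matrix (Fin n) (Fin n) F).det = 1 ∧
      P⁻¹ * x * P ∈ Cfsg.Geo.similarityGroup f := by
  let f' : (Fin n → F) → (Fin n → F) → F := fun u v => (u ∘ e.symm) ⬝ᵥ (G *ᵥ (v ∘ e.symm))
  have hf' : Cfsg.Geo.IsSymplecticForm f' := by
    refine ⟨⟨fun u v w => ?_, fun a u w => ?_, fun w u v => ?_, fun a w u => ?_⟩, fun u w => ?_,
      fun v => hG.2.1 _, fun v hv => ?_⟩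
    · exact add_dotProduct (u ∘ e.symm) (v ∘ e.symm) _
    · exact smul_dotProduct a (u ∘ e.symm) _
    · show _ ⬝ᵥ (G *ᵥ (u ∘ e.symm + v ∘ e.symm)) = _
      rw [Matrix.mulVec_add, dotProduct_add]
    · show _ ⬝ᵥ (G *ᵥ (a • (u ∘ e.symm))) = _
      rw [Matrix.mulVec_smul, dotProduct_smul]; rfl
    · show (u ∘ e.symm) ⬝ᵥ (G *ᵥ (w ∘ e.symm)) = -((w ∘ e.symm) ⬝ᵥ (G *ᵥ (u ∘ e.symm)))
      conv_rhs => rw [Matrix.dotProduct_mulVec, ← Matrix.mulVec_transpose, hG.1, Matrix.neg_mulVec,
        neg_dotProduct, dotProduct_comm, neg_neg]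
    · have hv' : v ∘ e.symm ≠ 0 := by
        intro h; apply hv; funext i
        simpa using congrFun h (e i)
      have hGv : G *ᵥ (v ∘ e.symm) ≠ 0 := by
        intro h
        exact hG.2.2 (Matrix.exists_mulVec_eq_zero_iff.mp ⟨_, hv', h⟩)
      obtain ⟨i, hi⟩ := Function.ne_iff.mp hGv
      have hs : ((Pi.single (e.symm i) (1 : F) : Fin n → F) ∘ e.symm) = Pi.single i 1 := by
        funext j
        rcases eq_or_ne j i with rfl | h
        · simp
        · simp [h]
      have hx1 : f' (Pi.single (e.symm i) 1) v ≠ 0 := by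
        show (_ ∘ e.symm) ⬝ᵥ _ ≠ 0
        rw [hs]; simpa using hi
      refine ⟨⟨_, hx1⟩, ⟨Pi.single (e.symm i) 1, ?_⟩⟩
      show (v ∘ e.symm) ⬝ᵥ (G *ᵥ _) ≠ 0
      rw [Matrix.dotProduct_mulVec, ← Matrix.mulVec_transpose, hG.1, Matrix.neg_mulVec,
        neg_dotProduct, neg_ne_zero, dotProduct_comm]
      exact hx1
  obtain ⟨ψ, hψ⟩ := exists_symp_coords (m := m) (by simp [hnm]) hf
  obtain ⟨ψ', hψ'⟩ := exists_symp_coords (m := m) (by simp [hnm]) hf'
  let Φ : (Fin n → F) ≃ₗ[F] (Fin n → F) := ψ.trans ψ'.symm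
  have hΦ : ∀ u v, f' (Φ u) (Φ v) = f u v := fun u v => by
    rw [← hψ' (Φ u) (Φ v), ← hψ u v]
    simp [Φ]
  let T : GL (Fin n) F :=
    { val := LinearMap.toMatrix' Φ.toLinearMap
      inv := LinearMap.toMatrix' Φ.symm.toLinearMap
      val_inv := by rw [← LinearMap.toMatrix'_comp, ← LinearMap.toMatrix'_id]; congr 1; ext v; simp
      inv_val := by rw [← LinearMap.toMatrix'_comp, ← LinearMap.toMatrix'_id]; congr 1; ext v; simp }
  have hTv : ∀ w, (T : Matrix (Fin n) (Fin n) F) *ᵥ w = Φ w := fun w =>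
    LinearMap.toMatrix'_mulVec Φ.toLinearMap w
  have hQd : (Q : Matrix (Fin n) (Fin n) F).det ≠ 0 := (Matrix.isUnits_det_units Q).ne_zero
  have hTd : (T : Matrix (Fin n) (Fin n) F).det ≠ 0 := (Matrix.isUnits_det_units T).ne_zero
  obtain ⟨C, hCD, hCdet⟩ := hdet ((Q : Matrix (Fin n) (Fin n) F).det * (T : Matrix (Fin n) (Fin n) F).det)⁻¹
    (inv_ne_zero (mul_ne_zero hQd hTd))
  have hC' : (C.submatrix e e).det ≠ 0 := by
    rw [Matrix.det_submatrix_equiv_self, hCdet]; exact inv_ne_zero (mul_ne_zero hQd hTd)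
  let Cg : GL (Fin n) F := Matrix.GeneralLinearGroup.mkOfDetNeZero _ hC'
  refine ⟨Q * Cg * T, ?_, c, fun u v => ?_⟩
  · rw [Units.val_mul, Units.val_mul, Matrix.det_mul, Matrix.det_mul]
    show _ * (C.submatrix e e).det * _ = 1
    rw [Matrix.det_submatrix_equiv_self, hCdet]
    field_simp
  have key : ∀ w, (T : Matrix (Fin n) (Fin n) F) *ᵥ (((Q * Cg * T)⁻¹ * x * (Q * Cg * T) : GL (Fin n) F) : Matrix (Fin n) (Fin n) F) *ᵥ w
      = D.submatrix e e *ᵥ ((T : Matrix (Fin n) (Fin n) F) *ᵥ w) := by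
    intro w
    rw [Matrix.mulVec_mulVec, Matrix.mulVec_mulVec, ← Units.val_mul]
    congr 1
    have h1 : T * ((Q * Cg * T)⁻¹ * x * (Q * Cg * T)) = Cg⁻¹ * Q⁻¹ * (x * Q) * Cg * T := by group
    have h2 : (Cg : Matrix (Fin n) (Fin n) F) * D.submatrix e e = D.submatrix e e * (Cg : Matrix (Fin n) (Fin n) F) := by
      show C.submatrix e e * _ = _ * C.submatrix e e
      rw [Matrix.submatrix_mul_equiv, Matrix.submatrix_mul_equiv, hCD]
    rw [h1, Units.val_mul, Units.val_mul, Units.val_mul, Units.val_mul, Units.val_mul, hx,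
      ← Matrix.mul_assoc (_ * _) (Q : Matrix (Fin n) (Fin n) F), Matrix.mul_assoc _ _ (Q : Matrix (Fin n) (Fin n) F),
      Units.inv_mul, Matrix.mul_one, Matrix.mul_assoc _ (D.submatrix e e), ← h2, ← Matrix.mul_assoc,
      Units.inv_mul, Matrix.one_mul]
  rw [← hΦ, ← hΦ u v, ← hTv, ← hTv, ← hTv, ← hTv, key, key]
  show ((D.submatrix e e *ᵥ _) ∘ e.symm) ⬝ᵥ (G *ᵥ ((D.submatrix e e *ᵥ _) ∘ e.symm)) = _
  have hsub : ∀ w : Fin n → F, (D.submatrix e e *ᵥ w) ∘ e.symm = D *ᵥ (w ∘ e.symm) := by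
    intro w
    rw [Matrix.submatrix_mulVec_equiv, Function.comp_assoc, Equiv.self_comp_symm, Function.comp_id]
  rw [hsub, hsub, ← Matrix.vecMul_transpose, ← Matrix.dotProduct_mulVec, Matrix.mulVec_mulVec,
    Matrix.mulVec_mulVec, hD, Matrix.smul_mulVec, dotProduct_smul]
  rfl

/-- A basis gives a change of coordinates matrix. -/
lemma exists_basis_GL {n : ℕ} {κ : Type} [Fintype κ] [DecidableEq κ] (b : Module.Basis κ F (Fin n → F))
    (x : GL (Fin n) F) (D : Matrix κ κ F)
    (h : ∀ j, (x : Matrix (Fin n) (Fin n) F) *ᵥ b j = ∑ i, D i j • b i) :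
    ∃ (e : Fin n ≃ κ) (Q : GL (Fin n) F), (x : Matrix (Fin n) (Fin n) F) * (Q : Matrix (Fin n) (Fin n) F)
      = (Q : Matrix (Fin n) (Fin n) F) * D.submatrix e e := by
  have hcard : Fintype.card κ = n := by
    rw [← Module.finrank_eq_card_basis b, Module.finrank_fin_fun]
  let e : Fin n ≃ κ := (Fintype.equivFinOfCardEq hcard).symm
  let Qm : Matrix (Fin n) (Fin n) F := Matrix.of fun r c => b (e c) r
  have hQdet : Qm.det ≠ 0 := by
    intro h0
    obtain ⟨a, ha, ha0⟩ := Matrix.exists_mulVec_eq_zero_iff.mpr h0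
    refine ha (funext (Fintype.linearIndependent_iff.mp (b.linearIndependent.comp e e.injective) a ?_))
    funext r
    simpa [Qm, Matrix.mulVec, dotProduct, mul_comm] using congrFun ha0 r
  refine ⟨e, Matrix.GeneralLinearGroup.mkOfDetNeZero Qm hQdet, ?_⟩
  show (x : Matrix (Fin n) (Fin n) F) * Qm = Qm * _
  ext r c
  have h1 := congrFun (h (e c)) r
  rw [Matrix.mul_apply, Matrix.mul_apply]
  simp only [Matrix.mulVec, dotProduct] at h1
  rw [show (∑ j, (x : Matrix (Fin n) (Fin n) F) r j * Qm j c) = _ from h1, Finset.sum_apply]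
  rw [← Equiv.sum_comp e]
  exact Finset.sum_congr rfl fun j _ => by simp [Qm, mul_comm]

section finite
variable [Fintype F]

/-- `x²` a non-square scalar. -/
theorem invol_sim_nonsquare {n m : ℕ} (hnm : n = 2 * m) (hm : 0 < m)
    {f : (Fin n → F) → (Fin n → F) → F} (hf : Cfsg.Geo.IsSymplecticForm f) {x : GL (Fin n) F}
    {z : F} (hz : (x : Matrix (Fin n) (Fin n) F) * x = z • 1) (hns : ¬ IsSquare z) :
    ∃ P : GL (Fin n) F, (P : Matrix (Fin n) (Fin n) F).det = 1 ∧
      P⁻¹ * x * P ∈ Cfsg.Geo.similarityGroup f := by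
  classical
  have hodd : Fintype.card F % 2 = 1 := by
    apply FiniteField.odd_card_of_char_ne_two
    exact fun h => hns (FiniteField.isSquare_of_char_two h z)
  have h2 : (2 : F) ≠ 0 := by
    intro h
    apply hns
    exact FiniteField.isSquare_of_char_two
      (CharP.ringChar_of_prime_eq_zero Nat.prime_two (by exact_mod_cast h)) z
  set X := Matrix.toLin' (x : Matrix (Fin n) (Fin n) F) with hX
  have hXX : ∀ w, X (X w) = z • w := by
    intro w
    rw [hX, Matrix.toLin'_apply, Matrix.toLin'_apply, Matrix.mulVec_mulVec, hz, Matrix.smul_mulVec,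
      Matrix.one_mulVec]
  -- pairs `v, X v`
  have hfam : ∀ k ≤ m, ∃ v : Fin k → (Fin n → F), LinearIndependent F (Sum.elim v (X ∘ v)) := by
    intro k
    induction k with
    | zero => intro _; exact ⟨Fin.elim0, linearIndependent_empty_type⟩
    | succ k ih =>
      intro hk
      obtain ⟨v, hv⟩ := ih (by omega)
      set W := Submodule.span F (Set.range (Sum.elim v (X ∘ v))) with hW
      have hWX : ∀ w ∈ W, X w ∈ W := by
        intro w hw
        have : X w ∈ W.map X := Submodule.mem_map_of_mem hw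
        refine (Submodule.map_span_le X _ W).mpr ?_ this
        rintro _ ⟨i | i, rfl⟩
        · exact Submodule.subset_span ⟨Sum.inr i, rfl⟩
        · simp only [Sum.elim_inr, Function.comp_apply, hXX]
          exact W.smul_mem _ (Submodule.subset_span ⟨Sum.inl i, rfl⟩)
      have hWne : W ≠ ⊤ := by
        intro h
        have h1 := finrank_span_eq_card hv
        rw [← hW, h, finrank_top, Module.finrank_fin_fun, Fintype.card_sum, Fintype.card_fin] at h1
        omega
      obtain ⟨u, hu⟩ : ∃ u, u ∉ W := by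
        by_contra h
        push Not at h
        exact hWne (eq_top_iff.mpr fun w _ => h w)
      refine ⟨Fin.cons u v, ?_⟩
      rw [Fintype.linearIndependent_iff]
      intro a ha
      simp only [Fintype.sum_sum_type, Sum.elim_inl, Sum.elim_inr, Function.comp_apply, Fin.sum_univ_succ,
        Fin.cons_zero, Fin.cons_succ] at ha
      set α := a (Sum.inl 0) with hα
      set β := a (Sum.inr 0) with hβ
      have hmem : α • u + β • X u ∈ W := by
        have h1 : α • u + β • X u
            = -((∑ i : Fin k, a (Sum.inl i.succ) • v i) + ∑ i : Fin k, a (Sum.inr i.succ) • X (v i)) := by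
          rw [eq_neg_iff_add_eq_zero, ← ha]; abel
        rw [h1]
        refine W.neg_mem (W.add_mem ?_ ?_)
        · exact Submodule.sum_mem _ fun i _ => W.smul_mem _ (Submodule.subset_span ⟨Sum.inl i, rfl⟩)
        · exact Submodule.sum_mem _ fun i _ => W.smul_mem _ (Submodule.subset_span ⟨Sum.inr i, rfl⟩)
      have hzero : α = 0 ∧ β = 0 := by
        have hmem2 := hWX _ hmem
        rw [map_add, map_smul, map_smul, hXX, smul_smul] at hmem2
        have h3 : (α * α - β * β * z) • u ∈ W := by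
          have := W.sub_mem (W.smul_mem α hmem) (W.smul_mem β hmem2)
          convert this using 1
          match_scalars <;> ring
        have h4 : α * α - β * β * z = 0 := by
          by_contra h
          refine hu ?_
          have := W.smul_mem (α * α - β * β * z)⁻¹ h3
          rwa [smul_smul, inv_mul_cancel₀ h, one_smul] at this
        by_cases hb : β = 0
        · rw [hb] at h4
          exact ⟨mul_self_eq_zero.mp (by linear_combination h4), hb⟩
        · exact absurd ⟨α / β, by field_simp; linear_combination -h4⟩ hns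
      rw [hzero.1, hzero.2] at ha
      simp only [zero_smul, zero_add] at ha
      have hrest := Fintype.linearIndependent_iff.mp hv
        (Sum.elim (fun i => a (Sum.inl i.succ)) (fun i => a (Sum.inr i.succ))) (by
          simpa [Fintype.sum_sum_type] using ha)
      rintro (i | i)
      · refine Fin.cases hzero.1 (fun i => hrest (Sum.inl i)) i
      · refine Fin.cases hzero.2 (fun i => hrest (Sum.inr i)) i
  obtain ⟨v, hv⟩ := hfam m le_rfl
  haveI : Nonempty (Fin m ⊕ Fin m) := ⟨Sum.inl ⟨0, hm⟩⟩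
  let b := basisOfLinearIndependentOfCardEqFinrank hv (by simp [hnm]; omega)
  obtain ⟨e, Q, hQ⟩ := exists_basis_GL b x
    (Matrix.fromBlocks 0 (z • 1) 1 0 : Matrix (Fin m ⊕ Fin m) (Fin m ⊕ Fin m) F) (by
      intro j
      rcases j with j | j
      · simp [b, Fintype.sum_sum_type, Matrix.one_apply, hX, Finset.sum_ite_eq']
      · have := hXX (v j)
        simp only [hX, Matrix.toLin'_apply] at this
        simp [b, Fintype.sum_sum_type, Matrix.one_apply, hX, this, Finset.sum_ite_eq', ite_smul])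
  have hz0 : z ≠ 0 := fun h => hns (h ▸ IsSquare.zero)
  refine exists_sl_similarity hnm hf x Q e (Matrix.J (Fin m) F) _ (J_facts _) hQ
    (Units.mk0 (-z) (neg_ne_zero.mpr hz0)) ?_ ?_
  · simp [Matrix.J, Matrix.fromBlocks_transpose, Matrix.fromBlocks_multiply, Matrix.fromBlocks_smul,
      Matrix.fromBlocks_neg]
  · intro t ht
    -- norms from the quadratic extension
    have hd1 : (Polynomial.X ^ 2 - Polynomial.C t : Polynomial F).degree = 2 :=
      Polynomial.degree_X_pow_sub_C (by norm_num) t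
    have hd2 : (Polynomial.C (-z) * Polynomial.X ^ 2 : Polynomial F).degree = 2 :=
      Polynomial.degree_C_mul_X_pow 2 (neg_ne_zero.mpr hz0)
    obtain ⟨α₀, β₀, hab⟩ := FiniteField.exists_root_sum_quadratic hd1 hd2 hodd
    simp only [Polynomial.eval_sub, Polynomial.eval_pow, Polynomial.eval_X, Polynomial.eval_C,
      Polynomial.eval_mul] at hab
    obtain ⟨α, β, hα, hαβ⟩ : ∃ α β : F, α ≠ 0 ∧ α * α - z * (β * β) = t := by
      by_cases h : α₀ = 0
      · have h1z : 1 - z ≠ 0 := fun h => hns ⟨1, by linear_combination -h⟩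
        have hb0 : β₀ ≠ 0 := by rintro rfl; exact ht (by rw [h] at hab; linear_combination -hab)
        refine ⟨z * β₀ * 2 / (1 - z), (1 + z) * β₀ / (1 - z), ?_, ?_⟩
        · exact div_ne_zero (mul_ne_zero (mul_ne_zero hz0 hb0) h2) h1z
        · rw [h] at hab
          field_simp
          linear_combination (1 - z) ^ 2 * hab
      · exact ⟨α₀, β₀, h, by linear_combination hab⟩
    let i0 : Fin m := ⟨0, hm⟩
    let A : Matrix (Fin m) (Fin m) F := Matrix.diagonal fun i => if i = i0 then α else 1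
    let B : Matrix (Fin m) (Fin m) F := Matrix.diagonal fun i => if i = i0 then β else 0
    refine ⟨Matrix.fromBlocks A (z • B) B A, ?_, ?_⟩
    · simp [Matrix.fromBlocks_multiply, smul_smul]
    · have hAu : IsUnit A.det := by
        rw [Matrix.det_diagonal, Finset.prod_ite_eq' Finset.univ i0 (fun _ => α),
          if_pos (Finset.mem_univ _)]
        exact Ne.isUnit hα
      haveI := Matrix.invertibleOfIsUnitDet A hAu
      rw [Matrix.det_fromBlocks₁₁, Matrix.invOf_eq_nonsing_inv]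
      have hAi : A⁻¹ = Matrix.diagonal fun i => if i = i0 then α⁻¹ else 1 := by
        refine Matrix.inv_eq_right_inv ?_
        rw [Matrix.diagonal_mul_diagonal, ← Matrix.diagonal_one]
        congr 1; funext i
        split_ifs
        · exact mul_inv_cancel₀ hα
        · rw [mul_one]
      rw [hAi]
      simp only [A, B, ← Matrix.diagonal_smul, Matrix.diagonal_mul_diagonal, Matrix.diagonal_sub,
        Matrix.det_diagonal, ← Finset.prod_mul_distrib]
      rw [Finset.prod_eq_single i0]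
      · simp only [if_pos, Pi.smul_apply, smul_eq_mul]
        rw [← hαβ]; field_simp
      · intro i _ hi; simp [hi]
      · simp

omit [Fintype F] in
/-- `x² = λ²` in odd characteristic. -/
theorem invol_sim_split {n m : ℕ} (hnm : n = 2 * m) (hm : 0 < m) (h2 : (2 : F) ≠ 0)
    {f : (Fin n → F) → (Fin n → F) → F} (hf : Cfsg.Geo.IsSymplecticForm f) {x : GL (Fin n) F}
    (hxd : (x : Matrix (Fin n) (Fin n) F).det = 1) {l : F} (hl : l ≠ 0)
    (hz : (x : Matrix (Fin n) (Fin n) F) * x = (l * l) • 1) (hln : l ^ n ≠ -1) :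
    ∃ P : GL (Fin n) F, (P : Matrix (Fin n) (Fin n) F).det = 1 ∧
      P⁻¹ * x * P ∈ Cfsg.Geo.similarityGroup f := by
  classical
  set X := Matrix.toLin' (x : Matrix (Fin n) (Fin n) F) with hX
  have hXX : ∀ w, X (X w) = (l * l) • w := by
    intro w
    rw [hX, Matrix.toLin'_apply, Matrix.toLin'_apply, Matrix.mulVec_mulVec, hz, Matrix.smul_mulVec,
      Matrix.one_mulVec]
  let Vp := LinearMap.ker (X - l • (LinearMap.id : (Fin n → F) →ₗ[F] (Fin n → F)))
  let Vn := LinearMap.ker (X + l • (LinearMap.id : (Fin n → F) →ₗ[F] (Fin n → F)))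
  have hp : ∀ w, w ∈ Vp ↔ X w = l • w := fun w => by simp [Vp, sub_eq_zero]
  have hn' : ∀ w, w ∈ Vn ↔ X w = -(l • w) := fun w => by simp [Vn, add_eq_zero_iff_eq_neg]
  have hcompl : IsCompl Vp Vn := by
    refine ⟨Submodule.disjoint_def.mpr fun w h1 h2' => ?_, ?_⟩
    · rw [hp] at h1; rw [hn'] at h2'
      have : ((2 : F) * l) • w = 0 := by
        rw [← smul_smul, two_smul]
        nth_rewrite 2 [← h1]
        rw [h2', add_neg_cancel]
      exact (smul_eq_zero.mp this).resolve_left (mul_ne_zero h2 hl)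
    · rw [codisjoint_iff, eq_top_iff]
      intro w _
      refine Submodule.mem_sup.mpr ⟨(2 : F)⁻¹ • (w + l⁻¹ • X w), ?_, (2 : F)⁻¹ • (w - l⁻¹ • X w), ?_, ?_⟩
      · rw [hp]
        simp only [map_smul, map_add, hXX, smul_smul, smul_add]
        match_scalars <;> field_simp
      · rw [hn']
        simp only [map_smul, map_sub, hXX, smul_smul, smul_sub]
        match_scalars <;> field_simp
      · rw [← smul_add, add_add_sub_cancel, ← two_smul F w, smul_smul, inv_mul_cancel₀ h2, one_smul]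
  set dp := Module.finrank F Vp with hdp
  set dn := Module.finrank F Vn with hdn
  obtain ⟨b₀, hb₀def⟩ : ∃ b : Module.Basis (Fin dp ⊕ Fin dn) F (Fin n → F),
      b = ((Module.finBasis F Vp).prod (Module.finBasis F Vn)).map
        (Submodule.prodEquivOfIsCompl Vp Vn hcompl) := ⟨_, rfl⟩
  let D₀ : Matrix (Fin dp ⊕ Fin dn) (Fin dp ⊕ Fin dn) F := Matrix.diagonal (Sum.elim (fun _ => l) (fun _ => -l))
  have hb₀ : ∀ j, X (b₀ j) = Sum.elim (fun _ => l) (fun _ => -l) j • b₀ j := by
    rintro (j | j)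
    · have : b₀ (Sum.inl j) ∈ Vp := by simp [hb₀def]
      simpa using (hp _).mp this
    · have : b₀ (Sum.inr j) ∈ Vn := by simp [hb₀def]
      simpa using (hn' _).mp this
  have hdiag : ∀ {κ : Type} [Fintype κ] [DecidableEq κ] (b : Module.Basis κ F (Fin n → F)) (d : κ → F),
      (∀ j, X (b j) = d j • b j) → ∀ j, (x : Matrix (Fin n) (Fin n) F) *ᵥ b j
        = ∑ i, (Matrix.diagonal d) i j • b i := by
    intro κ _ _ b d h j
    rw [← Matrix.toLin'_apply, ← hX, h j, Finset.sum_eq_single j]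
    · simp
    · intro i _ hi; simp [hi]
    · simp
  have hdim : dp + dn = n := by
    have := Module.finrank_eq_card_basis b₀
    simpa using this.symm
  obtain ⟨e₀, Q₀, hQ₀⟩ := exists_basis_GL b₀ x D₀ (hdiag b₀ _ hb₀)
  have hdn_even : Even dn := by
    have h := congrArg Matrix.det hQ₀
    rw [Matrix.det_mul, Matrix.det_mul, hxd, one_mul, Matrix.det_submatrix_equiv_self, Matrix.det_diagonal,
      Fintype.prod_sum_type] at h
    simp only [Sum.elim_inl, Sum.elim_inr, Finset.prod_const, Finset.card_univ, Fintype.card_fin] at h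
    have h1 := (mul_eq_left₀ (Matrix.isUnits_det_units Q₀).ne_zero).mp h.symm
    rw [neg_pow, mul_left_comm, ← pow_add, hdim] at h1
    by_contra hodd
    rw [Nat.not_even_iff_odd] at hodd
    rw [hodd.neg_one_pow] at h1
    exact hln (by linear_combination -h1)
  obtain ⟨b', hb'⟩ := hdn_even
  obtain ⟨a', ha'⟩ : Even dp := by
    rw [Nat.even_iff]; omega
  let κ := (Fin a' ⊕ Fin a') ⊕ (Fin b' ⊕ Fin b')
  let ε : Fin dp ⊕ Fin dn ≃ κ :=
    Equiv.sumCongr ((finCongr ha').trans finSumFinEquiv.symm) ((finCongr hb').trans finSumFinEquiv.symm)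
  let d : κ → F := Sum.elim (fun _ => l) (fun _ => -l)
  have hb : ∀ j, X ((b₀.reindex ε) j) = d j • (b₀.reindex ε) j := by
    intro j
    rw [Module.Basis.reindex_apply, hb₀]
    rcases j with j | j <;> rfl
  obtain ⟨e, Q, hQ⟩ := exists_basis_GL (b₀.reindex ε) x (Matrix.diagonal d) (hdiag _ _ hb)
  refine exists_sl_similarity hnm hf x Q e
    (Matrix.fromBlocks (Matrix.J (Fin a') F) 0 0 (Matrix.J (Fin b') F)) _
    (blockJ_facts (J_facts _) (J_facts _)) hQ (Units.mk0 (l * l) (mul_ne_zero hl hl)) ?_ ?_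
  · have hdd : Matrix.diagonal d = Matrix.fromBlocks (l • 1) 0 0 ((-l) • 1) := by
      simp [d, Matrix.smul_one_eq_diagonal, Matrix.fromBlocks_diagonal]
    rw [hdd, Matrix.fromBlocks_transpose, Matrix.fromBlocks_multiply, Matrix.fromBlocks_multiply,
      Matrix.fromBlocks_smul]
    simp [smul_smul]
  · intro t _
    have hne : Nonempty κ := by
      rcases Nat.eq_zero_or_pos a' with h | h
      · exact ⟨Sum.inr (Sum.inl ⟨0, by omega⟩)⟩
      · exact ⟨Sum.inl (Sum.inl ⟨0, h⟩)⟩
    obtain ⟨i0⟩ := hne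
    refine ⟨Matrix.diagonal fun i => if i = i0 then t else 1, ?_, ?_⟩
    · rw [Matrix.diagonal_mul_diagonal, Matrix.diagonal_mul_diagonal]
      congr 1; funext i; exact mul_comm _ _
    · rw [Matrix.det_diagonal, Finset.prod_ite_eq' Finset.univ i0 (fun _ => t),
        if_pos (Finset.mem_univ _)]

/-- Characteristic two. -/
theorem invol_sim_two [CharP F 2] {n m : ℕ} (hnm : n = 2 * m)
    {f : (Fin n → F) → (Fin n → F) → F} (hf : Cfsg.Geo.IsSymplecticForm f) {x : GL (Fin n) F}
    {z : F} (hz : (x : Matrix (Fin n) (Fin n) F) * x = z • 1)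
    (hns : ∀ c : F, (x : Matrix (Fin n) (Fin n) F) ≠ c • 1) :
    ∃ P : GL (Fin n) F, (P : Matrix (Fin n) (Fin n) F).det = 1 ∧
      P⁻¹ * x * P ∈ Cfsg.Geo.similarityGroup f := by
  classical
  have hsqrt : ∀ a : F, ∃ b, b * b = a := by
    intro a
    obtain ⟨b, hb⟩ := Finite.injective_iff_surjective.mp (frobenius_inj F 2) a
    exact ⟨b, by simpa [frobenius_def, pow_two] using hb⟩
  haveI : Nonempty (Fin n) := by
    rcases Nat.eq_zero_or_pos n with rfl | h
    · exact absurd (Subsingleton.elim _ _) (hns 0)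
    · exact ⟨⟨0, h⟩⟩
  obtain ⟨l, hl⟩ := hsqrt z
  have hl0 : l ≠ 0 := by
    rintro rfl
    rw [← hl, mul_zero, zero_smul] at hz
    have := congrArg Matrix.det hz
    rw [Matrix.det_mul, Matrix.det_zero] at this
    exact (mul_ne_zero (Matrix.isUnits_det_units x).ne_zero (Matrix.isUnits_det_units x).ne_zero) this
  set N := l⁻¹ • (x : Matrix (Fin n) (Fin n) F) - 1 with hN
  have hN2 : N ^ 2 = 0 := by
    haveI : CharP (Matrix (Fin n) (Fin n) F) 2 := Matrix.charP 2
    rw [hN, sub_pow_char_of_commute 2 (Commute.one_right _), one_pow, pow_two, smul_mul_smul_comm, hz,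
      smul_smul, ← hl, mul_mul_mul_comm, inv_mul_cancel₀ hl0, one_mul, one_smul, sub_self]
  have hxN : (x : Matrix (Fin n) (Fin n) F) = l • (1 + N) := by
    rw [hN, add_sub_cancel, smul_smul, mul_inv_cancel₀ hl0, one_smul]
  obtain ⟨S, _, _, sz, b, hb⟩ := exists_jordan_chains _ (Matrix.toLin' N)
    (⟨2, by rw [← Matrix.toLin'_pow, hN2, map_zero]⟩) rfl
  have hsz : ∀ i, sz i ≤ 1 := by
    intro i
    by_contra h
    have e1 := hb i ⟨0, by omega⟩
    rw [dif_pos (show 0 + 1 < sz i + 1 by omega)] at e1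
    have e2 := hb i ⟨1, by omega⟩
    rw [dif_pos (show 1 + 1 < sz i + 1 by omega)] at e2
    have e3 : (Matrix.toLin' N) ((Matrix.toLin' N) (b ⟨i, ⟨0, by omega⟩⟩)) = 0 := by
      rw [← LinearMap.comp_apply, ← Matrix.toLin'_mul, ← pow_two, hN2, map_zero, LinearMap.zero_apply]
    rw [e1] at e3
    exact b.ne_zero _ (e2 ▸ e3)
  let S1 := {i : S // sz i = 1}
  let S0 := {i : S // sz i = 0}
  have hcard : 2 * Fintype.card S1 + Fintype.card S0 = n := by
    have h1 := Module.finrank_eq_card_basis b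
    rw [Module.finrank_fin_fun, Fintype.card_sigma] at h1
    simp only [Fintype.card_fin, Finset.sum_add_distrib, Finset.sum_const, Finset.card_univ,
      smul_eq_mul, mul_one] at h1
    have h2 : ∑ i, sz i = Fintype.card S1 := by
      rw [Fintype.card_subtype, Finset.card_filter]
      refine Finset.sum_congr rfl fun i _ => ?_
      have := hsz i
      split_ifs with h <;> omega
    have h3 : Fintype.card S = Fintype.card S1 + Fintype.card S0 := by
      rw [Fintype.card_congr (Equiv.sumCompl (fun i : S => sz i = 1)).symm, Fintype.card_sum]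
      congr 1
      refine Fintype.card_congr (Equiv.subtypeEquivRight fun i => ?_)
      have := hsz i
      omega
    omega
  set k := Fintype.card S1 with hk
  obtain ⟨j, hj⟩ : ∃ j, Fintype.card S0 = j + j := ⟨m - k, by omega⟩
  let σ1 : Fin k ≃ S1 := (Fintype.equivFin S1).symm
  let σ0 : Fin j ⊕ Fin j ≃ S0 := finSumFinEquiv.trans ((finCongr hj.symm).trans (Fintype.equivFin S0).symm)
  let ι' : ((Fin k ⊕ Fin k) ⊕ (Fin j ⊕ Fin j)) → Σ i : S, Fin (sz i + 1) := Sum.elim
    (Sum.elim (fun i => ⟨(σ1 i).1, ⟨0, by omega⟩⟩) (fun i => ⟨(σ1 i).1, ⟨1, by rw [(σ1 i).2]; omega⟩⟩))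
    (fun i => ⟨(σ0 i).1, ⟨0, by omega⟩⟩)
  have hinj : Function.Injective ι' := by
    rintro ((a | a) | a) ((c | c) | c) h <;>
      simp only [ι', Sum.elim_inl, Sum.elim_inr, Sigma.mk.inj_iff] at h
    · exact congrArg _ (congrArg _ (σ1.injective (Subtype.ext h.1)))
    · obtain ⟨h1, h2⟩ := h
      obtain rfl := σ1.injective (Subtype.ext h1)
      have := Fin.val_eq_of_eq (eq_of_heq h2)
      simp at this
    · exact absurd ((σ1 a).2.symm.trans ((congrArg sz h.1).trans (σ0 c).2)) one_ne_zero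
    · obtain ⟨h1, h2⟩ := h
      obtain rfl := σ1.injective (Subtype.ext h1)
      have := Fin.val_eq_of_eq (eq_of_heq h2)
      simp at this
    · exact congrArg _ (congrArg _ (σ1.injective (Subtype.ext h.1)))
    · exact absurd ((σ1 a).2.symm.trans ((congrArg sz h.1).trans (σ0 c).2)) one_ne_zero
    · exact absurd ((σ1 c).2.symm.trans ((congrArg sz h.1.symm).trans (σ0 a).2)) one_ne_zero
    · exact absurd ((σ1 c).2.symm.trans ((congrArg sz h.1.symm).trans (σ0 a).2)) one_ne_zero
    · exact congrArg _ (σ0.injective (Subtype.ext h.1))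
  have hbij : Function.Bijective ι' := by
    rw [Fintype.bijective_iff_injective_and_card]
    refine ⟨hinj, ?_⟩
    rw [← Module.finrank_eq_card_basis b, Module.finrank_fin_fun]
    simp
    omega
  let bb := b.reindex (Equiv.ofBijective ι' hbij).symm
  have hbb : ∀ i, bb i = b (ι' i) := fun i => by simp [bb]
  let D : Matrix ((Fin k ⊕ Fin k) ⊕ (Fin j ⊕ Fin j)) ((Fin k ⊕ Fin k) ⊕ (Fin j ⊕ Fin j)) F := l • Matrix.fromBlocks (Matrix.fromBlocks 1 0 1 1) 0 0 1
  have hrel : ∀ w, (x : Matrix (Fin n) (Fin n) F) *ᵥ w = l • (w + Matrix.toLin' N w) := by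
    intro w
    rw [hxN, Matrix.smul_mulVec, Matrix.add_mulVec, Matrix.one_mulVec, Matrix.toLin'_apply]
  obtain ⟨e, Q, hQ⟩ := exists_basis_GL bb x D (by
    rintro ((a | a) | a)
    · rw [hrel, hbb]
      simp only [ι', Sum.elim_inl]
      rw [hb, dif_pos (show 0 + 1 < sz (σ1 a).1 + 1 by have := (σ1 a).2; omega)]
      simp [D, Fintype.sum_sum_type, Matrix.one_apply, Finset.sum_ite_eq', ite_smul, hbb, ι']
    · rw [hrel, hbb]
      simp only [ι', Sum.elim_inl, Sum.elim_inr]
      rw [hb, dif_neg (show ¬ 1 + 1 < sz (σ1 a).1 + 1 by have := (σ1 a).2; omega)]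
      simp [D, Fintype.sum_sum_type, Matrix.one_apply, Finset.sum_ite_eq', ite_smul, hbb, ι']
    · rw [hrel, hbb]
      simp only [ι', Sum.elim_inr]
      rw [hb, dif_neg (show ¬ 0 + 1 < sz (σ0 a).1 + 1 by have := (σ0 a).2; omega)]
      simp [D, Fintype.sum_sum_type, Matrix.one_apply, Finset.sum_ite_eq', ite_smul, hbb, ι'])
  refine exists_sl_similarity hnm hf x Q e
    (Matrix.fromBlocks (Matrix.J (Fin k) F) 0 0 (Matrix.J (Fin j) F)) _
    (blockJ_facts (J_facts _) (J_facts _)) hQ (Units.mk0 (l * l) (mul_ne_zero hl0 hl0)) ?_ ?_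
  · have hblock : (Matrix.fromBlocks 1 0 1 1 : Matrix (Fin k ⊕ Fin k) (Fin k ⊕ Fin k) F)ᵀ
        * Matrix.J (Fin k) F * Matrix.fromBlocks 1 0 1 1 = Matrix.J (Fin k) F := by
      simp [Matrix.J, Matrix.fromBlocks_transpose, Matrix.fromBlocks_multiply]
    rw [Matrix.transpose_smul, Matrix.fromBlocks_transpose, Matrix.smul_mul, Matrix.fromBlocks_multiply,
      Matrix.smul_mul, Matrix.mul_smul, Matrix.fromBlocks_multiply, smul_smul]
    simp [hblock]
  · intro t _
    have hk0 : 0 < k := by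
      rw [hk, Fintype.card_pos_iff]
      by_contra h
      apply hns l
      have hN0 : Matrix.toLin' N = 0 := b.ext fun ⟨i, c⟩ => by
        rw [hb, LinearMap.zero_apply, dif_neg]
        have hne : sz i ≠ 1 := fun h1 => h ⟨⟨i, h1⟩⟩
        have := hsz i; omega
      have hN' : N = 0 := by
        apply Matrix.toLin'.injective
        rw [hN0, map_zero]
      rw [hxN, hN', add_zero]
    obtain ⟨s, hs⟩ := hsqrt t
    let i0 : Fin k := ⟨0, hk0⟩
    let A : Matrix (Fin k) (Fin k) F := Matrix.diagonal fun i => if i = i0 then s else 1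
    refine ⟨Matrix.fromBlocks (Matrix.fromBlocks A 0 0 A) 0 0 1, ?_, ?_⟩
    · simp [D, Matrix.fromBlocks_multiply]
    · rw [Matrix.det_fromBlocks_zero₁₂, Matrix.det_fromBlocks_zero₁₂, Matrix.det_one, mul_one,
        Matrix.det_diagonal, Finset.prod_ite_eq' Finset.univ i0 (fun _ => s), if_pos (Finset.mem_univ _),
        hs]

omit [Fintype F] in
/-- A reflection-like involution has no conjugate in a symplectic similarity group. -/
theorem invol_sim_not {n : ℕ} (hn : 4 ≤ n) (h2 : (2 : F) ≠ 0) {l : F} (hl : l ≠ 0)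
    {f : (Fin n → F) → (Fin n → F) → F} (hf : Cfsg.Geo.IsSymplecticForm f) (x : GL (Fin n) F)
    (hx : (x : Matrix (Fin n) (Fin n) F) = Matrix.diagonal fun i : Fin n => if (i : ℕ) = 0 then -l else l)
    (P : GL (Fin n) F) : P⁻¹ * x * P ∉ Cfsg.Geo.similarityGroup f := by
  rintro ⟨c, hc⟩
  let d : Fin n → F := fun i => if (i : ℕ) = 0 then -l else l
  let u : Fin n → (Fin n → F) := fun i => ((P⁻¹ : GL (Fin n) F) : Matrix (Fin n) (Fin n) F) *ᵥ Pi.single i 1
  have hu : ∀ i, ((P⁻¹ * x * P : GL (Fin n) F) : Matrix (Fin n) (Fin n) F) *ᵥ u i = d i • u i := by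
    intro i
    have hdiag : (x : Matrix (Fin n) (Fin n) F) *ᵥ Pi.single i 1 = d i • Pi.single i (1 : F) := by
      rw [hx, Matrix.diagonal_mulVec_single, ← Pi.single_smul', smul_eq_mul]
    simp only [u, Matrix.mulVec_mulVec, ← Units.val_mul, mul_assoc, mul_inv_cancel, mul_one]
    rw [Units.val_mul, ← Matrix.mulVec_mulVec, hdiag, Matrix.mulVec_smul]
  have hrel : ∀ i j, f (u i) (u j) ≠ 0 → d i * d j = (c : F) := by
    intro i j hij
    have h := hc (u i) (u j)
    rw [hu, hu, hf.bilinear.smul_left, hf.bilinear.smul_right, ← mul_assoc] at h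
    exact mul_right_cancel₀ hij h
  have hun : ∀ i, u i ≠ 0 := by
    intro i h
    have h1 := congrArg ((P : Matrix (Fin n) (Fin n) F) *ᵥ ·) h
    simp only [u, Matrix.mulVec_mulVec, Units.mul_inv, Matrix.one_mulVec, Matrix.mulVec_zero] at h1
    simpa using congrFun h1 i
  have hrad : ∀ w, (∀ j, f w (u j) = 0) → w = 0 := by
    intro w h
    by_contra h0
    obtain ⟨-, y, hy⟩ := hf.nondegenerate w h0
    apply hy
    set v := (w ᵥ* Cfsg.Geo.gramMatrix f) ᵥ* ((P⁻¹ : GL (Fin n) F) : Matrix (Fin n) (Fin n) F) with hv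
    have hv0 : v = 0 := by
      funext j
      have h1 := h j
      rw [bilin_eq_gram hf.bilinear, Matrix.dotProduct_mulVec] at h1
      simp only [u] at h1
      rw [Matrix.dotProduct_mulVec, ← hv] at h1
      simpa using h1
    rw [bilin_eq_gram hf.bilinear, Matrix.dotProduct_mulVec,
      show y = ((P⁻¹ : GL (Fin n) F) : Matrix (Fin n) (Fin n) F) *ᵥ ((P : Matrix (Fin n) (Fin n) F) *ᵥ y) by
        rw [Matrix.mulVec_mulVec, Units.inv_mul, Matrix.one_mulVec],
      Matrix.dotProduct_mulVec, ← hv, hv0, zero_dotProduct]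
  have hex : ∀ i, ∃ j, j ≠ i ∧ f (u i) (u j) ≠ 0 := by
    intro i
    by_contra h
    push Not at h
    refine hun i (hrad _ fun j => ?_)
    rcases eq_or_ne j i with rfl | hne
    · exact hf.alternating _
    · exact h j hne
  let i0 : Fin n := ⟨0, by omega⟩
  let i1 : Fin n := ⟨1, by omega⟩
  let i2 : Fin n := ⟨2, by omega⟩
  have hd : ∀ i, i ≠ i0 → d i = l := fun i hi => by
    simp only [d]; rw [if_neg]; exact fun h => hi (Fin.ext h)
  have hd0 : d i0 = -l := by simp [d, i0]
  obtain ⟨j, hj, hj'⟩ := hex i0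
  have hc' : (c : F) = -(l * l) := by rw [← hrel _ _ hj', hd0, hd j hj]; ring
  have hne : ∀ i j, i ≠ i0 → j ≠ i0 → f (u i) (u j) = 0 := by
    intro i j hi hj
    by_contra h
    have h1 := hrel i j h
    rw [hd i hi, hd j hj, hc'] at h1
    have : (2 : F) * (l * l) = 0 := by linear_combination h1
    simp [h2, hl] at this
  have h0ne : ∀ i, i ≠ i0 → f (u i) (u i0) ≠ 0 := by
    intro i hi
    obtain ⟨j, hji, hj'⟩ := hex i
    rcases eq_or_ne j i0 with rfl | h
    · exact hj'
    · exact absurd (hne i j hi h) hj'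
  have h1 : i1 ≠ i0 := by simp [i1, i0]
  have h2' : i2 ≠ i0 := by simp [i2, i0]
  set w := f (u i2) (u i0) • u i1 + (-(f (u i1) (u i0))) • u i2 with hw
  have hw0 : w = 0 := by
    refine hrad w fun j => ?_
    rw [hw, hf.bilinear.add_left, hf.bilinear.smul_left, hf.bilinear.smul_left]
    rcases eq_or_ne j i0 with rfl | hj
    · ring
    · rw [hne i1 j h1 hj, hne i2 j h2' hj]; ring
  have hPw := congrArg ((P : Matrix (Fin n) (Fin n) F) *ᵥ ·) hw0
  simp only [hw, u, Matrix.mulVec_add, Matrix.mulVec_smul, Matrix.mulVec_mulVec, Units.mul_inv,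
    Matrix.one_mulVec, Matrix.mulVec_zero] at hPw
  have := congrFun hPw i1
  simp [Pi.single_apply, show i1 ≠ i2 by simp [i1, i2]] at this
  exact h0ne i2 h2' (by simpa [u] using this)

end finite

end H47
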