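import Mathlib
import Cfsg.Prelude.Def_GeometricClasses
import Cfsg.Agent.H47.Basic
import Cfsg.Agent.H47.SympInvol
import Cfsg.Agent.H47.OrthCongr
import Cfsg.Agent.H42.PGLPrimeOrder
import Cfsg.Agent.H42.PowResidue

/-!
# Elements of `SL n` with a conjugate in an orthogonal similarity group
-/

set_option autoImplicit false
open scoped MatrixGroups Matrix
open Matrix

namespace H47

variable {F : Type*} [Field F] [Fintype F]

/-- A form for which `x` is a similitude, in the class of `q`, gives a conjugate in the similarity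
group of `q`. -/
theorem exists_sl_quadSim (hodd : Odd (Fintype.card F)) {n : ℕ} {q : QuadraticForm F (Fin n → F)}
    (hq : (QuadraticMap.polarBilin q).Nondegenerate) {κ : Type} [Fintype κ] [DecidableEq κ]
    (x Q : GL (Fin n) F) (e : Fin n ≃ κ) (G D : Matrix κ κ F) (hG : Gᵀ = G) (hG0 : G.det ≠ 0)
    (hcls : IsSquare (G.det *
      (Matrix.of fun i j => QuadraticMap.polar (⇑q) (Pi.single i 1) (Pi.single j 1)).det))
    (hx : (x : Matrix (Fin n) (Fin n) F) * (Q : Matrix (Fin n) (Fin n) F)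
      = (Q : Matrix (Fin n) (Fin n) F) * D.submatrix e e)
    (c : Fˣ) (hD : Dᵀ * G * D = (c : F) • G)
    (hdet : ∀ t : F, t ≠ 0 → ∃ C : Matrix κ κ F, C * D = D * C ∧ C.det = t) :
    ∃ P : GL (Fin n) F, P ∈ Cfsg.Geo.specialLinear (Fin n) F ∧
      P⁻¹ * x * P ∈ Cfsg.Geo.quadSimilarityGroup ⇑q := by
  obtain ⟨g, hg⟩ := exists_equiv_gram hodd e q hq hG hG0 hcls
  let Φ : (Fin n → F) ≃ₗ[F] (Fin n → F) := g.symm.trans (LinearEquiv.funCongrLeft F F e)
  have hΦ : ∀ v, q v = (2 : F)⁻¹ * ((Φ v ∘ e.symm) ⬝ᵥ (G *ᵥ (Φ v ∘ e.symm))) := fun v => by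
    have h1 : Φ v ∘ e.symm = g.symm v := by funext i; simp [Φ, LinearEquiv.funCongrLeft_apply]
    rw [h1, ← hg, LinearEquiv.apply_symm_apply]
  let T : GL (Fin n) F :=
    { val := LinearMap.toMatrix' Φ.toLinearMap
      inv := LinearMap.toMatrix' Φ.symm.toLinearMap
      val_inv := by rw [← LinearMap.toMatrix'_comp, ← LinearMap.toMatrix'_id]; congr 1; ext v; simp
      inv_val := by rw [← LinearMap.toMatrix'_comp, ← LinearMap.toMatrix'_id]; congr 1; ext v; simp }
  have hTv : ∀ w, (T : Matrix (Fin n) (Fin n) F) *ᵥ w = Φ w := fun w =>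
    LinearMap.toMatrix'_mulVec Φ.toLinearMap w
  have hQd : (Q : Matrix (Fin n) (Fin n) F).det ≠ 0 := (Matrix.isUnits_det_units Q).ne_zero
  have hTd : (T : Matrix (Fin n) (Fin n) F).det ≠ 0 := (Matrix.isUnits_det_units T).ne_zero
  obtain ⟨C, hCD, hCdet⟩ := hdet ((Q : Matrix (Fin n) (Fin n) F).det * (T : Matrix (Fin n) (Fin n) F).det)⁻¹
    (inv_ne_zero (mul_ne_zero hQd hTd))
  have hC' : (C.submatrix e e).det ≠ 0 := by
    rw [Matrix.det_submatrix_equiv_self, hCdet]; exact inv_ne_zero (mul_ne_zero hQd hTd)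
  let Cg : GL (Fin n) F := Matrix.GeneralLinearGroup.mkOfDetNeZero _ hC'
  refine ⟨Q * Cg * T, ?_, c, fun u => ?_⟩
  · rw [mem_sl_iff, Units.val_mul, Units.val_mul, Matrix.det_mul, Matrix.det_mul]
    show _ * (C.submatrix e e).det * _ = 1
    rw [Matrix.det_submatrix_equiv_self, hCdet]
    field_simp
  have key : (T : Matrix (Fin n) (Fin n) F) *ᵥ (((Q * Cg * T)⁻¹ * x * (Q * Cg * T) : GL (Fin n) F) : Matrix (Fin n) (Fin n) F) *ᵥ u
      = D.submatrix e e *ᵥ ((T : Matrix (Fin n) (Fin n) F) *ᵥ u) := by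
    rw [Matrix.mulVec_mulVec, Matrix.mulVec_mulVec, ← Units.val_mul]
    congr 1
    have h1 : T * ((Q * Cg * T)⁻¹ * x * (Q * Cg * T)) = Cg⁻¹ * Q⁻¹ * (x * Q) * Cg * T := by group
    have h2 : (Cg : Matrix (Fin n) (Fin n) F) * D.submatrix e e = D.submatrix e e * (Cg : Matrix (Fin n) (Fin n) F) := by
      show C.submatrix e e * _ = _ * C.submatrix e e
      rw [Matrix.submatrix_mul_equiv, Matrix.submatrix_mul_equiv, hCD]
    rw [h1, Units.val_mul, Units.val_mul, Units.val_mul, Units.val_mul, Units.val_mul, hx,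
      ← Matrix.mul_assoc (_ * _) (Q : Matrix (Fin n) (Fin n) F), Matrix.mul_assoc _ _ (Q : Matrix (Fin n) (Fin n) F),
      Units.inv_mul, Matrix.mul_one, Matrix.mul_assoc _ (D.submatrix e e), ← h2, ← Matrix.mul_assoc,
      Units.inv_mul, Matrix.one_mul]
  have hsub : ∀ w : Fin n → F, (D.submatrix e e *ᵥ w) ∘ e.symm = D *ᵥ (w ∘ e.symm) := by
    intro w
    rw [Matrix.submatrix_mulVec_equiv, Function.comp_assoc, Equiv.self_comp_symm, Function.comp_id]
  rw [hΦ, hΦ u, ← hTv, ← hTv, key, hsub, Matrix.mulVec_mulVec, ← Matrix.vecMul_transpose,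
    ← Matrix.dotProduct_mulVec, Matrix.mulVec_mulVec, ← Matrix.mul_assoc, hD, Matrix.smul_mulVec,
    dotProduct_smul, smul_eq_mul]
  ring

/-- In odd dimension the class of the form does not matter. -/
theorem exists_sl_quadSim_odd (hodd : Odd (Fintype.card F)) {n : ℕ} (hn : Odd n)
    {q : QuadraticForm F (Fin n → F)}
    (hq : (QuadraticMap.polarBilin q).Nondegenerate) {κ : Type} [Fintype κ] [DecidableEq κ]
    (x Q : GL (Fin n) F) (e : Fin n ≃ κ) (G D : Matrix κ κ F) (hG : Gᵀ = G) (hG0 : G.det ≠ 0)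
    (hx : (x : Matrix (Fin n) (Fin n) F) * (Q : Matrix (Fin n) (Fin n) F)
      = (Q : Matrix (Fin n) (Fin n) F) * D.submatrix e e)
    (c : Fˣ) (hD : Dᵀ * G * D = (c : F) • G)
    (hdet : ∀ t : F, t ≠ 0 → ∃ C : Matrix κ κ F, C * D = D * C ∧ C.det = t) :
    ∃ P : GL (Fin n) F, P ∈ Cfsg.Geo.specialLinear (Fin n) F ∧
      P⁻¹ * x * P ∈ Cfsg.Geo.quadSimilarityGroup ⇑q := by
  set δ := (Matrix.of fun i j => QuadraticMap.polar (⇑q) (Pi.single i 1) (Pi.single j 1)).det with hδdef
  have hδ : δ ≠ 0 := by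
    have h := H44.gram_det_ne_zero q (H44.polarSep_of_nondegenerate hq) (Pi.basisFun F (Fin n))
    simpa only [Pi.basisFun_apply] using h
  have hcard : Fintype.card κ = n := by rw [← Fintype.card_congr e, Fintype.card_fin]
  refine exists_sl_quadSim hodd hq x Q e ((G.det * δ) • G) D (by rw [Matrix.transpose_smul, hG]) ?_ ?_ hx c
    ?_ hdet
  · rw [Matrix.det_smul]
    exact mul_ne_zero (pow_ne_zero _ (mul_ne_zero hG0 hδ)) hG0
  · obtain ⟨k, hk⟩ := hn
    refine ⟨(G.det * δ) ^ (k + 1), ?_⟩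
    rw [Matrix.det_smul, hcard, ← hδdef, hk]
    ring
  · rw [Matrix.mul_smul, Matrix.smul_mul, hD, smul_comm]

/-- `x² = l²`. -/
theorem quadSim_split (hodd : Odd (Fintype.card F)) {n : ℕ} (hn : 0 < n)
    {q : QuadraticForm F (Fin n → F)} (hq : (QuadraticMap.polarBilin q).Nondegenerate)
    {x : GL (Fin n) F} {l : F} (hl : l ≠ 0) (hz : (x : Matrix (Fin n) (Fin n) F) * x = (l * l) • 1) :
    ∃ P : GL (Fin n) F, P ∈ Cfsg.Geo.specialLinear (Fin n) F ∧
      P⁻¹ * x * P ∈ Cfsg.Geo.quadSimilarityGroup ⇑q := by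
  classical
  have h2 : (2 : F) ≠ 0 := H43.two_ne_zero_of_odd_card hodd
  set X := Matrix.toLin' (x : Matrix (Fin n) (Fin n) F) with hX
  have hXX : ∀ w, X (X w) = (l * l) • w := by
    intro w
    rw [hX, Matrix.toLin'_apply, Matrix.toLin'_apply, Matrix.mulVec_mulVec, hz, Matrix.smul_mulVec,
      Matrix.one_mulVec]
  let Vp := LinearMap.ker (X - l • (LinearMap.id : (Fin n → F) →ₗ[F] (Fin n → F)))
  let Vn := LinearMap.ker (X + l • (LinearMap.id : (Fin n → F) →ₗ[F] (Fin n → F)))
  have hp : ∀ w, w ∈ Vp ↔ X w = l • w := fun w => by simp [Vp, sub_eq_zero]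
  have hn' : ∀ w, w ∈ Vn ↔ X w = -(l • w) := fun w => by simp [Vn, add_eq_zero_iff_eq_neg]
  have hcompl : IsCompl Vp Vn := by
    refine ⟨Submodule.disjoint_def.mpr fun w h1 h2' => ?_, ?_⟩
    · rw [hp] at h1; rw [hn'] at h2'
      have : ((2 : F) * l) • w = 0 := by
        rw [← smul_smul, two_smul]
        nth_rewrite 2 [← h1]
        rw [h2', add_neg_cancel]
      exact (smul_eq_zero.mp this).resolve_left (mul_ne_zero h2 hl)
    · rw [codisjoint_iff, eq_top_iff]
      intro w _
      refine Submodule.mem_sup.mpr ⟨(2 : F)⁻¹ • (w + l⁻¹ • X w), ?_, (2 : F)⁻¹ • (w - l⁻¹ • X w), ?_, ?_⟩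
      · rw [hp]
        simp only [map_smul, map_add, hXX, smul_smul, smul_add]
        match_scalars <;> field_simp
      · rw [hn']
        simp only [map_smul, map_sub, hXX, smul_smul, smul_sub]
        match_scalars <;> field_simp
      · rw [← smul_add, add_add_sub_cancel, ← two_smul F w, smul_smul, inv_mul_cancel₀ h2, one_smul]
  set dp := Module.finrank F Vp with hdp
  set dn := Module.finrank F Vn with hdn
  obtain ⟨b₀, hb₀def⟩ : ∃ b : Module.Basis (Fin dp ⊕ Fin dn) F (Fin n → F),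
      b = ((Module.finBasis F Vp).prod (Module.finBasis F Vn)).map
        (Submodule.prodEquivOfIsCompl Vp Vn hcompl) := ⟨_, rfl⟩
  let D₀ : Matrix (Fin dp ⊕ Fin dn) (Fin dp ⊕ Fin dn) F := Matrix.diagonal (Sum.elim (fun _ => l) (fun _ => -l))
  have hb₀ : ∀ j, X (b₀ j) = Sum.elim (fun _ => l) (fun _ => -l) j • b₀ j := by
    rintro (j | j)
    · have : b₀ (Sum.inl j) ∈ Vp := by simp [hb₀def]
      simpa using (hp _).mp this
    · have : b₀ (Sum.inr j) ∈ Vn := by simp [hb₀def]
      simpa using (hn' _).mp this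
  have hdiag : ∀ {κ : Type} [Fintype κ] [DecidableEq κ] (b : Module.Basis κ F (Fin n → F)) (d : κ → F),
      (∀ j, X (b j) = d j • b j) → ∀ j, (x : Matrix (Fin n) (Fin n) F) *ᵥ b j
        = ∑ i, (Matrix.diagonal d) i j • b i := by
    intro κ _ _ b d h j
    rw [← Matrix.toLin'_apply, ← hX, h j, Finset.sum_eq_single j]
    · simp
    · intro i _ hi; simp [hi]
    · simp
  obtain ⟨e, Q, hQ⟩ := exists_basis_GL b₀ x D₀ (hdiag b₀ _ hb₀)
  set δ := (Matrix.of fun i j => QuadraticMap.polar (⇑q) (Pi.single i 1) (Pi.single j 1)).det with hδdef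
  have hδ : δ ≠ 0 := by
    have h := H44.gram_det_ne_zero q (H44.polarSep_of_nondegenerate hq) (Pi.basisFun F (Fin n))
    simpa only [Pi.basisFun_apply] using h
  let i0 : Fin dp ⊕ Fin dn := e ⟨0, hn⟩
  refine exists_sl_quadSim hodd hq x Q e (Matrix.diagonal fun i => if i = i0 then δ else 1) D₀
    (Matrix.diagonal_transpose _) ?_ ?_ hQ (Units.mk0 (l * l) (mul_ne_zero hl hl)) ?_ ?_
  · rw [Matrix.det_diagonal, Finset.prod_ite_eq' Finset.univ i0 (fun _ => δ), if_pos (Finset.mem_univ _)]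
    exact hδ
  · rw [Matrix.det_diagonal, Finset.prod_ite_eq' Finset.univ i0 (fun _ => δ), if_pos (Finset.mem_univ _),
      ← hδdef]
    exact ⟨δ, rfl⟩
  · simp only [D₀, Matrix.diagonal_transpose, Matrix.diagonal_mul_diagonal, ← Matrix.diagonal_smul]
    congr 1
    funext i
    rcases i with i | i <;> simp <;> split_ifs <;> ring
  · intro t _
    refine ⟨Matrix.diagonal fun i => if i = i0 then t else 1, ?_, ?_⟩
    · rw [Matrix.diagonal_mul_diagonal, Matrix.diagonal_mul_diagonal]
      congr 1; funext i; exact mul_comm _ _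
    · rw [Matrix.det_diagonal, Finset.prod_ite_eq' Finset.univ i0 (fun _ => t),
        if_pos (Finset.mem_univ _)]

/-- `x²` a non-square scalar. -/
theorem quadSim_nonsquare (hodd : Odd (Fintype.card F)) {n m : ℕ} (hnm : n = 2 * m) (hm : 0 < m)
    {q : QuadraticForm F (Fin n → F)} (hq : (QuadraticMap.polarBilin q).Nondegenerate)
    {x : GL (Fin n) F} {z : F} (hz : (x : Matrix (Fin n) (Fin n) F) * x = z • 1) (hns : ¬ IsSquare z) :
    ∃ P : GL (Fin n) F, P ∈ Cfsg.Geo.specialLinear (Fin n) F ∧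
      P⁻¹ * x * P ∈ Cfsg.Geo.quadSimilarityGroup ⇑q := by
  classical
  have h2 : (2 : F) ≠ 0 := H43.two_ne_zero_of_odd_card hodd
  set X := Matrix.toLin' (x : Matrix (Fin n) (Fin n) F) with hX
  have hXX : ∀ w, X (X w) = z • w := by
    intro w
    rw [hX, Matrix.toLin'_apply, Matrix.toLin'_apply, Matrix.mulVec_mulVec, hz, Matrix.smul_mulVec,
      Matrix.one_mulVec]
  -- pairs `v, X v`
  have hfam : ∀ k ≤ m, ∃ v : Fin k → (Fin n → F), LinearIndependent F (Sum.elim v (X ∘ v)) := by
    intro k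
    induction k with
    | zero => intro _; exact ⟨Fin.elim0, linearIndependent_empty_type⟩
    | succ k ih =>
      intro hk
      obtain ⟨v, hv⟩ := ih (by omega)
      set W := Submodule.span F (Set.range (Sum.elim v (X ∘ v))) with hW
      have hWX : ∀ w ∈ W, X w ∈ W := by
        intro w hw
        have : X w ∈ W.map X := Submodule.mem_map_of_mem hw
        refine (Submodule.map_span_le X _ W).mpr ?_ this
        rintro _ ⟨i | i, rfl⟩
        · exact Submodule.subset_span ⟨Sum.inr i, rfl⟩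
        · simp only [Sum.elim_inr, Function.comp_apply, hXX]
          exact W.smul_mem _ (Submodule.subset_span ⟨Sum.inl i, rfl⟩)
      have hWne : W ≠ ⊤ := by
        intro h
        have h1 := finrank_span_eq_card hv
        rw [← hW, h, finrank_top, Module.finrank_fin_fun, Fintype.card_sum, Fintype.card_fin] at h1
        omega
      obtain ⟨u, hu⟩ : ∃ u, u ∉ W := by
        by_contra h
        push Not at h
        exact hWne (eq_top_iff.mpr fun w _ => h w)
      refine ⟨Fin.cons u v, ?_⟩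
      rw [Fintype.linearIndependent_iff]
      intro a ha
      simp only [Fintype.sum_sum_type, Sum.elim_inl, Sum.elim_inr, Function.comp_apply, Fin.sum_univ_succ,
        Fin.cons_zero, Fin.cons_succ] at ha
      set α := a (Sum.inl 0) with hα
      set β := a (Sum.inr 0) with hβ
      have hmem : α • u + β • X u ∈ W := by
        have h1 : α • u + β • X u
            = -((∑ i : Fin k, a (Sum.inl i.succ) • v i) + ∑ i : Fin k, a (Sum.inr i.succ) • X (v i)) := by
          rw [eq_neg_iff_add_eq_zero, ← ha]; abel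
        rw [h1]
        refine W.neg_mem (W.add_mem ?_ ?_)
        · exact Submodule.sum_mem _ fun i _ => W.smul_mem _ (Submodule.subset_span ⟨Sum.inl i, rfl⟩)
        · exact Submodule.sum_mem _ fun i _ => W.smul_mem _ (Submodule.subset_span ⟨Sum.inr i, rfl⟩)
      have hzero : α = 0 ∧ β = 0 := by
        have hmem2 := hWX _ hmem
        rw [map_add, map_smul, map_smul, hXX, smul_smul] at hmem2
        have h3 : (α * α - β * β * z) • u ∈ W := by
          have := W.sub_mem (W.smul_mem α hmem) (W.smul_mem β hmem2)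
          convert this using 1
          match_scalars <;> ring
        have h4 : α * α - β * β * z = 0 := by
          by_contra h
          refine hu ?_
          have := W.smul_mem (α * α - β * β * z)⁻¹ h3
          rwa [smul_smul, inv_mul_cancel₀ h, one_smul] at this
        by_cases hb : β = 0
        · rw [hb] at h4
          exact ⟨mul_self_eq_zero.mp (by linear_combination h4), hb⟩
        · exact absurd ⟨α / β, by field_simp; linear_combination -h4⟩ hns
      rw [hzero.1, hzero.2] at ha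
      simp only [zero_smul, zero_add] at ha
      have hrest := Fintype.linearIndependent_iff.mp hv
        (Sum.elim (fun i => a (Sum.inl i.succ)) (fun i => a (Sum.inr i.succ))) (by
          simpa [Fintype.sum_sum_type] using ha)
      rintro (i | i)
      · refine Fin.cases hzero.1 (fun i => hrest (Sum.inl i)) i
      · refine Fin.cases hzero.2 (fun i => hrest (Sum.inr i)) i
  obtain ⟨v, hv⟩ := hfam m le_rfl
  haveI : Nonempty (Fin m ⊕ Fin m) := ⟨Sum.inl ⟨0, hm⟩⟩
  let b := basisOfLinearIndependentOfCardEqFinrank hv (by simp [hnm]; omega)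
  let ε : Fin m ⊕ Fin m ≃ Fin 2 × Fin m :=
    { toFun := Sum.elim (fun i => (0, i)) (fun i => (1, i))
      invFun := fun a => if a.1 = 0 then Sum.inl a.2 else Sum.inr a.2
      left_inv := fun a => by rcases a with a | a <;> simp
      right_inv := fun a => by obtain ⟨i, j⟩ := a; fin_cases i <;> simp }
  let B : Matrix (Fin 2) (Fin 2) F := !![0, z; 1, 0]
  obtain ⟨e, Q, hQ⟩ := exists_basis_GL (b.reindex ε) x (Matrix.blockDiagonal fun _ : Fin m => B) (by
    rintro ⟨a, j⟩
    have hXXv := hXX (v j)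
    simp only [hX, Matrix.toLin'_apply] at hXXv
    fin_cases a
    · simp [Fintype.sum_prod_type, Fin.sum_univ_two, Matrix.blockDiagonal_apply, B, b, ε, hX,
        Finset.sum_ite_eq', ite_smul]
    · simp [Fintype.sum_prod_type, Fin.sum_univ_two, Matrix.blockDiagonal_apply, B, b, ε, hX,
        Finset.sum_ite_eq', ite_smul, hXXv])
  have hz0 : z ≠ 0 := fun h => hns (h ▸ IsSquare.zero)
  set δ := (Matrix.of fun i j => QuadraticMap.polar (⇑q) (Pi.single i 1) (Pi.single j 1)).det with hδdef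
  have hδ : δ ≠ 0 := by
    have h := H44.gram_det_ne_zero q (H44.polarSep_of_nondegenerate hq) (Pi.basisFun F (Fin n))
    simpa only [Pi.basisFun_apply] using h
  -- every element is `z α² - β²`
  have hrep : ∀ t : F, ∃ α β : F, z * (α * α) - β * β = t := by
    intro t
    have hd1 : (Polynomial.C z * Polynomial.X ^ 2 : Polynomial F).degree = 2 :=
      Polynomial.degree_C_mul_X_pow 2 hz0
    have hd2 : (Polynomial.C (-1 : F) * Polynomial.X ^ 2 - Polynomial.C t : Polynomial F).degree = 2 := by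
      rw [Polynomial.degree_sub_eq_left_of_degree_lt] <;>
        rw [Polynomial.degree_C_mul_X_pow 2 (neg_ne_zero.mpr one_ne_zero)]
      · rfl
      · exact lt_of_le_of_lt Polynomial.degree_C_le (by norm_num)
    obtain ⟨α, β, hab⟩ := FiniteField.exists_root_sum_quadratic hd1 hd2 (Nat.odd_iff.1 hodd)
    simp only [Polynomial.eval_sub, Polynomial.eval_pow, Polynomial.eval_X, Polynomial.eval_C,
      Polynomial.eval_mul] at hab
    exact ⟨α, β, by linear_combination hab⟩
  obtain ⟨α, β, hαβ⟩ := hrep (δ * (-1) ^ (m - 1))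
  let i0 : Fin m := ⟨0, hm⟩
  let Gb : Fin m → Matrix (Fin 2) (Fin 2) F := fun i =>
    if i = i0 then !![α, β; β, z * α] else !![0, 1; 1, 0]
  have hGdet : (Matrix.blockDiagonal Gb).det = δ := by
    rw [Matrix.det_blockDiagonal]
    rw [← Finset.mul_prod_erase _ _ (Finset.mem_univ i0),
      Finset.prod_congr rfl (fun j hj => show (Gb j).det = -1 by
        simp [Gb, (Finset.mem_erase.1 hj).1, Matrix.det_fin_two]),
      Finset.prod_const, Finset.card_erase_of_mem (Finset.mem_univ i0), Finset.card_univ, Fintype.card_fin]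
    simp only [Gb, if_pos, Matrix.det_fin_two_of]
    have hu : ((-1 : F) ^ (m - 1)) * ((-1 : F) ^ (m - 1)) = 1 := by
      rw [← pow_add, ← two_mul, pow_mul, neg_one_sq, one_pow]
    linear_combination (-1 : F) ^ (m - 1) * hαβ + δ * hu
  refine exists_sl_quadSim hodd hq x Q e (Matrix.blockDiagonal Gb) (Matrix.blockDiagonal fun _ => B)
    ?_ (hGdet ▸ hδ) ⟨δ, by rw [hGdet, ← hδdef]⟩ hQ (Units.mk0 z hz0) ?_ ?_
  · rw [Matrix.blockDiagonal_transpose]
    congr 1
    funext i
    simp only [Gb]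
    split_ifs <;> (ext a c; fin_cases a <;> fin_cases c <;> simp)
  · rw [Matrix.blockDiagonal_transpose, ← Matrix.blockDiagonal_mul, ← Matrix.blockDiagonal_mul,
      ← Matrix.blockDiagonal_smul]
    congr 1
    funext i
    simp only [Gb, Pi.smul_apply, Units.val_mk0]
    split_ifs <;>
      (ext a c; fin_cases a <;> fin_cases c <;>
        simp [B, Matrix.mul_apply, Fin.sum_univ_two] <;> ring)
  · intro t _
    obtain ⟨α', β', hab⟩ := hrep (-t)
    let Cb : Fin m → Matrix (Fin 2) (Fin 2) F := fun i =>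
      if i = i0 then !![β', z * α'; α', β'] else 1
    refine ⟨Matrix.blockDiagonal Cb, ?_, ?_⟩
    · rw [← Matrix.blockDiagonal_mul, ← Matrix.blockDiagonal_mul]
      congr 1
      funext i
      simp only [Cb]
      split_ifs
      · ext a c; fin_cases a <;> fin_cases c <;> simp [B, Matrix.mul_apply, Fin.sum_univ_two] <;> ring
      · simp
    · rw [Matrix.det_blockDiagonal, Finset.prod_eq_single i0 (fun j _ hj => by simp [Cb, hj]) (by simp)]
      simp [Cb, Matrix.det_fin_two]
      linear_combination -hab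

/-- Every tuple of five residues modulo `5` with sum `0` is symmetric. -/
lemma symm_five : ∀ a b c : ZMod 5, ∃ π ∈
    ([c[1, 2] * c[3, 4], c[1, 3] * c[2, 4], c[1, 4] * c[2, 3],
      c[0, 2] * c[3, 4], c[0, 3] * c[2, 4], c[0, 4] * c[2, 3],
      c[0, 1] * c[3, 4], c[0, 3] * c[1, 4], c[0, 4] * c[1, 3],
      c[0, 1] * c[2, 4], c[0, 2] * c[1, 4], c[0, 4] * c[1, 2],
      c[0, 1] * c[2, 3], c[0, 2] * c[1, 3], c[0, 3] * c[1, 2]] : List (Equiv.Perm (Fin 5))),
    π * π = 1 ∧ ∀ i, (![0, a, b, c, -(a + b + c)] : Fin 5 → ZMod 5) (π i) + ![0, a, b, c, -(a + b + c)] i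
      = ![0, a, b, c, -(a + b + c)] (π 0) + ![0, a, b, c, -(a + b + c)] 0 := by
  decide

/-- Every tuple of three residues modulo `3` with sum `0` is symmetric. -/
lemma symm_three : ∀ a : ZMod 3, ∃ π ∈
    ([c[0, 1], c[0, 2], c[1, 2]] : List (Equiv.Perm (Fin 3))),
    π * π = 1 ∧ ∀ i, (![0, a, -a] : Fin 3 → ZMod 3) (π i) + ![0, a, -a] i
      = ![0, a, -a] (π 0) + ![0, a, -a] 0 := by
  decide

/-- A symmetric tuple for `n = r ∈ {3, 5}`. -/
lemma symm_exists {r : ℕ} (hr : r = 3 ∨ r = 5) (k : Fin r → ZMod r) (hk : ∑ i, k i = 0) :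
    ∃ (π : Equiv.Perm (Fin r)) (s : ZMod r), π * π = 1 ∧ ∀ i, k (π i) + k i = s := by
  rcases hr with rfl | rfl
  · rw [Fin.sum_univ_three] at hk
    obtain ⟨π, -, hπ, h⟩ := symm_three (k 1 - k 0)
    have hs : ∀ j, k j = ![0, k 1 - k 0, -(k 1 - k 0)] j + k 0 := by
      intro j
      fin_cases j
      · simp
      · simp
      · have h3 : (3 : ZMod 3) = 0 := by decide
        simp
        linear_combination hk - k 0 * h3
    exact ⟨π, _, hπ, fun i => by rw [hs (π i), hs i, add_add_add_comm, h i]⟩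
  · rw [Fin.sum_univ_five] at hk
    obtain ⟨π, -, hπ, h⟩ := symm_five (k 1 - k 0) (k 2 - k 0) (k 3 - k 0)
    have hs : ∀ j, k j = ![0, k 1 - k 0, k 2 - k 0, k 3 - k 0,
        -((k 1 - k 0) + (k 2 - k 0) + (k 3 - k 0))] j + k 0 := by
      intro j
      fin_cases j
      · simp
      · simp
      · simp
      · simp
      · have h5 : (5 : ZMod 5) = 0 := by decide
        simp
        linear_combination hk - k 0 * h5
    exact ⟨π, _, hπ, fun i => by rw [hs (π i), hs i, add_add_add_comm, h i]⟩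

/-- `n = r ∈ {3, 5}` and `(q - 1)_r = r`. -/
theorem quadSim_small (hodd : Odd (Fintype.card F)) {r : ℕ} [Fact r.Prime] (hr : r = 3 ∨ r = 5)
    (hv : padicValNat r (Fintype.card F - 1) = 1)
    {q : QuadraticForm F (Fin r → F)} (hq : (QuadraticMap.polarBilin q).Nondegenerate)
    {x : GL (Fin r) F} (hxd : (x : Matrix (Fin r) (Fin r) F).det = 1) {z : F}
    (hz : (x : Matrix (Fin r) (Fin r) F) ^ r = z • 1) :
    ∃ P : GL (Fin r) F, P ∈ Cfsg.Geo.specialLinear (Fin r) F ∧
      P⁻¹ * x * P ∈ Cfsg.Geo.quadSimilarityGroup ⇑q := by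
  classical
  have hrp : r.Prime := Fact.out
  haveI : NeZero r := ⟨hrp.ne_zero⟩
  have hr2 : r ≠ 2 := by omega
  have hdvd : r ∣ Fintype.card F - 1 := by
    by_contra h
    rw [padicValNat.eq_zero_of_not_dvd h] at hv
    omega
  have hzr : z ^ r = 1 := by
    have h := congrArg Matrix.det hz
    rw [Matrix.det_pow, hxd, one_pow, Matrix.det_smul, Matrix.det_one, mul_one, Fintype.card_fin] at h
    exact h.symm
  have hz1 : z = 1 := by
    by_contra hne
    have hz0 : z ≠ 0 := fun h => by rw [h, zero_pow hrp.ne_zero] at hzr; exact zero_ne_one hzr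
    have ho : orderOf (Units.mk0 z hz0) = r ^ 1 := by
      rw [pow_one]
      exact orderOf_eq_prime (Units.ext (by simpa using hzr)) (fun h => hne (congrArg Units.val h))
    have hnp : ∀ b : F, b ^ r ≠ z := by
      intro b hb
      have hb0 : b ≠ 0 := by rintro rfl; rw [zero_pow hrp.ne_zero] at hb; exact hz0 hb.symm
      have h := (H42.exists_pow_eq_iff_of_orderOf (n := r) hrp.ne_zero (Units.mk0 z hz0) 1 ho).1
        ⟨Units.mk0 b hb0, Units.ext (by simpa using hb)⟩
      rw [H42.natCard_units_field, hv, padicValNat_self] at h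
      omega
    have hirr := X_pow_sub_C_irreducible_of_prime hrp hnp
    have hmon : (Polynomial.X ^ r - Polynomial.C z : Polynomial F).Monic :=
      Polynomial.monic_X_pow_sub_C z hrp.ne_zero
    have hmp : minpoly F (x : Matrix (Fin r) (Fin r) F) = Polynomial.X ^ r - Polynomial.C z :=
      (minpoly.eq_of_irreducible_of_monic hirr (by simp [hz, Algebra.algebraMap_eq_smul_one]) hmon).symm
    have hcp : (x : Matrix (Fin r) (Fin r) F).charpoly = Polynomial.X ^ r - Polynomial.C z := by
      refine Polynomial.eq_of_monic_of_dvd_of_natDegree_le hmon (Matrix.charpoly_monic _) ?_ (le_of_eq ?_)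
      · rw [← hmp]; exact Matrix.minpoly_dvd_charpoly _
      · rw [Matrix.charpoly_natDegree_eq_dim, Fintype.card_fin, Polynomial.natDegree_X_pow_sub_C]
    have h := Matrix.det_eq_sign_charpoly_coeff (x : Matrix (Fin r) (Fin r) F)
    rw [hxd, hcp, Fintype.card_fin, (hrp.odd_of_ne_two hr2).neg_one_pow] at h
    simp [Polynomial.coeff_sub, Polynomial.coeff_X_pow, hrp.ne_zero.symm] at h
    exact hne h.symm
  subst hz1
  have hxr : x ^ r = 1 := Units.ext (by simpa using hz)
  obtain ⟨P, f, hP⟩ := H42.exists_diagonalize hrp hdvd x hxr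
  obtain ⟨w, hw⟩ := exists_prime_orderOf_dvd_card' (G := Fˣ) r (by
    rw [H42.natCard_units_field]; exact hdvd)
  have hwr : w ^ r = 1 := hw ▸ pow_orderOf_eq_one w
  have hk : ∀ i, ∃ k : ZMod r, (f i : Fˣ) = w ^ k.val := by
    intro i
    have hfi : ((f i : Fˣ) : F) ^ r = 1 := by
      have := (f i).2
      rw [mem_rootsOfUnity] at this
      simpa using congrArg Units.val this
    have hprim : IsPrimitiveRoot ((w : F)) r := by
      rw [IsPrimitiveRoot.coe_units_iff, ← hw]; exact IsPrimitiveRoot.orderOf w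
    obtain ⟨j, hj, hjw⟩ := hprim.eq_pow_of_pow_eq_one hfi
    refine ⟨(j : ZMod r), Units.ext ?_⟩
    rw [ZMod.val_natCast, Nat.mod_eq_of_lt hj, Units.val_pow_eq_pow_val, hjw]
  choose k hkf using hk
  have hadd : ∀ a b : ZMod r, w ^ a.val * w ^ b.val = w ^ (a + b).val := fun a b => by
    rw [← pow_add, ZMod.val_add, ← pow_eq_pow_mod _ hwr]
  have hprod : ∀ s : Finset (Fin r), ∏ i ∈ s, w ^ (k i).val = w ^ (∑ i ∈ s, k i).val := by
    intro s
    induction s using Finset.induction_on with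
    | empty => simp
    | insert a s ha ih => rw [Finset.prod_insert ha, Finset.sum_insert ha, ih, hadd]
  have hsum : ∑ i, k i = 0 := by
    have h := congrArg (fun g : GL (Fin r) F => (g : Matrix (Fin r) (Fin r) F).det) hP
    simp only [Units.val_mul, Matrix.det_mul, H42.coe_diagGL, Matrix.det_diagonal, hxd] at h
    rw [mul_right_comm, ← Matrix.det_mul, Units.mul_inv, Matrix.det_one, one_mul] at h
    have h1 : w ^ (∑ i, k i).val = 1 := by
      rw [← hprod]
      refine Units.ext ?_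
      rw [Units.coe_prod, Units.val_one, h]
      exact Finset.prod_congr rfl fun i _ => by rw [hkf]
    have h2 := orderOf_dvd_of_pow_eq_one h1
    rw [hw] at h2
    exact (ZMod.val_eq_zero _).1 (Nat.eq_zero_of_dvd_of_lt h2 (ZMod.val_lt _))
  obtain ⟨π, s, hπ, hs⟩ := symm_exists hr k hsum
  have hππ : ∀ i, π (π i) = i := fun i => by
    rw [← Equiv.Perm.mul_apply, hπ, Equiv.Perm.one_apply]
  let D : Matrix (Fin r) (Fin r) F := Matrix.diagonal fun i => ((f i : Fˣ) : F)
  let G : Matrix (Fin r) (Fin r) F := π.permMatrix F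
  refine exists_sl_quadSim_odd hodd (hrp.odd_of_ne_two hr2) hq x P (Equiv.refl _) G D ?_ ?_ ?_
    (w ^ s.val) ?_ ?_
  · rw [Matrix.transpose_permMatrix]
    congr 1
    exact Equiv.ext fun i => by rw [Equiv.Perm.inv_eq_iff_eq, hππ]
  · rw [Matrix.det_permutation]
    exact ((Equiv.Perm.sign π).isUnit.map (Int.castRingHom F)).ne_zero
  · rw [hP, Units.val_mul, Units.val_mul, mul_assoc, Units.inv_mul, mul_one, H42.coe_diagGL]
    rfl
  · rw [Matrix.diagonal_transpose]
    ext i j
    rw [Matrix.mul_diagonal, Matrix.diagonal_mul, Matrix.smul_apply]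
    simp only [G, Equiv.Perm.permMatrix, PEquiv.toMatrix_apply, Equiv.toPEquiv_apply, Option.mem_def,
      Option.some.injEq]
    by_cases hij : π i = j
    · rw [if_pos hij, smul_eq_mul, mul_one, mul_one, ← hij, hkf, hkf, ← Units.val_mul, hadd, add_comm, hs]
    · simp [hij]
  · intro t _
    refine ⟨Matrix.diagonal fun i => if i = 0 then t else 1, ?_, ?_⟩
    · rw [Matrix.diagonal_mul_diagonal, Matrix.diagonal_mul_diagonal]
      congr 1; funext i; exact mul_comm _ _
    · rw [Matrix.det_diagonal, Finset.prod_ite_eq' Finset.univ (0 : Fin r) (fun _ => t),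
        if_pos (Finset.mem_univ _)]

end H47
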