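import Mathlib
import Cfsg.Agent.H47.OrthTS

/-!
Criterion: every element of odd prime order fixes a totally singular subspace of given dimension.
-/

set_option autoImplicit false

namespace H47

open H43 Polynomial

/-- An element with `A` blocks whose classes run through a given set. -/
theorem exists_witness_classes {F : Type*} [Field F] [Fintype F] {r : ℕ} [hr : Fact r.Prime] {V : Type*} [AddCommGroup V]
    [Module F V] [FiniteDimensional F V] {Q : QuadraticForm F V} (hQ : (polB Q).Nondegenerate) (hr2 : r ≠ 2)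
    (hrq : ¬ r ∣ Fintype.card F) (hi : Even (orderOf (Fintype.card F : ZMod r))) (A : ℕ) (hA : RealBlocks Q r A)
    (S : Finset F[X]) (hSc : S ⊆ classes F r) (hS : S.Nonempty) :
    ∃ g : orthGroup Q, g ^ r = 1 ∧ Module.finrank F (resid g) = A * orderOf (Fintype.card F : ZMod r) ∧
      (∀ v ∈ resid g, aeval (endT g) (∏ P ∈ S, P) v = 0) ∧
      ∀ U, InvTS g (resid g) U → Module.finrank F U ≤ (A + 1 - S.card) / 2 * orderOf (Fintype.card F : ZMod r) := by
  classical
  have hbd : blockDim F r = orderOf (Fintype.card F : ZMod r) := by rw [blockDim, if_pos hi]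
  induction A generalizing V S with
  | zero =>
    refine ⟨1, one_pow r, by rw [resid_one, finrank_bot, zero_mul], fun v hv => ?_, fun U hU => ?_⟩
    · rw [resid_one, Submodule.mem_bot] at hv
      rw [hv, map_zero]
    · have h := Submodule.finrank_mono hU.1
      rw [resid_one, finrank_bot] at h
      omega
  | succ A ih =>
    set i := orderOf (Fintype.card F : ZMod r) with hidef
    have hc : 0 < i := order_pos hrq
    obtain ⟨h, hh⟩ := hi
    have hle : (A + 1) * i ≤ Module.finrank F V := by
      rw [← hbd]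
      rcases hA with hA | ⟨hA, -⟩ <;> omega
    rw [Nat.succ_mul] at hle
    obtain ⟨W, hWd, hWn, hWt⟩ : ∃ W : Submodule F V, Module.finrank F W = i ∧ NdOn Q W ∧ ¬ PlusOn Q W := by
      rcases lt_or_eq_of_le (show i ≤ Module.finrank F V by omega) with hlt | heq
      · obtain ⟨W, -, hWd, hWn, hWt⟩ := exists_sub (ndOn_top hQ) (h := h) (by rw [finrank_top]; omega) False (by omega)
        exact ⟨W, by omega, hWn, fun hp => hWt.mp hp⟩
      · obtain rfl : A = 0 := by
          have : A * i = 0 := by omega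
          exact (Nat.mul_eq_zero.mp this).resolve_right (by omega)
        rcases hA with hA | ⟨-, hA⟩
        · rw [hbd] at hA; omega
        · refine ⟨⊤, by rw [finrank_top, heq], ndOn_top hQ, fun hp => ?_⟩
          have := hA.mp hp
          rw [BlockPlus] at this
          rcases this with h' | h'
          · exact Nat.not_even_iff_odd.mpr h' ⟨h, hh⟩
          · simp at h'
    set R := (polB Q).orthogonal W with hR
    have hRn : NdOn Q R := hWn.orth hQ
    have hWR : PerpTo Q W R := perpTo_orth W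
    have hsup : W ⊔ R = ⊤ := orth_sup_eq_top hQ hWn
    have hRd : Module.finrank F R + i = Module.finrank F V := hWd ▸ finrank_orth_add hQ W
    have hreal : RealBlocks (Q.restrict R) r A := by
      rcases hA with hA | ⟨hA, hT⟩
      · left; rw [hbd] at hA ⊢; rw [Nat.succ_mul] at hA; omega
      · right
        rw [hbd] at hA ⊢
        rw [Nat.succ_mul] at hA
        refine ⟨by omega, ?_⟩
        rw [← plusOn_map_subtype, Submodule.map_top, Submodule.range_subtype]
        rw [← hsup, plusOn_sup hWn hRn hWR ⟨h, by omega⟩ (by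
          rw [show Module.finrank F R = A * i by omega]; exact Even.mul_left ⟨h, hh⟩ A)] at hT
        rw [BlockPlus, Nat.even_add_one] at hT
        rw [BlockPlus]
        have hodd : ¬ Odd (orderOf (Fintype.card F : ZMod r)) := Nat.not_odd_iff_even.mpr ⟨h, hh⟩
        tauto
    obtain ⟨P, hP⟩ := id hS
    -- the classes left for the rest
    set S' := if (S.erase P).Nonempty then S.erase P else S with hS'
    have hS'n : S'.Nonempty := by rw [hS']; split_ifs with h'; exacts [h', hS]
    have hS'S : S' ⊆ S := by rw [hS']; split_ifs; exacts [Finset.erase_subset _ _, le_rfl]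
    obtain ⟨a, har, hfix, haP⟩ := exists_block_class hr2 hrq hWn hWd ⟨h, hh⟩ hWt (hSc hP)
    obtain ⟨b, hbr, hbd', hbS, hbU⟩ := ih (Q := Q.restrict R) hRn.restrict hreal S' (hS'S.trans hSc) hS'n
    obtain ⟨g, hga, hgb⟩ := exists_glue hWn hWR hsup a b
    have hra : resid a = ⊤ := by
      have hinj : Function.Injective (resMap a) := by
        rw [← LinearMap.ker_eq_bot, eq_bot_iff]
        intro w hw
        exact (Submodule.mem_bot F).mpr (hfix w (mem_ker_resMap.mp hw))
      exact LinearMap.range_eq_top.mpr (LinearMap.injective_iff_surjective.mp hinj)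
    have hg : g ^ r = 1 := glue_pow_one hsup hga hgb har hbr
    have hgd : Module.finrank F (resid g) = (A + 1) * i := by
      rw [finrank_resid_glue hWn hWR hsup hga hgb, hra, finrank_top, hWd, hbd', Nat.succ_mul, add_comm]
    set W' := (resid b).map R.subtype with hW'
    have hres : W ⊔ W' = resid g := by
      rw [resid_glue ⟨disjoint_of_perp hWn hWR, codisjoint_iff.mpr hsup⟩ hga hgb, hra, Submodule.map_top,
        Submodule.range_subtype]
    have hWi : Inv g W := fun w hw => by rw [hga ⟨w, hw⟩]; exact Subtype.coe_prop _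
    have hW'i : Inv g W' := by
      rintro _ ⟨v, hv, rfl⟩
      exact ⟨b.1 v, inv_resid b v hv, (hgb v).symm⟩
    have hWP : ∀ v ∈ W, aeval (endT g) P v = 0 := fun v hv => by
      have := aeval_piece hga P ⟨v, hv⟩
      rw [this, haP]; rfl
    have hW'S : ∀ v ∈ W', aeval (endT g) (∏ P ∈ S', P) v = 0 := by
      rintro _ ⟨v, hv, rfl⟩
      rw [Submodule.subtype_apply, aeval_piece hgb, hbS v hv]; rfl
    refine ⟨g, hg, hgd, fun x hx => ?_, fun U hU => ?_⟩
    · rw [← hres] at hx
      obtain ⟨w, hw, v, hv, rfl⟩ := Submodule.mem_sup.mp hx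
      obtain ⟨T₁, hT₁⟩ := Finset.dvd_prod_of_mem (fun P : F[X] => P) hP
      obtain ⟨T₂, hT₂⟩ := Finset.prod_dvd_prod_of_subset S' S (fun P : F[X] => P) hS'S
      rw [map_add]
      conv_lhs =>
        arg 1; rw [hT₁, mul_comm, map_mul, Module.End.mul_apply, hWP w hw, map_zero]
      rw [zero_add, hT₂, mul_comm, map_mul, Module.End.mul_apply, hW'S v hv, map_zero]
    · by_cases hne : (S.erase P).Nonempty
      · have hS'e : S' = S.erase P := by rw [hS', if_pos hne]
        have hcop : IsCoprime P (∏ P' ∈ S', P') := IsCoprime.prod_right fun P' hP' =>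
          classes_coprime (hSc hP) (hSc (hS'S hP')) fun e => by
            rw [hS'e, Finset.mem_erase] at hP'; exact hP'.1 e.symm
        have hb0 : ∀ U, InvTS g W U → Module.finrank F U ≤ 0 := fun U ⟨hUW, hUi, hU0⟩ => by
          have h2 := two_mul_ts_le hWn hUW hU0
          have hfW : FixFree g W := fun w hw hfw => by
            have := hfix ⟨w, hw⟩ (Subtype.ext ((hga ⟨w, hw⟩).symm.trans hfw))
            exact congrArg Subtype.val this
          have h3 := inv_dim_dvd hg hUi fun w hw => hfW w (hUW hw)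
          rw [hWd] at h2
          by_contra hne'
          have := Nat.le_of_dvd (by omega) h3
          omega
        have hb1 : ∀ U, InvTS g W' U → Module.finrank F U ≤ (A + 1 - S'.card) / 2 * i := fun U ⟨hUW, hUi, hU0⟩ => by
          have hUR : U ≤ R := hUW.trans (Submodule.map_subtype_le _ _)
          have e : (U.comap R.subtype).map R.subtype = U :=
            Submodule.map_comap_eq_of_le (by rwa [Submodule.range_subtype])
          have := hbU (U.comap R.subtype) ⟨fun v hv => ?_, fun v hv => ?_, fun v hv => hU0 _ hv⟩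
          · rwa [← Submodule.finrank_map_subtype_eq R, e] at this
          · obtain ⟨v', hv', e'⟩ := hUW hv
            rwa [← Subtype.ext e']
          · show ((b.1 v : R) : V) ∈ U
            rw [← hgb]; exact hUi _ hv
        have hbound := ts_bound_split hWn (fun u hu v hv => hWR u hu v (Submodule.map_subtype_le _ _ hv)) hres P hWP hW'i
          (fun v hv hz => eq_zero_of_coprime hcop hz (hW'S v hv)) hb0 hb1 hWi hU
        rw [hS'e, Finset.card_erase_of_mem hP] at hbound
        have hcard : 1 ≤ S.card := Finset.card_pos.mpr hS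
        rwa [zero_add, show A + 1 - (S.card - 1) = A + 1 + 1 - S.card by omega] at hbound
      · obtain ⟨hKn, hRn', -, hRf⟩ := fixed_moved hQ hg hrq
        have hcard : S.card = 1 := by
          have h1 := Finset.card_erase_of_mem hP
          rw [Finset.not_nonempty_iff_eq_empty.mp hne, Finset.card_empty] at h1
          have : 1 ≤ S.card := Finset.card_pos.mpr hS
          omega
        have h2 := two_mul_ts_le hRn' hU.1 hU.2.2
        obtain ⟨s, hs⟩ := inv_dim_dvd hg hU.2.1 fun w hw => hRf w (hU.1 hw)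
        rw [hcard, show A + 1 + 1 - 1 = A + 1 by omega]
        change _ = i * s at hs
        rw [hgd, hs] at h2
        have h3 : 2 * s ≤ A + 1 := Nat.le_of_mul_le_mul_right (by linarith : 2 * s * i ≤ (A + 1) * i) hc
        rw [hs, mul_comm]
        exact Nat.mul_le_mul_right _ (by omega)

variable {F : Type*} [Field F] [Fintype F] {r : ℕ} [hr : Fact r.Prime] {V : Type*} [AddCommGroup V] [Module F V]
  [FiniteDimensional F V] {Q : QuadraticForm F V}

/-- An element with as few totally singular pieces as possible. -/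
theorem exists_ts_witness (hQ : (polB Q).Nondegenerate) (hr2 : r ≠ 2) (hrq : ¬ r ∣ Fintype.card F) (A : ℕ)
    (hA : RealBlocks Q r A) :
    ∃ g : orthGroup Q, g ^ r = 1 ∧ Module.finrank F (resid g) = A * blockDim F r ∧
      ∀ U, InvTS g (resid g) U → Module.finrank F U ≤
        tsPieces (orderOf (Fintype.card F : ZMod r)) ((r - 1) / orderOf (Fintype.card F : ZMod r)) A
          * orderOf (Fintype.card F : ZMod r) := by
  classical
  set i := orderOf (Fintype.card F : ZMod r) with hidef
  set t := (r - 1) / i with ht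
  have hc : 0 < i := order_pos hrq
  by_cases hi : Even i
  · have hbd : blockDim F r = i := by rw [blockDim, if_pos hi]
    rcases Nat.eq_zero_or_pos A with rfl | hA1
    · refine ⟨1, one_pow r, by rw [resid_one, finrank_bot, zero_mul], fun U hU => ?_⟩
      have h := Submodule.finrank_mono hU.1
      rw [resid_one, finrank_bot] at h
      omega
    have ht1 : 1 ≤ t := by
      rw [ht]
      refine (Nat.one_le_div_iff hc).mpr (Nat.le_of_dvd (by have := hr.out.two_le; omega) ?_)
      exact orderOf_dvd_of_pow_eq_one (ZMod.pow_card_sub_one_eq_one fun h0 => hrq ((ZMod.natCast_eq_zero_iff _ r).mp h0))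
    have hcl : (classes F r).card = t := (classes_data hrq).1
    obtain ⟨S, hSc, hScard⟩ := Finset.exists_subset_card_eq (s := classes F r) (n := min t A) (by omega)
    obtain ⟨g, hg, hgd, -, hgU⟩ := exists_witness_classes hQ hr2 hrq hi A hA S hSc (Finset.card_pos.mp (by omega))
    refine ⟨g, hg, by rw [hgd, hbd], fun U hU => (hgU U hU).trans (Nat.mul_le_mul_right _ ?_)⟩
    rw [tsPieces, if_pos hi, hScard]
    rcases le_total t A with h | h
    · rw [min_eq_left h]
    · rw [min_eq_right h]; omega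
  · obtain ⟨g, hg, hgd⟩ := exists_element hQ hr2 hrq A hA
    obtain ⟨-, hRn, -, -⟩ := fixed_moved hQ hg hrq
    refine ⟨g, hg, hgd, fun U hU => ?_⟩
    have h2 := two_mul_ts_le hRn hU.1 hU.2.2
    rw [hgd, blockDim, if_neg hi] at h2
    rw [tsPieces, if_neg hi]
    linarith

/-- The arithmetic condition. -/
def GoodTS (N c i m t : ℕ) (TV : Prop) (eps : ℕ → Prop) (A : ℕ) : Prop :=
  ∃ s ≤ tsPieces i t A, s * i ≤ m ∧ (2 * (m - s * i) < N - A * c ∨ (2 * (m - s * i) = N - A * c ∧ (TV ↔ eps A)))

omit [FiniteDimensional F V] in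
lemma isTSIn_map (g : orthGroup Q) {m : ℕ} {U : Submodule F V} (hU : IsTSIn Q ⊤ m U) :
    IsTSIn Q ⊤ m (U.map (g.1 : V →ₗ[F] V)) := by
  refine ⟨le_top, (LinearEquiv.finrank_map_eq _ _).trans hU.2.1, ?_⟩
  rintro _ ⟨u, hu, rfl⟩
  exact (g.2 u).trans (hU.2.2 u hu)

/-- The criterion. -/
theorem crit_ts (hQ : (polB Q).Nondegenerate) (hr2 : r ≠ 2) (hrq : ¬ r ∣ Fintype.card F) {m : ℕ}
    (hex : ∃ U, IsTSIn Q ⊤ m U) (hdvd : r ∣ Nat.card {U : Submodule F V // IsTSIn Q ⊤ m U}) :
    (∀ g : orthGroup Q, g ^ r = 1 → g ≠ 1 → ∃ U, IsTSIn Q ⊤ m U ∧ Inv g U) ↔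
      (orderOf (Fintype.card F : ZMod r) ≤ m ∧ ∀ A, 1 ≤ A → RealBlocks Q r A →
        GoodTS (Module.finrank F V) (blockDim F r) (orderOf (Fintype.card F : ZMod r)) m
          ((r - 1) / orderOf (Fintype.card F : ZMod r)) (PlusOn Q (⊤ : Submodule F V)) (BlockPlus F r) A) := by
  classical
  set i := orderOf (Fintype.card F : ZMod r) with hidef
  set c := blockDim F r with hcdef
  have hipos : 0 < i := order_pos hrq
  have hce : Even c := blockDim_even F r
  have fixedData : ∀ (g : orthGroup Q), g ^ r = 1 → ∀ A, Module.finrank F (resid g) = A * c →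
      NdOn Q (LinearMap.ker (resMap g)) ∧ Module.finrank F (LinearMap.ker (resMap g)) = Module.finrank F V - A * c ∧
      (Even (Module.finrank F (LinearMap.ker (resMap g))) →
        (PlusOn Q (LinearMap.ker (resMap g)) ↔ (PlusOn Q (⊤ : Submodule F V) ↔ BlockPlus F r A))) := by
    intro g hg A hA
    obtain ⟨hKn, hRn, hKR, hRf⟩ := fixed_moved hQ hg hrq
    refine ⟨hKn, ?_, fun hev => ?_⟩
    · have := finrank_sup_perp hKn (perp_fixed_resid g)
      rw [hKR, finrank_top, hA] at this
      omega
    · have h := plusOn_sup hKn hRn (perp_fixed_resid g) hev (hA ▸ hce.mul_left A)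
      rw [hKR, plusOn_blocks hg hr2 hrq hRn (inv_resid g) hRf hA] at h
      rw [BlockPlus]; tauto
  have hsplit : ∀ (g : orthGroup Q), g ^ r = 1 → ∀ U, IsTSIn Q ⊤ m U → Inv g U →
      ∃ s, InvTS g (resid g) (U ⊓ resid g) ∧ Module.finrank F ↥(U ⊓ resid g) = s * i ∧
        Module.finrank F ↥(U ⊓ LinearMap.ker (resMap g)) + s * i = m ∧
        U ⊓ LinearMap.ker (resMap g) ⊔ U ⊓ resid g = U := by
    intro g hg U hU hUi
    obtain ⟨hKn, hRn, hKR, hRf⟩ := fixed_moved hQ hg hrq
    have hi2 : Inv g (U ⊓ resid g) := fun w hw => ⟨hUi w hw.1, inv_resid g w hw.2⟩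
    obtain ⟨s, hs⟩ := inv_dim_dvd hg hi2 fun w hw => hRf w hw.2
    rw [mul_comm] at hs
    have he := inv_split_any hg hrq hUi
    have hd := Submodule.finrank_sup_add_finrank_inf_eq (U ⊓ LinearMap.ker (resMap g)) (U ⊓ resid g)
    rw [((disjoint_of_perp hKn (perp_fixed_resid g)).mono inf_le_right inf_le_right).eq_bot, finrank_bot, add_zero, he,
      hU.2.1, hs] at hd
    exact ⟨s, ⟨inf_le_right, hi2, fun u hu => hU.2.2 u hu.1⟩, hs, hd.symm, he⟩
  constructor
  · intro H
    have him : i ≤ m := by
      by_contra hlt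
      obtain ⟨g, hg, hg1, hgU⟩ := exists_derangement_fixed (P := IsTSIn Q ⊤ m) hQ hr2 hrq (fun U hU => hU.2.1)
        (fun g hg U hU hUi => by
          obtain ⟨s, -, hs, hd, he⟩ := hsplit g hg U hU hUi
          have hs0 : s = 0 := by
            by_contra hne
            have := Nat.le_mul_of_pos_left i (Nat.pos_of_ne_zero hne)
            omega
          rw [← he, Submodule.finrank_eq_zero.mp (by rw [hs, hs0, zero_mul] : Module.finrank F ↥(U ⊓ resid g) = 0),
            sup_bot_eq]
          exact inf_le_right)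
        (fun g U hU => isTSIn_map g hU)
        (fun U U' hU hU' => ⟨LinearEquiv.ofFinrankEq _ _ (hU.2.1.trans hU'.2.1.symm), fun w => by
          rw [hU'.2.2 _ (Subtype.coe_prop _), hU.2.2 _ w.2]⟩) hex hdvd
      obtain ⟨U, hU, hUi⟩ := H g hg hg1
      exact hgU U hU hUi
    refine ⟨him, fun A hA1 hA => ?_⟩
    obtain ⟨g, hg, hgd, hgU⟩ := exists_ts_witness hQ hr2 hrq A hA
    have hg1 : g ≠ 1 := fun e => by
      rw [e, resid_one, finrank_bot] at hgd
      rcases Nat.mul_eq_zero.mp hgd.symm with h | h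
      · omega
      · exact absurd h (blockDim_pos hrq).ne'
    obtain ⟨U, hU, hUi⟩ := H g hg hg1
    obtain ⟨s, hsI, hs, hd, -⟩ := hsplit g hg U hU hUi
    obtain ⟨hKn, hKd, hKt⟩ := fixedData g hg A hgd
    have hsA := hgU _ hsI
    rw [hs] at hsA
    refine ⟨s, Nat.le_of_mul_le_mul_right hsA hipos, by omega, ?_⟩
    have h' := (exists_ts_iff hKn (m - s * i)).mp ⟨_, inf_le_right, by omega, fun u hu => hU.2.2 u hu.1⟩
    rcases h' with h' | ⟨h', hp⟩
    · exact Or.inl (hKd ▸ h')
    · exact Or.inr ⟨hKd ▸ h', (hKt ⟨m - s * i, by omega⟩).mp hp⟩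
  · rintro ⟨-, H⟩ g hg hg1
    obtain ⟨A, hA, hreal, hA1⟩ := exists_blocks_of hQ hg hr2 hrq
    obtain ⟨s, hsA, hsm, hfit⟩ := H A (hA1 hg1) hreal
    obtain ⟨hKn, hKd, hKt⟩ := fixedData g hg A hA
    obtain ⟨-, hRn, hKR, hRf⟩ := fixed_moved hQ hg hrq
    obtain ⟨UK, hUK, hUKd, hUK0⟩ := (exists_ts_iff hKn (m - s * i)).mpr (by
      rw [hKd]
      rcases hfit with h | ⟨h, ht⟩
      · exact Or.inl h
      · exact Or.inr ⟨h, (hKt ⟨m - s * i, by omega⟩).mpr ht⟩)
    obtain ⟨UR, hUR, hURd⟩ : ∃ U, InvTS g (resid g) U ∧ Module.finrank F U = s * i := by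
      by_cases he : Even i
      · refine exists_ts_even hg hr2 hrq he A _ hRn (inv_resid g) hRf (by rw [hA, blockDim, if_pos he]) s ?_
        rw [tsPieces, if_pos he] at hsA
        rwa [(classes_data hrq).1]
      · refine exists_ts_odd hg hr2 hrq (Nat.not_even_iff_odd.mp he) A _ hRn (inv_resid g) hRf hA s ?_
        rwa [tsPieces, if_neg he] at hsA
    have hUKi : InvTS g ⊤ UK := ⟨le_top, fun u hu => by rw [mem_ker_resMap.mp (hUK hu)]; exact hu, hUK0⟩
    obtain ⟨-, hi', h0'⟩ := invTS_sup hUKi ⟨le_top, hUR.2⟩ fun a ha b hb => perp_fixed_resid g a (hUK ha) b (hUR.1 hb)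
    refine ⟨UK ⊔ UR, ⟨le_top, ?_, h0'⟩, hi'⟩
    have hd := Submodule.finrank_sup_add_finrank_inf_eq UK UR
    rw [((disjoint_of_perp hKn (perp_fixed_resid g)).mono hUK hUR.1).eq_bot, finrank_bot, add_zero, hUKd, hURd] at hd
    omega

end H47
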