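import Mathlib
import Cfsg.Agent.H47.OrthTSCrit

/-!
Arithmetic of the criterion for totally singular subspaces.
-/

set_option autoImplicit false

namespace H47

/-- Comparing two linear expressions with small remainders. -/
lemma cmp_two {a b l k i : ℕ} (hl : l < i) (hk : k < i) :
    (2 * (a * i + l) < b * i + k ↔ (2 * a + 2 ≤ b ∨ (2 * a + 1 = b ∧ 2 * l < i + k) ∨ (2 * a = b ∧ 2 * l < k))) ∧
    (2 * (a * i + l) = b * i + k ↔ ((2 * a + 1 = b ∧ 2 * l = i + k) ∨ (2 * a = b ∧ 2 * l = k))) := by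
  rcases lt_trichotomy (2 * a + 1) b with h | h | h
  · have h' := Nat.mul_le_mul_right i (show 2 * a + 2 ≤ b by omega)
    rw [Nat.add_mul, mul_assoc] at h'
    omega
  · subst h
    rw [Nat.add_mul, mul_assoc, one_mul]
    omega
  · rcases eq_or_lt_of_le (show b ≤ 2 * a by omega) with rfl | h2
    · rw [mul_assoc]; omega
    · have h' := Nat.mul_le_mul_right i (show b + 1 ≤ 2 * a by omega)
      rw [Nat.add_mul, mul_assoc, one_mul] at h'
      omega

lemma cmp_one {a b l k i : ℕ} (hl : l < i) (hk : k < 2 * i) :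
    (2 * (a * i + l) < b * (2 * i) + k ↔ (a < b ∨ (a = b ∧ 2 * l < k))) ∧
    (2 * (a * i + l) = b * (2 * i) + k ↔ (a = b ∧ 2 * l = k)) := by
  rw [show b * (2 * i) = 2 * (b * i) by ring]
  rcases lt_trichotomy a b with h | h | h
  · have h' := Nat.mul_le_mul_right i (show a + 1 ≤ b by omega)
    rw [Nat.add_mul, one_mul] at h'
    omega
  · subst h; omega
  · have h' := Nat.mul_le_mul_right i (show b + 1 ≤ a by omega)
    rw [Nat.add_mul, one_mul] at h'
    omega

lemma sub_mul_split {N i A : ℕ} (h : A ≤ N / i) : N - A * i = (N / i - A) * i + N % i := by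
  have h1 := Nat.div_add_mod' N i
  have h2 := Nat.mul_le_mul_right i h
  rw [Nat.sub_mul]
  omega

/-- Odd order: the criterion. -/
theorem goodTS_all_odd {N i m t : ℕ} (hio : Odd i) (him : i ≤ m) (TV : Prop) (h2m : 2 * m < N ∨ (2 * m = N ∧ TV)) {eps : ℕ → Prop}
    (heps : ∀ A, eps A) :
    (∀ A, 1 ≤ A → (A * (2 * i) < N ∨ (A * (2 * i) = N ∧ (TV ↔ eps A))) → GoodTS N (2 * i) i m t TV eps A) ↔
      ((N % (2 * i) = 0 ∧ ¬ TV) ∨ 2 * (m % i) < N % (2 * i) ∨ (2 * (m % i) = N % (2 * i) ∧ TV)) := by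
  have hi : 0 < i := hio.pos
  have hl := Nat.mod_lt m hi
  have hk := Nat.mod_lt N (show 2 * i > 0 by omega)
  have hm1 : 1 ≤ m / i := (Nat.one_le_div_iff hi).mpr him
  have hmn : m / i ≤ N / (2 * i) := by
    rw [Nat.le_div_iff_mul_le (by omega)]
    have := Nat.div_mul_le_self m i
    rw [show m / i * (2 * i) = 2 * (m / i * i) by ring]
    omega
  have htop : m / i = N / (2 * i) → 2 * (m % i) < N % (2 * i) ∨ (2 * (m % i) = N % (2 * i) ∧ TV) := fun e => by
    have h1 := Nat.div_add_mod' N (2 * i)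
    have h2 := Nat.div_add_mod' m i
    rw [← e, show m / i * (2 * i) = 2 * (m / i * i) by ring] at h1
    rcases h2m with h | ⟨h, hT⟩
    · exact Or.inl (by omega)
    · exact Or.inr ⟨by omega, hT⟩
  have hreal : ∀ A, (A * (2 * i) < N ∨ (A * (2 * i) = N ∧ (TV ↔ eps A))) ↔
      (A < N / (2 * i) ∨ (A = N / (2 * i) ∧ (N % (2 * i) ≠ 0 ∨ TV))) := by
    intro A
    rw [iff_true_intro (heps A), iff_true]
    have h1 := Nat.div_add_mod' N (2 * i)
    rcases lt_trichotomy A (N / (2 * i)) with h | h | h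
    · have h' := Nat.mul_le_mul_right (2 * i) (show A + 1 ≤ N / (2 * i) by omega)
      rw [Nat.add_mul, one_mul] at h'
      exact iff_of_true (Or.inl (by omega)) (Or.inl h)
    · subst h
      by_cases hk0 : N % (2 * i) = 0
      · refine ⟨?_, ?_⟩
        · rintro (h3 | ⟨-, h3⟩)
          · exfalso; omega
          · exact Or.inr ⟨rfl, Or.inr h3⟩
        · rintro (h3 | ⟨-, h3 | h3⟩)
          · exfalso; omega
          · exact absurd hk0 h3
          · exact Or.inr ⟨by omega, h3⟩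
      · exact iff_of_true (Or.inl (by omega)) (Or.inr ⟨rfl, Or.inl hk0⟩)
    · have h' := Nat.mul_le_mul_right (2 * i) (show N / (2 * i) + 1 ≤ A by omega)
      rw [Nat.add_mul, one_mul] at h'
      refine iff_of_false ?_ ?_ <;> rintro (h3 | ⟨h3, -⟩) <;> omega
  have hgood : ∀ A, A ≤ N / (2 * i) → (GoodTS N (2 * i) i m t TV eps A ↔ ∃ s ≤ A, s ≤ m / i ∧
      ((m / i - s < N / (2 * i) - A ∨ (m / i - s = N / (2 * i) - A ∧ 2 * (m % i) < N % (2 * i))) ∨
        ((m / i - s = N / (2 * i) - A ∧ 2 * (m % i) = N % (2 * i)) ∧ TV))) := by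
    intro A hA
    rw [GoodTS, tsPieces, if_neg (Nat.not_even_iff_odd.mpr hio)]
    refine exists_congr fun s => and_congr_right fun _ => ?_
    rw [← Nat.le_div_iff_mul_le hi]
    refine and_congr_right fun hs => ?_
    rw [sub_mul_split hA, sub_mul_split hs, (cmp_one hl hk).1, (cmp_one hl hk).2, iff_true_intro (heps A), iff_true]
  constructor
  · intro H
    by_cases hT : TV
    · obtain ⟨s, hsA, hs, h⟩ := (hgood _ le_rfl).mp (H (N / (2 * i)) (by omega) ((hreal _).mpr (Or.inr ⟨rfl, Or.inr hT⟩)))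
      simp only [hT, and_true, not_true, and_false, false_or] at h ⊢
      omega
    · by_cases hk0 : N % (2 * i) = 0
      · exact Or.inl ⟨hk0, hT⟩
      · obtain ⟨s, hsA, hs, h⟩ := (hgood _ le_rfl).mp (H (N / (2 * i)) (by omega) ((hreal _).mpr (Or.inr ⟨rfl, Or.inl hk0⟩)))
        simp only [hT, and_false, or_false] at h ⊢
        omega
  · intro hR A hA1 hA
    rw [hreal] at hA
    rw [hgood A (by omega)]
    refine ⟨min A (m / i), Nat.min_le_left _ _, Nat.min_le_right _ _, ?_⟩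
    by_cases hT : TV <;>
      simp only [hT, and_true, and_false, or_false, not_true, not_false_eq_true, false_or, or_true] at hA hR htop ⊢ <;> omega

/-- Even order: the criterion. -/
theorem goodTS_all_even {N i m t : ℕ} (hie : Even i) (hi : 0 < i) (him : i ≤ m) (ht : 1 ≤ t) (TV : Prop) (h2m : 2 * m < N ∨ (2 * m = N ∧ TV))
    {eps : ℕ → Prop} (heps : ∀ A, eps A ↔ Even A) :
    (∀ A, 1 ≤ A → (A * i < N ∨ (A * i = N ∧ (TV ↔ eps A))) → GoodTS N i i m t TV eps A) ↔
      (t + 2 * (m / i) ≤ N / i ∧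
        ((2 * (m % i) ≤ i ∧ N % i = 0 ∧ (TV ↔ Odd (N / i)) ∧ t + 2 * (m / i) < N / i) ∨
         (2 * (m % i) ≤ N % i ∧ (TV ↔ Even (N / i))) ∨
         (2 * (m % i) < N % i ∧ (TV ↔ Odd (N / i))))) := by
  have hl := Nat.mod_lt m hi
  have hk := Nat.mod_lt N hi
  have hm1 : 1 ≤ m / i := (Nat.one_le_div_iff hi).mpr him
  have hmn : 2 * (m / i) ≤ N / i := by
    rw [Nat.le_div_iff_mul_le hi]
    have := Nat.div_mul_le_self m i
    rw [mul_assoc]
    omega
  have htop : 2 * (m / i) = N / i → 2 * (m % i) < N % i ∨ (2 * (m % i) = N % i ∧ TV) := fun e => by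
    have h1 := Nat.div_add_mod' N i
    have h2 := Nat.div_add_mod' m i
    rw [← e, mul_assoc] at h1
    rcases h2m with h | ⟨h, hT⟩
    · exact Or.inl (by omega)
    · exact Or.inr ⟨by omega, hT⟩
  have hreal : ∀ A, (A * i < N ∨ (A * i = N ∧ (TV ↔ eps A))) ↔
      (A < N / i ∨ (A = N / i ∧ (N % i ≠ 0 ∨ (TV ↔ A % 2 = 0)))) := by
    intro A
    rw [heps, Nat.even_iff]
    have h1 := Nat.div_add_mod' N i
    rcases lt_trichotomy A (N / i) with h | h | h
    · have h' := Nat.mul_le_mul_right i (show A + 1 ≤ N / i by omega)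
      rw [Nat.add_mul, one_mul] at h'
      exact iff_of_true (Or.inl (by omega)) (Or.inl h)
    · subst h
      by_cases hT : TV <;> simp only [hT, true_iff, false_iff, lt_irrefl, false_or, true_and] <;> omega
    · have h' := Nat.mul_le_mul_right i (show N / i + 1 ≤ A by omega)
      rw [Nat.add_mul, one_mul] at h'
      refine iff_of_false ?_ ?_ <;> rintro (h3 | ⟨h3, -⟩) <;> omega
  have hgood : ∀ A, A ≤ N / i → (GoodTS N i i m t TV eps A ↔ ∃ s ≤ (A + 1 - t) / 2, s ≤ m / i ∧
      ((2 * (m / i - s) + 2 ≤ N / i - A ∨ (2 * (m / i - s) + 1 = N / i - A ∧ 2 * (m % i) < i + N % i) ∨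
          (2 * (m / i - s) = N / i - A ∧ 2 * (m % i) < N % i)) ∨
        (((2 * (m / i - s) + 1 = N / i - A ∧ 2 * (m % i) = i + N % i) ∨
          (2 * (m / i - s) = N / i - A ∧ 2 * (m % i) = N % i)) ∧ (TV ↔ A % 2 = 0)))) := by
    intro A hA
    rw [GoodTS, tsPieces, if_pos hie]
    refine exists_congr fun s => and_congr_right fun _ => ?_
    rw [← Nat.le_div_iff_mul_le hi]
    refine and_congr_right fun hs => ?_
    rw [sub_mul_split hA, sub_mul_split hs, (cmp_two hl hk).1, (cmp_two hl hk).2, heps, Nat.even_iff]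
  simp only [Nat.odd_iff, Nat.even_iff]
  constructor
  · intro H
    have key : ∀ A, 1 ≤ A → (A < N / i ∨ (A = N / i ∧ (N % i ≠ 0 ∨ (TV ↔ A % 2 = 0)))) →
      ((2 * (m / i - min ((A + 1 - t) / 2) (m / i)) + 2 ≤ N / i - A ∨ (2 * (m / i - min ((A + 1 - t) / 2) (m / i)) + 1 = N / i - A ∧ 2 * (m % i) < i + N % i) ∨
          (2 * (m / i - min ((A + 1 - t) / 2) (m / i)) = N / i - A ∧ 2 * (m % i) < N % i)) ∨
        (((2 * (m / i - min ((A + 1 - t) / 2) (m / i)) + 1 = N / i - A ∧ 2 * (m % i) = i + N % i) ∨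
          (2 * (m / i - min ((A + 1 - t) / 2) (m / i)) = N / i - A ∧ 2 * (m % i) = N % i)) ∧ (TV ↔ A % 2 = 0))) := by
      intro A h1 h2
      obtain ⟨s, hs1, hs2, hs⟩ := (hgood A (by omega)).mp (H A h1 ((hreal A).mpr h2))
      by_cases hT : TV <;> simp only [hT, true_iff, false_iff] at hs ⊢ <;> omega
    have h0 := key (N / i)
    have h1 := key (N / i - 1)
    have h2 := key (N / i - 2)
    generalize hn : N / i = n at *
    generalize hk' : N % i = k at *
    generalize hl' : m % i = l at *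
    generalize hm' : m / i = m' at *
    clear hn hk' hl' hm' hgood hreal H key heps
    by_cases hT : TV <;> simp only [hT, true_iff, false_iff, and_true, and_false, or_false, true_and, lt_irrefl, false_or] at h0 h1 h2 htop ⊢ <;>
      omega
  · intro hR A hA1 hA
    rw [hreal] at hA
    rw [hgood A (by omega)]
    refine ⟨min ((A + 1 - t) / 2) (m / i), Nat.min_le_left _ _, Nat.min_le_right _ _, ?_⟩
    by_cases hT : TV <;> simp only [hT, true_iff, false_iff, and_true, and_false, or_false] at hA hR htop ⊢ <;> omega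

end H47
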