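import Mathlib
import Cfsg.Agent.H47.OrthI
import Cfsg.Agent.H47.OrthInvol
import Cfsg.Agent.H47.OrthTS

/-!
Totally singular subspaces invariant under isometries of projective order two.
-/

set_option autoImplicit false

namespace H47

open H43

variable {F : Type*} [Field F] [Fintype F] {V : Type*} [AddCommGroup V] [Module F V] [FiniteDimensional F V]
  {Q : QuadraticForm F V}

lemma not_two_dvd_card (h2 : (2 : F) ≠ 0) : ¬ 2 ∣ Fintype.card F := by
  intro h
  obtain ⟨p, hp⟩ := CharP.exists F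
  obtain ⟨n, hpp, hn⟩ := FiniteField.card F p
  rw [hn] at h
  have := (Nat.prime_dvd_prime_iff_eq Nat.prime_two hpp).mp (Nat.prime_two.dvd_of_dvd_pow h)
  exact h2 (by rw [show (2 : F) = ((2 : ℕ) : F) by norm_num, this]; exact CharP.cast_eq_zero F p)

/-- An involution negates its moved space. -/
lemma invol_resid {g : orthGroup Q} (hg : g ^ 2 = 1) {w : V} (hw : w ∈ resid g) : g.1 w = -w := by
  obtain ⟨u, rfl⟩ := hw
  have hgg : g.1 (g.1 u) = u := by rw [← orth_mul_apply, ← pow_two, hg]; rfl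
  rw [resMap_apply, map_sub, hgg, neg_sub]

/-- The two spaces of an involution. -/
lemma invol_spaces (hQ : (polB Q).Nondegenerate) (h2 : (2 : F) ≠ 0) {g : orthGroup Q} (hg : g ^ 2 = 1) :
    NdOn Q (LinearMap.ker (resMap g)) ∧ NdOn Q (resid g) ∧
      Module.finrank F (LinearMap.ker (resMap g)) + Module.finrank F (resid g) = Module.finrank F V ∧
      (Even (Module.finrank F (LinearMap.ker (resMap g))) → Even (Module.finrank F (resid g)) →
        (PlusOn Q (⊤ : Submodule F V) ↔ (PlusOn Q (LinearMap.ker (resMap g)) ↔ PlusOn Q (resid g)))) := by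
  haveI : Fact (Nat.Prime 2) := ⟨Nat.prime_two⟩
  obtain ⟨hKn, hRn, hKR, -⟩ := fixed_moved hQ hg (not_two_dvd_card h2)
  refine ⟨hKn, hRn, ?_, fun he he' => ?_⟩
  · rw [← finrank_sup_perp hKn (perp_fixed_resid g), hKR, finrank_top]
  · rw [← hKR]; exact plusOn_sup hKn hRn (perp_fixed_resid g) he he'

/-- Gluing totally singular subspaces of the two spaces. -/
lemma invol_build (hQ : (polB Q).Nondegenerate) (h2 : (2 : F) ≠ 0) {g : orthGroup Q} (hg : g ^ 2 = 1) {m j : ℕ} (hj : j ≤ m)
    (hK : 2 * j < Module.finrank F (LinearMap.ker (resMap g)) ∨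
      (2 * j = Module.finrank F (LinearMap.ker (resMap g)) ∧ PlusOn Q (LinearMap.ker (resMap g))))
    (hR : 2 * (m - j) < Module.finrank F (resid g) ∨ (2 * (m - j) = Module.finrank F (resid g) ∧ PlusOn Q (resid g))) :
    ∃ U, IsTSIn Q ⊤ m U ∧ Inv g U := by
  obtain ⟨hKn, hRn, -, -⟩ := invol_spaces hQ h2 hg
  obtain ⟨A, hA, hAd, hA0⟩ := (exists_ts_iff hKn j).mpr hK
  obtain ⟨B, hB, hBd, hB0⟩ := (exists_ts_iff hRn (m - j)).mpr hR
  have hAi : InvTS g ⊤ A := ⟨le_top, fun u hu => by rw [mem_ker_resMap.mp (hA hu)]; exact hu, hA0⟩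
  have hBi : InvTS g ⊤ B := ⟨le_top, fun u hu => by rw [invol_resid hg (hB hu)]; exact B.neg_mem hu, hB0⟩
  obtain ⟨-, hi', h0'⟩ := invTS_sup hAi hBi fun a ha b hb => perp_fixed_resid g a (hA ha) b (hB hb)
  refine ⟨A ⊔ B, ⟨le_top, ?_, h0'⟩, hi'⟩
  have hd := Submodule.finrank_sup_add_finrank_inf_eq A B
  rw [((disjoint_of_perp hKn (perp_fixed_resid g)).mono hA hB).eq_bot, finrank_bot, add_zero, hAd, hBd] at hd
  omega

/-- Involutions fix all small totally singular dimensions. -/
theorem invol_ts_small (hQ : (polB Q).Nondegenerate) (h2 : (2 : F) ≠ 0) {g : orthGroup Q} (hg : g ^ 2 = 1) {m : ℕ}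
    (hm : 2 * m + 3 ≤ Module.finrank F V) : ∃ U, IsTSIn Q ⊤ m U ∧ Inv g U := by
  obtain ⟨hKn, hRn, hsum, -⟩ := invol_spaces hQ h2 hg
  set a := Module.finrank F (LinearMap.ker (resMap g)) with ha
  set b := Module.finrank F (resid g) with hb
  have h0 : ∀ W : Submodule F V, Module.finrank F W = 0 → PlusOn Q W := fun W hW => plusOn_of_even_zero hW
  refine invol_build hQ h2 hg (j := min m ((a - 1) / 2)) (Nat.min_le_left _ _) ?_ ?_
  · rw [← ha]
    rcases Nat.eq_zero_or_pos a with he | he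
    · exact Or.inr ⟨by omega, h0 _ he⟩
    · exact Or.inl (by omega)
  · rw [← hb]
    rcases Nat.eq_zero_or_pos b with he | he
    · exact Or.inr ⟨by omega, h0 _ he⟩
    · exact Or.inl (by omega)

/-- Involutions of a space of minus type. -/
theorem invol_ts_minus (hQ : (polB Q).Nondegenerate) (h2 : (2 : F) ≠ 0) {g : orthGroup Q} (hg : g ^ 2 = 1) {d m : ℕ}
    (hN : Module.finrank F V = 2 * d) (hT : ¬ PlusOn Q (⊤ : Submodule F V)) (hm : m + 1 ≤ d) :
    ∃ U, IsTSIn Q ⊤ m U ∧ Inv g U := by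
  obtain ⟨hKn, hRn, hsum, htype⟩ := invol_spaces hQ h2 hg
  set a := Module.finrank F (LinearMap.ker (resMap g)) with ha
  set b := Module.finrank F (resid g) with hb
  rcases Nat.even_or_odd a with ⟨a', ha'⟩ | ⟨a', ha'⟩
  · have hb' : b = 2 * (d - a') := by omega
    have hTT := htype ⟨a', ha'⟩ ⟨d - a', by omega⟩
    rw [iff_false_intro hT, false_iff] at hTT
    by_cases hKp : PlusOn Q (LinearMap.ker (resMap g))
    · have hRp : ¬ PlusOn Q (resid g) := fun h => hTT (iff_of_true hKp h)
      have hb0 : d - a' ≠ 0 := fun e => hRp (plusOn_of_even_zero (by omega))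
      refine invol_build hQ h2 hg (j := min m a') (Nat.min_le_left _ _) ?_ (Or.inl (by omega))
      rcases le_or_gt a' m with h | h
      · exact Or.inr ⟨by omega, hKp⟩
      · exact Or.inl (by omega)
    · have hRp : PlusOn Q (resid g) := by
        by_contra h
        exact hTT (iff_of_false hKp h)
      have ha0 : a' ≠ 0 := fun e => hKp (plusOn_of_even_zero (by omega))
      refine invol_build hQ h2 hg (j := min m (a' - 1)) (Nat.min_le_left _ _) (Or.inl (by omega)) ?_
      rcases lt_trichotomy (2 * (m - min m (a' - 1))) b with h | h | h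
      · exact Or.inl h
      · exact Or.inr ⟨h, hRp⟩
      · omega
  · exact invol_build hQ h2 hg (j := min m a') (Nat.min_le_left _ _) (Or.inl (by omega)) (Or.inl (by omega))

/-- Involutions with both spaces of plus type, or of odd dimension with plus moved space. -/
theorem invol_ts_max (hQ : (polB Q).Nondegenerate) (h2 : (2 : F) ≠ 0) {g : orthGroup Q} (hg : g ^ 2 = 1) {d m h : ℕ}
    (hN : Module.finrank F V = 2 * d + 1 ∨ (Module.finrank F V = 2 * d ∧ PlusOn Q (⊤ : Submodule F V)))
    (hR : Module.finrank F (resid g) = 2 * h) (hRp : PlusOn Q (resid g)) (hm : m ≤ d) :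
    ∃ U, IsTSIn Q ⊤ m U ∧ Inv g U := by
  obtain ⟨hKn, hRn, hsum, htype⟩ := invol_spaces hQ h2 hg
  refine invol_build hQ h2 hg (j := m - min m h) (Nat.sub_le _ _) ?_ ?_
  · rcases hN with hN | ⟨hN, hT⟩
    · exact Or.inl (by omega)
    · have hKp : PlusOn Q (LinearMap.ker (resMap g)) := by
        have := (htype ⟨d - h, by omega⟩ ⟨h, by omega⟩).mp hT
        exact this.mpr hRp
      rcases lt_or_eq_of_le (show 2 * (m - min m h) ≤ Module.finrank F (LinearMap.ker (resMap g)) by omega) with h' | h'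
      · exact Or.inl h'
      · exact Or.inr ⟨h', hKp⟩
  · rcases le_or_gt h m with h' | h'
    · exact Or.inr ⟨by omega, hRp⟩
    · exact Or.inl (by omega)

/-- The moved space of an involution of the derived group. -/
theorem invol_commutator (hQ : (polB Q).Nondegenerate) (h2 : (2 : F) ≠ 0) (hn : 2 ≤ Module.finrank F V) {g : orthGroup Q}
    (hg : g ^ 2 = 1) (hgc : g ∈ commutator (orthGroup Q)) :
    ∃ h, Module.finrank F (resid g) = 2 * h ∧ (PlusOn Q (resid g) ↔ (IsSquare (-1 : F) ∨ Even h)) := by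
  classical
  set hgen := reflGenerates_of_two_ne_zero (V := V) h2 with hgendef
  rw [commutator_eq_invKer hQ hgen hn, MonoidHom.mem_ker] at hgc
  obtain ⟨hKn, hRn, -, -⟩ := invol_spaces hQ h2 hg
  have hd1 : dickson g = 1 := congrArg Prod.fst hgc
  obtain ⟨h, hh⟩ : Even (Module.finrank F (resid g)) := by
    rw [dickson, ofAdd_eq_one, ZMod.natCast_eq_zero_iff_even] at hd1
    exact hd1
  refine ⟨h, by omega, ?_⟩
  by_contra hne
  rcases Nat.eq_zero_or_pos h with rfl | hpos
  · exact hne (iff_of_true (plusOn_of_even_zero (by omega)) (Or.inr ⟨0, rfl⟩))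
  obtain ⟨P, hPR, hPd, hPn, hPt⟩ : ∃ P ≤ resid g, Module.finrank F P = 2 ∧ NdOn Q P ∧ (PlusOn Q P ↔ ¬ IsSquare (-1 : F)) := by
    rcases Nat.lt_or_ge 1 h with h1 | h1
    · obtain ⟨P, h1, h2', h3, h4⟩ := exists_sub hRn (h := 1) (by omega) (¬ IsSquare (-1 : F)) (fun e => absurd e one_ne_zero)
      exact ⟨P, h1, by omega, h3, h4⟩
    · obtain rfl : h = 1 := by omega
      refine ⟨_, le_rfl, by omega, hRn, ?_⟩
      rw [or_iff_left (by decide)] at hne
      by_cases hs : IsSquare (-1 : F) <;> simp only [hs, iff_true, iff_false, not_not, not_true, not_false_eq_true] at hne ⊢ <;>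
        exact hne
  obtain ⟨R', hR'R, hR'n, hPR', hsup, hR'd⟩ := exists_compl hRn hPR hPn
  have hR't : PlusOn Q R' ↔ (IsSquare (-1 : F) ∨ Even (h - 1)) := by
    have ht := plusOn_sup hPn hR'n hPR' ⟨1, by omega⟩ ⟨h - 1, by omega⟩
    rw [hsup, hPt] at ht
    rw [ht] at hne
    have he : Even (h - 1) ↔ ¬ Even h := by
      obtain ⟨k, rfl⟩ : ∃ k, h = k + 1 := ⟨h - 1, by omega⟩
      rw [Nat.even_add_one, not_not, Nat.add_sub_cancel]
    rw [he]
    by_cases hs : IsSquare (-1 : F) <;> by_cases he' : Even h <;> by_cases hp : PlusOn Q R' <;> simp_all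
  obtain ⟨j, hji, hj1, hj2⟩ := exists_i h2 (h - 1) R' hR'n (by omega) hR't
  obtain ⟨x', hx'⟩ := exists_qmap_eq hPn.restrict (by omega) 1 one_ne_zero
  set x : V := (x' : V) with hxdef
  have hQx : Q x = 1 := hx'
  have hx0 : x ≠ 0 := fun e => by rw [e, map_zero] at hQx; exact zero_ne_one hQx
  have hxn : NdOn Q (F ∙ x) := ndOn_of fun v hv hv' => by
    obtain ⟨t, rfl⟩ := Submodule.mem_span_singleton.mp hv
    have := hv' x (Submodule.mem_span_singleton_self x)
    rw [map_smul, polB_self, hQx, smul_eq_mul, mul_one] at this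
    rw [(mul_eq_zero.mp this).resolve_right h2, zero_smul]
  obtain ⟨L, hLP, hLn, hxL, hLsup, hLd⟩ := exists_compl hPn ((Submodule.span_singleton_le_iff_mem _ _).mpr x'.2) hxn
  rw [finrank_span_singleton hx0] at hLd
  obtain ⟨y, hy, hy0⟩ := Submodule.exists_mem_ne_zero_of_ne_bot (p := L) fun e => by rw [e, finrank_bot] at hLd; omega
  have hspan : F ∙ y = L := Submodule.eq_of_le_of_finrank_le ((Submodule.span_singleton_le_iff_mem _ _).mpr hy)
    (by rw [finrank_span_singleton hy0]; omega)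
  have hQy : Q y ≠ 0 := fun e => hy0 (hLn.eq_zero hy fun u hu => by
    rw [← hspan] at hu
    obtain ⟨t, rfl⟩ := Submodule.mem_span_singleton.mp hu
    rw [map_smul, LinearMap.smul_apply, polB_self, e, mul_zero, smul_zero])
  have hxy : polB Q x y = 0 := hxL x (Submodule.mem_span_singleton_self x) y hy
  have hQx0 : Q x ≠ 0 := by rw [hQx]; exact one_ne_zero
  have hperp : ∀ u, (∀ w ∈ P, polB Q u w = 0) → (refl Q x * refl Q y).1 u = u := fun u hu => by
    rw [orth_mul_apply, refl_fix (hu y (hLP hy)), refl_fix (hu x x'.2)]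
  -- the product realises the involution
  have hprod : (refl Q x * refl Q y) * (j * j) = g := by
    refine orth_ext fun v => ?_
    haveI : Fact (Nat.Prime 2) := ⟨Nat.prime_two⟩
    obtain ⟨-, -, hKR, -⟩ := fixed_moved hQ hg (not_two_dvd_card h2)
    obtain ⟨k, hk, w, hw, rfl⟩ := Submodule.mem_sup.mp (show v ∈ LinearMap.ker (resMap g) ⊔ resid g by rw [hKR]; trivial)
    obtain ⟨p, hp, w', hw', rfl⟩ := Submodule.mem_sup.mp (show w ∈ P ⊔ R' by rw [hsup]; exact hw)
    have hjk : j.1 k = k := hj2 k fun w hw => perp_fixed_resid g k hk w (hR'R hw)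
    have hjp : j.1 p = p := hj2 p fun w hw => hPR' p hp w hw
    have hfk : (refl Q x * refl Q y).1 k = k := hperp k fun w hw => perp_fixed_resid g k hk w (hPR hw)
    have hfw : (refl Q x * refl Q y).1 w' = w' := hperp w' fun w hw => by rw [polB_comm]; exact hPR' w hw w' hw'
    have hfp : (refl Q x * refl Q y).1 p = -p := by
      obtain ⟨a, ha, l, hl, rfl⟩ := Submodule.mem_sup.mp (show p ∈ (F ∙ x) ⊔ L by rw [hLsup]; exact hp)
      rw [← hspan] at hl
      obtain ⟨a, rfl⟩ := Submodule.mem_span_singleton.mp ha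
      obtain ⟨b, rfl⟩ := Submodule.mem_span_singleton.mp hl
      simp only [orth_mul_apply, map_add, map_smul, refl_fix hxy, refl_self hQy, map_neg, refl_self hQx0,
        refl_fix (show polB Q y x = 0 by rw [polB_comm]; exact hxy), smul_neg, neg_add]
    rw [orth_mul_apply (refl Q x * refl Q y) (j * j), orth_mul_apply j j]
    simp only [map_add, hjk, hjp, hj1 w' hw', map_neg, hfk, hfp, hfw]
    rw [mem_ker_resMap.mp hk, invol_resid hg (hPR hp), invol_resid hg (hR'R hw')]
  have hsqv : sqc (Q y) = 1 := by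
    have hsnd := congrArg Prod.snd hgc
    rw [← hprod, map_mul, map_mul, map_mul, invHom_refl hQ hgen hQx0, invHom_refl hQ hgen hQy] at hsnd
    simpa [hQx, sqc_one, sqClass_mul_self] using hsnd
  obtain ⟨t, ht⟩ := (sqc_eq_one_iff hQy).mp hsqv
  have ht0 : t ≠ 0 := fun e => hQy (by rw [ht, e, mul_zero])
  have hp : EqPair Q x (t⁻¹ • y) := ⟨hQx0, by rw [qmap_smul, ht, hQx]; field_simp, by rw [map_smul, hxy, smul_zero]⟩
  obtain ⟨hPd', -, hPt'⟩ := hp.plane h2
  have hPeq : Submodule.span F ({x, t⁻¹ • y} : Set V) = P :=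
    Submodule.eq_of_le_of_finrank_le (Submodule.span_le.mpr (by
      rintro _ (rfl | rfl)
      exacts [x'.2, P.smul_mem _ (hLP hy)])) (by omega)
  rw [hPeq, hPt] at hPt'
  tauto

/-- A single negated plane in the derived group. -/
theorem exists_invol_plane (hQ : (polB Q).Nondegenerate) (h2 : (2 : F) ≠ 0) (hn : 3 ≤ Module.finrank F V) :
    ∃ g ∈ commutator (orthGroup Q), g ^ 2 = 1 ∧ Module.finrank F (resid g) = 2 ∧
      (PlusOn Q (resid g) ↔ IsSquare (-1 : F)) := by
  obtain ⟨P, -, hPd, hPn, hPt⟩ := exists_sub (ndOn_top hQ) (h := 1) (by rw [finrank_top]; omega) (IsSquare (-1 : F))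
    (fun e => absurd e one_ne_zero)
  rw [mul_one] at hPd
  obtain ⟨j, hji, hj1, hj2⟩ := exists_i h2 1 P hPn (by omega) (hPt.trans (by simp))
  have hjP : ∀ v ∈ (polB Q).orthogonal P, (j * j).1 v = v := fun v hv => by
    have hfix : j.1 v = v := hj2 v fun w hw => by rw [polB_comm]; exact hv w hw
    rw [orth_mul_apply, hfix, hfix]
  have hjR : ∀ v ∈ P, (j * j).1 v = -v := fun v hv => by rw [orth_mul_apply, hj1 v hv]
  have hres : resid (j * j) = P := by
    refine le_antisymm ?_ fun v hv => ?_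
    · rintro _ ⟨v, rfl⟩
      obtain ⟨p, hp, l, hl, rfl⟩ := Submodule.mem_sup.mp (show v ∈ P ⊔ (polB Q).orthogonal P by
        rw [orth_sup_eq_top hQ hPn]; trivial)
      rw [map_add, resMap_apply, resMap_apply, hjR p hp, hjP l hl, sub_self, add_zero]
      exact P.sub_mem hp (P.neg_mem hp)
    · have h := (resid (j * j)).smul_mem (2 : F)⁻¹ (resMap_mem (j * j) v)
      rwa [resMap_apply, hjR v hv, sub_neg_eq_add, ← two_smul F v, smul_smul, inv_mul_cancel₀ h2, one_smul] at h
  refine ⟨j * j, ?_, orth_ext fun v => ?_, by rw [hres, hPd], by rw [hres]; exact hPt⟩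
  · rw [commutator_eq_invKer hQ (reflGenerates_of_two_ne_zero h2) (by omega), MonoidHom.mem_ker, map_mul]
    exact Prod.ext ((by decide : ∀ x : Multiplicative (ZMod 2), x * x = 1) _) (sqClass_mul_self _)
  · obtain ⟨p, hp, l, hl, rfl⟩ := Submodule.mem_sup.mp (show v ∈ P ⊔ (polB Q).orthogonal P by
      rw [orth_sup_eq_top hQ hPn]; trivial)
    rw [pow_two, orth_mul_apply (j * j) (j * j), map_add, hjR p hp, hjP l hl, map_add, map_neg, hjR p hp, hjP l hl, neg_neg]
    rfl

/-- A negated anisotropic plane leaves only the fixed space. -/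
theorem no_ts_of_minus_plane (hQ : (polB Q).Nondegenerate) (h2 : (2 : F) ≠ 0) {g : orthGroup Q} (hg : g ^ 2 = 1)
    (hd : Module.finrank F (resid g) = 2) (ht : ¬ PlusOn Q (resid g)) {m : ℕ} {U : Submodule F V}
    (hU : IsTSIn Q ⊤ m U) (hUi : Inv g U) :
    2 * m < Module.finrank F V - 2 ∨ (2 * m = Module.finrank F V - 2 ∧ PlusOn Q (LinearMap.ker (resMap g))) := by
  haveI : Fact (Nat.Prime 2) := ⟨Nat.prime_two⟩
  obtain ⟨hKn, hRn, hsum, -⟩ := invol_spaces hQ h2 hg
  have hbot : U ⊓ resid g = ⊥ := by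
    by_contra hne
    apply ht
    have hpos : 0 < Module.finrank F ↥(U ⊓ resid g) :=
      Nat.pos_of_ne_zero fun e => hne (Submodule.finrank_eq_zero.mp e)
    have h' := two_mul_ts_le hRn (inf_le_right : U ⊓ resid g ≤ resid g) fun u hu => hU.2.2 u hu.1
    exact ⟨U ⊓ resid g, inf_le_right, fun u hu => hU.2.2 u hu.1, by omega⟩
  have he := inv_split_any hg (not_two_dvd_card h2) hUi
  rw [hbot, sup_bot_eq] at he
  have := (exists_ts_iff hKn m).mp ⟨U, he ▸ inf_le_right, hU.2.1, hU.2.2⟩
  rwa [show Module.finrank F (LinearMap.ker (resMap g)) = Module.finrank F V - 2 by omega] at this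

omit [Fintype F] in
/-- An eigenspace of a root of minus one. -/
theorem exists_ts_eigen (h2 : (2 : F) ≠ 0) {g : orthGroup Q} (hgg : ∀ v, g.1 (g.1 v) = -v) (hs : IsSquare (-1 : F)) :
    ∃ U : Submodule F V, Inv g U ∧ (∀ u ∈ U, Q u = 0) ∧ Module.finrank F V ≤ 2 * Module.finrank F U ∧
      ∀ W ≤ U, Inv g W := by
  obtain ⟨z, hz⟩ := hs
  have hz0 : z ≠ 0 := fun e => by rw [e, mul_zero] at hz; exact neg_ne_zero.mpr one_ne_zero hz
  let E : F → Submodule F V := fun a => LinearMap.ker ((g.1 : V →ₗ[F] V) - a • LinearMap.id)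
  have hmem : ∀ a v, v ∈ E a ↔ g.1 v = a • v := fun a v => by
    simp [E, sub_eq_zero]
  have hEi : ∀ a, ∀ W ≤ E a, Inv g W := fun a W hW w hw => by
    rw [(hmem a w).mp (hW hw)]; exact W.smul_mem a hw
  have hE0 : ∀ a, a * a = -1 → ∀ u ∈ E a, Q u = 0 := fun a ha u hu => by
    have h := g.2 u
    rw [(hmem a u).mp hu, qmap_smul, ha] at h
    have h' : (2 : F) * Q u = 0 := by linear_combination -h
    exact (mul_eq_zero.mp h').resolve_left h2
  have hsup : E z ⊔ E (-z) = ⊤ := by
    refine eq_top_iff.mpr fun v _ => ?_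
    refine Submodule.mem_sup.mpr ⟨(2 : F)⁻¹ • (v + (-z) • g.1 v), ?_, (2 : F)⁻¹ • (v + z • g.1 v), ?_, ?_⟩
    · rw [hmem, map_smul, map_add, map_smul, hgg]
      match_scalars <;> first | ring1 | linear_combination (-(2 : F)⁻¹) * hz | linear_combination (2 : F)⁻¹ * hz
    · rw [hmem, map_smul, map_add, map_smul, hgg]
      match_scalars <;> first | ring1 | linear_combination (-(2 : F)⁻¹) * hz | linear_combination (2 : F)⁻¹ * hz
    · rw [← smul_add, neg_smul, show v + -(z • g.1 v) + (v + z • g.1 v) = (2 : F) • v by rw [two_smul]; abel, smul_smul,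
        inv_mul_cancel₀ h2, one_smul]
  have hd := Submodule.finrank_sup_add_finrank_inf_eq (E z) (E (-z))
  rw [hsup, finrank_top] at hd
  rcases le_total (Module.finrank F (E (-z))) (Module.finrank F (E z)) with h | h
  · exact ⟨E z, hEi z _ le_rfl, hE0 z hz.symm, by omega, hEi z⟩
  · exact ⟨E (-z), hEi _ _ le_rfl, hE0 _ (by rw [neg_mul_neg]; exact hz.symm), by omega, hEi _⟩

omit [Fintype F] in
/-- Invariant subspaces of a root of minus one have even dimension. -/
lemma inv_even_of_not_square {g : orthGroup Q} (hgg : ∀ v, g.1 (g.1 v) = -v) (hs : ¬ IsSquare (-1 : F))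
    {U : Submodule F V} (hU : Inv g U) : Even (Module.finrank F U) := by
  by_contra ho
  set f : U →ₗ[F] U := (g.1 : V →ₗ[F] V).restrict hU with hf
  have hff : f ∘ₗ f = (-1 : F) • LinearMap.id := LinearMap.ext fun u => Subtype.ext (by
    show g.1 (g.1 (u : V)) = _
    rw [hgg]; simp)
  have h := congrArg LinearMap.det hff
  rw [LinearMap.det_comp, LinearMap.det_smul, LinearMap.det_id, mul_one,
    (Nat.not_even_iff_odd.mp ho).neg_one_pow] at h
  exact hs ⟨_, h.symm⟩

/-- Even dimensions of totally singular subspaces invariant under a root of minus one. -/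
theorem exists_ts_i (hQ : (polB Q).Nondegenerate) (h2 : (2 : F) ≠ 0) (hs : ¬ IsSquare (-1 : F)) {g : orthGroup Q}
    (hgg : ∀ v, g.1 (g.1 v) = -v) (k : ℕ) :
    ∀ W : Submodule F V, NdOn Q W → Inv g W → 4 * k ≤ Module.finrank F W →
      ∃ U, InvTS g W U ∧ Module.finrank F U = 2 * k := by
  induction k with
  | zero => intro W _ _ _; exact ⟨⊥, invTS_bot g W, by simp⟩
  | succ k ih =>
    intro W hW hWi hWd
    obtain ⟨h, hh, -, hsub, -⟩ := struct_i hQ h2 g W hW hWi fun w _ => hgg w
    obtain ⟨X, hXW, hXd, hXn, hXi⟩ := hsub 2 (by omega)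
    obtain ⟨R, hRW, hRn, hXR, hsup, hRd⟩ := exists_compl hW hXW hXn
    have hg4 : g ^ 4 = 1 := orth_ext fun v => by
      simp only [pow_succ, pow_zero, one_mul, orth_mul_apply, hgg, neg_neg]; rfl
    have hRi := inv_compl hg4 (by norm_num) hWi hXi hXn hXR hsup
    obtain ⟨U, ⟨hUR, hUi, hU0⟩, hUd⟩ := ih R hRn hRi (by omega)
    obtain ⟨u, huX, hu0, hQu⟩ := exists_singular_in (Q := Q) X (by omega)
    have hgu : Q (g.1 u) = 0 := (g.2 u).trans hQu
    have hbu : polB Q u (g.1 u) = 0 := by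
      have h1 := polB_orth_apply g u (g.1 u)
      rw [hgg, map_neg, polB_comm (g.1 u) u] at h1
      have h3 : (2 : F) * polB Q u (g.1 u) = 0 := by linear_combination -h1
      exact (mul_eq_zero.mp h3).resolve_left h2
    set M := Submodule.span F ({u, g.1 u} : Set V) with hM
    have hMd : Module.finrank F M = 2 := by
      have hli : LinearIndependent F ![u, g.1 u] := by
        rw [LinearIndependent.pair_iff]
        intro a b e
        by_cases hb : b = 0
        · rw [hb, zero_smul, add_zero] at e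
          exact ⟨(smul_eq_zero.mp e).resolve_right hu0, hb⟩
        · exfalso
          apply hs
          have e1 : g.1 u = (-a / b) • u := by
            have := eq_neg_of_add_eq_zero_right e
            rw [← one_smul F (g.1 u), ← inv_mul_cancel₀ hb, ← smul_smul, this, smul_neg, smul_smul, ← neg_smul]
            congr 1; ring
          have e2 := hgg u
          rw [e1, map_smul, e1, smul_smul, ← neg_one_smul F u] at e2
          exact ⟨-a / b, (smul_left_injective F hu0 e2).symm⟩
      have := finrank_span_eq_card hli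
      rwa [show Set.range ![u, g.1 u] = {u, g.1 u} by ext v; simp [eq_comm, or_comm], Fintype.card_fin] at this
    have hMX : M ≤ X := Submodule.span_le.mpr (by rintro _ (rfl | rfl); exacts [huX, hXi u huX])
    have hMts : InvTS g W M := by
      refine ⟨hMX.trans hXW, fun v hv => ?_, fun v hv => ?_⟩
      · obtain ⟨a, b, rfl⟩ := mem_pair hv
        rw [map_add, map_smul, map_smul, hgg, smul_neg, ← neg_smul, add_comm]
        exact Submodule.mem_span_pair.mpr ⟨-b, a, rfl⟩
      · obtain ⟨a, b, rfl⟩ := mem_pair hv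
        rw [qmap_add, qmap_smul, qmap_smul, hQu, hgu, map_smul, map_smul, LinearMap.smul_apply, hbu]
        simp
    refine ⟨M ⊔ U, invTS_sup hMts ⟨hUR.trans hRW, hUi, hU0⟩ fun a ha b hb => hXR a (hMX ha) b (hUR hb), ?_⟩
    have h' := Submodule.finrank_sup_add_finrank_inf_eq M U
    rw [((disjoint_of_perp hXn hXR).mono hMX hUR).eq_bot, finrank_bot] at h'
    omega

end H47
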