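import Mathlib
import Cfsg.Agent.H47.OrthTSArith
import Cfsg.Agent.H47.OrthTSTwo
import Cfsg.Agent.H47.OrthStd
import Cfsg.Agent.H47.OrthEven

/-!
Assembled criteria for totally singular subspaces.
-/

set_option autoImplicit false

namespace H47

open H43

variable {F : Type*} [Field F]

/-- Every element of odd prime order fixes a totally singular subspace: the numerical form. -/
theorem crit_ts_arith [Fintype F] {V : Type*} [AddCommGroup V] [Module F V] [FiniteDimensional F V] {Q : QuadraticForm F V}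
    (hQ : (polB Q).Nondegenerate) {r : ℕ} [hr : Fact r.Prime] (hr2 : r ≠ 2) (hrq : ¬ r ∣ Fintype.card F) {i c m N : ℕ}
    (hi : i = orderOf (Fintype.card F : ZMod r)) (hc : c = if Even i then i else 2 * i) (hN : Module.finrank F V = N)
    {T : Prop} (hTV : PlusOn Q (⊤ : Submodule F V) ↔ T) (h2m : 2 * m < N)
    (hdvd : r ∣ Nat.card {U : Submodule F V // IsTSIn Q ⊤ m U}) :
    (∀ g : orthGroup Q, g ^ r = 1 → g ≠ 1 → ∃ U, IsTSIn Q ⊤ m U ∧ Inv g U) ↔
      (i ≤ m ∧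
        ((Odd i ∧ ((N % c = 0 ∧ ¬ T) ∨ 2 * (m % i) < N % c ∨ (2 * (m % i) = N % c ∧ T))) ∨
         (Even i ∧ (r - 1) / i + 2 * (m / i) ≤ N / i ∧
          ((2 * (m % i) ≤ i ∧ N % c = 0 ∧ (T ↔ Odd (N / i)) ∧ (r - 1) / i + 2 * (m / i) < N / i) ∨
           (2 * (m % i) ≤ N % c ∧ (T ↔ Even (N / i))) ∨
           (2 * (m % i) < N % c ∧ (T ↔ Odd (N / i))))))) := by
  have hipos : 0 < i := hi ▸ order_pos hrq
  have ht : 1 ≤ (r - 1) / i := by
    refine (Nat.one_le_div_iff hipos).mpr (Nat.le_of_dvd (by have := hr.out.two_le; omega) ?_)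
    rw [hi]
    exact orderOf_dvd_of_pow_eq_one (ZMod.pow_card_sub_one_eq_one fun h0 => hrq ((ZMod.natCast_eq_zero_iff _ r).mp h0))
  obtain ⟨hc', heps⟩ := blockDim_eq r hi hc
  rw [crit_ts hQ hr2 hrq ((exists_ts_iff (ndOn_top hQ) m).mpr (Or.inl (by rw [finrank_top, hN]; exact h2m))) hdvd]
  simp only [RealBlocks, hN, hc', heps, ← hi, propext hTV]
  refine and_congr_right fun him => ?_
  rcases Nat.even_or_odd i with hie | hio
  · rw [if_pos hie] at hc
    subst hc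
    have hno := Nat.not_odd_iff_even.mpr hie
    rw [goodTS_all_even hie hipos him ht T (Or.inl h2m) (fun A => by simp [hno])]
    simp [hno, hie]
  · have hne := Nat.not_even_iff_odd.mpr hio
    rw [if_neg hne] at hc
    subst hc
    rw [goodTS_all_odd hio him T (Or.inl h2m) (fun A => Or.inl hio)]
    simp [hne, hio]

lemma exists_ts_le_of_finrank {V : Type*} [AddCommGroup V] [Module F V] [FiniteDimensional F V] (E : Submodule F V) {k : ℕ}
    (h : k ≤ Module.finrank F E) : ∃ W ≤ E, Module.finrank F W = k := by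
  obtain ⟨f, hf⟩ := exists_linearIndependent_of_le_finrank h
  exact ⟨(Submodule.span F (Set.range f)).map E.subtype, Submodule.map_subtype_le _ _, by
    rw [Submodule.finrank_map_subtype_eq, finrank_span_eq_card hf, Fintype.card_fin]⟩

section matrices

variable {ι : Type} [Fintype ι] [DecidableEq ι] {q : QuadraticForm F (ι → F)}

/-- Projective order two, by the two kinds of isometries. -/
theorem omega_reduce_two_full (P : Submodule F (ι → F) → Prop) {v₀ : ι → F} (hv₀ : q v₀ ≠ 0) (h2 : (2 : F) ≠ 0)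
    (hex : ∃ W, P W) :
    (∀ x : GL ι F, x ∈ Cfsg.Geo.omegaGL ⇑q →
      (∃ z : F, ((x ^ 2 : GL ι F) : Matrix ι ι F) = z • (1 : Matrix ι ι F)) →
      (∀ z : F, (x : Matrix ι ι F) ≠ z • (1 : Matrix ι ι F)) →
      ∃ W, P W ∧ W.map (Matrix.toLin' (x : Matrix ι ι F)) ≤ W) ↔
    ((∀ g ∈ commutator (orthGroup q), g ^ 2 = 1 → ∃ W, P W ∧ Inv g W) ∧
     (∀ g ∈ commutator (orthGroup q), (∀ v, g.1 (g.1 v) = -v) → ∃ W, P W ∧ Inv g W)) := by
  constructor
  · intro hall
    refine ⟨fun g hg hg2 => ?_, fun g hg hgg => ?_⟩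
    · by_cases hs : ∃ z : F, ∀ v, g.1 v = z • v
      · obtain ⟨W, hW⟩ := hex
        obtain ⟨z, hz⟩ := hs
        exact ⟨W, hW, fun w hw => by rw [hz]; exact W.smul_mem z hw⟩
      push Not at hs
      obtain ⟨W, hW, hWx⟩ := hall (H45.toGL q g) (by rw [H45.omegaGL_eq_map]; exact ⟨g, hg, rfl⟩)
        ⟨1, by rw [← map_pow, hg2, map_one, Units.val_one, one_smul]⟩
        (fun z e => by
          obtain ⟨v, hv⟩ := hs z
          exact hv (by rw [← H45.toGL_apply q g v, e, Matrix.smul_mulVec, Matrix.one_mulVec]))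
      exact ⟨W, hW, (map_toGL_le_iff g W).mp hWx⟩
    · obtain ⟨W, hW, hWx⟩ := hall (H45.toGL q g) (by rw [H45.omegaGL_eq_map]; exact ⟨g, hg, rfl⟩)
        ⟨-1, Matrix.ext_iff_mulVec.2 fun v => by
          rw [← map_pow, H45.toGL_apply, pow_two, orth_mul_apply, hgg, Matrix.smul_mulVec, Matrix.one_mulVec, neg_one_smul]⟩
        (fun z e => i_nonscalar h2 hgg hv₀ z (by rw [← H45.toGL_apply q g v₀, e, Matrix.smul_mulVec, Matrix.one_mulVec]))
      exact ⟨W, hW, (map_toGL_le_iff g W).mp hWx⟩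
  · intro ⟨h1, h2'⟩ x hx hz _
    rw [H45.omegaGL_eq_map] at hx
    obtain ⟨g, hg, rfl⟩ := hx
    obtain ⟨z, hz⟩ := hz
    have hgg : ∀ v, g.1 (g.1 v) = z • v := fun v => by
      rw [← orth_mul_apply, ← pow_two, ← H45.toGL_apply q (g ^ 2) v, map_pow, hz, Matrix.smul_mulVec, Matrix.one_mulVec]
    have hzz : z * z = 1 := mul_right_cancel₀ hv₀ (by rw [← qmap_smul, ← hgg, g.2, g.2, one_mul])
    rcases mul_self_eq_one_iff.mp hzz with rfl | rfl
    · obtain ⟨W, hW, hWi⟩ := h1 g hg (orth_ext fun v => by rw [pow_two, orth_mul_apply, hgg, one_smul]; rfl)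
      exact ⟨W, hW, (map_toGL_le_iff g W).mpr hWi⟩
    · obtain ⟨W, hW, hWi⟩ := h2' g hg fun v => by rw [hgg, neg_one_smul]
      exact ⟨W, hW, (map_toGL_le_iff g W).mpr hWi⟩

/-- Roots of minus one. -/
theorem crit_ts_i [Fintype F] (hq : (polB q).Nondegenerate) (h2 : (2 : F) ≠ 0) {d m : ℕ}
    (hN : Module.finrank F (ι → F) = 2 * d) (hd : 3 ≤ d) (hmd : m + 1 ≤ d) :
    (∀ g ∈ commutator (orthGroup q), (∀ v, g.1 (g.1 v) = -v) → ∃ W, IsTSIn q ⊤ m W ∧ Inv g W) ↔
      (IsSquare (-1 : F) ∨ ¬ ((PlusOn q (⊤ : Submodule F (ι → F)) ↔ Even d) ∧ IsSquare ((2 : F) ^ d)) ∨ Even m) := by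
  by_cases hs : IsSquare (-1 : F)
  · refine iff_of_true (fun g hg hgg => ?_) (Or.inl hs)
    obtain ⟨E, hE, hE0, hEd, hEsub⟩ := exists_ts_eigen (Q := q) h2 hgg hs
    obtain ⟨W, hWE, hWd⟩ := exists_ts_le_of_finrank E (k := m) (by omega)
    exact ⟨W, ⟨le_top, hWd, fun u hu => hE0 u (hWE hu)⟩, hEsub W hWE⟩
  constructor
  · intro hall
    rw [or_iff_right hs, or_iff_not_imp_left, not_not]
    rintro ⟨hTV, hsq⟩
    obtain ⟨g, -, hg, -⟩ := exists_i h2 d ⊤ (ndOn_top hq) (by rw [finrank_top, hN]) (by rw [or_iff_right hs]; exact hTV)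
    have hgg : ∀ v, g.1 (g.1 v) = -v := fun v => hg v trivial
    obtain ⟨W, hW, hWi⟩ := hall g ((mem_commutator_i hq h2 hgg hN (by omega)).mpr hsq) hgg
    exact hW.2.1 ▸ inv_even_of_not_square hgg hs hWi
  · intro hR g hg hgg
    obtain ⟨h, hh, ht, -⟩ := struct_i hq h2 g ⊤ (ndOn_top hq) (fun _ _ => trivial) fun w _ => hgg w
    rw [finrank_top, hN] at hh
    obtain rfl : h = d := by omega
    rw [mem_commutator_i hq h2 hgg hN (by omega)] at hg
    rw [or_iff_right hs] at ht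
    obtain ⟨k, hk⟩ := (hR.resolve_left hs).resolve_left (not_not.mpr ⟨ht, hg⟩)
    obtain ⟨U, ⟨-, hUi, hU0⟩, hUd⟩ := exists_ts_i hq h2 hs hgg k ⊤ (ndOn_top hq) (fun _ _ => trivial)
      (by rw [finrank_top, hN]; omega)
    exact ⟨U, ⟨le_top, by omega, hU0⟩, hUi⟩

end matrices

end H47
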