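import Mathlib
import Cfsg.Agent.H47.OrthInvol
import Cfsg.Agent.H47.UniTargets

/-!
A unipotent element avoiding an odd class, by square classes.
-/

set_option autoImplicit false

namespace H47

open H43 Matrix

variable {F : Type*} [Field F] {V : Type*} [AddCommGroup V] [Module F V] [FiniteDimensional F V]
  {Q : QuadraticForm F V}

omit [FiniteDimensional F V] in
lemma polB_resMap_add (g : orthGroup Q) (x y : V) :
    polB Q (resMap g x) y + polB Q x (resMap g y) = polB Q (resMap g x) (resMap g y) := by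
  simp only [resMap_apply, map_sub, LinearMap.sub_apply, polB_orth_apply]
  ring

/-- A quadratic unipotent action with totally singular fixed space. -/
theorem quadratic_uni (h2 : (2 : F) ≠ 0) {g : orthGroup Q} {Y : Submodule F V} (hY : NdOn Q Y) (hi : Inv g Y)
    (hsq : ∀ y ∈ Y, resMap g (resMap g y) = 0) (hts : ∀ y ∈ Y, g.1 y = y → Q y = 0) :
    Module.finrank F Y % 4 = 0 ∧ PlusOn Q Y := by
  classical
  set K : Submodule F V := LinearMap.ker (resMap g) ⊓ Y with hK
  have hKts : ∀ u ∈ K, Q u = 0 := fun u hu => hts u hu.2 (mem_ker_resMap.mp hu.1)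
  have hmem : ∀ y ∈ Y, resMap g y ∈ K := fun y hy =>
    ⟨LinearMap.mem_ker.mpr (hsq y hy), by rw [resMap_apply]; exact Y.sub_mem hy (hi y hy)⟩
  let f : Y →ₗ[F] K :=
    { toFun := fun y => ⟨resMap g y, hmem y y.2⟩
      map_add' := fun a b => Subtype.ext (by simp)
      map_smul' := fun a b => Subtype.ext (by simp) }
  have hker : LinearMap.ker f = K.comap Y.subtype := by
    ext y
    simp only [LinearMap.mem_ker, Submodule.mem_comap, Subtype.ext_iff, hK, Submodule.mem_inf]
    exact ⟨fun h => ⟨h, y.2⟩, fun h => h.1⟩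
  have hKd : Module.finrank F (K.comap Y.subtype) = Module.finrank F K :=
    (Submodule.comapSubtypeEquivOfLe inf_le_right).finrank_eq
  have h1 := f.finrank_range_add_finrank_ker
  rw [hker, hKd] at h1
  have hKY : K ≤ Y := inf_le_right
  have h2' : 2 * Module.finrank F K ≤ Module.finrank F Y := two_mul_ts_le hY hKY hKts
  have h3 := Submodule.finrank_le (LinearMap.range f)
  refine ⟨?_, K, inf_le_right, hKts, ?_⟩
  swap
  · omega
  obtain ⟨C, hC⟩ := Submodule.exists_isCompl (K.comap Y.subtype)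
  have hCd := Submodule.finrank_add_eq_of_isCompl hC
  rw [hKd] at hCd
  let ι₀ : C →ₗ[F] V := Y.subtype.comp C.subtype
  let β : LinearMap.BilinForm F C := (polB Q).compl₁₂ ((resMap g).comp ι₀) ι₀
  have hβ : ∀ a b, β a b = polB Q (resMap g (ι₀ a)) (ι₀ b) := fun a b => rfl
  have hskew : ∀ a b, β b a = -β a b := fun a b => by
    have h := polB_resMap_add g (ι₀ a) (ι₀ b)
    rw [polB_eq_zero_of_singular hKts (hmem (ι₀ a) a.1.2) (hmem (ι₀ b) b.1.2),
      polB_comm (ι₀ a) (resMap g (ι₀ b))] at h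
    rw [hβ, hβ]; linear_combination h
  have hnd : ∀ a, (∀ b, β a b = 0) → a = 0 := by
    intro a ha
    have hz : resMap g (ι₀ a) = 0 := hY.eq_zero (hmem _ (Subtype.coe_prop _)).2 fun u hu => by
      obtain ⟨k, hk, c, hc, e⟩ := Submodule.mem_sup.mp
        (show (⟨u, hu⟩ : Y) ∈ K.comap Y.subtype ⊔ C by rw [hC.sup_eq_top]; trivial)
      have e' : (k : V) + (c : V) = u := congrArg Subtype.val e
      rw [← e', map_add, LinearMap.add_apply, show polB Q (k : V) (resMap g (ι₀ a)) = 0 from polB_fixed_resid (mem_ker_resMap.mp hk.1) ⟨_, rfl⟩, zero_add, polB_comm]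
      exact ha ⟨c, hc⟩
    have : (a : Y) ∈ K.comap Y.subtype ⊓ C := ⟨⟨LinearMap.mem_ker.mpr hz, (a : Y).2⟩, a.2⟩
    rw [hC.inf_eq_bot, Submodule.mem_bot] at this
    exact Subtype.ext this
  have hnd' : β.Nondegenerate :=
    ⟨hnd, fun b hb => hnd b fun a => by rw [hskew, hb, neg_zero]⟩
  let bC := Module.finBasis F C
  have hdet : (LinearMap.BilinForm.toMatrix bC β).det ≠ 0 :=
    (LinearMap.BilinForm.nondegenerate_iff_det_ne_zero bC).mp hnd'
  have hev : Even (Module.finrank F C) := by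
    by_contra ho
    have e : (LinearMap.BilinForm.toMatrix bC β)ᵀ = -(LinearMap.BilinForm.toMatrix bC β) := by
      ext i j
      simp only [Matrix.transpose_apply, Matrix.neg_apply, LinearMap.BilinForm.toMatrix_apply]
      exact hskew _ _
    have e' := congrArg Matrix.det e
    rw [Matrix.det_transpose, Matrix.det_neg, Fintype.card_fin, (Nat.not_even_iff_odd.mp ho).neg_one_pow] at e'
    exact mul_ne_zero h2 hdet (by linear_combination e')
  obtain ⟨b, hb⟩ := hev
  omega

omit [FiniteDimensional F V] in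
lemma IsomTo.polB_eq {X Z : Submodule F V} {φ : X ≃ₗ[F] Z} (hφ : ∀ x : X, Q (φ x : V) = Q (x : V)) (a b : X) :
    polB Q (φ a : V) (φ b : V) = polB Q (a : V) (b : V) := by
  have h := hφ (a + b)
  simp only [map_add, Submodule.coe_add, qmap_add, hφ] at h
  linear_combination h

/-- The class of the line is determined. -/
theorem line_class [Finite F] {X Z R P : Submodule F V} {f z : V} {j : ℕ} (hXZ : IsomTo Q X Z)
    (hRn : NdOn Q R) (hPn : NdOn Q P) (hRd : Module.finrank F R = 2 * j) (hPd : Module.finrank F P = 2 * j)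
    (hRt : PlusOn Q R) (hPt : PlusOn Q P) (hX : R ⊔ F ∙ f = X) (hZ : P ⊔ F ∙ z = Z) (hZn : NdOn Q Z)
    (hRf : PerpTo Q R (F ∙ f)) (hPz : PerpTo Q P (F ∙ z)) :
    ∃ t : F, Q z = t * t * Q f := by
  obtain ⟨φ, hφ⟩ := hXZ
  obtain ⟨ψ, hψ⟩ := ndOn_isometry_model hPn hRn hPd hRd (iff_of_true hPt hRt)
  have hPZ : P ≤ Z := hZ ▸ le_sup_left
  have hRX : R ≤ X := hX ▸ le_sup_left
  let P' : Submodule F Z := P.comap Z.subtype
  let e : P' ≃ₗ[F] P := Submodule.comapSubtypeEquivOfLe hPZ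
  let m₀ : P' →ₗ[F] Z := φ.toLinearMap.comp ((Submodule.inclusion hRX).comp (ψ.toLinearMap.comp e.toLinearMap))
  obtain ⟨h, hh⟩ := witt_extend hZn.restrict P' m₀
    (φ.injective.comp ((Submodule.inclusion_injective hRX).comp (ψ.injective.comp e.injective))) fun p => by
      show Q (φ _ : V) = Q ((p : Z) : V)
      rw [hφ]
      show Q (ψ (e p) : V) = _
      rw [hψ]; rfl
  let z' : Z := ⟨z, hZ ▸ Submodule.mem_sup_right (Submodule.mem_span_singleton_self z)⟩
  set u : X := φ.symm (h.1 z') with hu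
  have hQu : Q (u : V) = Q z := by rw [← hφ, hu, LinearEquiv.apply_symm_apply]; exact h.2 z'
  obtain ⟨r, hr, s, hs, hrs⟩ := Submodule.mem_sup.mp (show (u : V) ∈ R ⊔ F ∙ f by rw [hX]; exact u.2)
  have hr0 : r = 0 := hRn.eq_zero hr fun w hw => by
    obtain ⟨p, hp⟩ := ψ.surjective ⟨w, hw⟩
    have h1 : polB Q w (u : V) = 0 := by
      let p' : P' := e.symm p
      have hm : (m₀ p' : V) = (φ ⟨w, hRX hw⟩ : V) := by
        have : e p' = p := e.apply_symm_apply p
        show (φ (Submodule.inclusion hRX (ψ (e p'))) : V) = _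
        rw [this, hp]; rfl
      have h2 := IsomTo.polB_eq hφ ⟨w, hRX hw⟩ u
      rw [← h2, ← hm, hu, LinearEquiv.apply_symm_apply, ← hh p']
      show polB Q ((h.1 (p' : Z) : Z) : V) ((h.1 z' : Z) : V) = 0
      rw [← polB_restrict, polB_orth_apply, polB_restrict]
      exact hPz _ p'.2 z (Submodule.mem_span_singleton_self z)
    rw [← hrs, map_add, hRf w hw s hs, add_zero] at h1
    exact h1
  obtain ⟨t, rfl⟩ := Submodule.mem_span_singleton.mp hs
  exact ⟨t, by rw [← hQu, ← hrs, hr0, zero_add, qmap_smul]⟩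

lemma isomTo_orth [Fintype F] (hQ : (polB Q).Nondegenerate) {W W₀ : Submodule F V} (h : IsomTo Q W W₀) :
    IsomTo Q ((polB Q).orthogonal W) ((polB Q).orthogonal W₀) := by
  obtain ⟨φ, hφ⟩ := h
  obtain ⟨g, hg⟩ := witt_extend hQ W (W₀.subtype.comp φ.toLinearMap) (W₀.injective_subtype.comp φ.injective) hφ
  have e : W.map (g.1 : V →ₗ[F] V) = W₀ := by
    ext v
    constructor
    · rintro ⟨w, hw, rfl⟩
      show g.1 w ∈ W₀
      rw [hg ⟨w, hw⟩]; exact (φ ⟨w, hw⟩).2
    · intro hv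
      exact ⟨φ.symm ⟨v, hv⟩, Subtype.coe_prop _, (hg _).trans (by simp)⟩
  rw [← e]
  exact orth_map_eq hQ g W ▸ isomTo_map g _

/-- The unipotent element on an odd dimensional space: fixed vectors are singular and `(1-x)²` has rank one. -/
lemma exists_uni_odd_space [Fintype F] {p : ℕ} [hp : Fact p.Prime] [CharP F p] (h2 : (2 : F) ≠ 0) {d : ℕ} (hd : 4 ≤ d)
    (hde : Even d) {S : Submodule F V} (hS : NdOn Q S) (hSd : Module.finrank F S + 1 = 2 * d) :
    ∃ u : orthGroup (Q.restrict S), u ^ p = 1 ∧ u ≠ 1 ∧ (∀ s : S, u.1 s = s → Q (s : V) = 0) ∧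
      ∃ e : S, ∀ s : S, ∃ t : F, resMap u (resMap u s) = t • e := by
  classical
  obtain ⟨d, rfl⟩ : ∃ k, d = k + 1 := ⟨d - 1, by omega⟩
  have hp3 : 3 ≤ p := by
    rcases Nat.lt_or_ge p 3 with h | h
    · exfalso
      have : p = 2 := by have := hp.out.two_le; omega
      subst this
      exact h2 (by exact_mod_cast CharP.cast_eq_zero F 2)
    · exact h
  set μ : Multiset ℕ := Multiset.replicate (d - 1) 2 + {3} with hμdef
  have hμ0 : 0 ∉ μ := by simp [hμdef, Multiset.mem_replicate]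
  have hsum : μ.sum = 2 * d + 1 := by simp [hμdef, mul_comm]; omega
  have hev : ∀ e : ℕ, Even e → Even (μ.count e) := fun e he => by
    have h3 : e ≠ 3 := by rintro rfl; exact absurd he (by decide)
    rw [hμdef, Multiset.count_add, Multiset.count_singleton, if_neg h3, add_zero, Multiset.count_replicate]
    split_ifs
    · obtain ⟨k, hk⟩ := hde; exact ⟨k - 1, by omega⟩
    · exact ⟨0, rfl⟩
  obtain ⟨x, hx, hxr⟩ := exists_unipotent_odd (F := F) h2 hμ0 hev hsum
  have hxp : x ^ p = 1 := pow_char_eq_one (fun e he => by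
    simp [hμdef, Multiset.mem_replicate] at he
    rcases he with ⟨-, rfl⟩ | rfl <;> omega) hxr
  obtain ⟨c, φ, hc, hφ⟩ := H44.equiv_odd (show Module.finrank F S = 2 * d + 1 by omega) (Q.restrict S)
    (H44.polarSep_of_nondegenerate hS.restrict)
  let σ : (Unit ⊕ (Fin d ⊕ Fin d) → F) ≃ₗ[F] (Unit ⊕ (Fin d ⊕ Fin d) → F) :=
    { toFun := fun v => fun
        | .inl a => v (.inl a)
        | .inr (.inl a) => v (.inr (.inl a))
        | .inr (.inr a) => c⁻¹ * v (.inr (.inr a))
      invFun := fun v => fun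
        | .inl a => v (.inl a)
        | .inr (.inl a) => v (.inr (.inl a))
        | .inr (.inr a) => c * v (.inr (.inr a))
      map_add' := fun u v => by funext a; rcases a with a | a | a <;> simp [mul_add]
      map_smul' := fun t v => by funext a; rcases a with a | a | a <;> simp [mul_left_comm]
      left_inv := fun v => by funext a; rcases a with a | a | a <;> simp [hc]
      right_inv := fun v => by funext a; rcases a with a | a | a <;> simp [hc] }
  let ψ := φ.trans σ
  have hψ : ∀ v : S, (Q.restrict S) v = c * Cfsg.quadFormOdd d F (ψ v) := fun v => by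
    rw [hφ]
    simp only [Cfsg.quadFormOdd, ψ, σ, LinearEquiv.trans_apply, LinearEquiv.coe_mk, LinearMap.coe_mk, AddHom.coe_mk, mul_add,
      Finset.mul_sum]
    congr 1
    exact Finset.sum_congr rfl fun a _ => by field_simp
  let X : (Unit ⊕ (Fin d ⊕ Fin d) → F) ≃ₗ[F] (Unit ⊕ (Fin d ⊕ Fin d) → F) :=
    LinearEquiv.ofLinear (Matrix.toLin' (x : Matrix _ _ F)) (Matrix.toLin' ((x⁻¹ : GL (Unit ⊕ (Fin d ⊕ Fin d)) F) : Matrix _ _ F))
      (by rw [← Matrix.toLin'_mul, x.mul_inv, Matrix.toLin'_one]) (by rw [← Matrix.toLin'_mul, x.inv_mul, Matrix.toLin'_one])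
  let U : S ≃ₗ[F] S := (ψ.trans X).trans ψ.symm
  have hUv : ∀ v, ψ (U v) = (x : Matrix _ _ F) *ᵥ ψ v := fun v => by
    simp [U, X]
  let u : orthGroup (Q.restrict S) := ⟨U, fun v => by rw [hψ, hψ, hUv]; exact congrArg _ (hx _ 0)⟩
  have hu : ∀ v, ψ (u.1 v) = (x : Matrix _ _ F) *ᵥ ψ v := hUv
  have hpow : ∀ k v, ψ ((u ^ k).1 v) = ((x ^ k : GL (Unit ⊕ (Fin d ⊕ Fin d)) F) : Matrix _ _ F) *ᵥ ψ v := by
    intro k
    induction k with
    | zero => intro v; simp
    | succ k ih => intro v; rw [pow_succ', pow_succ', orth_mul_apply, hu, ih, Units.val_mul, Matrix.mulVec_mulVec]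
  set M : Matrix (Unit ⊕ (Fin d ⊕ Fin d)) (Unit ⊕ (Fin d ⊕ Fin d)) F := (x : Matrix _ _ F) - 1 with hM
  have hres : ∀ v, ψ (resMap u v) = -(M *ᵥ ψ v) := fun v => by
    rw [resMap_apply, map_sub, hu, hM, Matrix.sub_mulVec, Matrix.one_mulVec]; abel
  have hr1 : M.rank = d + 1 := by
    have := hxr 1; rw [pow_one] at this; rw [this]; simp [hμdef]; omega
  have hr2 : (M ^ 2).rank = 1 := by rw [hxr 2]; simp [hμdef]
  refine ⟨u, orth_ext fun v => ψ.injective (by rw [hpow, hxp]; simp), fun e => ?_, fun s hs => ?_, ?_⟩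
  · refine not_scalar_of_parts hxr ⟨3, by simp [hμdef], by norm_num⟩ 1 ?_
    refine Matrix.ext_iff_mulVec.2 fun w => ?_
    obtain ⟨v, rfl⟩ := ψ.surjective w
    rw [← hu, e, one_smul, Matrix.one_mulVec]; rfl
  · -- fixed vectors are moved vectors
    have hker : LinearMap.ker M.mulVecLin ≤ LinearMap.range M.mulVecLin := by
      have h1 := (M.mulVecLin.domRestrict (LinearMap.range M.mulVecLin)).finrank_range_add_finrank_ker
      have h2' : LinearMap.range (M.mulVecLin.domRestrict (LinearMap.range M.mulVecLin)) = LinearMap.range (M ^ 2).mulVecLin := by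
        rw [pow_two, Matrix.mulVecLin_mul, LinearMap.range_comp, LinearMap.range_domRestrict]
      rw [h2', ← Matrix.rank, ← Matrix.rank, hr2, hr1] at h1
      have h3 := M.mulVecLin.finrank_range_add_finrank_ker
      rw [← Matrix.rank, hr1, Module.finrank_pi] at h3
      simp only [Fintype.card_sum, Fintype.card_unit, Fintype.card_fin] at h3
      have h4 : Submodule.map (LinearMap.range M.mulVecLin).subtype
          (LinearMap.ker (M.mulVecLin.domRestrict (LinearMap.range M.mulVecLin))) ≤ LinearMap.ker M.mulVecLin := by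
        rintro _ ⟨v, hv, rfl⟩; exact hv
      have h5 := Submodule.eq_of_le_of_finrank_le h4 (by rw [Submodule.finrank_map_subtype_eq]; omega)
      rw [← h5]; exact Submodule.map_subtype_le _ _
    obtain ⟨w, hw⟩ := hker (show ψ s ∈ LinearMap.ker M.mulVecLin by
      rw [LinearMap.mem_ker, Matrix.mulVecLin_apply, ← neg_eq_zero, ← hres, resMap_apply, hs, sub_self, map_zero])
    obtain ⟨v, rfl⟩ := ψ.surjective w
    have hmem : s ∈ resid u := ⟨-v, ψ.injective (by rw [hres, map_neg, Matrix.mulVec_neg, neg_neg]; exact hw)⟩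
    have h0 := polB_fixed_resid (x := s) hs hmem
    rw [polB_self] at h0
    exact (mul_eq_zero.mp h0).resolve_left h2
  · obtain ⟨e0, he0⟩ : ∃ e0, ∀ w, ∃ t : F, (M ^ 2) *ᵥ w = t • e0 := by
      obtain ⟨e0, -, he⟩ := finrank_eq_one_iff'.mp (show Module.finrank F (LinearMap.range (M ^ 2).mulVecLin) = 1 from hr2)
      exact ⟨e0, fun w => by obtain ⟨t, ht⟩ := he ⟨_, ⟨w, rfl⟩⟩; exact ⟨t, (congrArg Subtype.val ht).symm⟩⟩
    refine ⟨ψ.symm e0, fun s => ?_⟩
    obtain ⟨t, ht⟩ := he0 (ψ s)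
    exact ⟨t, ψ.injective (by rw [hres, hres, Matrix.mulVec_neg, neg_neg, Matrix.mulVec_mulVec, ← pow_two, ht,
      map_smul, LinearEquiv.apply_symm_apply])⟩

/-- A unipotent element fixing no member of an odd class, `dim V ≡ 0 (mod 4)`. -/
theorem exists_uni_class [Fintype F] {p : ℕ} [Fact p.Prime] [CharP F p] (hQ : (polB Q).Nondegenerate) (h2 : (2 : F) ≠ 0)
    {d m : ℕ} (hN : Module.finrank F V = 2 * d) (hd : 4 ≤ d) (hde : Even d) (hm : Odd m) (hmN : m < 2 * d)
    {W₀ : Submodule F V} (hW₀ : Module.finrank F W₀ = m) (hW₀n : NdOn Q W₀) :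
    ∃ g : orthGroup Q, g ^ p = 1 ∧ g ≠ 1 ∧ ∀ W, ClsIso Q m W₀ W → ¬ Inv g W := by
  classical
  obtain ⟨d2, hd2⟩ := hde
  obtain ⟨mm, hmm⟩ := hm
  set Z : Submodule F V := if m % 4 = 1 then W₀ else (polB Q).orthogonal W₀ with hZdef
  have hW₀o := finrank_orth_add hQ W₀
  obtain ⟨j, hZd⟩ : ∃ j, Module.finrank F Z = 2 * j + 1 ∧ j % 2 = 0 := by
    by_cases h : m % 4 = 1
    · have e : Z = W₀ := by rw [hZdef, if_pos h]
      exact ⟨mm, by rw [e, hW₀]; omega, by omega⟩
    · have e : Z = (polB Q).orthogonal W₀ := by rw [hZdef, if_neg h]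
      exact ⟨d - mm - 1, by rw [e]; omega, by omega⟩
  have hZn : NdOn Q Z := by rw [hZdef]; split_ifs; exacts [hW₀n, hW₀n.orth hQ]
  obtain ⟨P, hPZ, hPd, hPn, hPt⟩ := exists_sub hZn (h := j) (by omega) True (fun _ => trivial)
  obtain ⟨L, hLZ, hLn, hPL, hsup, hLd⟩ := exists_compl hZn hPZ hPn
  obtain ⟨z, hz, hz0⟩ := Submodule.exists_mem_ne_zero_of_ne_bot (p := L) fun e => by
    rw [e, finrank_bot] at hLd; omega
  have hspan : F ∙ z = L := Submodule.eq_of_le_of_finrank_le ((Submodule.span_singleton_le_iff_mem _ _).mpr hz)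
    (by rw [finrank_span_singleton hz0]; omega)
  have hQz : Q z ≠ 0 := fun e => hz0 (hLn.eq_zero hz fun u hu => by
    rw [← hspan] at hu
    obtain ⟨t, rfl⟩ := Submodule.mem_span_singleton.mp hu
    rw [map_smul, LinearMap.smul_apply, polB_self, e, mul_zero, smul_zero])
  obtain ⟨α, hα⟩ := FiniteField.exists_nonsquare (F := F) (by
    rw [ringChar.eq F p]
    rintro rfl
    exact h2 (by exact_mod_cast CharP.cast_eq_zero F 2))
  have hα0 : α ≠ 0 := fun e => hα (by rw [e]; exact ⟨0, by simp⟩)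
  obtain ⟨v0, hv0⟩ := exists_qmap_eq hQ (by omega) (α * Q z) (mul_ne_zero hα0 hQz)
  have hQv0 : Q v0 ≠ 0 := hv0 ▸ mul_ne_zero hα0 hQz
  have hv00 : v0 ≠ 0 := fun e => hQv0 (by rw [e, map_zero])
  have hLn0 : NdOn Q (F ∙ v0) := ndOn_of fun x hx h => by
    obtain ⟨t, rfl⟩ := Submodule.mem_span_singleton.mp hx
    have h' := h v0 (Submodule.mem_span_singleton_self v0)
    rw [map_smul, smul_eq_mul, polB_self] at h'
    rw [(mul_eq_zero.mp h').resolve_right (mul_ne_zero h2 hQv0), zero_smul]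
  set S := (polB Q).orthogonal (F ∙ v0) with hSdef
  have hSd := finrank_orth_add hQ (F ∙ v0)
  rw [finrank_span_singleton hv00] at hSd
  obtain ⟨u, hup, hu1, hufix, e, he⟩ := exists_uni_odd_space (p := p) h2 hd ⟨d2, hd2⟩ (hLn0.orth hQ) (by omega)
  have hperp : PerpTo Q (F ∙ v0) S := perpTo_orth _
  have hST : (F ∙ v0) ⊔ S = ⊤ := orth_sup_eq_top hQ hLn0
  obtain ⟨g, hg0, hgS⟩ := exists_glue hLn0 hperp hST 1 u
  have hgv0 : g.1 v0 = v0 := hg0 ⟨v0, Submodule.mem_span_singleton_self v0⟩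
  have hdec : ∀ v, ∃ (t : F) (s : S), v = t • v0 + (s : V) := fun v => by
    obtain ⟨a, ha, s, hs, rfl⟩ := Submodule.mem_sup.mp (show v ∈ (F ∙ v0) ⊔ S by rw [hST]; trivial)
    obtain ⟨t, rfl⟩ := Submodule.mem_span_singleton.mp ha
    exact ⟨t, ⟨s, hs⟩, rfl⟩
  have hgp : g ^ p = 1 := glue_pow_one hST hg0 hgS (one_pow p) hup
  refine ⟨g, hgp, fun e1 => hu1 (orth_ext fun s => Subtype.ext (by
    rw [← hgS, e1]; rfl)), ?_⟩
  -- fixed vectors
  have hfix : ∀ v, g.1 v = v → ∃ (t : F) (s : S), v = t • v0 + (s : V) ∧ Q (s : V) = 0 ∧ g.1 s = s := by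
    intro v hv
    obtain ⟨t, s, rfl⟩ := hdec v
    rw [map_add, map_smul, hgv0, add_right_inj] at hv
    exact ⟨t, s, rfl, hufix s (Subtype.ext (by rw [← hgS]; exact hv)), hv⟩
  have hN2 : ∀ v, ∃ t : F, resMap g (resMap g v) = t • (e : V) := by
    intro v
    obtain ⟨t, s, rfl⟩ := hdec v
    obtain ⟨a, ha⟩ := he s
    refine ⟨a, ?_⟩
    have h1 : ∀ s : S, resMap g (s : V) = ((resMap u s : S) : V) := fun s => by
      rw [resMap_apply, resMap_apply, hgS]; rfl
    rw [map_add, map_smul, resMap_apply g v0, hgv0, sub_self, smul_zero, zero_add, h1, h1, ha]; rfl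
  intro W hW hWi
  obtain ⟨hWd, hWn, hWiso⟩ := hW
  have hWo := finrank_orth_add hQ W
  have hWoi : Inv g ((polB Q).orthogonal W) := inv_orth hgp (Fact.out : p.Prime).pos hWi
  -- one of the two is quadratic
  have hone : (∀ w ∈ W, resMap g (resMap g w) = 0) ∨ ∀ w ∈ (polB Q).orthogonal W, resMap g (resMap g w) = 0 := by
    rw [or_iff_not_imp_left]
    intro h w hw
    push Not at h
    obtain ⟨w1, hw1, hne⟩ := h
    have hresW : ∀ {U : Submodule F V}, Inv g U → ∀ x ∈ U, resMap g x ∈ U := fun hU x hx => by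
      rw [resMap_apply]; exact Submodule.sub_mem _ hx (hU x hx)
    obtain ⟨a, ha⟩ := hN2 w1
    obtain ⟨b, hb⟩ := hN2 w
    have ha0 : a ≠ 0 := fun e0 => hne (by rw [ha, e0, zero_smul])
    have heW : (e : V) ∈ W := by
      have := W.smul_mem a⁻¹ (hresW hWi _ (hresW hWi _ hw1))
      rwa [ha, smul_smul, inv_mul_cancel₀ ha0, one_smul] at this
    exact Submodule.disjoint_def.mp (disjoint_of_perp hWn (perpTo_orth W)) _ (hb ▸ W.smul_mem b heW)
      (hresW hWoi _ (hresW hWoi _ hw))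
  have key : ∀ X : Submodule F V, NdOn Q X → Inv g X → Odd (Module.finrank F X) →
      (∀ w ∈ X, resMap g (resMap g w) = 0) →
      ∃ (R : Submodule F V) (f : V) (t : F), NdOn Q R ∧ Module.finrank F R + 1 = Module.finrank F X ∧
        Module.finrank F R % 4 = 0 ∧ PlusOn Q R ∧ R ⊔ F ∙ f = X ∧ PerpTo Q R (F ∙ f) ∧ Q f = t * t * Q v0 := by
    intro X hXn hXi hXo hX2
    obtain ⟨f, hfX, hfg, hQf⟩ : ∃ f ∈ X, g.1 f = f ∧ Q f ≠ 0 := by
      by_contra hall
      push Not at hall
      obtain ⟨h4, -⟩ := quadratic_uni h2 hXn hXi hX2 fun y hy hy' => hall y hy hy'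
      obtain ⟨k, hk⟩ := hXo
      omega
    have hf0 : f ≠ 0 := fun e0 => hQf (by rw [e0, map_zero])
    have hfn : NdOn Q (F ∙ f) := ndOn_of fun x hx h => by
      obtain ⟨t, rfl⟩ := Submodule.mem_span_singleton.mp hx
      have h' := h f (Submodule.mem_span_singleton_self f)
      rw [map_smul, smul_eq_mul, polB_self] at h'
      rw [(mul_eq_zero.mp h').resolve_right (mul_ne_zero h2 hQf), zero_smul]
    obtain ⟨R, hRX, hRn, hfR, hsupR, hRd⟩ := exists_compl hXn ((Submodule.span_singleton_le_iff_mem _ _).mpr hfX) hfn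
    rw [finrank_span_singleton hf0] at hRd
    have hRi : Inv g R := by
      intro r hr
      obtain ⟨a, ha, r', hr', e'⟩ := Submodule.mem_sup.mp (show g.1 r ∈ (F ∙ f) ⊔ R by rw [hsupR]; exact hXi r (hRX hr))
      have ha0 : a = 0 := hfn.eq_zero ha fun x hx => by
        obtain ⟨t, rfl⟩ := Submodule.mem_span_singleton.mp hx
        have h1 : polB Q (t • f) (g.1 r) = 0 := by
          rw [← hfg, ← map_smul, polB_orth_apply]; exact hfR _ hx r hr
        rw [← e', map_add, hfR _ hx r' hr', add_zero] at h1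
        exact h1
      rw [← e', ha0, zero_add]; exact hr'
    obtain ⟨tf, sf, hfe, hsf, hsf'⟩ := hfix f hfg
    have hvs : ∀ s : S, polB Q v0 (s : V) = 0 := fun s => hperp v0 (Submodule.mem_span_singleton_self v0) s s.2
    have hQf' : Q f = tf * tf * Q v0 := by
      rw [hfe, qmap_add, qmap_smul, map_smul, LinearMap.smul_apply, hvs, hsf, smul_zero, add_zero, add_zero]
    obtain ⟨h4, hplus⟩ := quadratic_uni h2 hRn hRi (fun y hy => hX2 y (hRX hy)) fun y hy hy' => by
      obtain ⟨t, s, hye, hs, hs'⟩ := hfix y hy'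
      have hz' := hfR f (Submodule.mem_span_singleton_self f) y hy
      have hss : polB Q (sf : V) (s : V) = 0 := by
        have hsum : g.1 ((sf : V) + s) = sf + s := by rw [map_add, hsf', hs']
        have h0 := hufix (sf + s) (Subtype.ext (by rw [← hgS, Submodule.coe_add]; exact hsum))
        rw [Submodule.coe_add, qmap_add, hsf, hs, zero_add, zero_add] at h0
        exact h0
      rw [hfe, hye] at hz'
      simp only [map_add, LinearMap.add_apply, map_smul, LinearMap.smul_apply, hvs, polB_comm (sf : V) v0, hss, polB_self,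
        smul_eq_mul, mul_zero, add_zero, zero_add] at hz'
      have htf : tf ≠ 0 := fun e0 => hQf (by rw [hQf', e0, zero_mul, zero_mul])
      have ht : t = 0 := by
        simpa [htf, h2, hQv0] using hz'
      rw [hye, ht, zero_smul, zero_add, hs]
    exact ⟨R, f, tf, hRn, by omega, h4, hplus, by rw [sup_comm, hsupR], hfR.symm, hQf'⟩
  have hdone : ∀ X : Submodule F V, IsomTo Q X Z → NdOn Q X → Inv g X → Module.finrank F X = Module.finrank F Z →
      (∀ w ∈ X, resMap g (resMap g w) = 0) → False := by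
    intro X hXZ hXn hXi hXd hX2
    obtain ⟨R, f, t, hRn, hRd, -, hRp, hX, hRf, hQf⟩ := key X hXn hXi ⟨j, by omega⟩ hX2
    obtain ⟨s, hs⟩ := line_class hXZ hRn hPn (by omega) hPd hRp (hPt.mpr trivial) hX (hspan.symm ▸ hsup) hZn hRf
      (hspan.symm ▸ hPL)
    refine hα ⟨(s * t)⁻¹, ?_⟩
    rw [hQf, hv0] at hs
    have h1 : 1 = s * t * (s * t) * α := mul_right_cancel₀ hQz (by linear_combination hs)
    rw [← mul_inv]
    exact eq_inv_of_mul_eq_one_right h1.symm
  by_cases h4 : m % 4 = 1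
  · have hZW : Z = W₀ := by rw [hZdef, if_pos h4]
    refine hdone W (hZW ▸ hWiso) hWn hWi (by rw [hZW, hW₀, hWd]) ?_
    rcases hone with h | h
    · exact h
    · obtain ⟨R, -, -, -, hRd, hR4, -⟩ := key _ (hWn.orth hQ) hWoi ⟨d - mm - 1, by omega⟩ h
      omega
  · have hZW : Z = (polB Q).orthogonal W₀ := by rw [hZdef, if_neg h4]
    refine hdone _ (hZW ▸ isomTo_orth hQ hWiso) (hWn.orth hQ) hWoi (by rw [hZW]; omega) ?_
    rcases hone with h | h
    · obtain ⟨R, -, -, -, hRd, hR4, -⟩ := key _ hWn hWi ⟨mm, by omega⟩ h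
      omega
    · exact h

end H47
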