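import Mathlib
import Cfsg.Prelude.Def_GeometricClasses
import Cfsg.Agent.H47.OrthStd
import Cfsg.Agent.H47.UniTargets

/-!
Unipotent elements without invariant subspaces of odd dimension.
-/

set_option autoImplicit false

namespace H47

open Matrix

variable {F : Type*} [Field F] {ι : Type} [Fintype ι] [DecidableEq ι] {q : QuadraticForm F (ι → F)}

/-- The partition with `2`s and two further equal parts. -/
def twoOdd (d o : ℕ) : Multiset ℕ := Multiset.replicate (d - o) 2 + Multiset.replicate 2 o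

lemma twoOdd_facts {d o : ℕ} (ho : o = 1 ∨ o = 3) (hd : o + 1 ≤ d) (hdo : Odd d) :
    0 ∉ twoOdd d o ∧ (∀ e : ℕ, Even e → Even ((twoOdd d o).count e)) ∧ (twoOdd d o).sum = 2 * d ∧
      (∃ e ∈ twoOdd d o, Odd e) ∧ (∃ e ∈ twoOdd d o, 1 < e) ∧ ∀ e ∈ twoOdd d o, e ≤ 3 := by
  have hoo : Odd o := by rcases ho with rfl | rfl <;> decide
  refine ⟨?_, fun e he => ?_, ?_, ⟨o, by simp [twoOdd, Multiset.mem_replicate], hoo⟩,
    ⟨2, by simp [twoOdd, Multiset.mem_replicate]; omega, by norm_num⟩, fun e he => ?_⟩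
  · simp [twoOdd, Multiset.mem_replicate]; omega
  · rw [twoOdd, Multiset.count_add, Multiset.count_replicate, Multiset.count_replicate]
    have hne : o ≠ e := by rintro rfl; exact Nat.not_even_iff_odd.mpr hoo he
    rw [if_neg hne, add_zero]
    split_ifs
    · exact Nat.Odd.sub_odd hdo hoo
    · exact ⟨0, rfl⟩
  · simp [twoOdd]; omega
  · simp [twoOdd, Multiset.mem_replicate] at he
    omega

/-- Invariant subspaces of odd dimension have dimension `≡ o (mod 4)`. -/
theorem twoOdd_no_fixed [Fintype F] (h2 : (2 : F) ≠ 0) (hq : (QuadraticMap.polarBilin q).Nondegenerate) {d o m : ℕ}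
    (ho : o = 1 ∨ o = 3) (hd : o + 1 ≤ d) (hdo : Odd d) (hm : Odd m) (hmo : m % 4 ≠ o) {x : GL ι F}
    (hx : x ∈ Cfsg.isometryGroup F ⇑q)
    (hr : ∀ j, (((x : Matrix ι ι F) - 1) ^ j).rank = ((twoOdd d o).map fun a => a - j).sum)
    (W : Submodule F (ι → F)) (hWm : Module.finrank F W = m)
    (hWn : Cfsg.Geo.IsNondegenerateOn (QuadraticMap.polar ⇑q) W)
    (hWx : W.map (Matrix.toLin' (x : Matrix ι ι F)) ≤ W) : False := by
  obtain ⟨ν, hν1, hν2, hν3, -⟩ := partition_of_fixed h2 q hq hx (twoOdd_facts ho hd hdo).1 hr W hWm hWn hWx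
  have hs := sum_eq_of_support (ν := ν) (show (2 : ℕ) ≠ o by omega) (show (2 : ℕ) ≠ 0 by omega) (show o ≠ 0 by omega)
    fun a ha => by
      have h := Multiset.mem_of_le hν1 ha
      simp [twoOdd, Multiset.mem_replicate] at h
      omega
  have hco : ν.count o ≤ 2 := (Multiset.count_le_of_le o hν1).trans (by
    simp [twoOdd, Multiset.count_replicate]; omega)
  obtain ⟨k, hk⟩ := hν3 2 even_two
  obtain ⟨j, hj⟩ := hm
  rw [hν2, hk] at hs
  generalize ν.count o = b at hs hco
  interval_cases b <;> omega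

end H47
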