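import Mathlib
import Cfsg.Prelude.Def_GeometricClasses
import Cfsg.Agent.H47.FieldSub
import Cfsg.Agent.H47.SympInvol

/-!
Elements with scalar square normalising a quadratic field subalgebra.
-/

set_option autoImplicit false

namespace H47

open Matrix

variable {F : Type*} [Field F] {n : ℕ}

/-- Normalising a quadratic field subalgebra, checked in coordinates. -/
lemma exists_normalized_of_coord [NeZero n] {κ : Type} [Fintype κ] [DecidableEq κ] (e : Fin n ≃ κ)
    {x Q : GL (Fin n) F} {D J : Matrix κ κ F}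
    (hxQ : (x : Matrix (Fin n) (Fin n) F) * Q = (Q : Matrix (Fin n) (Fin n) F) * D.submatrix e e)
    {t u a b : F} (hJ : J * J = t • J + u • 1) (hirr : ∀ c : F, c * c ≠ t * c + u)
    (hDJ : D * J = (a • 1 + b • J) * D) :
    ∃ K : Subalgebra F (Matrix (Fin n) (Fin n) F), Cfsg.Geo.IsFieldSubalgebra 2 K ∧
      x ∈ Cfsg.Geo.subalgebraNormalizer K := by
  set Qm := (Q : Matrix (Fin n) (Fin n) F) with hQm
  set Qi := ((Q⁻¹ : GL (Fin n) F) : Matrix (Fin n) (Fin n) F) with hQi
  set J₀ := J.submatrix e e with hJ₀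
  set D₀ := D.submatrix e e with hD₀
  have hiQ : Qi * Qm = 1 := Q.inv_mul
  have hQiQ : Qm * Qi = 1 := Q.mul_inv
  have h0 : J₀ * J₀ = t • J₀ + u • 1 := by
    rw [hJ₀, Matrix.submatrix_mul_equiv, hJ]
    simp [Matrix.submatrix_add, Matrix.submatrix_smul]
  have h1 : D₀ * J₀ = (a • 1 + b • J₀) * D₀ := by
    have h2 : (a • 1 + b • J₀) = (a • 1 + b • J).submatrix e e := by
      simp [hJ₀, Matrix.submatrix_add, Matrix.submatrix_smul]
    rw [h2, hJ₀, hD₀, Matrix.submatrix_mul_equiv, Matrix.submatrix_mul_equiv, hDJ]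
  have hJ' : (Qm * J₀ * Qi) * (Qm * J₀ * Qi) = t • (Qm * J₀ * Qi) + u • 1 := by
    calc (Qm * J₀ * Qi) * (Qm * J₀ * Qi) = Qm * (J₀ * (Qi * Qm) * J₀) * Qi := by noncomm_ring
      _ = _ := by
        rw [hiQ, mul_one, h0, mul_add, add_mul, mul_smul_comm, smul_mul_assoc, mul_smul_comm,
          smul_mul_assoc, mul_one, hQiQ]
  obtain ⟨K, hK, hKn⟩ := exists_quadratic hJ' (by
    intro c v hv
    by_contra hv0
    refine hirr c (smul_left_injective F hv0 ?_)
    show (c * c) • v = (t * c + u) • v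
    calc (c * c) • v = (Qm * J₀ * Qi) *ᵥ ((Qm * J₀ * Qi) *ᵥ v) := by
          rw [hv, Matrix.mulVec_smul, hv, smul_smul]
      _ = _ := by
        rw [Matrix.mulVec_mulVec, hJ', Matrix.add_mulVec, Matrix.smul_mulVec, hv, Matrix.smul_mulVec,
          Matrix.one_mulVec, smul_smul, add_smul])
  refine ⟨K, hK, hKn x ⟨a, b, ?_⟩⟩
  calc (x : Matrix (Fin n) (Fin n) F) * (Qm * J₀ * Qi) = ((x : Matrix (Fin n) (Fin n) F) * Qm) * (J₀ * Qi) := by
        noncomm_ring
    _ = Qm * (D₀ * J₀) * Qi := by rw [hxQ]; noncomm_ring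
    _ = Qm * (a • 1 + b • J₀) * (D₀ * Qi) := by rw [h1]; noncomm_ring
    _ = (a • 1 + b • (Qm * J₀ * Qi)) * Qm * (D₀ * Qi) := by
        congr 1
        rw [mul_add, add_mul, mul_smul_comm, mul_one, smul_mul_assoc, one_mul, mul_smul_comm,
          smul_mul_assoc, mul_assoc (Qm * J₀), hiQ, mul_one]
    _ = (a • 1 + b • (Qm * J₀ * Qi)) * ((Qm * D₀) * Qi) := by noncomm_ring
    _ = _ := by rw [← hxQ, mul_assoc (x : Matrix (Fin n) (Fin n) F), hQiQ, mul_one]

/-- A finite field has a non-root of `X² + X`. -/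
lemma exists_artinSchreier_irr [Finite F] : ∃ δ : F, ∀ c : F, c * c + c ≠ δ := by
  by_contra h
  push Not at h
  have hsur : Function.Surjective (fun c : F => c * c + c) := h
  have := Finite.injective_iff_surjective.2 hsur (a₁ := 0) (a₂ := -1) (by ring)
  simp at this

/-- `n = 2`. -/
theorem quad_normalized_two [Fintype F] {x : GL (Fin 2) F}
    (hd : (x : Matrix (Fin 2) (Fin 2) F).det = 1) {z : F}
    (hz : (x : Matrix (Fin 2) (Fin 2) F) * x = z • 1) (hns : ∀ c : F, (x : Matrix (Fin 2) (Fin 2) F) ≠ c • 1) :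
    ∃ K : Subalgebra F (Matrix (Fin 2) (Fin 2) F), Cfsg.Geo.IsFieldSubalgebra 2 K ∧
      x ∈ Cfsg.Geo.subalgebraNormalizer K := by
  set X := (x : Matrix (Fin 2) (Fin 2) F) with hX
  have htr : X.trace = 0 := by
    by_contra ht
    apply hns (X.trace⁻¹ * (z + 1))
    have h := two_ch X
    rw [hz, hd] at h
    have h2 : X.trace • X = (z + 1) • (1 : Matrix (Fin 2) (Fin 2) F) := by
      rw [add_smul, h, one_smul, sub_add_cancel]
    rw [mul_smul, ← h2, inv_smul_smul₀ ht]
  obtain ⟨P, hP, hXP⟩ := two_companion hns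
  rw [hd, htr] at hXP
  obtain ⟨Q, hQ⟩ : ∃ Q : GL (Fin 2) F, (Q : Matrix (Fin 2) (Fin 2) F) = P :=
    ⟨Matrix.GeneralLinearGroup.mkOfDetNeZero P hP, rfl⟩
  have hxQ : X * Q = (Q : Matrix (Fin 2) (Fin 2) F) * (!![0, -1; 1, 0] : Matrix (Fin 2) (Fin 2) F).submatrix
      (Equiv.refl _) (Equiv.refl _) := by
    rw [hQ, hXP]; rfl
  by_cases h2 : (2 : F) = 0
  · obtain ⟨δ, hδ⟩ := exists_artinSchreier_irr (F := F)
    haveI : CharP F 2 := (CharP.charP_iff_prime_eq_zero Nat.prime_two).2 (by exact_mod_cast h2)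
    obtain ⟨s, rfl⟩ : IsSquare δ :=
      FiniteField.isSquare_of_char_two (by rw [ringChar.eq F 2]) δ
    refine exists_normalized_of_coord (Equiv.refl _) hxQ (J := !![0, s; s, 1]) (t := 1) (u := s * s)
      (a := 1) (b := 1) ?_ (fun c hc => hδ c ?_) ?_
    · ext i j; fin_cases i <;> fin_cases j <;> simp [Matrix.mul_apply, Fin.sum_univ_two] <;> ring
    · have hc' : c * c = c + s * s := by rw [hc, one_mul]
      linear_combination hc' + c * h2
    · ext i j; fin_cases i <;> fin_cases j <;>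
        simp [Matrix.mul_apply, Fin.sum_univ_two, Matrix.one_apply] <;> grind
  · obtain ⟨δ, hδ⟩ := FiniteField.exists_nonsquare (F := F) (by
      intro hc
      apply h2
      have := CharP.cast_eq_zero F (ringChar F)
      rw [hc] at this
      exact_mod_cast this)
    obtain ⟨a, b, hab⟩ := two_norm_surjective h2 (s := 0) (by
      intro h
      apply h2
      have : (2 : F) * 2 = 0 := by linear_combination -h
      simpa using this) δ
    refine exists_normalized_of_coord (Equiv.refl _) hxQ (J := !![a, b; b, -a]) (t := 0) (u := δ)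
      (a := 0) (b := -1) ?_ (fun c hc => hδ ⟨c, ?_⟩) ?_
    · rw [← hab]
      ext i j; fin_cases i <;> fin_cases j <;> simp [Matrix.mul_apply, Fin.sum_univ_two] <;> ring
    · linear_combination -hc
    · ext i j; fin_cases i <;> fin_cases j <;>
        simp [Matrix.mul_apply, Fin.sum_univ_two, Matrix.one_apply]

/-- `x²` a non-square scalar. -/
theorem quad_normalized_nonsquare [NeZero n] {x : GL (Fin n) F} {z : F}
    (hz : (x : Matrix (Fin n) (Fin n) F) * x = z • 1) (hns : ¬ IsSquare z) :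
    ∃ K : Subalgebra F (Matrix (Fin n) (Fin n) F), Cfsg.Geo.IsFieldSubalgebra 2 K ∧
      x ∈ Cfsg.Geo.subalgebraNormalizer K := by
  refine exists_normalized_of_coord (Equiv.refl _) (Q := 1) (D := (x : Matrix (Fin n) (Fin n) F))
    (J := (x : Matrix (Fin n) (Fin n) F)) (t := 0) (u := z) (a := 0) (b := 1) (by simp) ?_ ?_ (by simp)
  · rw [hz, zero_smul, zero_add]
  · intro c hc
    exact hns ⟨c, by rw [hc, zero_mul, zero_add]⟩

/-- `x² = l²`, with even eigenspace dimensions. -/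
theorem quad_normalized_split [Fintype F] {m : ℕ} (hnm : n = 2 * m) (hm : 0 < m) (h2 : (2 : F) ≠ 0)
    {x : GL (Fin n) F}
    (hxd : (x : Matrix (Fin n) (Fin n) F).det = 1) {l : F} (hl : l ≠ 0)
    (hz : (x : Matrix (Fin n) (Fin n) F) * x = (l * l) • 1) (hln : l ^ n ≠ -1) :
    ∃ K : Subalgebra F (Matrix (Fin n) (Fin n) F), Cfsg.Geo.IsFieldSubalgebra 2 K ∧
      x ∈ Cfsg.Geo.subalgebraNormalizer K := by
  classical
  haveI : NeZero n := ⟨by omega⟩
  set X := Matrix.toLin' (x : Matrix (Fin n) (Fin n) F) with hX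
  have hXX : ∀ w, X (X w) = (l * l) • w := by
    intro w
    rw [hX, Matrix.toLin'_apply, Matrix.toLin'_apply, Matrix.mulVec_mulVec, hz, Matrix.smul_mulVec,
      Matrix.one_mulVec]
  let Vp := LinearMap.ker (X - l • (LinearMap.id : (Fin n → F) →ₗ[F] (Fin n → F)))
  let Vn := LinearMap.ker (X + l • (LinearMap.id : (Fin n → F) →ₗ[F] (Fin n → F)))
  have hp : ∀ w, w ∈ Vp ↔ X w = l • w := fun w => by simp [Vp, sub_eq_zero]
  have hn' : ∀ w, w ∈ Vn ↔ X w = -(l • w) := fun w => by simp [Vn, add_eq_zero_iff_eq_neg]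
  have hcompl : IsCompl Vp Vn := by
    refine ⟨Submodule.disjoint_def.mpr fun w h1 h2' => ?_, ?_⟩
    · rw [hp] at h1; rw [hn'] at h2'
      have : ((2 : F) * l) • w = 0 := by
        rw [← smul_smul, two_smul]
        nth_rewrite 2 [← h1]
        rw [h2', add_neg_cancel]
      exact (smul_eq_zero.mp this).resolve_left (mul_ne_zero h2 hl)
    · rw [codisjoint_iff, eq_top_iff]
      intro w _
      refine Submodule.mem_sup.mpr ⟨(2 : F)⁻¹ • (w + l⁻¹ • X w), ?_, (2 : F)⁻¹ • (w - l⁻¹ • X w), ?_, ?_⟩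
      · rw [hp]
        simp only [map_smul, map_add, hXX, smul_smul, smul_add]
        match_scalars <;> field_simp
      · rw [hn']
        simp only [map_smul, map_sub, hXX, smul_smul, smul_sub]
        match_scalars <;> field_simp
      · rw [← smul_add, add_add_sub_cancel, ← two_smul F w, smul_smul, inv_mul_cancel₀ h2, one_smul]
  set dp := Module.finrank F Vp with hdp
  set dn := Module.finrank F Vn with hdn
  obtain ⟨b₀, hb₀def⟩ : ∃ b : Module.Basis (Fin dp ⊕ Fin dn) F (Fin n → F),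
      b = ((Module.finBasis F Vp).prod (Module.finBasis F Vn)).map
        (Submodule.prodEquivOfIsCompl Vp Vn hcompl) := ⟨_, rfl⟩
  let D₀ : Matrix (Fin dp ⊕ Fin dn) (Fin dp ⊕ Fin dn) F := Matrix.diagonal (Sum.elim (fun _ => l) (fun _ => -l))
  have hb₀ : ∀ j, X (b₀ j) = Sum.elim (fun _ => l) (fun _ => -l) j • b₀ j := by
    rintro (j | j)
    · have : b₀ (Sum.inl j) ∈ Vp := by simp [hb₀def]
      simpa using (hp _).mp this
    · have : b₀ (Sum.inr j) ∈ Vn := by simp [hb₀def]
      simpa using (hn' _).mp this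
  have hdiag : ∀ {κ : Type} [Fintype κ] [DecidableEq κ] (b : Module.Basis κ F (Fin n → F)) (d : κ → F),
      (∀ j, X (b j) = d j • b j) → ∀ j, (x : Matrix (Fin n) (Fin n) F) *ᵥ b j
        = ∑ i, (Matrix.diagonal d) i j • b i := by
    intro κ _ _ b d h j
    rw [← Matrix.toLin'_apply, ← hX, h j, Finset.sum_eq_single j]
    · simp
    · intro i _ hi; simp [hi]
    · simp
  have hdim : dp + dn = n := by
    have := Module.finrank_eq_card_basis b₀
    simpa using this.symm
  obtain ⟨e₀, Q₀, hQ₀⟩ := exists_basis_GL b₀ x D₀ (hdiag b₀ _ hb₀)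
  have hdn_even : Even dn := by
    have h := congrArg Matrix.det hQ₀
    rw [Matrix.det_mul, Matrix.det_mul, hxd, one_mul, Matrix.det_submatrix_equiv_self, Matrix.det_diagonal,
      Fintype.prod_sum_type] at h
    simp only [Sum.elim_inl, Sum.elim_inr, Finset.prod_const, Finset.card_univ, Fintype.card_fin] at h
    have h1 := (mul_eq_left₀ (Matrix.isUnits_det_units Q₀).ne_zero).mp h.symm
    rw [neg_pow, mul_left_comm, ← pow_add, hdim] at h1
    by_contra hodd
    rw [Nat.not_even_iff_odd] at hodd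
    rw [hodd.neg_one_pow] at h1
    exact hln (by linear_combination -h1)
  obtain ⟨b', hb'⟩ := hdn_even
  obtain ⟨a', ha'⟩ : Even dp := by
    rw [Nat.even_iff]; omega
  let κ := (Fin a' ⊕ Fin a') ⊕ (Fin b' ⊕ Fin b')
  let ε : Fin dp ⊕ Fin dn ≃ κ :=
    Equiv.sumCongr ((finCongr ha').trans finSumFinEquiv.symm) ((finCongr hb').trans finSumFinEquiv.symm)
  let d : κ → F := Sum.elim (fun _ => l) (fun _ => -l)
  have hb : ∀ j, X ((b₀.reindex ε) j) = d j • (b₀.reindex ε) j := by
    intro j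
    rw [Module.Basis.reindex_apply, hb₀]
    rcases j with j | j <;> rfl
  obtain ⟨e, Q, hQ⟩ := exists_basis_GL (b₀.reindex ε) x (Matrix.diagonal d) (hdiag _ _ hb)
  obtain ⟨δ, hδ⟩ := FiniteField.exists_nonsquare (F := F) (by
    intro hc
    apply h2
    have := CharP.cast_eq_zero F (ringChar F)
    rw [hc] at this
    exact_mod_cast this)
  let Ja : Matrix (Fin a' ⊕ Fin a') (Fin a' ⊕ Fin a') F := Matrix.fromBlocks 0 (δ • 1) 1 0
  let Jb : Matrix (Fin b' ⊕ Fin b') (Fin b' ⊕ Fin b') F := Matrix.fromBlocks 0 (δ • 1) 1 0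
  refine exists_normalized_of_coord e hQ (J := Matrix.fromBlocks Ja 0 0 Jb) (t := 0) (u := δ)
    (a := 0) (b := 1) ?_ (fun c hc => hδ ⟨c, by rw [hc, zero_mul, zero_add]⟩) ?_
  · rw [zero_smul, zero_add, Matrix.fromBlocks_multiply]
    simp only [Ja, Jb, Matrix.fromBlocks_multiply]
    rw [← Matrix.fromBlocks_one (l := Fin a' ⊕ Fin a') (m := Fin b' ⊕ Fin b'), Matrix.fromBlocks_smul]
    simp [← Matrix.fromBlocks_one, Matrix.fromBlocks_smul]
  · have hdd : Matrix.diagonal d = Matrix.fromBlocks (l • 1) 0 0 ((-l) • 1) := by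
      simp [d, Matrix.smul_one_eq_diagonal, Matrix.fromBlocks_diagonal]
    rw [hdd, zero_smul, zero_add, one_smul, Matrix.fromBlocks_multiply, Matrix.fromBlocks_multiply]
    simp

end H47
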