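import Mathlib
import Cfsg.Prelude.Def_GeometricClasses
import Cfsg.Agent.H47.Two

set_option autoImplicit false
open scoped MatrixGroups Matrix
open Matrix

namespace H47

/-- The homomorphic extension of `a 1 ↦ A`, `xa 0 ↦ B`. -/
def q8Ext (A B : QuaternionGroup 2) : QuaternionGroup 2 → QuaternionGroup 2
  | .a i => A ^ i.val
  | .xa i => B * A ^ i.val

theorem q8Ext_iterate : ∀ A B : QuaternionGroup 2, Function.Injective (q8Ext A B) →
    (∀ u v, q8Ext A B (u * v) = q8Ext A B u * q8Ext A B v) →
    (q8Ext A B)^[24] (.a 1) = .a 1 ∧ (q8Ext A B)^[24] (.xa 0) = .xa 0 := by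
  decide +kernel

lemma q8Ext_eq (φ : QuaternionGroup 2 ≃* QuaternionGroup 2) :
    (φ : QuaternionGroup 2 → QuaternionGroup 2) = q8Ext (φ (.a 1)) (φ (.xa 0)) := by
  funext u
  rcases u with i | i
  · simp only [q8Ext]
    rw [← map_pow]
    congr 1
    revert i; decide
  · simp only [q8Ext]
    rw [← map_pow, ← map_mul]
    congr 1
    revert i; decide

lemma q8_aut_iterate (φ : QuaternionGroup 2 ≃* QuaternionGroup 2) :
    φ^[24] (.a 1) = .a 1 ∧ φ^[24] (.xa 0) = .xa 0 := by
  rw [q8Ext_eq φ]
  apply q8Ext_iterate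
  · rw [← q8Ext_eq φ]; exact φ.injective
  · rw [← q8Ext_eq φ]; exact map_mul φ

theorem q8_facts : (QuaternionGroup.a 1 : QuaternionGroup 2) * .a 1 = .a 2 ∧
    (QuaternionGroup.xa 0 : QuaternionGroup 2) * .xa 0 = .a 2 ∧
    (QuaternionGroup.a 1 : QuaternionGroup 2) * .xa 0 = .a 2 * (.xa 0 * .a 1) ∧
    (QuaternionGroup.a 2 : QuaternionGroup 2) ≠ 1 ∧
    (QuaternionGroup.a 2 : QuaternionGroup 2) * .a 2 = 1 ∧
    (QuaternionGroup.a 1 : QuaternionGroup 2) * .xa 0 ≠ .xa 0 * .a 1 := by
  decide

theorem q8_central : ∀ u : QuaternionGroup 2, (.a 2 : QuaternionGroup 2) * u = u * .a 2 := by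
  decide

theorem q8_gen : ∀ u : QuaternionGroup 2, ∃ n : Fin 4, ∃ m : Fin 2,
    u = (QuaternionGroup.xa 0) ^ m.val * (QuaternionGroup.a 1) ^ n.val := by
  decide

variable {F : Type*} [Field F]

lemma two_sq_neg_one {A : Matrix (Fin 2) (Fin 2) F} (h : A * A = -1)
    (hns : ∀ c : F, A ≠ c • (1 : Matrix (Fin 2) (Fin 2) F)) : A.trace = 0 ∧ A.det = 1 := by
  have e := two_ch A
  rw [h] at e
  have ht : A.trace = 0 := by
    by_contra ht
    refine hns ((A.det - 1) / A.trace) ?_
    have e' : A.trace • A = (A.det - 1) • (1 : Matrix (Fin 2) (Fin 2) F) := by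
      rw [sub_smul, one_smul]
      have := eq_sub_iff_add_eq.mp e
      rw [← this]; abel
    rw [div_eq_inv_mul, ← smul_smul, ← e', smul_smul, inv_mul_cancel₀ ht, one_smul]
  refine ⟨ht, ?_⟩
  rw [ht, zero_smul, zero_sub, neg_inj] at e
  have := congrFun (congrFun e 0) 0
  simpa using this.symm

/-- The prime order elements of SL₂(p) with a conjugate normalising a quaternion group. -/
theorem quaternion_fix_iff [Fintype F] {p : ℕ} [Fact p.Prime] [CharP F p]
    (hF : Fintype.card F = p) (hp : 5 ≤ p)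
    (R : Subgroup (GL (Fin 2) F)) (hR : Nonempty (↥R ≃* QuaternionGroup 2))
    (r : ℕ) [hr : Fact r.Prime]
    (hΩ : r ∣ (Cfsg.Geo.subgroupNormalizer R).relIndex (Cfsg.Geo.specialLinear (Fin 2) F)) :
    (∀ x ∈ Cfsg.Geo.specialLinear (Fin 2) F,
      (∃ z : F, ((x ^ r : GL (Fin 2) F) : Matrix (Fin 2) (Fin 2) F) = z • (1 : Matrix (Fin 2) (Fin 2) F)) →
      (∀ z : F, (x : Matrix (Fin 2) (Fin 2) F) ≠ z • (1 : Matrix (Fin 2) (Fin 2) F)) →
      ∃ g ∈ Cfsg.Geo.specialLinear (Fin 2) F, g⁻¹ * x * g ∈ Cfsg.Geo.subgroupNormalizer R) ↔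
    (r = 2 ∨ r = 3) := by
  obtain ⟨e⟩ := hR
  have h2 : (2 : F) ≠ 0 := by
    intro h
    have : ((2 : ℕ) : F) = 0 := by exact_mod_cast h
    rw [CharP.cast_eq_zero_iff F p] at this
    have := Nat.le_of_dvd (by norm_num) this
    omega
  have h3 : (3 : F) ≠ 0 := by
    intro h
    have : ((3 : ℕ) : F) = 0 := by exact_mod_cast h
    rw [CharP.cast_eq_zero_iff F p] at this
    have := Nat.le_of_dvd (by norm_num) this
    omega
  have h4 : (4 : F) ≠ 0 := by
    rw [show (4 : F) = 2 * 2 by norm_num]; exact mul_ne_zero h2 h2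
  obtain ⟨f1, f2, f3, f4, f5, f6⟩ := q8_facts
  let φ : QuaternionGroup 2 →* GL (Fin 2) F := R.subtype.comp e.symm.toMonoidHom
  have φinj : Function.Injective φ := fun u v h => e.symm.injective (Subtype.ext h)
  have φrange : ∀ u, φ u ∈ R := fun u => (e.symm u).2
  have φsurj : ∀ y ∈ R, ∃ u, φ u = y := fun y hy => ⟨e ⟨y, hy⟩, by simp [φ]⟩
  set I := φ (.a 1) with hI
  set J := φ (.xa 0) with hJ
  have hIJ : (I : Matrix (Fin 2) (Fin 2) F) * J ≠ J * (I : Matrix (Fin 2) (Fin 2) F) := by
    intro h
    apply f6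
    apply φinj
    rw [map_mul, map_mul]
    exact Units.ext h
  have hIns : ∀ c : F, (I : Matrix (Fin 2) (Fin 2) F) ≠ c • (1 : Matrix (Fin 2) (Fin 2) F) := by
    intro c hc; apply hIJ; rw [hc]; simp
  have hJns : ∀ c : F, (J : Matrix (Fin 2) (Fin 2) F) ≠ c • (1 : Matrix (Fin 2) (Fin 2) F) := by
    intro c hc; apply hIJ; rw [hc]; simp
  set Z := φ (.a 2) with hZ
  have hZm : (Z : Matrix (Fin 2) (Fin 2) F) = -1 := by
    have c1 : (Z : Matrix (Fin 2) (Fin 2) F) * I = I * (Z : Matrix (Fin 2) (Fin 2) F) := by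
      rw [← Units.val_mul, ← Units.val_mul, hZ, hI, ← map_mul, ← map_mul, q8_central]
    have c2 : (Z : Matrix (Fin 2) (Fin 2) F) * J = J * (Z : Matrix (Fin 2) (Fin 2) F) := by
      rw [← Units.val_mul, ← Units.val_mul, hZ, hJ, ← map_mul, ← map_mul, q8_central]
    obtain ⟨c, hc⟩ := two_commutant c1 c2 hIJ
    have hcc : c * c = 1 := by
      have : Z * Z = 1 := by rw [hZ, ← map_mul, f5, map_one]
      have := congrArg (fun g : GL (Fin 2) F => (g : Matrix (Fin 2) (Fin 2) F) 0 0) this
      simpa [hc] using this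
    rcases mul_self_eq_one_iff.mp hcc with rfl | rfl
    · exfalso
      apply f4
      apply φinj
      rw [map_one]
      apply Units.ext
      rw [← hZ, hc, one_smul, Units.val_one]
    · rw [hc]; simp
  have hII : (I : Matrix (Fin 2) (Fin 2) F) * I = -1 := by
    rw [← Units.val_mul, hI, ← map_mul, f1, ← hZ, hZm]
  have hJJ : (J : Matrix (Fin 2) (Fin 2) F) * J = -1 := by
    rw [← Units.val_mul, hJ, ← map_mul, f2, ← hZ, hZm]
  have hJI : (J : Matrix (Fin 2) (Fin 2) F) * I = -((I : Matrix (Fin 2) (Fin 2) F) * J) := by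
    have : (I : Matrix (Fin 2) (Fin 2) F) * J
        = (Z : Matrix (Fin 2) (Fin 2) F) * ((J : Matrix (Fin 2) (Fin 2) F) * I) := by
      rw [← Units.val_mul, ← Units.val_mul, ← Units.val_mul, hI, hJ, hZ, ← map_mul, ← map_mul,
        ← map_mul, f3]
    rw [this, hZm]; simp
  obtain ⟨trI, detI⟩ := two_sq_neg_one hII hIns
  have sl_iff : ∀ g : GL (Fin 2) F,
      g ∈ Cfsg.Geo.specialLinear (Fin 2) F ↔ (g : Matrix (Fin 2) (Fin 2) F).det = 1 := by
    intro g
    rw [Cfsg.Geo.specialLinear, MonoidHom.mem_ker]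
    constructor
    · intro h
      rw [← Matrix.GeneralLinearGroup.val_det_apply, h, Units.val_one]
    · intro h
      exact Units.ext (by rw [Matrix.GeneralLinearGroup.val_det_apply, h, Units.val_one])
  constructor
  · intro hall
    by_contra hcon
    push Not at hcon
    have hr5 : 5 ≤ r := by
      have := hr.out.two_le
      rcases (show r = 4 ∨ 5 ≤ r by omega) with h | h
      · exact absurd (h ▸ hr.out) (by norm_num)
      · exact h
    have hdvd : r ∣ Nat.card ↥(Cfsg.Geo.specialLinear (Fin 2) F) :=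
      hΩ.trans (Subgroup.relIndex_dvd_card _ _)
    obtain ⟨⟨x, hx⟩, hxo⟩ := exists_prime_orderOf_dvd_card' r hdvd
    rw [← Subgroup.orderOf_coe] at hxo
    have hxr : x ^ r = 1 := by rw [← hxo]; exact pow_orderOf_eq_one x
    have hns : ∀ z : F, (x : Matrix (Fin 2) (Fin 2) F) ≠ z • (1 : Matrix (Fin 2) (Fin 2) F) := by
      intro z hz
      have hd := (sl_iff x).mp hx
      rw [hz, Matrix.det_smul, Matrix.det_one, mul_one, Fintype.card_fin] at hd
      have hx2 : x ^ 2 = 1 := by
        apply Units.ext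
        rw [Units.val_pow_eq_pow_val, hz, smul_pow, one_pow, hd, one_smul, Units.val_one]
      have := orderOf_dvd_of_pow_eq_one hx2
      rw [hxo] at this
      have := Nat.le_of_dvd (by norm_num) this
      omega
    obtain ⟨g, hg, hmem⟩ := hall x hx ⟨1, by rw [hxr, one_smul, Units.val_one]⟩ hns
    set y := g⁻¹ * x * g with hy
    have hyr : y ^ r = 1 := by
      have : y = MulAut.conj g⁻¹ x := by simp [hy]
      rw [this, ← map_pow, hxr, map_one]
    have hyn : ∀ u : GL (Fin 2) F, u ∈ R ↔ y * u * y⁻¹ ∈ R :=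
      fun u => Subgroup.mem_normalizer_iff.mp hmem u
    let c : ↥R ≃* ↥R :=
      { toFun := fun u => ⟨y * u * y⁻¹, (hyn u).mp u.2⟩
        invFun := fun u => ⟨y⁻¹ * u * y, (hyn _).mpr (by simp [mul_assoc])⟩
        left_inv := fun u => by ext : 1; simp [mul_assoc]
        right_inv := fun u => by ext : 1; simp [mul_assoc]
        map_mul' := fun u v => by ext : 1; simp [mul_assoc] }
    let ψ : QuaternionGroup 2 ≃* QuaternionGroup 2 := (e.symm.trans c).trans e
    have hψ : ∀ (n : ℕ) u, φ (ψ^[n] u) = y ^ n * φ u * (y ^ n)⁻¹ := by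
      intro n
      induction n with
      | zero => simp
      | succ n ih =>
        intro u
        rw [Function.iterate_succ_apply', pow_succ', _root_.mul_inv_rev]
        have : φ (ψ (ψ^[n] u)) = y * φ (ψ^[n] u) * y⁻¹ := by simp [φ, ψ, c]
        rw [this, ih]
        simp [mul_assoc]
    have hfix : ∀ u, ψ^[24] u = u → y * φ u = φ u * y := by
      intro u hu
      have h1 := hψ 24 u
      rw [hu] at h1
      have h24 : Commute (y ^ 24) (φ u) := by
        have := congrArg (· * y ^ 24) h1
        simpa [Commute, SemiconjBy, mul_assoc] using this.symm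
      have hcop : Nat.Coprime 24 r := by
        rw [Nat.coprime_comm, hr.out.coprime_iff_not_dvd]
        intro hd
        have : r ∈ Nat.divisors 24 := Nat.mem_divisors.mpr ⟨hd, by norm_num⟩
        have h' : Nat.divisors 24 = {1, 2, 3, 4, 6, 8, 12, 24} := by decide
        rw [h'] at this
        simp at this
        rcases this with h | h | h | h | h | h | h | h <;> subst h <;>
          first | omega | exact absurd hr.out (by norm_num)
      obtain ⟨k, hk⟩ := exists_pow_eq_self_of_coprime (n := 24) (x := y)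
        (hcop.coprime_dvd_right (orderOf_dvd_of_pow_eq_one hyr))
      rw [← hk]
      exact (h24.pow_left k).eq
    obtain ⟨a1, a2⟩ := q8_aut_iterate ψ
    have c1 := congrArg Units.val (hfix _ a1)
    have c2 := congrArg Units.val (hfix _ a2)
    clear_value y
    rw [Units.val_mul, Units.val_mul] at c1 c2
    obtain ⟨s, hs⟩ := two_commutant c1 c2 hIJ
    refine hns s ?_
    have : x = g * y * g⁻¹ := by simp [hy, mul_assoc]
    rw [this, Units.val_mul, Units.val_mul, hs, Matrix.mul_smul, Matrix.mul_one, Matrix.smul_mul,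
      Units.mul_inv]
  · rintro hr23 x hx ⟨z, hz⟩ hns
    have hxd := (sl_iff x).mp hx
    have hch := two_ch (x : Matrix (Fin 2) (Fin 2) F)
    rw [hxd, one_smul] at hch
    have indep : ∀ α β : F, α • (x : Matrix (Fin 2) (Fin 2) F) = β • 1 → α = 0 ∧ β = 0 := by
      intro α β h
      by_cases ha : α = 0
      · refine ⟨ha, ?_⟩
        rw [ha, zero_smul] at h
        have := congrFun (congrFun h 0) 0
        simpa using this.symm
      · exfalso
        refine hns (α⁻¹ * β) ?_
        rw [← smul_smul, ← h, smul_smul, inv_mul_cancel₀ ha, one_smul]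
    rcases hr23 with rfl | rfl
    · -- r = 2
      rw [Units.val_pow_eq_pow_val, sq, hch] at hz
      obtain ⟨ht, -⟩ := indep (x : Matrix (Fin 2) (Fin 2) F).trace (z + 1) (by
        rw [add_smul, one_smul, ← hz]; abel)
      obtain ⟨g, hg, hgx⟩ := two_sl_conj h2 hxd detI (by rw [ht, trI]) (by
        rw [ht]; simpa using h4.symm)
      exact ⟨g, hg, by rw [hgx]; exact Subgroup.le_normalizer (φrange _)⟩
    · -- r = 3
      set t := (x : Matrix (Fin 2) (Fin 2) F).trace with ht
      have hzz : ((x : Matrix (Fin 2) (Fin 2) F)) ^ 3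
          = (t * t - 1) • (x : Matrix (Fin 2) (Fin 2) F) - t • 1 := by
        rw [pow_succ, pow_two, hch, sub_mul, smul_mul_assoc, hch, one_mul, smul_sub, smul_smul,
          sub_smul, one_smul]
        abel
      rw [Units.val_pow_eq_pow_val, hzz] at hz
      obtain ⟨ht1, htz⟩ := indep (t * t - 1) (z + t) (by rw [add_smul, ← hz]; abel)
      have htt : t * t = 1 := by linear_combination ht1
      -- replace `x` by `y = -t x`, of trace `-1`
      set W : Matrix (Fin 2) (Fin 2) F :=
        (2 : F)⁻¹ • (-1 + (I : Matrix (Fin 2) (Fin 2) F) + J + (I : Matrix (Fin 2) (Fin 2) F) * J) with hW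
      have hWW : W * W = -1 - W := by
        have h22 : (2 : F)⁻¹ * (2 : F)⁻¹ = (4 : F)⁻¹ := by rw [← mul_inv]; norm_num
        have hh : (2 : F)⁻¹ = (4 : F)⁻¹ * 2 := by field_simp; norm_num
        set A := (I : Matrix (Fin 2) (Fin 2) F) with hA
        set B := (J : Matrix (Fin 2) (Fin 2) F) with hB
        have e1 : A * (A * B) = -B := by rw [← mul_assoc, hII]; simp
        have e2 : (A * B) * A = B := by rw [mul_assoc, hJI, mul_neg, e1, neg_neg]
        have e3 : B * (A * B) = A := by rw [← mul_assoc, hJI, neg_mul, mul_assoc, hJJ]; simp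
        have e4 : (A * B) * B = -A := by rw [mul_assoc, hJJ]; simp
        have e5 : (A * B) * (A * B) = -1 := by rw [mul_assoc, e3, hII]
        rw [hW, smul_mul_smul_comm, h22]
        simp only [mul_add, add_mul, neg_mul, mul_neg, mul_one, one_mul, neg_neg, hII, hJJ, hJI,
          e1, e2, e3, e4, e5]
        conv_rhs => rw [hh]
        match_scalars <;> field_simp <;> ring
      have hWns : ∀ c : F, W ≠ c • (1 : Matrix (Fin 2) (Fin 2) F) := by
        intro c hc
        have hcom : W * (I : Matrix (Fin 2) (Fin 2) F) = (I : Matrix (Fin 2) (Fin 2) F) * W := by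
          rw [hc]; simp
        have hW2 : (2 : F) • W
            = -1 + (I : Matrix (Fin 2) (Fin 2) F) + J + (I : Matrix (Fin 2) (Fin 2) F) * J := by
          rw [hW, smul_smul, mul_inv_cancel₀ h2, one_smul]
        have key : ((2 : F) • W) * (I : Matrix (Fin 2) (Fin 2) F)
            = (I : Matrix (Fin 2) (Fin 2) F) * ((2 : F) • W) := by
          rw [smul_mul_assoc, mul_smul_comm, hcom]
        rw [hW2] at key
        have e1 : (I : Matrix (Fin 2) (Fin 2) F) * ((I : Matrix (Fin 2) (Fin 2) F) * J) = -J := by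
          rw [← mul_assoc, hII]; simp
        have e2 : ((I : Matrix (Fin 2) (Fin 2) F) * J) * I = (J : Matrix (Fin 2) (Fin 2) F) := by
          rw [mul_assoc, hJI, mul_neg, e1, neg_neg]
        simp only [mul_add, add_mul, neg_mul, mul_neg, mul_one, one_mul, hII, hJI, e1, e2] at key
        have key' : (2 : F) • (J : Matrix (Fin 2) (Fin 2) F)
            = (2 : F) • ((I : Matrix (Fin 2) (Fin 2) F) * J) := by
          rw [← sub_eq_zero] at key ⊢
          rw [← key]
          match_scalars <;> ring
        have key'' := smul_right_injective (Matrix (Fin 2) (Fin 2) F) h2 key'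
        apply hIJ
        have h1 : (I : Matrix (Fin 2) (Fin 2) F) = 1 := by
          have hu : (I * J : GL (Fin 2) F) = J := Units.ext (by rw [Units.val_mul]; exact key''.symm)
          rw [mul_eq_right.mp hu, Units.val_one]
        rw [h1]; simp
      have hWch := two_ch W
      rw [hWW] at hWch
      have hWtr : W.trace = -1 ∧ W.det = 1 := by
        have e' : (W.trace + 1) • W = (W.det - 1) • (1 : Matrix (Fin 2) (Fin 2) F) := by
          rw [add_smul, sub_smul, one_smul, one_smul, ← sub_eq_zero]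
          rw [← sub_eq_zero] at hWch
          rw [← neg_eq_zero, ← hWch]
          abel
        by_cases h0 : W.trace + 1 = 0
        · rw [h0, zero_smul] at e'
          have := congrFun (congrFun e' 0) 0
          simp at this
          exact ⟨by linear_combination h0, by linear_combination -this⟩
        · exfalso
          refine hWns ((W.trace + 1)⁻¹ * (W.det - 1)) ?_
          rw [← smul_smul, ← e', smul_smul, inv_mul_cancel₀ h0, one_smul]
      obtain ⟨w, hw⟩ : ∃ S : GL (Fin 2) F, (S : Matrix (Fin 2) (Fin 2) F) = W :=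
        ⟨Matrix.GeneralLinearGroup.mkOfDetNeZero W (by rw [hWtr.2]; exact one_ne_zero), rfl⟩
      have htu : (-t) ≠ 0 := by
        intro h; rw [neg_eq_zero] at h; rw [h] at htt; simp at htt
      set y : GL (Fin 2) F := Units.map (Matrix.scalar (Fin 2) : F →+* _).toMonoidHom
        (Units.mk0 (-t) htu) * x with hy
      have hyv : (y : Matrix (Fin 2) (Fin 2) F) = (-t) • (x : Matrix (Fin 2) (Fin 2) F) := by
        rw [hy, Units.val_mul]
        ext i j
        simp [Matrix.scalar_apply, Matrix.diagonal_mul]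
      have hytr : (y : Matrix (Fin 2) (Fin 2) F).trace = -1 := by
        rw [hyv, Matrix.trace_smul, ← ht, smul_eq_mul, neg_mul, htt]
      have hyd : (y : Matrix (Fin 2) (Fin 2) F).det = 1 := by
        rw [hyv, Matrix.det_smul, hxd, Fintype.card_fin, mul_one]
        linear_combination htt
      obtain ⟨g, hg, hgy⟩ := two_sl_conj h2 hyd (hw ▸ hWtr.2)
        (by rw [hytr, hw, hWtr.1]) (by
        rw [hytr]; intro h; apply h3; linear_combination -h)
      refine ⟨g, hg, ?_⟩
      -- `w` normalises `R`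
      have hwI : (W * (I : Matrix (Fin 2) (Fin 2) F)) = ((I : Matrix (Fin 2) (Fin 2) F) * J) * W := by
        rw [hW, Matrix.smul_mul, Matrix.mul_smul]
        congr 1
        have e1 : (I : Matrix (Fin 2) (Fin 2) F) * ((I : Matrix (Fin 2) (Fin 2) F) * J) = -J := by
          rw [← mul_assoc, hII]; simp
        have e2 : ((I : Matrix (Fin 2) (Fin 2) F) * J) * I = (J : Matrix (Fin 2) (Fin 2) F) := by
          rw [mul_assoc, hJI, mul_neg, e1, neg_neg]
        have e4 : ((I : Matrix (Fin 2) (Fin 2) F) * J) * J = -(I : Matrix (Fin 2) (Fin 2) F) := by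
          rw [mul_assoc, hJJ]; simp
        have e5 : ((I : Matrix (Fin 2) (Fin 2) F) * J) * ((I : Matrix (Fin 2) (Fin 2) F) * J) = -1 := by
          rw [← mul_assoc, e2, hJJ]
        simp only [mul_add, add_mul, neg_mul, mul_neg, mul_one, one_mul, hII, hJI, e1, e2, e4, e5]
        abel
      have hwJ : (W * (J : Matrix (Fin 2) (Fin 2) F)) = (I : Matrix (Fin 2) (Fin 2) F) * W := by
        rw [hW, Matrix.smul_mul, Matrix.mul_smul]
        congr 1
        have e1 : (I : Matrix (Fin 2) (Fin 2) F) * ((I : Matrix (Fin 2) (Fin 2) F) * J) = -J := by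
          rw [← mul_assoc, hII]; simp
        have e4 : ((I : Matrix (Fin 2) (Fin 2) F) * J) * J = -(I : Matrix (Fin 2) (Fin 2) F) := by
          rw [mul_assoc, hJJ]; simp
        simp only [mul_add, add_mul, neg_mul, mul_neg, mul_one, one_mul, hII, hJJ, e1, e4]
        abel
      have hwmem : ∀ u : GL (Fin 2) F, u ∈ R → w * u * w⁻¹ ∈ R := by
        intro u hu
        obtain ⟨q, rfl⟩ := φsurj u hu
        obtain ⟨n, m, rfl⟩ := q8_gen q
        have eI : w * I * w⁻¹ = I * J := by
          rw [mul_inv_eq_iff_eq_mul]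
          apply Units.ext
          rw [Units.val_mul, Units.val_mul, Units.val_mul, hw, hwI]
        have eJ : w * J * w⁻¹ = I := by
          rw [mul_inv_eq_iff_eq_mul]
          apply Units.ext
          rw [Units.val_mul, Units.val_mul, hw, hwJ]
        have hIm : I ∈ R := φrange _
        have hJm : J ∈ R := φrange _
        rw [map_mul, map_pow, map_pow, ← hI, ← hJ, ← conj_mul, ← conj_pow, ← conj_pow, eI, eJ]
        exact R.mul_mem (R.pow_mem hIm _) (R.pow_mem (R.mul_mem hIm hJm) _)
      have hwn : w ∈ Cfsg.Geo.subgroupNormalizer R := by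
        haveI : Finite ↥R := Finite.of_equiv _ e.symm.toEquiv
        refine Subgroup.mem_normalizer_iff.mpr fun u => ⟨fun hu => hwmem u hu, fun hu => ?_⟩
        let f : ↥R → ↥R := fun v => ⟨w * v * w⁻¹, hwmem _ v.2⟩
        have finj : Function.Injective f := fun v v' h => by
          have := congrArg Subtype.val h
          simpa [f] using this
        obtain ⟨v, hv⟩ := (Finite.injective_iff_surjective.mp finj) ⟨_, hu⟩
        have := congrArg Subtype.val hv
        simp only [f] at this
        have : (v : GL (Fin 2) F) = u := by simpa using this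
        rw [← this]; exact v.2
      set s : GL (Fin 2) F := Units.map (Matrix.scalar (Fin 2) : F →+* _).toMonoidHom
        (Units.mk0 (-t) htu) with hs
      have hsv : (s : Matrix (Fin 2) (Fin 2) F) = (-t) • 1 := by
        rw [hs]; simp [Matrix.smul_one_eq_diagonal]
      have scent : ∀ v : GL (Fin 2) F, Commute s v := fun v => by
        apply Units.ext
        rw [Units.val_mul, Units.val_mul, hsv]
        simp
      have hsn : s ∈ Cfsg.Geo.subgroupNormalizer R := by
        refine Subgroup.mem_normalizer_iff.mpr fun v => ?_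
        rw [(scent v).eq, mul_inv_cancel_right]
      have hxy : g⁻¹ * x * g = s⁻¹ * w := by
        rw [← hgy, hy, eq_inv_mul_iff_mul_eq]
        simp only [← mul_assoc, (scent g⁻¹).eq]
      rw [hxy]
      exact Subgroup.mul_mem _ (Subgroup.inv_mem _ hsn) hwn

end H47
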