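import Mathlib
import Cfsg.Agent.H47.SpFieldExt
import Cfsg.Agent.H49.StabMax

/-!
Elements of prime order avoiding the extension field subgroups of the symplectic group.
-/

set_option autoImplicit false

namespace H47

open Matrix
open H48 (sf)

variable {F : Type*} [Field F] [Fintype F] {d : ℕ} {E : Type*} [Field E] [Algebra F E] [FiniteDimensional F E]
  {ρ : E →ₐ[F] Matrix (Fin d ⊕ Fin d) (Fin d ⊕ Fin d) F}

/-- An element of prime order normalising the field centralises it, or moves a large space. -/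
theorem moved_lower [Nonempty (Fin d ⊕ Fin d)] {r : ℕ} [hr : Fact r.Prime] {y : GL (Fin d ⊕ Fin d) F} (hy : y ^ r = 1)
    (hn : y ∈ Cfsg.Geo.subalgebraNormalizer ρ.range) :
    (∀ c, (y : Matrix _ _ F) * ρ c = ρ c * (y : Matrix _ _ F)) ∨
      (r ∣ Module.finrank F E ∧ d ≤ ((y : Matrix (Fin d ⊕ Fin d) (Fin d ⊕ Fin d) F) - 1).rank) := by
  classical
  have hρi : Function.Injective ρ := ρ.toRingHom.injective
  have hc : ∀ c : E, ∃ c' : E, ρ c' = (y : Matrix _ _ F) * ρ c * ((y⁻¹ : GL (Fin d ⊕ Fin d) F) : Matrix _ _ F) :=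
    fun c => (hn (ρ c)).1 ⟨c, rfl⟩
  choose f hf using hc
  have hmul : ∀ a b : Matrix (Fin d ⊕ Fin d) (Fin d ⊕ Fin d) F,
      ((y : Matrix _ _ F) * a * ((y⁻¹ : GL (Fin d ⊕ Fin d) F) : Matrix _ _ F)) *
        ((y : Matrix _ _ F) * b * ((y⁻¹ : GL (Fin d ⊕ Fin d) F) : Matrix _ _ F)) =
      (y : Matrix _ _ F) * (a * b) * ((y⁻¹ : GL (Fin d ⊕ Fin d) F) : Matrix _ _ F) := fun a b => by
    simp only [mul_assoc, Units.inv_mul_cancel_left]
  let σ₀ : E →ₐ[F] E :=
    { toFun := f
      map_one' := hρi (by rw [hf, map_one, mul_one, Units.mul_inv])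
      map_mul' := fun a b => hρi (by rw [map_mul ρ (f a), hf, hf, hf, hmul, map_mul])
      map_zero' := hρi (by rw [hf, map_zero, mul_zero, zero_mul])
      map_add' := fun a b => hρi (by rw [map_add ρ (f a), hf, hf, hf, map_add, mul_add, add_mul])
      commutes' := fun a => hρi (by
        rw [hf, AlgHom.commutes, ← Algebra.commutes, mul_assoc, Units.mul_inv, mul_one]) }
  by_cases hfix : ∀ c, f c = c
  · left
    intro c
    have h := hf c
    rw [hfix] at h
    conv_rhs => rw [h, mul_assoc, Units.inv_mul, mul_one]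
  push Not at hfix
  obtain ⟨c₀, hc₀⟩ := hfix
  right
  constructor
  · let σ : E ≃ₐ[F] E := AlgEquiv.ofBijective σ₀
      ⟨σ₀.toRingHom.injective, (LinearMap.injective_iff_surjective (f := σ₀.toLinearMap)).1 σ₀.toRingHom.injective⟩
    have hpow : ∀ (j : ℕ) c, ρ ((σ ^ j) c) =
        ((y ^ j : GL (Fin d ⊕ Fin d) F) : Matrix _ _ F) * ρ c * (((y ^ j)⁻¹ : GL (Fin d ⊕ Fin d) F) : Matrix _ _ F) := by
      intro j
      induction j with
      | zero => intro c; simp
      | succ j ih =>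
        intro c
        rw [pow_succ', AlgEquiv.mul_apply]
        show ρ (f ((σ ^ j) c)) = _
        rw [hf, ih, pow_succ', _root_.mul_inv_rev, Units.val_mul, Units.val_mul]
        simp only [mul_assoc]
    have h1 : σ ^ r = 1 := AlgEquiv.ext fun c => hρi (by rw [hpow, hy]; simp)
    have h2 : σ ≠ 1 := fun e => hc₀ (show σ c₀ = c₀ by rw [e]; rfl)
    haveI : Finite E := Module.finite_of_finite F
    rw [← orderOf_eq_prime h1 h2, ← IsGalois.card_aut_eq_finrank F E]
    exact orderOf_dvd_natCard σ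
  · set D := (y : Matrix (Fin d ⊕ Fin d) (Fin d ⊕ Fin d) F) - 1 with hD
    set K := LinearMap.ker D.mulVecLin with hK
    have hmem : ∀ v, v ∈ K ↔ (y : Matrix _ _ F) *ᵥ v = v := fun v => by
      rw [hK, LinearMap.mem_ker, Matrix.mulVecLin_apply, hD, Matrix.sub_mulVec, Matrix.one_mulVec, sub_eq_zero]
    have hne : c₀ - f c₀ ≠ 0 := fun e => hc₀ (sub_eq_zero.1 e).symm
    have hdis : ∀ v ∈ K, ρ c₀ *ᵥ v ∈ K → v = 0 := by
      intro v hv hv'
      rw [hmem] at hv hv'
      have h : ρ (f c₀) *ᵥ v = ρ c₀ *ᵥ v := by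
        conv_lhs => rw [← hv, Matrix.mulVec_mulVec, hf, mul_assoc, Units.inv_mul, mul_one, ← Matrix.mulVec_mulVec, hv']
      have h0 : ρ (c₀ - f c₀) *ᵥ v = 0 := by rw [map_sub, Matrix.sub_mulVec, h, sub_self]
      have := congrArg (fun w => ρ (c₀ - f c₀)⁻¹ *ᵥ w) h0
      rwa [Matrix.mulVec_mulVec, ← map_mul, inv_mul_cancel₀ hne, map_one, Matrix.one_mulVec, Matrix.mulVec_zero] at this
    have hc0 : c₀ ≠ 0 := fun e => hc₀ (by rw [e]; exact hρi (by rw [hf, map_zero, mul_zero, zero_mul]))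
    have hinj : Function.Injective (ρ c₀).mulVecLin := fun a b e => by
      have := congrArg (fun w => ρ c₀⁻¹ *ᵥ w) e
      simpa [Matrix.mulVec_mulVec, ← map_mul, inv_mul_cancel₀ hc0] using this
    have h3 : Module.finrank F K + Module.finrank F K ≤ d + d := by
      have h := Submodule.finrank_sup_add_finrank_inf_eq K (K.map (ρ c₀).mulVecLin)
      have hbot : K ⊓ K.map (ρ c₀).mulVecLin = ⊥ := by
        rw [eq_bot_iff]
        rintro _ ⟨hv, w, hw, rfl⟩
        rw [hdis w hw hv]; simp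
      rw [hbot, finrank_bot, ← (Submodule.equivMapOfInjective _ hinj K).finrank_eq] at h
      have h' := Submodule.finrank_le (K ⊔ K.map (ρ c₀).mulVecLin)
      have h2 : Module.finrank F (Fin d ⊕ Fin d → F) = d + d := by simp
      omega
    have h4 := LinearMap.finrank_range_add_finrank_ker D.mulVecLin
    have h2 : Module.finrank F (Fin d ⊕ Fin d → F) = d + d := by simp
    rw [Matrix.rank]
    rw [← hK, h2] at h4
    omega

omit [Fintype F] in
/-- An involution of a symplectic space moves no line. -/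
lemma two_le_rank_of_invol {e : ℕ} {Y : Matrix.symplecticGroup (Fin e) F} (h2 : (2 : F) ≠ 0) (hY : Y * Y = 1) (hne : Y ≠ 1) :
    2 ≤ ((Y : Matrix (Fin e ⊕ Fin e) (Fin e ⊕ Fin e) F) - 1).rank := by
  set M := ((Y : Matrix (Fin e ⊕ Fin e) (Fin e ⊕ Fin e) F) - 1) with hM
  set R := LinearMap.range M.mulVecLin with hR
  have happly : ∀ v, M *ᵥ v = Y • v - v := fun v => by rw [hM, Matrix.sub_mulVec, Matrix.one_mulVec, H48.spSmulDef]
  rw [Matrix.rank]
  by_contra hlt
  have hpos : R ≠ ⊥ := fun e0 => hne (H48.sp_ext fun v => by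
    have : M *ᵥ v ∈ R := ⟨v, rfl⟩
    rw [e0, Submodule.mem_bot, happly, sub_eq_zero] at this
    rw [this, one_smul])
  obtain ⟨w, hw, hw0⟩ := Submodule.exists_mem_ne_zero_of_ne_bot hpos
  have hspan : F ∙ w = R := Submodule.eq_of_le_of_finrank_le ((Submodule.span_singleton_le_iff_mem _ _).mpr hw)
    (by rw [finrank_span_singleton hw0, ← hR] at *; omega)
  have hYw : Y • w = -w := by
    obtain ⟨v, hv⟩ := hw
    rw [Matrix.mulVecLin_apply, happly] at hv
    rw [← hv, smul_sub, ← mul_smul, hY, one_smul, neg_sub]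
  apply hw0
  refine H48.eq_zero_of_sf fun x => ?_
  have hx : M *ᵥ x ∈ F ∙ w := by rw [hspan]; exact ⟨x, rfl⟩
  obtain ⟨a, ha⟩ := Submodule.mem_span_singleton.mp hx
  rw [happly, eq_sub_iff_add_eq] at ha
  have h := H48.sf_smul_smul Y w x
  rw [hYw, ← ha, map_add, map_neg, LinearMap.neg_apply, map_smul, H48.sf_self, smul_zero, neg_zero, zero_add,
    LinearMap.neg_apply] at h
  have h' : (2 : F) * sf w x = 0 := by linear_combination -h
  exact (mul_eq_zero.1 h').resolve_left h2

omit [Fintype F] in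
/-- An element with small moved space from a smaller group. -/
lemma rank_spBlock_le {a b : ℕ} (e : Fin d ≃ Fin a ⊕ Fin b) (g : Matrix.symplecticGroup (Fin a) F) :
    ((H49.spHom d F (H49.spBlock e (g, 1)) : Matrix (Fin d ⊕ Fin d) (Fin d ⊕ Fin d) F) - 1).rank ≤ 2 * a := by
  rw [Matrix.rank]
  set M := ((H49.spHom d F (H49.spBlock e (g, 1)) : Matrix (Fin d ⊕ Fin d) (Fin d ⊕ Fin d) F) - 1)
  let j : (Fin a ⊕ Fin a → F) →ₗ[F] (Fin d ⊕ Fin d → F) :=
    (H49.blockEquiv e).toLinearMap ∘ₗ LinearMap.inl F _ _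
  have hle : LinearMap.range M.mulVecLin ≤ LinearMap.range j := by
    rintro _ ⟨v, rfl⟩
    obtain ⟨⟨u, w⟩, rfl⟩ := (H49.blockEquiv e).surjective v
    refine ⟨g • u - u, ?_⟩
    rw [Matrix.mulVecLin_apply, Matrix.sub_mulVec, Matrix.one_mulVec, H49.spHom_mulVec, H49.spBlock_smul, ← map_sub]
    simp [j]
  refine (Submodule.finrank_mono hle).trans ((LinearMap.finrank_range_le j).trans ?_)
  simp; omega

omit [Fintype F] in
lemma not_scalar_of_sp {r : ℕ} {x : Matrix.symplecticGroup (Fin d) F} (hd : 1 ≤ d) (hxr : x ^ r = 1) (hx1 : x ≠ 1)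
    (h : Odd r ∨ ((H49.spHom d F x : Matrix (Fin d ⊕ Fin d) (Fin d ⊕ Fin d) F) - 1).rank < d + d) (z : F) :
    (H49.spHom d F x : Matrix (Fin d ⊕ Fin d) (Fin d ⊕ Fin d) F) ≠ z • 1 := by
  intro hz
  have hact : ∀ v, x • v = z • v := fun v => by
    rw [← H49.spHom_mulVec, hz, Matrix.smul_mulVec, Matrix.one_mulVec]
  haveI : Nonempty (Fin d) := ⟨⟨0, by omega⟩⟩
  set v₀ : Fin d ⊕ Fin d → F := Pi.single (Sum.inl (Classical.arbitrary _)) 1 with hv₀
  have hv00 : v₀ ≠ 0 := fun e => by simpa [hv₀] using congrFun e (Sum.inl (Classical.arbitrary _))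
  obtain ⟨w, hw⟩ := H48.exists_sf_ne hv00
  have hzz : z * z = 1 := by
    have := H48.sf_smul_smul x v₀ w
    simp only [hact, map_smul, LinearMap.smul_apply, smul_eq_mul, ← mul_assoc] at this
    exact mul_right_cancel₀ hw (this.trans (one_mul _).symm)
  apply hx1
  suffices z = 1 from H48.sp_ext fun v => by rw [hact, this, one_smul, one_smul]
  rcases h with ⟨j, rfl⟩ | h
  · have hp : ∀ (n : ℕ) (v : Fin d ⊕ Fin d → F), (x ^ n) • v = z ^ n • v := by
      intro n
      induction n with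
      | zero => intro v; simp
      | succ n ih => intro v; rw [pow_succ', mul_smul, ih, hact, smul_smul, ← pow_succ']
    have := hp (2 * j + 1) v₀
    rw [hxr, one_smul, pow_succ, pow_mul, pow_two, hzz, one_pow, one_mul] at this
    exact (smul_left_injective F hv00 (this.symm.trans (one_smul F v₀).symm))
  · by_contra hne
    have hu : IsUnit (((H49.spHom d F x : Matrix (Fin d ⊕ Fin d) (Fin d ⊕ Fin d) F) - 1)).det := by
      rw [hz, show z • (1 : Matrix (Fin d ⊕ Fin d) (Fin d ⊕ Fin d) F) - 1 = (z - 1) • 1 by rw [sub_smul, one_smul],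
        Matrix.det_smul, Matrix.det_one, mul_one]
      exact (IsUnit.mk0 _ (sub_ne_zero.2 hne)).pow _
    have := Matrix.rank_of_isUnit _ ((Matrix.isUnit_iff_isUnit_det _).2 hu)
    simp at this
    omega

/-- Small elements avoid the field extension subgroups. -/
theorem sp_ext_derangement {p : ℕ} [Fact p.Prime] [CharP F p] (hd : 2 ≤ d)
    (hk : (Module.finrank F E).Prime)
    (hsa : ∀ c x y, sf (ρ c *ᵥ x) y = sf x (ρ c *ᵥ y)) (halt : ∀ c x, sf (ρ c *ᵥ x) x = 0)
    {r : ℕ} [hr : Fact r.Prime] (hΩ : r ∣ (Cfsg.Geo.subalgebraNormalizer ρ.range).relIndex (Cfsg.spGL d F))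
    (hcase : r = 2 → p = 2 ∨ 3 ≤ d) :
    ∃ x ∈ Cfsg.spGL d F, x ^ r = 1 ∧
      (∀ z : F, (x : Matrix (Fin d ⊕ Fin d) (Fin d ⊕ Fin d) F) ≠ z • (1 : Matrix (Fin d ⊕ Fin d) (Fin d ⊕ Fin d) F)) ∧
      ∀ g ∈ Cfsg.spGL d F, g⁻¹ * x * g ∉ Cfsg.Geo.subalgebraNormalizer ρ.range := by
  classical
  haveI : Nonempty (Fin d ⊕ Fin d) := ⟨Sum.inl ⟨0, by omega⟩⟩
  haveI : Finite E := Module.finite_of_finite F
  haveI : CharP E p := charP_of_injective_algebraMap (algebraMap F E).injective p
  set k := Module.finrank F E with hkdef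
  have hk2 := hk.two_le
  obtain ⟨e, L, τ, hed, hτ, hρ, hL⟩ := exists_ext_coords ρ hsa halt
  rw [← hkdef] at hed
  have hkd : k ≤ d := Nat.le_of_dvd (by omega) ⟨e, hed.symm⟩
  -- it suffices to beat the bounds on moved spaces
  suffices ∃ x : Matrix.symplecticGroup (Fin d) F, x ^ r = 1 ∧ x ≠ 1 ∧
      (Odd r ∨ ((H49.spHom d F x : Matrix (Fin d ⊕ Fin d) (Fin d ⊕ Fin d) F) - 1).rank < d + d) ∧
      (r ∣ k → ((H49.spHom d F x : Matrix (Fin d ⊕ Fin d) (Fin d ⊕ Fin d) F) - 1).rank < d) ∧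
      ∀ Y : Matrix.symplecticGroup (Fin e) E, Y ^ r = 1 → Y ≠ 1 →
        ((H49.spHom d F x : Matrix (Fin d ⊕ Fin d) (Fin d ⊕ Fin d) F) - 1).rank <
          k * ((Y : Matrix (Fin e ⊕ Fin e) (Fin e ⊕ Fin e) E) - 1).rank by
    obtain ⟨x, hxr, hx1, hxs, hxk, hxY⟩ := this
    refine ⟨H49.spHom d F x, H49.spHom_mem_spGL x, by rw [← map_pow, hxr, map_one],
      fun z => not_scalar_of_sp (by omega) hxr hx1 hxs z, fun g hg hmem => ?_⟩
    set y := g⁻¹ * H49.spHom d F x * g with hy
    have hyr : y ^ r = 1 := by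
      rw [hy, show g⁻¹ * H49.spHom d F x * g = MulAut.conj g⁻¹ (H49.spHom d F x) by simp, ← map_pow, ← map_pow, hxr]
      simp
    have hysp : y ∈ Cfsg.spGL d F := mul_mem (mul_mem (inv_mem hg) (H49.spHom_mem_spGL x)) hg
    have hrank : ((y : Matrix (Fin d ⊕ Fin d) (Fin d ⊕ Fin d) F) - 1).rank =
        ((H49.spHom d F x : Matrix (Fin d ⊕ Fin d) (Fin d ⊕ Fin d) F) - 1).rank := by
      refine rank_conj g ?_
      rw [hy, Units.val_mul, Units.val_mul, mul_sub, sub_mul, mul_one, one_mul, ← mul_assoc, ← mul_assoc, Units.mul_inv, one_mul]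
    rcases moved_lower hyr hmem with hc | ⟨hrk, hd'⟩
    · obtain ⟨Y, hY⟩ := exists_ext_element hτ hρ hL hysp hc
      have hpow : ∀ (n : ℕ) u, L ((Y ^ n) • u) = ((y ^ n : GL (Fin d ⊕ Fin d) F) : Matrix _ _ F) *ᵥ L u := by
        intro n
        induction n with
        | zero => intro u; simp
        | succ n ih => intro u; rw [pow_succ', mul_smul, hY, ih, Matrix.mulVec_mulVec, ← Units.val_mul, ← pow_succ']
      have hYr : Y ^ r = 1 := H48.sp_ext fun u => L.injective (by rw [hpow, hyr]; simp)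
      have hY1 : Y ≠ 1 := fun e1 => hx1 (by
        have hy1 : y = 1 := Units.ext (Matrix.ext_iff_mulVec.2 fun v => by
          obtain ⟨u, rfl⟩ := L.surjective v
          rw [← hY, e1]; simp)
        refine H48.sp_ext fun v => ?_
        rw [← H49.spHom_mulVec, show H49.spHom d F x = g * y * g⁻¹ by rw [hy]; group, hy1]
        simp)
      have := hxY Y hYr hY1
      rw [← hrank, rank_ext hY] at this
      exact lt_irrefl _ this
    · have := hxk hrk
      rw [hrank] at hd'
      omega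
  have hposY : ∀ Y : Matrix.symplecticGroup (Fin e) E, Y ≠ 1 →
      1 ≤ ((Y : Matrix (Fin e ⊕ Fin e) (Fin e ⊕ Fin e) E) - 1).rank := fun Y hY => by
    rw [Nat.one_le_iff_ne_zero]
    intro h0
    apply hY
    rw [Matrix.rank, Submodule.finrank_eq_zero] at h0
    refine H48.sp_ext fun v => ?_
    have := LinearMap.congr_fun (LinearMap.range_eq_bot.1 h0) v
    rw [Matrix.mulVecLin_apply, Matrix.sub_mulVec, Matrix.one_mulVec, LinearMap.zero_apply, sub_eq_zero] at this
    rw [one_smul]; exact this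
  by_cases hrp : r = p
  · -- a transvection
    subst hrp
    set v : Fin d ⊕ Fin d → F := Pi.single (Sum.inl ⟨0, by omega⟩) 1 with hv
    have hv0 : v ≠ 0 := fun e => by simpa [hv] using congrFun e (Sum.inl ⟨0, by omega⟩)
    have hpow : ∀ n : ℕ, H48.tv v (1 : F) ^ n = H48.tv v (n : F) := by
      intro n
      induction n with
      | zero => simp
      | succ n ih => rw [pow_succ, ih, H48.tv_mul, Nat.cast_succ]
    have hle : ((H49.spHom d F (H48.tv v (1 : F)) : Matrix (Fin d ⊕ Fin d) (Fin d ⊕ Fin d) F) - 1).rank ≤ 1 := by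
      rw [Matrix.rank, ← finrank_span_singleton (K := F) hv0]
      refine Submodule.finrank_mono ?_
      rintro _ ⟨w, rfl⟩
      rw [Matrix.mulVecLin_apply, Matrix.sub_mulVec, Matrix.one_mulVec, H49.spHom_mulVec, H48.tv_smul, add_sub_cancel_left]
      exact Submodule.smul_mem _ _ (Submodule.mem_span_singleton_self v)
    refine ⟨H48.tv v 1, by rw [hpow, CharP.cast_eq_zero, H48.tv_zero], fun e => ?_, Or.inr (by omega), fun _ => by omega,
      fun Y _ hY => ?_⟩
    · obtain ⟨w, hw⟩ := H48.exists_sf_ne hv0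
      have := congrArg (fun g : Matrix.symplecticGroup (Fin d) F => g • w) e
      simp only [H48.tv_smul, one_mul, one_smul, add_eq_left, smul_eq_zero, hv0, or_false] at this
      exact hw (H48.sf_eq_zero_comm this)
    · have := Nat.mul_le_mul hk2 (hposY Y hY)
      omega
  by_cases hr2 : r = 2
  · subst hr2
    have h2 : (2 : F) ≠ 0 := fun h => hrp
      ((Nat.prime_dvd_prime_iff_eq Fact.out Nat.prime_two).mp ((CharP.cast_eq_zero_iff F p 2).mp (by exact_mod_cast h))).symm
    have hd3 : 3 ≤ d := (hcase rfl).resolve_left (Ne.symm hrp)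
    have h2E : (2 : E) ≠ 0 := by
      rw [← map_ofNat (algebraMap F E) 2]
      exact (map_ne_zero_iff _ (algebraMap F E).injective).2 h2
    let ee : Fin d ≃ Fin 1 ⊕ Fin (d - 1) := (finCongr (by omega : d = 1 + (d - 1))).trans finSumFinEquiv.symm
    have hle := rank_spBlock_le (F := F) ee (H49.spNegOne (Fin 1) F)
    refine ⟨H49.spBlock ee (H49.spNegOne (Fin 1) F, 1), ?_, fun e1 => ?_, Or.inr (by omega), fun _ => by omega,
      fun Y hY hY1 => ?_⟩
    · rw [pow_two, ← map_mul, Prod.mk_mul_mk, H49.spNegOne_mul_self, one_mul, Prod.mk_one_one, map_one]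
    · have h1 := congrArg Prod.fst (H49.spBlock_injective ee (e1.trans (map_one _).symm))
      have h := congrArg (fun g : Matrix.symplecticGroup (Fin 1) F => g • (fun _ : Fin 1 ⊕ Fin 1 => (1 : F))) h1
      simp only [H49.spNegOne_smul, Prod.fst_one, one_smul] at h
      have h' := congrFun h (Sum.inl 0)
      simp only [Pi.neg_apply] at h'
      exact h2 (by linear_combination -h')
    · rw [pow_two] at hY
      have := Nat.mul_le_mul hk2 (two_le_rank_of_invol h2E hY hY1)
      omega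
  -- odd order prime to the characteristic
  obtain ⟨η, hη⟩ : ∃ η, H49.EtaData (Nat.card F) r η := by
    rcases Nat.even_or_odd (orderOf ((Nat.card F : ℕ) : ZMod r)) with he | ho
    · exact ⟨_, H49.EtaData.of_card hr.out hr2 hrp (Or.inr ⟨he, Nat.two_mul_div_two_of_even he⟩)⟩
    · exact ⟨_, H49.EtaData.of_card hr.out hr2 hrp (Or.inl ⟨ho, rfl⟩)⟩
  obtain ⟨η', hη'⟩ : ∃ η', H49.EtaData (Nat.card E) r η' := by
    rcases Nat.even_or_odd (orderOf ((Nat.card E : ℕ) : ZMod r)) with he | ho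
    · exact ⟨_, H49.EtaData.of_card hr.out hr2 hrp (Or.inr ⟨he, Nat.two_mul_div_two_of_even he⟩)⟩
    · exact ⟨_, H49.EtaData.of_card hr.out hr2 hrp (Or.inl ⟨ho, rfl⟩)⟩
  have hcardE : Nat.card E = Nat.card F ^ k := Module.natCard_eq_pow_finrank
  obtain ⟨G, hGi, hG⟩ := exists_ext_embedding hρ hL
  have hsp : ∀ {n : ℕ}, Nat.card (Cfsg.spGL n F) = Nat.card (Matrix.symplecticGroup (Fin n) F) := by
    intro n
    exact (Nat.card_eq_of_bijective (fun s : Matrix.symplecticGroup (Fin n) F => (⟨H49.spHom n F s, H49.spHom_mem_spGL s⟩ : Cfsg.spGL n F))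
      ⟨fun a b h => Subtype.ext (congrArg (fun t : Cfsg.spGL n F => ((t : GL (Fin n ⊕ Fin n) F) : Matrix (Fin n ⊕ Fin n) (Fin n ⊕ Fin n) F)) h),
       fun g => (H49.exists_spHom_eq g.2).imp fun s hs => Subtype.ext hs⟩).symm
  set N := (Cfsg.Geo.subalgebraNormalizer ρ.range).subgroupOf (Cfsg.spGL d F) with hN
  have hmul : Nat.card N * N.index = Nat.card (Matrix.symplecticGroup (Fin d) F) := by rw [N.card_mul_index, hsp]
  have hdvdN : Nat.card (Matrix.symplecticGroup (Fin e) E) ∣ Nat.card N := by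
    let G₁ : Matrix.symplecticGroup (Fin e) E →* N :=
      (G.codRestrict (Cfsg.spGL d F) fun Y => (hG Y).1).codRestrict N fun Y => (hG Y).2
    exact Subgroup.card_dvd_of_injective G₁ fun a b h => hGi (congrArg (fun t : N => (t.1 : GL (Fin d ⊕ Fin d) F)) h)
  have hηd : η ≤ d := hη.le_of_dvd_card (hmul ▸ dvd_mul_of_dvd_right hΩ _)
  by_cases hkη : k ∣ η
  · -- the index is prime to `r`
    exfalso
    obtain ⟨C, hC⟩ := hdvdN
    letI : Fintype E := Fintype.ofFinite E
    rw [hC, H48.card_sp, H48.card_sp, Fintype.card_fin, Fintype.card_fin] at hmul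
    rw [← Nat.card_eq_fintype_card (α := E), ← Nat.card_eq_fintype_card (α := F), hcardE] at hmul
    set q := Nat.card F
    have hq1 : 1 < q := Finite.one_lt_card
    set S := (Finset.range d).filter (fun j => k ∣ j + 1) with hS
    have hsplit : ∏ j ∈ Finset.range d, (q ^ (2 * (j + 1)) - 1) =
        (∏ i ∈ Finset.range e, ((q ^ k) ^ (2 * (i + 1)) - 1)) *
          ∏ j ∈ (Finset.range d).filter (fun j => ¬ k ∣ j + 1), (q ^ (2 * (j + 1)) - 1) := by
      rw [← Finset.prod_filter_mul_prod_filter_not (Finset.range d) (fun j => k ∣ j + 1)]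
      congr 1
      symm
      refine Finset.prod_bij (fun i _ => k * (i + 1) - 1) (fun i hi => ?_) (fun a _ b _ hab => ?_) (fun j hj => ?_)
        fun i hi => ?_
      · simp only [Finset.mem_filter, Finset.mem_range] at hi ⊢
        have h1 := Nat.mul_le_mul_left k (show i + 1 ≤ e by omega)
        have h2 : 0 < k * (i + 1) := Nat.mul_pos (by omega) (by omega)
        exact ⟨by omega, ⟨i + 1, by omega⟩⟩
      · have h1 : 0 < k * (a + 1) := Nat.mul_pos (by omega) (by omega)
        have h2 : 0 < k * (b + 1) := Nat.mul_pos (by omega) (by omega)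
        have := Nat.eq_of_mul_eq_mul_left (by omega : 0 < k) (show k * (a + 1) = k * (b + 1) by omega)
        omega
      · simp only [Finset.mem_filter, Finset.mem_range] at hj
        obtain ⟨hjd, t, ht⟩ := hj
        have ht0 : t ≠ 0 := fun e0 => by rw [e0, mul_zero] at ht; omega
        have hte : t ≤ e := Nat.le_of_mul_le_mul_left (by omega : k * t ≤ k * e) (by omega)
        exact ⟨t - 1, Finset.mem_range.2 (by omega), by rw [Nat.sub_add_cancel (by omega : 1 ≤ t)]; omega⟩
      · have h2 : 0 < k * (i + 1) := Nat.mul_pos (by omega) (by omega)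
        rw [Nat.sub_add_cancel h2, ← pow_mul]
        ring_nf
    rw [hsplit] at hmul
    set P := ∏ i ∈ Finset.range e, ((q ^ k) ^ (2 * (i + 1)) - 1)
    have hPpos : 0 < P := Finset.prod_pos fun i _ => by
      have : 1 < (q ^ k) ^ (2 * (i + 1)) := Nat.one_lt_pow (by omega) (Nat.one_lt_pow (by omega) hq1)
      omega
    have hrdvd : r ∣ q ^ d ^ 2 * ∏ j ∈ (Finset.range d).filter (fun j => ¬ k ∣ j + 1), (q ^ (2 * (j + 1)) - 1) := by
      have h3 : P * ((q ^ k) ^ e ^ 2 * C * N.index) =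
          P * (q ^ d ^ 2 * ∏ j ∈ (Finset.range d).filter (fun j => ¬ k ∣ j + 1), (q ^ (2 * (j + 1)) - 1)) := by
        linear_combination hmul
      rw [← Nat.eq_of_mul_eq_mul_left hPpos h3]
      exact dvd_mul_of_dvd_right hΩ _
    rcases hr.out.dvd_mul.1 hrdvd with h | h
    · exact hη.q_ne ((ZMod.natCast_eq_zero_iff _ _).2 (hr.out.dvd_of_dvd_pow h))
    · obtain ⟨j, hj, h'⟩ := (Prime.dvd_finset_prod_iff hr.out.prime _).1 h
      exact (Finset.mem_filter.1 hj).2 (hkη.trans ((hη.dvd_double_iff _).1 h'))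
  obtain ⟨g, hg⟩ := hη.exists_elt
  let ee : Fin d ≃ Fin η ⊕ Fin (d - η) := (finCongr (by omega : d = η + (d - η))).trans finSumFinEquiv.symm
  have hle := rank_spBlock_le (F := F) ee g
  refine ⟨H49.spBlock ee (g, 1), ?_, fun e1 => ?_, Or.inl (hr.out.odd_of_ne_two hr2), fun hrk => ?_, fun Y hY hY1 => ?_⟩
  · rw [← map_pow, Prod.pow_mk, one_pow, show g ^ r = 1 from hg ▸ pow_orderOf_eq_one g, Prod.mk_one_one, map_one]
  · have h1 : g = 1 := congrArg Prod.fst (H49.spBlock_injective ee (e1.trans (map_one _).symm))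
    rw [h1, orderOf_one] at hg
    exact hr.out.one_lt.ne hg
  · have hrk' : r = k := (Nat.prime_dvd_prime_iff_eq hr.out hk).1 hrk
    have h1 : orderOf ((Nat.card F : ℕ) : ZMod r) ≤ r - 1 := by
      refine Nat.le_of_dvd (by have := hr.out.two_le; omega) ?_
      exact orderOf_dvd_of_pow_eq_one (ZMod.pow_card_sub_one_eq_one hη.q_ne)
    rcases hη.spec with ⟨ho, e1⟩ | ⟨-, e1⟩
    · have h2 : 2 * orderOf ((Nat.card F : ℕ) : ZMod r) ≤ r - 1 := by
        have hd' := orderOf_dvd_of_pow_eq_one (ZMod.pow_card_sub_one_eq_one hη.q_ne)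
        obtain ⟨t, ht⟩ := hd'
        obtain ⟨j, hj⟩ := hr.out.odd_of_ne_two hr2
        have ht2 : 2 ≤ t := by
          by_contra hlt
          obtain ⟨s, hs⟩ := ho
          have : t = 0 ∨ t = 1 := by omega
          rcases this with rfl | rfl <;> omega
        have := Nat.mul_le_mul_left (orderOf ((Nat.card F : ℕ) : ZMod r)) ht2
        omega
      omega
    · omega
  · have hord : orderOf Y = r := orderOf_eq_prime hY hY1
    have hlow := Nat.mul_le_mul_left k (H49.moved_rank hη' hrp hord)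
    have hdiv : η ∣ k * η' := (hη.dvd_double_iff _).1 (by
      have := hη'.sq_dvd
      rwa [hcardE, ← pow_mul, show k * (2 * η') = 2 * (k * η') by ring] at this)
    have hcop : Nat.Coprime η k := ((hk.coprime_iff_not_dvd).2 hkη).symm
    have hle' := Nat.le_of_dvd hη'.pos (hcop.dvd_of_dvd_mul_left hdiv)
    have := Nat.mul_le_mul_right (2 * η') hk2
    have := hη'.pos
    omega

end H47
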