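import Mathlib
import Cfsg.Agent.H47.SpFieldExt
import Cfsg.Agent.H49.StabMax

/-!
In dimension four over an odd field every element of projective order two normalises a quadratic extension field.
-/

set_option autoImplicit false

namespace H47

open Matrix
open H48 (sf)

variable {F : Type*} [Field F]

local notation "V4" => (Fin 2 ⊕ Fin 2 → F)

/-- Sums of two squares in a finite field. -/
lemma exists_two_squares [Fintype F] (h2 : (2 : F) ≠ 0) (c : F) : ∃ a b : F, a * a + b * b = c := by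
  obtain ⟨a, b, h⟩ := FiniteField.exists_root_sum_quadratic (f := (Polynomial.X ^ 2 : Polynomial F))
    (g := Polynomial.X ^ 2 - Polynomial.C c) (Polynomial.degree_X_pow 2) (Polynomial.degree_X_pow_sub_C (by norm_num) _)
    (FiniteField.odd_card_of_char_ne_two fun e => h2 (by
      haveI := ringChar.eq_iff.mp e
      exact_mod_cast CharP.cast_eq_zero F 2))
  exact ⟨a, b, by simp at h; linear_combination h⟩

/-- A basis of the space from pairing data. -/
lemma li_of_dual {u w : Fin 4 → V4} {c : Fin 4 → F} (hc : ∀ i, c i ≠ 0) (h : ∀ i j, sf (u i) (w j) = if i = j then c j else 0) :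
    LinearIndependent F u := by
  rw [Fintype.linearIndependent_iff]
  intro g hg j
  have := congrArg (fun v => sf v (w j)) hg
  simp only [map_sum, map_smul, LinearMap.sum_apply, LinearMap.smul_apply, h, smul_eq_mul, map_zero, LinearMap.zero_apply,
    mul_ite, mul_zero, Finset.sum_ite_eq', Finset.mem_univ, if_true] at this
  exact (mul_eq_zero.1 this).resolve_right (hc j)

lemma basis_of_li {u : Fin 4 → V4} (hu : LinearIndependent F u) : ∃ b : Module.Basis (Fin 4) F V4, ⇑b = u :=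
  ⟨basisOfLinearIndependentOfCardEqFinrank hu (by simp), coe_basisOfLinearIndependentOfCardEqFinrank _ _⟩

/-- A root of a non-square, with its self-adjointness. -/
structure RootMap (δ : F) (β : V4 →ₗ[F] V4) : Prop where
  sq : ∀ v, β (β v) = δ • v
  sa : ∀ v w, sf (β v) w = sf v (β w)

/-- The Gram matrix of a frame. -/
def frameGram (δ : F) : Matrix (Fin 4) (Fin 4) F := !![0, 0, 1, 0; 0, 0, 0, δ; -1, 0, 0, 0; 0, -δ, 0, 0]

lemma RootMap.alt {δ : F} {β : V4 →ₗ[F] V4} (h2 : (2 : F) ≠ 0) (h : RootMap δ β) (v : V4) : sf v (β v) = 0 := by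
  have h1 := h.sa v v
  rw [H48.sf_swap v (β v)] at h1
  have h3 : (2 : F) * sf v (β v) = 0 := by linear_combination -h1
  exact (mul_eq_zero.1 h3).resolve_left h2

/-- Frames. -/
theorem RootMap.exists_frame {δ : F} {β : V4 →ₗ[F] V4} (h2 : (2 : F) ≠ 0) (hδ : ¬ IsSquare δ) (h : RootMap δ β) :
    ∃ u : Fin 4 → V4, LinearIndependent F u ∧ u 1 = β (u 0) ∧ u 3 = β (u 2) ∧ ∀ i j, sf (u i) (u j) = frameGram δ i j := by
  have hδ0 : δ ≠ 0 := fun e => hδ ⟨0, by rw [e, mul_zero]⟩
  set e : V4 := Pi.single (Sum.inl 0) 1 with he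
  have he0 : e ≠ 0 := fun e' => by simpa [he] using congrFun e' (Sum.inl 0)
  obtain ⟨y, hy⟩ := H48.exists_sf_ne he0
  set P := sf e y with hP
  set R := sf e (β y) with hR
  set D := δ * P * P - R * R with hD
  have hD0 : D ≠ 0 := fun e' => hδ ⟨R / P, by field_simp; linear_combination e'⟩
  set f := (δ * P / D) • y + (-R / D) • β y with hf
  have hef : sf e f = 1 := by
    rw [hf, map_add, map_smul, map_smul, smul_eq_mul, smul_eq_mul, ← hP, ← hR]
    field_simp
    rw [hD]; ring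
  have hef' : sf (β e) f = 0 := by
    rw [hf, map_add, map_smul, map_smul, smul_eq_mul, smul_eq_mul, h.sa, h.sa, h.sq, map_smul, smul_eq_mul, ← hP, ← hR]
    field_simp
    ring
  have he_bf : sf e (β f) = 0 := by rw [← h.sa, hef']
  have hbe_bf : sf (β e) (β f) = δ := by rw [h.sa, h.sq, map_smul, hef, smul_eq_mul, mul_one]
  refine ⟨![e, β e, f, β f], li_of_dual (w := ![f, β f, e, β e]) (c := ![1, δ, -1, -δ]) ?_ ?_, rfl, rfl, ?_⟩
  · intro i; fin_cases i <;> simp [hδ0]
  · intro i j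
    fin_cases i <;> fin_cases j <;>
      simp [hef, hef', he_bf, hbe_bf, h.alt h2, H48.sf_swap e f, H48.sf_swap (β e) f, H48.sf_swap e (β f),
        H48.sf_swap (β e) (β f), H48.sf_swap e (β e), H48.sf_swap f (β f)]
  · intro i j
    fin_cases i <;> fin_cases j <;>
      simp [frameGram, hef, hef', he_bf, hbe_bf, h.alt h2, H48.sf_swap e f, H48.sf_swap (β e) f, H48.sf_swap e (β f),
        H48.sf_swap (β e) (β f), H48.sf_swap e (β e), H48.sf_swap f (β f)]

/-- Any two roots are conjugate. -/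
theorem RootMap.conj {δ : F} {β β' : V4 →ₗ[F] V4} (h2 : (2 : F) ≠ 0) (hδ : ¬ IsSquare δ) (h : RootMap δ β)
    (h' : RootMap δ β') : ∃ g : Matrix.symplecticGroup (Fin 2) F, ∀ v : V4, g • β v = β' (g • v) := by
  obtain ⟨u, hu, hu1, hu3, hug⟩ := h.exists_frame h2 hδ
  obtain ⟨w, hw, hw1, hw3, hwg⟩ := h'.exists_frame h2 hδ
  obtain ⟨g, -, hg⟩ := H48.witt u w hu hw fun i j => by rw [hug, hwg]
  refine ⟨g, fun v => ?_⟩
  obtain ⟨b, hb⟩ := basis_of_li hu
  have hext : (DistribMulAction.toLinearEquiv F V4 g).toLinearMap.comp β =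
      β'.comp (DistribMulAction.toLinearEquiv F V4 g).toLinearMap := by
    refine b.ext fun i => ?_
    rw [hb]
    show g • β (u i) = β' (g • u i)
    fin_cases i <;> simp only [Fin.reduceFinMk, Fin.zero_eta, Fin.mk_one]
    · rw [← hu1, hg, hg, hw1]
    · rw [hu1, h.sq, smul_comm, hg, ← hu1, hg, hw1, h'.sq]
    · rw [← hu3, hg, hg, hw3]
    · rw [hu3, h.sq, smul_comm, hg, ← hu3, hg, hw3, h'.sq]
  exact LinearMap.congr_fun hext v

lemma rootMap_of_basis {δ : F} (b : Module.Basis (Fin 4) F V4) {β : V4 →ₗ[F] V4} (hsq : ∀ i, β (β (b i)) = δ • b i)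
    (hsa : ∀ i j, sf (β (b i)) (b j) = sf (b i) (β (b j))) : RootMap δ β := by
  refine ⟨fun v => ?_, fun v w => ?_⟩
  · exact LinearMap.congr_fun (b.ext (f₁ := β.comp β) (f₂ := δ • LinearMap.id) hsq) v
  · exact LinearMap.congr_fun₂ (LinearMap.ext_basis b b (B := (sf (l := Fin 2) (F := F)).comp β)
      (B' := (sf (l := Fin 2) (F := F)).compl₂ β) hsa) v w

/-- A root commuting or anticommuting with an involution or a root of minus one. -/
theorem exists_root_of_order_two [Fintype F] (h2 : (2 : F) ≠ 0) {δ : F} (hδ0 : δ ≠ 0) (x : Matrix.symplecticGroup (Fin 2) F)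
    {z : F} (hz : ∀ v : V4, x • x • v = z • v) (hns : ∀ a : F, ∃ v : V4, x • v ≠ a • v) :
    ∃ (β : V4 →ₗ[F] V4) (s : F), RootMap δ β ∧ (s = 1 ∨ s = -1) ∧ ∀ v, x • β v = s • β (x • v) := by
  set e : V4 := Pi.single (Sum.inl 0) 1 with he
  have he0 : e ≠ 0 := fun e' => by simpa [he] using congrFun e' (Sum.inl 0)
  obtain ⟨y, hy⟩ := H48.exists_sf_ne he0
  have hzz : z * z = 1 := by
    have h := H48.sf_smul_smul x (x • e) (x • y)
    rw [hz, hz, map_smul, map_smul, LinearMap.smul_apply, H48.sf_smul_smul, smul_eq_mul, smul_eq_mul, ← mul_assoc] at h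
    exact mul_right_cancel₀ hy (h.trans (one_mul _).symm)
  have hxl : ∀ (c : F) (v : V4), x • (c • v) = c • (x • v) := fun c v => smul_comm _ _ _
  rcases mul_self_eq_one_iff.mp hzz with rfl | rfl
  · -- two eigen planes
    have key : ∀ s : F, s * s = 1 → ∃ a b : V4, x • a = s • a ∧ x • b = s • b ∧ sf a b = 1 := by
      intro s hs
      obtain ⟨v, hv⟩ := hns (-s)
      set a₀ := x • v + s • v with ha₀
      have ha0 : a₀ ≠ 0 := fun e' => hv (by rw [neg_smul]; exact eq_neg_of_add_eq_zero_left e')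
      have hproj : ∀ w : V4, x • (x • w + s • w) = s • (x • w + s • w) := fun w => by
        rw [smul_add, hz, hxl, one_smul, smul_add, smul_smul, hs, one_smul, add_comm]
      obtain ⟨t, ht⟩ := H48.exists_sf_ne ha0
      have hne : sf a₀ (x • t + s • t) ≠ 0 := by
        have h1 := H48.sf_smul_smul x a₀ t
        rw [hproj, LinearMap.map_smul, LinearMap.smul_apply, smul_eq_mul] at h1
        have h3 : sf a₀ (x • t + s • t) = (2 : F) * s * sf a₀ t := by
          rw [map_add, LinearMap.map_smul, smul_eq_mul]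
          linear_combination (-(sf a₀ (x • t))) * hs + s * h1
        rw [h3]
        exact mul_ne_zero (mul_ne_zero h2 (left_ne_zero_of_mul_eq_one hs)) ht
      refine ⟨a₀, (sf a₀ (x • t + s • t))⁻¹ • (x • t + s • t), hproj v, ?_, ?_⟩
      · rw [hxl, hproj, smul_comm]
      · rw [map_smul, smul_eq_mul, inv_mul_cancel₀ hne]
    obtain ⟨a₁, b₁, ha₁, hb₁, h11⟩ := key 1 (by ring)
    obtain ⟨a₂, b₂, ha₂, hb₂, h22⟩ := key (-1) (by ring)
    simp only [one_smul, neg_smul] at ha₁ hb₁ ha₂ hb₂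
    have hcross : ∀ u w : V4, x • u = u → x • w = -w → sf u w = 0 ∧ sf w u = 0 := fun u w hu hw => by
      have h := H48.sf_smul_smul x u w
      rw [hu, hw, map_neg] at h
      have h3 : (2 : F) * sf u w = 0 := by linear_combination -h
      have h4 := (mul_eq_zero.1 h3).resolve_left h2
      exact ⟨h4, H48.sf_eq_zero_comm h4⟩
    have hli : LinearIndependent F ![a₁, b₁, a₂, b₂] := by
      refine li_of_dual (w := ![b₁, a₁, b₂, a₂]) (c := ![1, -1, 1, -1]) (fun i => by fin_cases i <;> simp) fun i j => ?_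
      fin_cases i <;> fin_cases j <;>
        simp [h11, h22, H48.sf_swap a₁ b₁, H48.sf_swap a₂ b₂, hcross a₁ a₂ ha₁ ha₂, hcross a₁ b₂ ha₁ hb₂, hcross b₁ a₂ hb₁ ha₂,
          hcross b₁ b₂ hb₁ hb₂]
    obtain ⟨b, hb⟩ := basis_of_li hli
    let β : V4 →ₗ[F] V4 := b.constr F ![a₂, δ • b₂, δ • a₁, b₁]
    have hβ : ∀ i, β (b i) = ![a₂, δ • b₂, δ • a₁, b₁] i := fun i => b.constr_basis F _ i
    have hb0 : b 0 = a₁ := by rw [hb]; rfl
    have hb1 : b 1 = b₁ := by rw [hb]; rfl
    have hb2 : b 2 = a₂ := by rw [hb]; rfl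
    have hb3 : b 3 = b₂ := by rw [hb]; rfl
    have e0 : β a₁ = a₂ := by rw [← hb0, hβ]; rfl
    have e1 : β b₁ = δ • b₂ := by rw [← hb1, hβ]; rfl
    have e2 : β a₂ = δ • a₁ := by rw [← hb2, hβ]; rfl
    have e3 : β b₂ = b₁ := by rw [← hb3, hβ]; rfl
    refine ⟨β, -1, rootMap_of_basis b (fun i => ?_) (fun i j => ?_), Or.inr rfl, fun v => ?_⟩
    · fin_cases i <;> simp [hb0, hb1, hb2, hb3, e0, e1, e2, e3, smul_comm]
    · fin_cases i <;> fin_cases j <;>
        simp [hb0, hb1, hb2, hb3, e0, e1, e2, e3, h11, h22, H48.sf_swap a₁ b₁, H48.sf_swap a₂ b₂, hcross a₁ a₂ ha₁ ha₂,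
          hcross a₁ b₂ ha₁ hb₂, hcross b₁ a₂ hb₁ ha₂, hcross b₁ b₂ hb₁ hb₂]
    · let X := (DistribMulAction.toLinearEquiv F V4 x).toLinearMap
      refine LinearMap.congr_fun (b.ext (f₁ := X.comp β) (f₂ := (-1 : F) • β.comp X) fun i => ?_) v
      show x • β (b i) = (-1 : F) • β (x • b i)
      fin_cases i <;> simp [hb0, hb1, hb2, hb3, e0, e1, e2, e3, ha₁, hb₁, ha₂, hb₂, hxl]
  · -- a root of minus one
    have hxx : ∀ v : V4, x • x • v = -v := fun v => by rw [hz, neg_one_smul]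
    have hsym : ∀ u w : V4, sf u (x • w) = sf w (x • u) := fun u w => by
      have h := H48.sf_smul_smul x u (x • w)
      rw [hxx, map_neg, H48.sf_swap w (x • u), neg_neg] at h
      exact h.symm
    have hscale : ∀ u : V4, sf u (x • u) ≠ 0 → ∀ c : F, ∃ w ∈ Submodule.span F {u, x • u}, sf w (x • w) = c := by
      intro u hu c
      obtain ⟨a, b, hab⟩ := exists_two_squares h2 (c / sf u (x • u))
      refine ⟨a • u + b • x • u, Submodule.mem_span_pair.mpr ⟨a, b, rfl⟩, ?_⟩
      have h1 : sf (x • u) (x • x • u) = sf u (x • u) := H48.sf_smul_smul x u (x • u)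
      have h5 : sf (x • u) (x • u) = 0 := H48.sf_self _
      have h6 : sf u (x • x • u) = 0 := by rw [hxx, map_neg, H48.sf_self, neg_zero]
      simp only [smul_add, hxl, map_add, map_smul, LinearMap.add_apply, LinearMap.smul_apply, smul_eq_mul, h1, h5, h6]
      rw [eq_div_iff hu] at hab
      linear_combination hab
    have pick : ∀ P : Submodule F V4, (∀ w ∈ P, x • w ∈ P) → (∃ w ∈ P, ∃ t ∈ P, sf w t ≠ 0) → ∀ c : F,
        ∃ w ∈ P, sf w (x • w) = c := by
      intro P hP ⟨w, hw, t, ht, hwt⟩ c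
      have hex : ∃ u ∈ P, sf u (x • u) ≠ 0 := by
        by_contra hcon
        push Not at hcon
        have h1 := hcon w hw
        have h3 := hcon (x • t) (hP t ht)
        have h4 := hcon (w + x • t) (P.add_mem hw (hP t ht))
        simp only [smul_add, map_add, LinearMap.add_apply, h1, h3, zero_add, add_zero] at h4
        rw [hsym (x • t) w, hxx, map_neg] at h4
        have h5 : (2 : F) * sf w t = 0 := by linear_combination -h4
        exact hwt ((mul_eq_zero.1 h5).resolve_left h2)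
      obtain ⟨u, hu, hu0⟩ := hex
      obtain ⟨v, hv, hvc⟩ := hscale u hu0 c
      exact ⟨v, (Submodule.span_le.mpr (by rintro _ (rfl | rfl); exacts [hu, hP u hu])) hv, hvc⟩
    obtain ⟨u₁, -, hu₁⟩ := pick ⊤ (fun _ _ => trivial) ⟨e, trivial, y, trivial, hy⟩ 1
    let P : Submodule F V4 := LinearMap.ker (sf u₁) ⊓ LinearMap.ker (sf (x • u₁))
    have hmem : ∀ w, w ∈ P ↔ sf u₁ w = 0 ∧ sf (x • u₁) w = 0 := fun w => Iff.rfl
    have hPx : ∀ w ∈ P, x • w ∈ P := fun w hw => by
      rw [hmem] at hw ⊢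
      exact ⟨by rw [hsym, H48.sf_swap, hw.2, neg_zero], by rw [H48.sf_smul_smul, hw.1]⟩
    have hx1 : sf (x • u₁) (x • u₁) = 0 := H48.sf_self _
    have hproj : ∀ w : V4, w + sf (x • u₁) w • u₁ - sf u₁ w • x • u₁ ∈ P := fun w => by
      rw [hmem]
      constructor <;>
        simp only [map_sub, map_add, map_smul, smul_eq_mul, hu₁, hx1, H48.sf_self, H48.sf_swap u₁ (x • u₁)] <;> ring
    have hPne : ∃ w ∈ P, w ≠ 0 := by
      by_contra hcon
      push Not at hcon
      have hle : (⊤ : Submodule F V4) ≤ Submodule.span F {u₁, x • u₁} := fun w _ => by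
        have h0 := hcon _ (hproj w)
        exact Submodule.mem_span_pair.mpr ⟨-sf (x • u₁) w, sf u₁ w, by
          rw [neg_smul, ← sub_eq_zero, ← neg_eq_zero, ← h0]; abel⟩
      have h1 := Submodule.finrank_mono hle
      rw [finrank_top] at h1
      have h3 : Module.finrank F V4 = 4 := by simp
      have h4 : Module.finrank F (Submodule.span F ({u₁, x • u₁} : Set V4)) ≤ 2 := by
        classical
        refine (finrank_span_le_card _).trans ?_
        simp only [Set.toFinset_insert, Set.toFinset_singleton]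
        exact Finset.card_le_two
      omega
    obtain ⟨w, hw, hw0⟩ := hPne
    obtain ⟨t, ht⟩ := H48.exists_sf_ne hw0
    obtain ⟨u₂, hu₂P, hu₂⟩ := pick P hPx ⟨w, hw, _, hproj t, by
      rw [map_sub, map_add, LinearMap.map_smul, LinearMap.map_smul, H48.sf_eq_zero_comm hw.1, H48.sf_eq_zero_comm hw.2, smul_zero, smul_zero,
        add_zero, sub_zero]
      exact ht⟩ δ
    obtain ⟨h12, hx12⟩ := (hmem u₂).1 hu₂P
    obtain ⟨h1x2, hxx12⟩ := (hmem _).1 (hPx u₂ hu₂P)
    have h21 := H48.sf_eq_zero_comm h12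
    have h2x1 := H48.sf_eq_zero_comm hx12
    have hx21 := H48.sf_eq_zero_comm h1x2
    have hxx21 := H48.sf_eq_zero_comm hxx12
    have hx11 : sf (x • u₁) u₁ = -1 := by rw [H48.sf_swap, hu₁]
    have hx22 : sf (x • u₂) u₂ = -δ := by rw [H48.sf_swap, hu₂]
    have hli : LinearIndependent F ![u₁, x • u₁, u₂, x • u₂] := by
      refine li_of_dual (w := ![x • u₁, u₁, x • u₂, u₂]) (c := ![1, -1, δ, -δ]) (fun i => by fin_cases i <;> simp [hδ0])
        fun i j => ?_
      fin_cases i <;> fin_cases j <;> simp [hu₁, hu₂, hx11, hx22, h12, hx12, h1x2, hxx12, h21, h2x1, hx21, hxx21]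
    obtain ⟨b, hb⟩ := basis_of_li hli
    let β : V4 →ₗ[F] V4 := b.constr F ![u₂, x • u₂, δ • u₁, δ • x • u₁]
    have hβ : ∀ i, β (b i) = ![u₂, x • u₂, δ • u₁, δ • x • u₁] i := fun i => b.constr_basis F _ i
    have hb0 : b 0 = u₁ := by rw [hb]; rfl
    have hb1 : b 1 = x • u₁ := by rw [hb]; rfl
    have hb2 : b 2 = u₂ := by rw [hb]; rfl
    have hb3 : b 3 = x • u₂ := by rw [hb]; rfl
    have e0 : β u₁ = u₂ := by rw [← hb0, hβ]; rfl
    have e1 : β (x • u₁) = x • u₂ := by rw [← hb1, hβ]; rfl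
    have e2 : β u₂ = δ • u₁ := by rw [← hb2, hβ]; rfl
    have e3 : β (x • u₂) = δ • x • u₁ := by rw [← hb3, hβ]; rfl
    refine ⟨β, 1, rootMap_of_basis b (fun i => ?_) (fun i j => ?_), Or.inl rfl, fun v => ?_⟩
    · fin_cases i <;> simp [hb0, hb1, hb2, hb3, e0, e1, e2, e3]
    · fin_cases i <;> fin_cases j <;>
        simp [hb0, hb1, hb2, hb3, e0, e1, e2, e3, hu₁, hu₂, hx11, hx22, h12, hx12, h1x2, hxx12, h21, h2x1, hx21, hxx21]
    · let X := (DistribMulAction.toLinearEquiv F V4 x).toLinearMap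
      refine LinearMap.congr_fun (b.ext (f₁ := X.comp β) (f₂ := (1 : F) • β.comp X) fun i => ?_) v
      show x • β (b i) = (1 : F) • β (x • b i)
      fin_cases i <;> simp [hb0, hb1, hb2, hb3, e0, e1, e2, e3, hxx, hxl]

/-- The case of the exception. -/
theorem sp_ext_two_fix [Fintype F] (h2 : (2 : F) ≠ 0) {E : Type*} [Field E] [Algebra F E] [FiniteDimensional F E]
    (hk : Module.finrank F E = 2) {ρ : E →ₐ[F] Matrix (Fin 2 ⊕ Fin 2) (Fin 2 ⊕ Fin 2) F}
    (hsa : ∀ c x y, sf (ρ c *ᵥ x) y = sf x (ρ c *ᵥ y))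
    {x : GL (Fin 2 ⊕ Fin 2) F} (hx : x ∈ Cfsg.spGL 2 F)
    (hz : ∃ z : F, ((x ^ 2 : GL (Fin 2 ⊕ Fin 2) F) : Matrix (Fin 2 ⊕ Fin 2) (Fin 2 ⊕ Fin 2) F) = z • 1)
    (hns : ∀ z : F, (x : Matrix (Fin 2 ⊕ Fin 2) (Fin 2 ⊕ Fin 2) F) ≠ z • 1) :
    ∃ g ∈ Cfsg.spGL 2 F, g⁻¹ * x * g ∈ Cfsg.Geo.subalgebraNormalizer ρ.range := by
  classical
  haveI : Finite E := Module.finite_of_finite F
  letI : Fintype E := Fintype.ofFinite E
  have hF2 : ringChar F ≠ 2 := fun e => h2 (by
    haveI := ringChar.eq_iff.mp e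
    exact_mod_cast CharP.cast_eq_zero F 2)
  obtain ⟨δ, hδ⟩ := FiniteField.exists_nonsquare hF2
  have hδ0 : δ ≠ 0 := fun e => hδ ⟨0, by rw [e, mul_zero]⟩
  obtain ⟨c, hc⟩ : IsSquare (algebraMap F E δ) := by
    rw [FiniteField.isSquare_iff (by rw [← Algebra.ringChar_eq F E]; exact hF2) (by simp [hδ0]), ← map_pow]
    have hodd : Fintype.card F % 2 = 1 := FiniteField.odd_card_of_char_ne_two hF2
    have hE : Fintype.card E = Fintype.card F * Fintype.card F := by
      rw [Module.card_eq_pow_finrank (K := F) (V := E), hk, pow_two]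
    obtain ⟨j, hj⟩ : ∃ j, Fintype.card F = 2 * j + 1 := ⟨Fintype.card F / 2, by omega⟩
    have : Fintype.card E / 2 = (Fintype.card F - 1) * (j + 1) := by
      rw [hE, hj, show (2 * j + 1) * (2 * j + 1) = 2 * ((2 * j) * (j + 1)) + 1 by ring, Nat.add_sub_cancel]
      omega
    rw [this, pow_mul, FiniteField.pow_card_sub_one_eq_one δ hδ0, one_pow, map_one]
  have hcF : ∀ a : F, c ≠ algebraMap F E a := fun a e => hδ ⟨a, (algebraMap F E).injective (by rw [hc, e, map_mul])⟩
  have hspan : ∀ m ∈ ρ.range, ∃ a b : F, m = a • 1 + b • ρ c := by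
    rintro _ ⟨u, rfl⟩
    have hli : LinearIndependent F ![(1 : E), c] := by
      rw [LinearIndependent.pair_iff]
      intro a b e
      by_cases hb : b = 0
      · rw [hb, zero_smul, add_zero, smul_eq_zero] at e
        exact ⟨e.resolve_right one_ne_zero, hb⟩
      · exfalso
        apply hcF (-a / b)
        rw [Algebra.smul_def, Algebra.smul_def, mul_one] at e
        rw [map_div₀, map_neg, eq_div_iff (by simpa using hb)]
        linear_combination e
    have htop := hli.span_eq_top_of_card_eq_finrank (by simp [hk])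
    obtain ⟨a, b, hab⟩ := Submodule.mem_span_pair.mp (show u ∈ Submodule.span F ({1, c} : Set E) by
      rw [show ({1, c} : Set E) = Set.range ![(1 : E), c] by ext v; simp [eq_comm, or_comm], htop]; trivial)
    exact ⟨a, b, by rw [← hab]; simp⟩
  let β₀ : (Fin 2 ⊕ Fin 2 → F) →ₗ[F] (Fin 2 ⊕ Fin 2 → F) := Matrix.toLin' (ρ c)
  have hβ₀ : RootMap δ β₀ := ⟨fun v => by
      show Matrix.toLin' (ρ c) (Matrix.toLin' (ρ c) v) = _
      rw [Matrix.toLin'_apply, Matrix.toLin'_apply, Matrix.mulVec_mulVec, ← map_mul, ← hc, AlgHom.commutes,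
        Algebra.algebraMap_eq_smul_one, Matrix.smul_mulVec, Matrix.one_mulVec],
    fun v w => hsa c v w⟩
  obtain ⟨X, hX⟩ := H49.exists_spHom_eq hx
  obtain ⟨z, hz⟩ := hz
  have hXX : ∀ v : Fin 2 ⊕ Fin 2 → F, X • X • v = z • v := fun v => by
    rw [← H49.spHom_mulVec, ← H49.spHom_mulVec, hX, Matrix.mulVec_mulVec, ← Units.val_mul, ← pow_two, hz,
      Matrix.smul_mulVec, Matrix.one_mulVec]
  obtain ⟨β, s, hβ, hs, hβx⟩ := exists_root_of_order_two h2 hδ0 X hXX fun a => by
    by_contra hcon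
    push Not at hcon
    exact hns a (Matrix.ext_iff_mulVec.2 fun v => by
      rw [← hX, H49.spHom_mulVec, hcon, Matrix.smul_mulVec, Matrix.one_mulVec])
  obtain ⟨g, hg⟩ := hβ₀.conj h2 hδ hβ
  refine ⟨H49.spHom 2 F g, H49.spHom_mem_spGL g, ?_⟩
  set y := (H49.spHom 2 F g)⁻¹ * x * H49.spHom 2 F g with hy
  have hyc : (y : Matrix _ _ F) * ρ c = s • (ρ c * (y : Matrix _ _ F)) := by
    refine Matrix.ext_iff_mulVec.2 fun v => ?_
    have hyv : ∀ w : Fin 2 ⊕ Fin 2 → F, (y : Matrix _ _ F) *ᵥ w = g⁻¹ • X • g • w := fun w => by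
      rw [hy, ← hX, ← map_inv, ← map_mul, ← map_mul, H49.spHom_mulVec, mul_smul, mul_smul]
    rw [Matrix.smul_mulVec, ← Matrix.mulVec_mulVec, ← Matrix.mulVec_mulVec, hyv, hyv]
    show g⁻¹ • X • g • β₀ v = s • β₀ (g⁻¹ • X • g • v)
    rw [hg, hβx, smul_comm]
    congr 1
    apply MulAction.injective g
    show g • g⁻¹ • β (X • g • v) = g • β₀ (g⁻¹ • X • g • v)
    rw [hg, smul_inv_smul, smul_inv_smul]
  have hs2 : s * s = 1 := by rcases hs with rfl | rfl <;> ring
  have hconj : ∀ a b : F, (y : Matrix _ _ F) * (a • (1 : Matrix _ _ F) + b • ρ c) =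
      (a • (1 : Matrix _ _ F) + (b * s) • ρ c) * (y : Matrix _ _ F) := fun a b => by
    rw [mul_add, add_mul, mul_smul_comm, mul_smul_comm, smul_mul_assoc, smul_mul_assoc, mul_one, one_mul, hyc, smul_smul]
  have hmemK : ∀ a b : F, a • (1 : Matrix (Fin 2 ⊕ Fin 2) (Fin 2 ⊕ Fin 2) F) + b • ρ c ∈ ρ.range := fun a b =>
    add_mem (Subalgebra.smul_mem _ (one_mem _) a) (Subalgebra.smul_mem _ (AlgHom.mem_range_self ρ c) b)
  intro m
  constructor
  · intro hm
    obtain ⟨a, b, rfl⟩ := hspan m hm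
    rw [hconj, mul_assoc, Units.mul_inv, mul_one]
    exact hmemK _ _
  · intro hm
    obtain ⟨a, b, hab⟩ := hspan _ hm
    have hm' : m = a • (1 : Matrix _ _ F) + (b * s) • ρ c := by
      apply (Units.mul_right_inj y).1
      rw [hconj, mul_assoc b, hs2, mul_one, ← hab, mul_assoc, Units.inv_mul, mul_one]
    rw [hm']
    exact hmemK _ _

end H47
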