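import Mathlib
import Cfsg.Prelude.Def_GeometricClasses
import Cfsg.Agent.H47.Plus
import Cfsg.Agent.H47.Minus
import Cfsg.Agent.H48.Count
import Cfsg.Agent.H44.Classify
import Cfsg.Agent.H44.StandardBasis
import Cfsg.Agent.H38.StdForms

/-!
# Quadratic forms with a given alternating polar form in characteristic two
-/

set_option autoImplicit false
open scoped MatrixGroups Matrix
open Matrix

namespace H47

variable {F : Type*} [Field F] {d : ℕ}

local notation "V" => (Fin d ⊕ Fin d → F)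

/-- Pull back an element along coordinates. -/
noncomputable def pullGL {ι κ : Type} [Fintype ι] [DecidableEq ι] [Fintype κ] [DecidableEq κ]
    (φ : (ι → F) ≃ₗ[F] (κ → F)) : GL κ F →* GL ι F :=
  Units.map
    { toFun := fun M => LinearMap.toMatrix' (φ.symm.toLinearMap ∘ₗ Matrix.toLin' M ∘ₗ φ.toLinearMap)
      map_one' := by
        ext i j
        simp [Matrix.one_apply, Pi.single_apply, LinearMap.toMatrix'_apply]
      map_mul' := fun M M' => by
        rw [← LinearMap.toMatrix'_comp]; congr 1; ext v; simp }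

lemma pullGL_mulVec {ι κ : Type} [Fintype ι] [DecidableEq ι] [Fintype κ] [DecidableEq κ]
    (φ : (ι → F) ≃ₗ[F] (κ → F)) (x : GL κ F) (v : ι → F) :
    (pullGL φ x : Matrix ι ι F) *ᵥ v = φ.symm ((x : Matrix κ κ F) *ᵥ φ v) :=
  LinearMap.toMatrix'_mulVec (φ.symm.toLinearMap ∘ₗ Matrix.toLin' (x : Matrix κ κ F) ∘ₗ φ.toLinearMap) v

/-- The quadratic form has polar form `sympForm`. -/
def HasSpPolar (Q : QuadraticForm F (Fin d ⊕ Fin d → F)) : Prop :=
  ∀ u v, QuadraticMap.polar Q u v = Cfsg.sympForm d F u v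

lemma HasSpPolar.add {Q : QuadraticForm F V} (hQ : HasSpPolar Q) (u v : V) :
    Q (u + v) = Q u + Q v + H48.sf u v := by
  have h := hQ u v
  rw [QuadraticMap.polar, H48.sympForm_eq_sf] at h
  linear_combination h

lemma HasSpPolar.sep {Q : QuadraticForm F V} (hQ : HasSpPolar Q) : H44.PolarSep Q := fun v hv =>
  H48.eq_zero_of_sf fun w => by rw [← H48.sympForm_eq_sf, ← hQ]; exact hv w

lemma isometry_mem_spGL {Q : QuadraticForm F V} (hQ : HasSpPolar Q) {g : GL (Fin d ⊕ Fin d) F}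
    (hg : ∀ v, Q ((g : Matrix (Fin d ⊕ Fin d) (Fin d ⊕ Fin d) F) *ᵥ v) = Q v) :
    g ∈ Cfsg.spGL d F := by
  intro u v
  show Cfsg.sympForm d F ((g : Matrix (Fin d ⊕ Fin d) (Fin d ⊕ Fin d) F) *ᵥ u)
    ((g : Matrix (Fin d ⊕ Fin d) (Fin d ⊕ Fin d) F) *ᵥ v) = Cfsg.sympForm d F u v
  rw [← hQ, ← hQ]
  simp only [QuadraticMap.polar, ← Matrix.mulVec_add, hg]

/-- The standard coordinates of a form with the symplectic polar form. -/
theorem sp_type_cases [Finite F] {Q : QuadraticForm F V} (hQ : HasSpPolar Q) :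
    (∃ φ : V ≃ₗ[F] V, (∀ v, Q v = Cfsg.quadFormPlus d F (φ v)) ∧ Cfsg.Geo.IsPlusTypeOn ⇑Q ⊤) ∨
    (1 ≤ d ∧ ∃ (ζ : F) (φ : V ≃ₗ[F] ((Fin (d - 1) ⊕ Fin (d - 1)) ⊕ Fin 2 → F)),
      (∀ t : F, t ^ 2 + t + ζ ≠ 0) ∧ (∀ v, Q v = Cfsg.quadFormMinus (d - 1) F 1 ζ (φ v)) ∧
      ¬ Cfsg.Geo.IsPlusTypeOn ⇑Q ⊤) := by
  classical
  have hV : Module.finrank F V = 2 * d := by simp; omega
  rcases H44.equiv_plus_or_minus hV Q hQ.sep with ⟨φ, hφ⟩ | ⟨hd, ζ, φ, hζ, hφ⟩
  · refine Or.inl ⟨φ, hφ, ?_⟩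
    let L : (Fin d → F) →ₗ[F] V := φ.symm.toLinearMap ∘ₗ
      (LinearEquiv.sumArrowLequivProdArrow (Fin d) (Fin d) F F).symm.toLinearMap ∘ₗ
        LinearMap.inl F (Fin d → F) (Fin d → F)
    have hL : Function.Injective L :=
      φ.symm.injective.comp ((LinearEquiv.sumArrowLequivProdArrow (Fin d) (Fin d) F F).symm.injective.comp
        LinearMap.inl_injective)
    refine ⟨LinearMap.range L, le_top, ?_, ?_⟩
    · rintro _ ⟨u, rfl⟩
      rw [hφ]
      simp [L, Cfsg.quadFormPlus]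
    · rw [LinearMap.finrank_range_of_inj hL, finrank_top, hV, Module.finrank_fin_fun]
  · refine Or.inr ⟨hd, ζ, φ, hζ, hφ, ?_⟩
    rintro ⟨U, -, hU, hUd⟩
    rw [finrank_top, hV] at hUd
    have hab := H44.binForm_one_anisotropic hζ
    have := H44.finrank_le_of_totally_singular
      ((LinearMap.funLeft F F Sum.inl).comp ((LinearMap.funLeft F F Sum.inl).comp φ.toLinearMap))
      ((LinearMap.funLeft F F Sum.inr).comp ((LinearMap.funLeft F F Sum.inl).comp φ.toLinearMap))
      ((LinearMap.funLeft F F Sum.inr).comp φ.toLinearMap)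
      (fun v h1 h2 h3 => φ.injective (by
        rw [map_zero]
        funext i
        rcases i with (i | i) | i
        · exact congrFun h1 i
        · exact congrFun h2 i
        · exact congrFun h3 i))
      (⇑Q) (fun z => z 0 ^ 2 + 1 * z 0 * z 1 + ζ * z 1 ^ 2)
      (fun z hz => by
        obtain ⟨h0, h1⟩ := hab _ _ hz
        ext i; fin_cases i <;> assumption)
      (fun v => by rw [hφ]; simp [Cfsg.quadFormMinus, LinearMap.funLeft, dotProduct]) U hU
    omega

/-- Forms with the same polar form and the same type are conjugate in the symplectic group. -/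
theorem sp_conj_of_type [Finite F] {Q Q' : QuadraticForm F V} (hQ : HasSpPolar Q) (hQ' : HasSpPolar Q')
    (h : Cfsg.Geo.IsPlusTypeOn ⇑Q ⊤ ↔ Cfsg.Geo.IsPlusTypeOn ⇑Q' ⊤) :
    ∃ g ∈ Cfsg.spGL d F, ∀ v, Q' ((g : Matrix (Fin d ⊕ Fin d) (Fin d ⊕ Fin d) F) *ᵥ v) = Q v := by
  classical
  obtain ⟨e, he⟩ : ∃ e : V ≃ₗ[F] V, ∀ v, Q' (e v) = Q v := by
    rcases sp_type_cases hQ with ⟨φ, hφ, hP⟩ | ⟨hd, ζ, φ, hζ, hφ, hP⟩ <;>
      rcases sp_type_cases hQ' with ⟨φ', hφ', hP'⟩ | ⟨hd', ζ', φ', hζ', hφ', hP'⟩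
    · exact ⟨φ.trans φ'.symm, fun v => by simp [hφ, hφ']⟩
    · exact absurd (h.1 hP) hP'
    · exact absurd (h.2 hP') hP
    · obtain ⟨θ, hθ⟩ := H44.minus_equiv_normal hζ' (d - 1) 1 ζ (H44.binForm_one_anisotropic hζ)
      exact ⟨(φ.trans θ).trans φ'.symm, fun v => by simp [hφ, hφ', hθ]⟩
  let g : GL (Fin d ⊕ Fin d) F :=
    { val := LinearMap.toMatrix' e.toLinearMap
      inv := LinearMap.toMatrix' e.symm.toLinearMap
      val_inv := by rw [← LinearMap.toMatrix'_comp, ← LinearMap.toMatrix'_id]; congr 1; ext v; simp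
      inv_val := by rw [← LinearMap.toMatrix'_comp, ← LinearMap.toMatrix'_id]; congr 1; ext v; simp }
  have hg : ∀ v, Q' ((g : Matrix (Fin d ⊕ Fin d) (Fin d ⊕ Fin d) F) *ᵥ v) = Q v := fun v => by
    rw [show (g : Matrix (Fin d ⊕ Fin d) (Fin d ⊕ Fin d) F) *ᵥ v = e v from LinearMap.toMatrix'_mulVec _ _, he]
  refine ⟨g, fun u v => ?_, hg⟩
  show Cfsg.sympForm d F ((g : Matrix (Fin d ⊕ Fin d) (Fin d ⊕ Fin d) F) *ᵥ u)
    ((g : Matrix (Fin d ⊕ Fin d) (Fin d ⊕ Fin d) F) *ᵥ v) = Cfsg.sympForm d F u v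
  rw [← hQ', ← hQ]
  simp only [QuadraticMap.polar, ← Matrix.mulVec_add, hg]

/-- An equivariant form: conjugate into the group of the first form. -/
theorem sp_conj_mem [Finite F] {Q Q' : QuadraticForm F V} (hQ : HasSpPolar Q) (hQ' : HasSpPolar Q')
    (h : Cfsg.Geo.IsPlusTypeOn ⇑Q ⊤ ↔ Cfsg.Geo.IsPlusTypeOn ⇑Q' ⊤) {x : GL (Fin d ⊕ Fin d) F}
    (hx : ∀ v, Q' ((x : Matrix (Fin d ⊕ Fin d) (Fin d ⊕ Fin d) F) *ᵥ v) = Q' v) :
    ∃ g ∈ Cfsg.spGL d F, g⁻¹ * x * g ∈ Cfsg.Geo.quadSimilarityGroup ⇑Q := by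
  obtain ⟨g, hg, hgQ⟩ := sp_conj_of_type hQ hQ' h
  refine ⟨g, hg, 1, fun v => ?_⟩
  rw [← hgQ, ← hgQ v, Matrix.mulVec_mulVec, ← Units.val_mul, show g * (g⁻¹ * x * g) = x * g by group,
    Units.val_mul, ← Matrix.mulVec_mulVec, hx, Units.val_one, one_mul]

section
variable [Fintype F] [CharP F 2]

/-- Shift a form by the square of a functional. -/
def sqShift (Q : QuadraticForm F (Fin d ⊕ Fin d → F)) (ℓ : (Fin d ⊕ Fin d → F) →ₗ[F] F) :
    QuadraticForm F (Fin d ⊕ Fin d → F) :=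
  Q + QuadraticMap.linMulLin ℓ ℓ

omit [Fintype F] [CharP F 2] in
lemma sqShift_apply (Q : QuadraticForm F V) (ℓ : V →ₗ[F] F) (v : V) :
    sqShift Q ℓ v = Q v + ℓ v * ℓ v := by simp [sqShift]

omit [Fintype F] in
lemma HasSpPolar.shift {Q : QuadraticForm F V} (hQ : HasSpPolar Q) (ℓ : V →ₗ[F] F) :
    HasSpPolar (sqShift Q ℓ) := fun u v => by
  rw [← hQ]
  simp only [QuadraticMap.polar, sqShift_apply, map_add]
  linear_combination (ℓ u * ℓ v) * CharTwo.two_eq_zero (R := F)

lemma sp_sqrt (a : F) : ∃ b, b * b = a := by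
  obtain ⟨b, hb⟩ := Finite.injective_iff_surjective.mp (frobenius_inj F 2) a
  exact ⟨b, by simpa [frobenius_def, pow_two] using hb⟩

omit [Fintype F] in
lemma sp_sqrt_inj {a b : F} (h : a * a = b * b) : a = b :=
  frobenius_inj F 2 (by simpa [frobenius_def, pow_two] using h)

omit [Fintype F] in
lemma sp_sf_comm (u v : V) : H48.sf v u = H48.sf u v := by rw [H48.sf_swap, CharTwo.neg_eq]

/-- Both types occur among `Q + (a f(·,w))²` when `Q w ≠ 0`. -/
theorem sp_flip (hd : 0 < d) {Q : QuadraticForm F V} (hQ : HasSpPolar Q) {w : V} (hw : Q w ≠ 0) (P : Prop) :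
    ∃ a : F, Cfsg.Geo.IsPlusTypeOn ⇑(sqShift Q (a • H48.sf.flip w)) ⊤ ↔ P := by
  classical
  by_contra hcon
  push Not at hcon
  set q := Fintype.card F with hq
  have hq1 : 1 < q := Fintype.one_lt_card
  have hV : Nat.card V = q ^ (2 * d) := by
    rw [Nat.card_eq_fintype_card, Fintype.card_fun, Fintype.card_sum, Fintype.card_fin, hq, two_mul]
  let Qa : F → V → F := fun a v => Q v + (a * H48.sf v w) * (a * H48.sf v w)
  have hQa : ∀ a v, sqShift Q (a • H48.sf.flip w) v = Qa a v := fun a v => by simp [sqShift_apply, Qa]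
  have htotal : Nat.card {p : F × V // Qa p.1 p.2 = 0} = Nat.card V := by
    refine Nat.card_congr (Equiv.ofBijective
      (fun p => if H48.sf p.1.2 w = 0 then p.1.2 + p.1.1 • w else p.1.2) ⟨?_, ?_⟩)
    · rintro ⟨⟨a, v⟩, hav⟩ ⟨⟨b, u⟩, hbu⟩ h
      simp only [Qa] at hav hbu
      have hww : H48.sf w w = 0 := H48.sf_self w
      by_cases hv : H48.sf v w = 0 <;> by_cases hu : H48.sf u w = 0 <;> simp only [hv, hu, if_true, if_false] at h
      · simp only [hv, mul_zero, add_zero] at hav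
        simp only [hu, mul_zero, add_zero] at hbu
        have hpr : Q (v + a • w) = Q (u + b • w) := by rw [h]
        rw [hQ.add, hQ.add, hav, hbu] at hpr
        simp only [map_smul, hv, hu, QuadraticMap.map_smul, smul_eq_mul, mul_zero, zero_add, add_zero] at hpr
        obtain rfl : a = b := sp_sqrt_inj (mul_right_cancel₀ hw hpr)
        obtain rfl : v = u := add_right_cancel h
        rfl
      · exfalso
        apply hu
        rw [← h, map_add, LinearMap.add_apply, map_smul, LinearMap.smul_apply, hv, hww, smul_zero, add_zero]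
      · exfalso
        apply hv
        rw [h, map_add, LinearMap.add_apply, map_smul, LinearMap.smul_apply, hu, hww, smul_zero, add_zero]
      · subst h
        have : a = b := by
          refine mul_right_cancel₀ hv (sp_sqrt_inj (?_ : _ = (b * H48.sf v w) * (b * H48.sf v w)))
          linear_combination hav - hbu
        subst this
        rfl
    · intro u
      by_cases hu : H48.sf u w = 0
      · obtain ⟨s, hs⟩ := sp_sqrt (Q u / Q w)
        have h0 : H48.sf (u + s • w) w = 0 := by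
          rw [map_add, LinearMap.add_apply, map_smul, LinearMap.smul_apply, hu, H48.sf_self, smul_zero, add_zero]
        refine ⟨⟨(s, u + s • w), ?_⟩, ?_⟩
        · simp only [Qa, h0, mul_zero, add_zero]
          rw [hQ.add]
          simp only [map_smul, hu, QuadraticMap.map_smul, smul_eq_mul, mul_zero, add_zero, hs,
            div_mul_cancel₀ _ hw, CharTwo.add_self_eq_zero]
        · simp only [if_pos h0]
          rw [add_assoc, ← add_smul, CharTwo.add_self_eq_zero, zero_smul, add_zero]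
      · obtain ⟨s, hs⟩ := sp_sqrt (Q u)
        refine ⟨⟨(s / H48.sf u w, u), ?_⟩, ?_⟩
        · simp only [Qa, div_mul_cancel₀ _ hu, hs, CharTwo.add_self_eq_zero]
        · simp only [if_neg hu]
  have hsplit : Nat.card {p : F × V // Qa p.1 p.2 = 0} = ∑ a : F, Nat.card {v : V // Qa a v = 0} := by
    rw [← Nat.card_sigma]
    exact Nat.card_congr
      { toFun := fun p => ⟨p.1.1, p.1.2, p.2⟩
        invFun := fun p => ⟨(p.1, p.2.1), p.2.2⟩
        left_inv := fun p => rfl
        right_inv := fun p => rfl }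
  have hpow : q ^ (2 * d) = q ^ d * q ^ d := by rw [two_mul, pow_add]
  have hqd : q ^ d = q ^ (d - 1) * q := by rw [← pow_succ, Nat.sub_add_cancel hd]
  have hcompl : ∀ a, Nat.card {v : V // Qa a v = 0} + Nat.card {v : V // sqShift Q (a • H48.sf.flip w) v ≠ 0}
      = q ^ (2 * d) := by
    intro a
    have e : Nat.card {v : V // sqShift Q (a • H48.sf.flip w) v ≠ 0} = Nat.card {v : V // ¬ Qa a v = 0} :=
      Nat.card_congr (Equiv.subtypeEquivRight fun v => by rw [hQa])
    rw [e, ← Nat.card_sum, Nat.card_congr (Equiv.sumCompl _), hV]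
  set α := q ^ (d - 1) with hα
  have hα0 : 0 < α := pow_pos (by omega) _
  rw [hV, hsplit] at htotal
  by_cases hP : P
  · -- all minus
    have hd2 : ∀ a, Nat.card {v : V // Qa a v = 0} + (q - 1) * (α * (q ^ d + 1)) = q ^ (2 * d) := by
      intro a
      rcases sp_type_cases (hQ.shift (a • H48.sf.flip w)) with ⟨φ, hφ, hp⟩ | ⟨-, ζ, φ, hζ, hφ, -⟩
      · exact absurd hP (by have := hcon a; tauto)
      · have hab := H44.binForm_one_anisotropic hζ
        have hns : Nat.card {v : V // sqShift Q (a • H48.sf.flip w) v ≠ 0} = (q - 1) * (α * (q ^ d + 1)) := by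
          rw [Nat.card_congr (φ.toEquiv.subtypeEquiv (q := fun u => Cfsg.quadFormMinus (d - 1) F 1 ζ u ≠ 0)
            (fun v => by rw [hφ]; rfl))]
          rcases Nat.lt_or_ge d 2 with h | h
          · obtain rfl : d = 1 := by omega
            rw [Nat.card_congr (Equiv.subtypeEquivRight (q := fun u => ¬ u = 0) fun u => ?_)]
            · rw [Nat.card_eq_fintype_card, Fintype.card_subtype_compl, Fintype.card_subtype_eq, Fintype.card_fun]
              simp only [hα, Fintype.card_sum, Fintype.card_fin, pow_one, Nat.sub_self, pow_zero, one_mul, ← hq]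
              rw [show 0 + 0 + 2 = 2 by rfl, Nat.mul_comm, ← Nat.sq_sub_sq]
            · simp only [Cfsg.quadFormMinus, Finset.univ_eq_empty, Finset.sum_empty, zero_add, Nat.sub_self]
              constructor
              · rintro h rfl; simp at h
              · intro hu h
                obtain ⟨h0, h1⟩ := hab _ _ (by simpa using h)
                apply hu
                funext i
                rcases i with (i | i) | i
                · exact i.elim0
                · exact i.elim0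
                · fin_cases i <;> assumption
          · rw [card_minus_nonsingular_vectors h hab]
        rw [← hns]; exact hcompl a
    have hsum : ∑ a : F, (Nat.card {v : V // Qa a v = 0} + (q - 1) * (α * (q ^ d + 1))) = q * q ^ (2 * d) := by
      simp only [hd2]; rw [Finset.sum_const, Finset.card_univ, smul_eq_mul, hq]
    rw [Finset.sum_add_distrib, Finset.sum_const, Finset.card_univ, smul_eq_mul, htotal, ← hq, hpow, hqd] at hsum
    obtain ⟨k, hk⟩ : ∃ k, q = k + 2 := ⟨q - 2, by omega⟩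
    rw [hk] at hsum
    rw [show k + 2 - 1 = k + 1 by omega] at hsum
    nlinarith [hsum, Nat.mul_pos hα0 (Nat.succ_pos k)]
  · -- all plus
    have hd2 : ∀ a, Nat.card {v : V // Qa a v = 0} + (q ^ d - 1) * (α * (q - 1)) = q ^ (2 * d) := by
      intro a
      rcases sp_type_cases (hQ.shift (a • H48.sf.flip w)) with ⟨φ, hφ, hp⟩ | ⟨-, ζ, φ, hζ, hφ, hp⟩
      · have hns : Nat.card {v : V // sqShift Q (a • H48.sf.flip w) v ≠ 0} = (q ^ d - 1) * (α * (q - 1)) := by
          rw [Nat.card_congr (φ.toEquiv.subtypeEquiv (q := fun u => Cfsg.quadFormPlus d F u ≠ 0)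
            (fun v => by rw [hφ]; rfl)), card_plus_nonsingular_vectors hd]
        rw [← hns]; exact hcompl a
      · have := hcon a; tauto
    have hsum : ∑ a : F, (Nat.card {v : V // Qa a v = 0} + (q ^ d - 1) * (α * (q - 1))) = q * q ^ (2 * d) := by
      simp only [hd2]; rw [Finset.sum_const, Finset.card_univ, smul_eq_mul, hq]
    rw [Finset.sum_add_distrib, Finset.sum_const, Finset.card_univ, smul_eq_mul, htotal, ← hq, hpow, hqd] at hsum
    obtain ⟨k, hk⟩ : ∃ k, q = k + 2 := ⟨q - 2, by omega⟩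
    obtain ⟨m, hm⟩ : ∃ m, α = m + 1 := ⟨α - 1, by omega⟩
    rw [hk, hm] at hsum
    rw [show k + 2 - 1 = k + 1 by omega, show (m + 1) * (k + 2) - 1 = m * (k + 2) + k + 1 by
      rw [add_mul, one_mul]; omega] at hsum
    have hf : (k + 2) * (k + 1) * (m + 1) * (m * (k + 2) + k + 1)
        = (k + 2) * (k + 1) * (m + 1) * ((m + 1) * (k + 2)) := by linarith
    have := Nat.eq_of_mul_eq_mul_left (Nat.mul_pos (Nat.mul_pos (by omega) (by omega)) (Nat.succ_pos m)) hf
    rw [add_mul, one_mul] at this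
    omega

/-- An involution of the symplectic group fixes a quadratic form of every admissible type. -/
theorem sp_invol_conj (hd : 0 < d) {Q : QuadraticForm F V} (hQ : HasSpPolar Q) {x : GL (Fin d ⊕ Fin d) F}
    (hx : x ∈ Cfsg.spGL d F)
    (h2 : (x : Matrix (Fin d ⊕ Fin d) (Fin d ⊕ Fin d) F) * x = 1)
    (hok : Cfsg.Geo.IsPlusTypeOn ⇑Q ⊤ ∨ Odd d) :
    ∃ g ∈ Cfsg.spGL d F, g⁻¹ * x * g ∈ Cfsg.Geo.quadSimilarityGroup ⇑Q := by
  classical
  set X : Matrix (Fin d ⊕ Fin d) (Fin d ⊕ Fin d) F := (x : Matrix (Fin d ⊕ Fin d) (Fin d ⊕ Fin d) F)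
  have hsf : ∀ u v, H48.sf (X *ᵥ u) (X *ᵥ v) = H48.sf u v := hx
  have hXX : ∀ v, X *ᵥ (X *ᵥ v) = v := fun v => by rw [Matrix.mulVec_mulVec, h2, Matrix.one_mulVec]
  have hadj : ∀ u v, H48.sf (X *ᵥ u) v = H48.sf u (X *ᵥ v) := fun u v => by
    nth_rewrite 1 [← hXX v]; rw [hsf]
  let N : V →ₗ[F] V := Matrix.toLin' (X + 1)
  have hN : ∀ v, N v = X *ᵥ v + v := fun v => by simp [N, Matrix.add_mulVec]
  have hNsa : ∀ u v, H48.sf (N u) v = H48.sf u (N v) := fun u v => by
    rw [hN, hN, map_add, LinearMap.add_apply, hadj, map_add]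
  have hNN : ∀ v, N (N v) = 0 := fun v => by
    rw [hN, hN, Matrix.mulVec_add, hXX, add_comm v (X *ᵥ v)]
    exact (vec_add_eq_zero _ _).mpr rfl
  let g : V → F := fun v => H48.sf v (N v) + Q (N v)
  choose rt hrt using fun v => sp_sqrt (g v)
  let ℓ₀ : V →ₗ[F] F :=
    { toFun := rt
      map_add' := fun u v => sp_sqrt_inj (by
        have e : (rt u + rt v) * (rt u + rt v) = rt u * rt u + rt v * rt v := by
          linear_combination (rt u * rt v) * CharTwo.two_eq_zero (R := F)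
        rw [e, hrt, hrt, hrt]
        simp only [g, map_add, hQ.add, LinearMap.add_apply]
        have h1 : H48.sf (N u) (N v) = 0 := by rw [hNsa, hNN, map_zero]
        have h3 : H48.sf v (N u) = H48.sf u (N v) := by rw [← hNsa, sp_sf_comm]
        rw [h1, h3]
        linear_combination (H48.sf u (N v)) * CharTwo.two_eq_zero (R := F))
      map_smul' := fun c v => sp_sqrt_inj (by
        rw [hrt, RingHom.id_apply, smul_eq_mul]
        simp only [g, map_smul, LinearMap.smul_apply, QuadraticMap.map_smul, smul_eq_mul]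
        linear_combination (-c * c) * hrt v) }
  have hker : LinearMap.ker N ≤ LinearMap.ker ℓ₀ := fun v hv => by
    rw [LinearMap.mem_ker] at hv ⊢
    refine sp_sqrt_inj (?_ : _ = (0 : F) * 0)
    show rt v * rt v = _
    simp [hrt, g, hv]
  obtain ⟨ℓ, hℓ⟩ := LinearMap.exists_extend
    (((LinearMap.ker N).liftQ ℓ₀ hker) ∘ₗ N.quotKerEquivRange.symm.toLinearMap)
  have hℓN : ∀ v, ℓ (N v) = ℓ₀ v := fun v => by
    have h := LinearMap.congr_fun hℓ (⟨N v, ⟨v, rfl⟩⟩ : LinearMap.range N)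
    simp only [LinearMap.comp_apply, Submodule.subtype_apply, LinearEquiv.coe_coe] at h
    rw [h]
    have hsymm : N.quotKerEquivRange.symm ⟨N v, LinearMap.mem_range_self N v⟩ = Submodule.Quotient.mk v :=
      (LinearEquiv.symm_apply_eq _).2 (Subtype.ext rfl)
    erw [hsymm]
    rfl
  set Q₁ := sqShift Q ℓ with hQ₁
  have hQ₁p : HasSpPolar Q₁ := hQ.shift ℓ
  have hinv : ∀ v, Q₁ (X *ᵥ v) = Q₁ v := fun v => by
    have e : X *ᵥ v = v + N v := by
      rw [hN, add_comm (X *ᵥ v) v, ← add_assoc, (vec_add_eq_zero v v).mpr rfl, zero_add]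
    rw [e, hQ₁p.add, hQ₁, sqShift_apply, sqShift_apply _ _ (N v), hℓN]
    show _ + (Q (N v) + rt v * rt v) + _ = _
    rw [hrt]
    linear_combination (Q (N v) + H48.sf v (N v)) * CharTwo.two_eq_zero (R := F)
  by_cases hsame : Cfsg.Geo.IsPlusTypeOn ⇑Q ⊤ ↔ Cfsg.Geo.IsPlusTypeOn ⇑Q₁ ⊤
  · exact sp_conj_mem hQ hQ₁p hsame hinv
  obtain ⟨w, hwX, hwQ⟩ : ∃ w, X *ᵥ w = w ∧ Q₁ w ≠ 0 := by
    rcases sp_type_cases hQ₁p with ⟨φ, hφ, hP₁⟩ | ⟨hd1, ζ, φ, hζ, hφ, hP₁⟩
    · have hodd : Odd d := hok.resolve_left fun h => hsame (iff_of_true h hP₁)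
      set y := pullGL φ.symm x with hy
      have hyv : ∀ v, (y : Matrix (Fin d ⊕ Fin d) (Fin d ⊕ Fin d) F) *ᵥ v = φ (X *ᵥ φ.symm v) := fun v => by
        rw [hy, pullGL_mulVec]; rfl
      obtain ⟨v, hv, hv0⟩ := plus_invol_fix hodd (x := y) (by
          rw [mem_isometry_iff]; intro v
          rw [hyv, ← hφ, hinv, hφ, LinearEquiv.apply_symm_apply]) (by
          refine Matrix.ext_of_mulVec_single fun j => ?_
          rw [← Matrix.mulVec_mulVec, hyv, hyv, LinearEquiv.symm_apply_apply, hXX,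
            LinearEquiv.apply_symm_apply, Matrix.one_mulVec])
      refine ⟨φ.symm v, ?_, by rw [hφ, LinearEquiv.apply_symm_apply]; exact hv0⟩
      rw [hyv] at hv
      conv_rhs => rw [← hv, LinearEquiv.symm_apply_apply]
    · set y := pullGL φ.symm x with hy
      have hyv : ∀ v, (y : Matrix ((Fin (d - 1) ⊕ Fin (d - 1)) ⊕ Fin 2) ((Fin (d - 1) ⊕ Fin (d - 1)) ⊕ Fin 2) F) *ᵥ v
          = φ (X *ᵥ φ.symm v) := fun v => by rw [hy, pullGL_mulVec]; rfl
      obtain ⟨v, hv, hv0⟩ := minus_invol_fix hd1 (H44.binForm_one_anisotropic hζ) (x := y) (by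
          refine Matrix.ext_of_mulVec_single fun j => ?_
          rw [← Matrix.mulVec_mulVec, hyv, hyv, LinearEquiv.symm_apply_apply, hXX,
            LinearEquiv.apply_symm_apply, Matrix.one_mulVec])
      refine ⟨φ.symm v, ?_, by rw [hφ, LinearEquiv.apply_symm_apply]; exact hv0⟩
      rw [hyv] at hv
      conv_rhs => rw [← hv, LinearEquiv.symm_apply_apply]
  obtain ⟨a, ha⟩ := sp_flip hd hQ₁p hwQ (Cfsg.Geo.IsPlusTypeOn ⇑Q ⊤)
  refine sp_conj_mem hQ (hQ₁p.shift _) ha.symm fun v => ?_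
  have h1 : H48.sf (X *ᵥ v) w = H48.sf v w := by rw [hadj, hwX]
  show sqShift Q₁ _ (X *ᵥ v) = sqShift Q₁ _ v
  rw [sqShift_apply Q₁, sqShift_apply Q₁, hinv, LinearMap.smul_apply, LinearMap.smul_apply,
    LinearMap.flip_apply, LinearMap.flip_apply, h1]

end

end H47
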