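import Mathlib
import Cfsg.Agent.H47.SpOrth

/-!
# Derangements of symplectic groups on cosets of orthogonal subgroups, characteristic two
-/

set_option autoImplicit false
open scoped MatrixGroups Matrix
open Matrix

namespace H47

variable {F : Type*} [Field F] [Fintype F] [CharP F 2] {d : ℕ}

local notation "V" => (Fin d ⊕ Fin d → F)

omit [Fintype F] in
/-- In the symplectic group a similitude is an isometry. -/
lemma sim_isometry (hd : 0 < d) {Q : QuadraticForm F V} (hQ : HasSpPolar Q) {y : GL (Fin d ⊕ Fin d) F}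
    (hy : y ∈ Cfsg.spGL d F) (hy' : y ∈ Cfsg.Geo.quadSimilarityGroup ⇑Q) :
    ∀ v, Q ((y : Matrix (Fin d ⊕ Fin d) (Fin d ⊕ Fin d) F) *ᵥ v) = Q v := by
  obtain ⟨c, hc⟩ := hy'
  let u : V := Pi.single (Sum.inl ⟨0, hd⟩) 1
  have hu : u ≠ 0 := fun h => by
    have := congrFun h (Sum.inl ⟨0, hd⟩)
    simp [u] at this
  obtain ⟨w, hw⟩ := H48.exists_sf_ne hu
  have h1 : QuadraticMap.polar Q ((y : Matrix (Fin d ⊕ Fin d) (Fin d ⊕ Fin d) F) *ᵥ u)
      ((y : Matrix (Fin d ⊕ Fin d) (Fin d ⊕ Fin d) F) *ᵥ w) = (c : F) * QuadraticMap.polar Q u w := by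
    simp only [QuadraticMap.polar, ← Matrix.mulVec_add, hc, mul_sub]
  have hy2 : Cfsg.sympForm d F ((y : Matrix (Fin d ⊕ Fin d) (Fin d ⊕ Fin d) F) *ᵥ u)
      ((y : Matrix (Fin d ⊕ Fin d) (Fin d ⊕ Fin d) F) *ᵥ w) = Cfsg.sympForm d F u w := hy u w
  rw [hQ, hQ, hy2, H48.sympForm_eq_sf] at h1
  have hc1 : (c : F) = 1 := mul_right_cancel₀ hw (h1.symm.trans (one_mul _).symm)
  intro v
  rw [hc, hc1, one_mul]

/-- Scalars in the symplectic group. -/
lemma sp_scalar_one (hd : 0 < d) {z : F} {y : GL (Fin d ⊕ Fin d) F} (hy : y ∈ Cfsg.spGL d F)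
    (h : (y : Matrix (Fin d ⊕ Fin d) (Fin d ⊕ Fin d) F) = z • 1) : z = 1 := by
  let u : V := Pi.single (Sum.inl ⟨0, hd⟩) 1
  have hu : u ≠ 0 := fun h => by
    have := congrFun h (Sum.inl ⟨0, hd⟩)
    simp [u] at this
  obtain ⟨w, hw⟩ := H48.exists_sf_ne hu
  have h1 : H48.sf ((y : Matrix (Fin d ⊕ Fin d) (Fin d ⊕ Fin d) F) *ᵥ u)
      ((y : Matrix (Fin d ⊕ Fin d) (Fin d ⊕ Fin d) F) *ᵥ w) = H48.sf u w := hy u w
  rw [h, Matrix.smul_mulVec, Matrix.smul_mulVec, Matrix.one_mulVec, Matrix.one_mulVec, map_smul, map_smul,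
    LinearMap.smul_apply, smul_smul, smul_eq_mul] at h1
  exact sp_sqrt_inj (mul_right_cancel₀ hw (h1.trans (by rw [one_mul, one_mul])))

/-- A symplectic element whose fixed vectors are singular for every invariant form. -/
theorem sp_invol_der (hd : 0 < d) (he : Even d) {Q : QuadraticForm F V} (hQ : HasSpPolar Q)
    (hminus : ¬ Cfsg.Geo.IsPlusTypeOn ⇑Q ⊤) :
    ∃ x ∈ Cfsg.spGL d F, (x : Matrix (Fin d ⊕ Fin d) (Fin d ⊕ Fin d) F) * x = 1 ∧
      (x : Matrix (Fin d ⊕ Fin d) (Fin d ⊕ Fin d) F) ≠ 1 ∧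
      ∀ g ∈ Cfsg.spGL d F, g⁻¹ * x * g ∉ Cfsg.Geo.quadSimilarityGroup ⇑Q := by
  classical
  obtain ⟨j, hj⟩ := he
  let ε : Fin d ≃ Fin j ⊕ Fin j := (finCongr hj).trans finSumFinEquiv.symm
  let X : Matrix (Fin d) (Fin d) F :=
    (Matrix.fromBlocks 0 1 1 0 : Matrix (Fin j ⊕ Fin j) (Fin j ⊕ Fin j) F).submatrix ε ε
  have hXT : Xᵀ = X := by
    rw [Matrix.transpose_submatrix, Matrix.fromBlocks_transpose]; simp [X]
  have hXX : X * X = 1 := by
    rw [Matrix.submatrix_mul_equiv, Matrix.fromBlocks_multiply]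
    simp [Matrix.fromBlocks_one]
  have hXalt : ∀ v, (X *ᵥ v) ⬝ᵥ v = 0 := by
    intro v
    have h1 : X *ᵥ v = (Matrix.fromBlocks 0 1 1 0 *ᵥ (v ∘ ε.symm)) ∘ ε := Matrix.submatrix_mulVec_equiv _ _ _ _
    have h2 : v = (v ∘ ε.symm) ∘ ε := by funext i; simp
    rw [h1]
    nth_rewrite 2 [h2]
    rw [comp_equiv_dotProduct_comp_equiv]
    have := hyperbolic_mulVec_dot (1 : Matrix (Fin j) (Fin j) F) (v ∘ ε.symm)
    rwa [Matrix.transpose_one] at this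
  set x : GL (Fin d ⊕ Fin d) F := plusUni X with hx
  have hxv : ∀ a b : Fin d → F, (x : Matrix (Fin d ⊕ Fin d) (Fin d ⊕ Fin d) F) *ᵥ Sum.elim a b
      = Sum.elim (a + X *ᵥ b) b := fun a b => by
    simp [hx, plusUni, Matrix.fromBlocks_mulVec]
  have hx2 : (x : Matrix (Fin d ⊕ Fin d) (Fin d ⊕ Fin d) F) * x = 1 := by
    simp [hx, plusUni, Matrix.fromBlocks_multiply, ← Matrix.fromBlocks_one]
    rw [← two_smul F X, CharTwo.two_eq_zero, zero_smul]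
  have hsf : ∀ a b c e : Fin d → F, H48.sf (Sum.elim a b) (Sum.elim c e) = b ⬝ᵥ c + a ⬝ᵥ e := fun a b c e => by
    rw [H48.sf_apply]
    simp [dotProduct, Finset.sum_add_distrib, CharTwo.sub_eq_add]
  have hxS : x ∈ Cfsg.spGL d F := by
    intro u v
    show H48.sf ((x : Matrix (Fin d ⊕ Fin d) (Fin d ⊕ Fin d) F) *ᵥ u)
      ((x : Matrix (Fin d ⊕ Fin d) (Fin d ⊕ Fin d) F) *ᵥ v) = H48.sf u v
    rw [← Sum.elim_comp_inl_inr u, ← Sum.elim_comp_inl_inr v, hxv, hxv, hsf, hsf, dotProduct_add,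
      add_dotProduct]
    have : (u ∘ Sum.inr) ⬝ᵥ (X *ᵥ (v ∘ Sum.inr)) = (X *ᵥ (u ∘ Sum.inr)) ⬝ᵥ (v ∘ Sum.inr) := by
      rw [Matrix.dotProduct_mulVec, ← Matrix.mulVec_transpose, hXT]
    rw [this]
    linear_combination ((X *ᵥ (u ∘ Sum.inr)) ⬝ᵥ (v ∘ Sum.inr)) * CharTwo.two_eq_zero (R := F)
  refine ⟨x, hxS, hx2, ?_, ?_⟩
  · intro h
    have h' := congrArg Matrix.toBlocks₁₂ h
    rw [hx, show ((plusUni X : GL (Fin d ⊕ Fin d) F) : Matrix (Fin d ⊕ Fin d) (Fin d ⊕ Fin d) F)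
      = Matrix.fromBlocks 1 X 0 1 from rfl, Matrix.toBlocks_fromBlocks₁₂, ← Matrix.fromBlocks_one,
      Matrix.toBlocks_fromBlocks₁₂] at h'
    rw [h', Matrix.zero_mul] at hXX
    have := congrFun (congrFun hXX ⟨0, hd⟩) ⟨0, hd⟩
    simp at this
  intro g hg hmem
  have hy : g⁻¹ * x * g ∈ Cfsg.spGL d F :=
    (Cfsg.spGL d F).mul_mem ((Cfsg.spGL d F).mul_mem ((Cfsg.spGL d F).inv_mem hg) hxS) hg
  have hiso := sim_isometry hd hQ hy hmem
  rcases sp_type_cases hQ with ⟨φ, hφ, hP⟩ | ⟨hd1, ζ, φ, hζ, hφ, -⟩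
  · exact hminus hP
  set y : GL (Fin d ⊕ Fin d) F := g⁻¹ * x * g with hydef
  have hy2 : (y : Matrix (Fin d ⊕ Fin d) (Fin d ⊕ Fin d) F) * y = 1 := by
    rw [← Units.val_mul, hydef, show g⁻¹ * x * g * (g⁻¹ * x * g) = g⁻¹ * (x * x) * g by group,
      show x * x = 1 from Units.ext hx2, mul_one, inv_mul_cancel, Units.val_one]
  set y' := pullGL φ.symm y with hy'
  have hyv : ∀ v, (y' : Matrix ((Fin (d - 1) ⊕ Fin (d - 1)) ⊕ Fin 2) ((Fin (d - 1) ⊕ Fin (d - 1)) ⊕ Fin 2) F) *ᵥ v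
      = φ ((y : Matrix (Fin d ⊕ Fin d) (Fin d ⊕ Fin d) F) *ᵥ φ.symm v) := fun v => by
    rw [hy', pullGL_mulVec]; rfl
  obtain ⟨v, hv, hv0⟩ := minus_invol_fix hd1 (H44.binForm_one_anisotropic hζ) (x := y') (by
    refine Matrix.ext_of_mulVec_single fun i => ?_
    rw [← Matrix.mulVec_mulVec, hyv, hyv, LinearEquiv.symm_apply_apply, Matrix.mulVec_mulVec, hy2,
      Matrix.one_mulVec, LinearEquiv.apply_symm_apply, Matrix.one_mulVec])
  rw [hyv] at hv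
  set w := φ.symm v with hw
  have hwf : (y : Matrix (Fin d ⊕ Fin d) (Fin d ⊕ Fin d) F) *ᵥ w = w := by
    conv_rhs => rw [hw, ← hv, LinearEquiv.symm_apply_apply]
  have hw0 : Q w ≠ 0 := by rw [hφ, hw, LinearEquiv.apply_symm_apply]; exact hv0
  -- the form moved by `g` is invariant under `x`
  let Q' : V → F := fun u => Q (((g⁻¹ : GL (Fin d ⊕ Fin d) F) : Matrix (Fin d ⊕ Fin d) (Fin d ⊕ Fin d) F) *ᵥ u)
  have hQ'inv : ∀ u, Q' ((x : Matrix (Fin d ⊕ Fin d) (Fin d ⊕ Fin d) F) *ᵥ u) = Q' u := fun u => by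
    have h := hiso (((g⁻¹ : GL (Fin d ⊕ Fin d) F) : Matrix (Fin d ⊕ Fin d) (Fin d ⊕ Fin d) F) *ᵥ u)
    rw [Matrix.mulVec_mulVec, ← Units.val_mul, show y * g⁻¹ = g⁻¹ * x by rw [hydef]; group, Units.val_mul,
      ← Matrix.mulVec_mulVec] at h
    exact h
  have hgi : ∀ a b, H48.sf (((g⁻¹ : GL (Fin d ⊕ Fin d) F) : Matrix (Fin d ⊕ Fin d) (Fin d ⊕ Fin d) F) *ᵥ a)
      (((g⁻¹ : GL (Fin d ⊕ Fin d) F) : Matrix (Fin d ⊕ Fin d) (Fin d ⊕ Fin d) F) *ᵥ b) = H48.sf a b :=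
    fun a b => (Cfsg.spGL d F).inv_mem hg a b
  have hsing : ∀ a : Fin d → F, Q' (Sum.elim a 0) = 0 := by
    intro a
    have hinv := hQ'inv (Sum.elim 0 (X *ᵥ a))
    rw [hxv, zero_add, Matrix.mulVec_mulVec, hXX, Matrix.one_mulVec,
      show Sum.elim a (X *ᵥ a) = Sum.elim a (0 : Fin d → F) + Sum.elim (0 : Fin d → F) (X *ᵥ a) by
        funext i; rcases i with i | i <;> simp] at hinv
    simp only [Q', Matrix.mulVec_add] at hinv ⊢
    rw [hQ.add, hgi, hsf, zero_dotProduct, zero_add, dotProduct_comm, hXalt, add_zero] at hinv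
    exact add_right_cancel (hinv.trans (zero_add _).symm)
  apply hw0
  set u := (g : Matrix (Fin d ⊕ Fin d) (Fin d ⊕ Fin d) F) *ᵥ w with hu
  have hxu : (x : Matrix (Fin d ⊕ Fin d) (Fin d ⊕ Fin d) F) *ᵥ u = u := by
    rw [hu, Matrix.mulVec_mulVec, ← Units.val_mul, show x * g = g * y by rw [hydef]; group, Units.val_mul,
      ← Matrix.mulVec_mulVec, hwf]
  have hu2 : u ∘ Sum.inr = 0 := by
    rw [← Sum.elim_comp_inl_inr u, hxv] at hxu
    have h := congrArg (· ∘ Sum.inl) hxu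
    simp only [Sum.elim_comp_inl] at h
    have h3 : X *ᵥ (u ∘ Sum.inr) = 0 := add_eq_left.mp h
    have := congrArg (X *ᵥ ·) h3
    simpa [Matrix.mulVec_mulVec, hXX] using this
  have hQw : Q' u = Q w := by simp [Q', hu, Matrix.mulVec_mulVec]
  rw [← hQw, ← Sum.elim_comp_inl_inr u, hu2]
  exact hsing _

/-- Odd primes dividing the index. -/
theorem sp_index_cases (hd : 0 < d) {Q : QuadraticForm F V} (hQ : HasSpPolar Q) {r : ℕ} [hr : Fact r.Prime]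
    (hr2 : r ≠ 2) (hΩ : r ∣ (Cfsg.Geo.quadSimilarityGroup ⇑Q).relIndex (Cfsg.spGL d F)) :
    ¬ r ∣ Fintype.card F ∧
      ((Cfsg.Geo.IsPlusTypeOn ⇑Q ⊤ ∧ r ∣ Fintype.card F ^ d + 1) ∨
        (¬ Cfsg.Geo.IsPlusTypeOn ⇑Q ⊤ ∧ r ∣ Fintype.card F ^ d - 1)) := by
  classical
  set q := Fintype.card F with hq
  have hq1 : 1 < q := Fintype.one_lt_card
  have hrp : ¬ r ∣ q := by
    intro h
    obtain ⟨f, -, hf⟩ := FiniteField.card F 2
    rw [← hq] at hf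
    rw [hf] at h
    exact hr2 ((Nat.prime_dvd_prime_iff_eq hr.out Nat.prime_two).1 (hr.out.dvd_of_dvd_pow h))
  refine ⟨hrp, ?_⟩
  set H := Cfsg.Geo.quadSimilarityGroup ⇑Q
  set S := Cfsg.spGL d F
  let f : Cfsg.isometryGroup F ⇑Q →* H.subgroupOf S :=
    { toFun := fun g => ⟨⟨g.1, isometry_mem_spGL hQ (mem_isometry_iff.mp g.2)⟩, 1, fun v => by
        rw [Units.val_one, one_mul]; exact mem_isometry_iff.mp g.2 v⟩
      map_one' := rfl
      map_mul' := fun _ _ => rfl }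
  have hf : Function.Injective f := fun a b h => Subtype.ext
    (congrArg (fun z : H.subgroupOf S => ((z : S) : GL (Fin d ⊕ Fin d) F)) h)
  let e : Matrix.symplecticGroup (Fin d) F ≃ S := Equiv.ofBijective
    (fun g => ⟨⟨g.1, (g⁻¹).1, by rw [← Submonoid.coe_mul, mul_inv_cancel]; rfl,
      by rw [← Submonoid.coe_mul, inv_mul_cancel]; rfl⟩, H48.mem_symplectic_iff.1 g.2⟩)
    ⟨fun a b h => Subtype.ext (congrArg (fun z : S => ((z : GL (Fin d ⊕ Fin d) F) : Matrix (Fin d ⊕ Fin d) (Fin d ⊕ Fin d) F)) h),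
      fun z => ⟨⟨_, H48.mem_symplectic_iff.2 z.2⟩, Subtype.ext (Units.ext rfl)⟩⟩
  have key : r * Nat.card (Cfsg.isometryGroup F ⇑Q) ∣
      q ^ (d ^ 2) * ∏ i ∈ Finset.range d, (q ^ (2 * (i + 1)) - 1) := by
    have h := mul_dvd_mul hΩ (Subgroup.card_dvd_of_injective f hf)
    rw [Subgroup.relIndex, Subgroup.index_mul_card, ← Nat.card_congr e, H48.card_sp, Fintype.card_fin, ← hq] at h
    exact h
  obtain ⟨k, hk⟩ : ∃ k, d = k + 1 := ⟨d - 1, by omega⟩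
  have hsq : q ^ (2 * d) - 1 = (q ^ d + 1) * (q ^ d - 1) := by
    rw [mul_comm 2, pow_mul]; simpa [sq] using Nat.sq_sub_sq (q ^ d) 1
  have hP : 0 < ∏ i ∈ Finset.range k, (q ^ (2 * (i + 1)) - 1) :=
    Finset.prod_pos fun i _ => Nat.sub_pos_of_lt (Nat.one_lt_pow (by omega) hq1)
  set P := ∏ i ∈ Finset.range k, (q ^ (2 * (i + 1)) - 1) with hPdef
  have hprod : ∏ i ∈ Finset.range d, (q ^ (2 * (i + 1)) - 1) = P * ((q ^ d + 1) * (q ^ d - 1)) := by
    rw [← hsq, hk, Finset.prod_range_succ]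
  rw [hprod] at key
  have hpl : 0 < q ^ d - 1 := Nat.sub_pos_of_lt (Nat.one_lt_pow hd.ne' hq1)
  have hfin : ∀ {a b : ℕ}, 0 < a → r * a ∣ a * b → r ∣ b := fun {a b} ha h =>
    (Nat.mul_dvd_mul_iff_left ha).1 (by rwa [mul_comm r] at h)
  rcases sp_type_cases hQ with ⟨φ, hφ, hPl⟩ | ⟨hd1, ζ, φ, hζ, hφ, hPl⟩
  · left
    refine ⟨hPl, ?_⟩
    have hcard : Nat.card (Cfsg.isometryGroup F ⇑Q) = 2 * q ^ (k * (k + 1)) * (q ^ d - 1) * P := by
      rw [Nat.card_congr ((H38.isometryGroupCongr φ (Q' := Cfsg.quadFormPlus d F) (fun v => (hφ v).symm)).trans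
        (H38.isometryGroupEquiv (Cfsg.quadFormPlus d F)).symm).toEquiv]
      subst hk
      rw [H38.card_plus, ← hq]
    rw [hcard] at key
    have h2 : r ∣ q ^ (d ^ 2) * (q ^ d + 1) := by
      refine hfin (a := (q ^ d - 1) * P) (Nat.mul_pos hpl hP) ?_
      exact (Dvd.intro (2 * q ^ (k * (k + 1))) (by ring)).trans (key.trans (dvd_of_eq (by ring)))
    exact (hr.out.dvd_mul.1 h2).resolve_left fun h => hrp (hr.out.dvd_of_dvd_pow h)
  · right
    refine ⟨hPl, ?_⟩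
    have hcard : Nat.card (Cfsg.isometryGroup F ⇑Q) = 2 * q ^ (k * (k + 1)) * (q ^ d + 1) * P := by
      rw [Nat.card_congr ((H38.isometryGroupCongr φ (Q' := Cfsg.quadFormMinus (d - 1) F 1 ζ) (fun v => (hφ v).symm)).trans
        (H38.isometryGroupEquiv (Cfsg.quadFormMinus (d - 1) F 1 ζ)).symm).toEquiv,
        H38.card_minus (d - 1) 1 ζ (H44.binForm_one_anisotropic hζ), ← hq]
      subst hk
      rfl
    rw [hcard] at key
    have h2 : r ∣ q ^ (d ^ 2) * (q ^ d - 1) := by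
      refine hfin (a := (q ^ d + 1) * P) (Nat.mul_pos (Nat.succ_pos _) hP) ?_
      exact (Dvd.intro (2 * q ^ (k * (k + 1))) (by ring)).trans (key.trans (dvd_of_eq (by ring)))
    exact (hr.out.dvd_mul.1 h2).resolve_left fun h => hrp (hr.out.dvd_of_dvd_pow h)

/-- Minus type, `r ∣ q - 1`: an element with two totally singular eigenspaces. -/
theorem sp_split_der (hd : 0 < d) {Q : QuadraticForm F V} (hQ : HasSpPolar Q)
    (hminus : ¬ Cfsg.Geo.IsPlusTypeOn ⇑Q ⊤) {r : ℕ} [hr : Fact r.Prime] (hr1 : r ∣ Fintype.card F - 1) :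
    ∃ x ∈ Cfsg.spGL d F, x ^ r = 1 ∧ x ≠ 1 ∧
      ∀ g ∈ Cfsg.spGL d F, g⁻¹ * x * g ∉ Cfsg.Geo.quadSimilarityGroup ⇑Q := by
  classical
  obtain ⟨w, hw⟩ := exists_prime_orderOf_dvd_card' r
    (show r ∣ Nat.card Fˣ by rw [Nat.card_units, Nat.card_eq_fintype_card]; exact hr1)
  have hw1 : (w : F) ≠ 1 := fun h => by
    rw [Units.val_eq_one.1 h, orderOf_one] at hw; exact hr.out.one_lt.ne hw
  let A : GL (Fin d) F := Units.map (Matrix.scalar (Fin d)).toMonoidHom w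
  have hA : ∀ b : Fin d → F, (A : Matrix (Fin d) (Fin d) F) *ᵥ b = (w : F) • b := fun b => by
    funext i
    simp [A, Matrix.mulVec_diagonal]
  have hAr : A ^ r = 1 := by
    rw [← map_pow, show w ^ r = 1 by rw [← hw]; exact pow_orderOf_eq_one w, map_one]
  set x : GL (Fin d ⊕ Fin d) F := plusDiagHom d A with hxdef
  have hxS : x ∈ Cfsg.spGL d F := by
    intro u v
    show H48.sf ((x : Matrix (Fin d ⊕ Fin d) (Fin d ⊕ Fin d) F) *ᵥ u)
      ((x : Matrix (Fin d ⊕ Fin d) (Fin d ⊕ Fin d) F) *ᵥ v) = H48.sf u v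
    have hi : ∀ b : Fin d → F, ((A⁻¹ : GL (Fin d) F) : Matrix (Fin d) (Fin d) F)ᵀ *ᵥ b = (w⁻¹ : Fˣ) • b := fun b => by
      funext i
      rw [← map_inv]
      simp [Matrix.mulVec_diagonal, Units.smul_def]
    have hx : ∀ v : Fin d ⊕ Fin d → F, (x : Matrix (Fin d ⊕ Fin d) (Fin d ⊕ Fin d) F) *ᵥ v
        = Sum.elim ((w : F) • (v ∘ Sum.inl)) ((w⁻¹ : Fˣ) • (v ∘ Sum.inr)) := fun v => by
      rw [hxdef, show (plusDiagHom d A : Matrix (Fin d ⊕ Fin d) (Fin d ⊕ Fin d) F)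
        = Matrix.fromBlocks (A : Matrix (Fin d) (Fin d) F) 0 0 ((A⁻¹ : GL (Fin d) F) : Matrix (Fin d) (Fin d) F)ᵀ from rfl,
        Matrix.fromBlocks_mulVec, hA, hi, Matrix.zero_mulVec, Matrix.zero_mulVec, add_zero, zero_add]
    rw [hx, hx, H48.sf_apply, H48.sf_apply]
    refine Finset.sum_congr rfl fun i _ => ?_
    simp only [Sum.elim_inl, Sum.elim_inr, Pi.smul_apply, Units.smul_def, smul_eq_mul, Function.comp_apply,
      Units.val_inv_eq_inv_val]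
    field_simp
  have hxl : ∀ a : Fin d → F, (x : Matrix (Fin d ⊕ Fin d) (Fin d ⊕ Fin d) F) *ᵥ Sum.elim a 0
      = (w : F) • Sum.elim a 0 := fun a => by
    rw [hxdef, show (plusDiagHom d A : Matrix (Fin d ⊕ Fin d) (Fin d ⊕ Fin d) F)
      = Matrix.fromBlocks (A : Matrix (Fin d) (Fin d) F) 0 0 ((A⁻¹ : GL (Fin d) F) : Matrix (Fin d) (Fin d) F)ᵀ from rfl,
      Matrix.fromBlocks_mulVec, Sum.elim_comp_inl, Sum.elim_comp_inr, hA, Matrix.zero_mulVec, Matrix.zero_mulVec,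
      Matrix.mulVec_zero, add_zero, add_zero]
    funext i; rcases i with i | i <;> simp
  refine ⟨x, hxS, by rw [hxdef, ← map_pow, hAr, map_one], fun h => hw1 ?_, fun g hg hmem => ?_⟩
  · have h1 := congrFun (hxl (fun _ => 1)) (Sum.inl ⟨0, hd⟩)
    rw [h, Units.val_one, Matrix.one_mulVec] at h1
    simpa using h1.symm
  have hiso := sim_isometry hd hQ ((Cfsg.spGL d F).mul_mem ((Cfsg.spGL d F).mul_mem
    ((Cfsg.spGL d F).inv_mem hg) hxS) hg) hmem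
  apply hminus
  let L : (Fin d → F) →ₗ[F] V :=
    Matrix.toLin' ((g⁻¹ : GL (Fin d ⊕ Fin d) F) : Matrix (Fin d ⊕ Fin d) (Fin d ⊕ Fin d) F) ∘ₗ
      (LinearEquiv.sumArrowLequivProdArrow (Fin d) (Fin d) F F).symm.toLinearMap ∘ₗ
        LinearMap.inl F (Fin d → F) (Fin d → F)
  have hLa : ∀ a, L a = ((g⁻¹ : GL (Fin d ⊕ Fin d) F) : Matrix (Fin d ⊕ Fin d) (Fin d ⊕ Fin d) F) *ᵥ Sum.elim a 0 :=
    fun a => by
      simp only [L, LinearMap.comp_apply, Matrix.toLin'_apply]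
      congr 1
  refine ⟨LinearMap.range L, le_top, ?_, ?_⟩
  · rintro _ ⟨a, rfl⟩
    have h := hiso (L a)
    rw [hLa, Matrix.mulVec_mulVec, ← Units.val_mul, show g⁻¹ * x * g * g⁻¹ = g⁻¹ * x by group, Units.val_mul,
      ← Matrix.mulVec_mulVec, hxl, Matrix.mulVec_smul, QuadraticMap.map_smul, smul_eq_mul] at h
    rw [hLa]
    by_contra h0
    exact hw1 (sp_sqrt_inj ((mul_right_cancel₀ h0 (h.trans (one_mul _).symm)).trans (one_mul 1).symm))
  · rw [LinearMap.finrank_range_of_inj, finrank_top, Module.finrank_fin_fun]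
    · simp; omega
    · intro a b h
      rw [hLa, hLa] at h
      have h' := congrArg ((g : Matrix (Fin d ⊕ Fin d) (Fin d ⊕ Fin d) F) *ᵥ ·) h
      simp only [Matrix.mulVec_mulVec, Units.mul_inv, Matrix.one_mulVec] at h'
      funext i
      simpa using congrFun h' (Sum.inl i)

/-- Odd order derangements. -/
theorem sp_odd_der (hd : 2 ≤ d) {Q : QuadraticForm F V} (hQ : HasSpPolar Q) {r : ℕ} [hr : Fact r.Prime]
    (hr2 : r ≠ 2) (hΩ : r ∣ (Cfsg.Geo.quadSimilarityGroup ⇑Q).relIndex (Cfsg.spGL d F)) :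
    ∃ x ∈ Cfsg.spGL d F, x ^ r = 1 ∧ x ≠ 1 ∧
      ∀ g ∈ Cfsg.spGL d F, g⁻¹ * x * g ∉ Cfsg.Geo.quadSimilarityGroup ⇑Q := by
  classical
  have hd0 : 0 < d := by omega
  have hodd : Odd r := hr.out.odd_of_ne_two hr2
  obtain ⟨hrp, hcase⟩ := sp_index_cases hd0 hQ hr2 hΩ
  set q := Fintype.card F with hq
  have hq1 : 1 < q := Fintype.one_lt_card
  have h2r : ¬ r ∣ 2 := fun h => hr2 ((Nat.prime_dvd_prime_iff_eq hr.out Nat.prime_two).1 h)
  have hqd1 : 1 ≤ q ^ d := Nat.one_le_pow _ _ (by omega)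
  have hsub : q - 1 ∣ q ^ d - 1 := by simpa using Nat.sub_dvd_pow_sub_pow q 1 d
  -- a vector on which `Q` is non-zero
  obtain ⟨w, hw⟩ : ∃ w, Q w ≠ 0 := by
    by_contra h
    push Not at h
    obtain ⟨v, hv⟩ := H48.exists_sf_ne (u := (Pi.single (Sum.inl ⟨0, hd0⟩) 1 : V)) (fun h' => by
      have := congrFun h' (Sum.inl ⟨0, hd0⟩)
      simp at this)
    have h1 := hQ.add (Pi.single (Sum.inl ⟨0, hd0⟩) 1) v
    rw [h, h, h, zero_add, zero_add] at h1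
    exact hv h1.symm
  by_cases hsplit : ¬ Cfsg.Geo.IsPlusTypeOn ⇑Q ⊤ ∧ r ∣ q - 1
  · exact sp_split_der hd0 hQ hsplit.1 hsplit.2
  -- a fixed point free element preserving a form of the other type
  obtain ⟨x, hxS, hxr, hfpf, hns⟩ : ∃ x ∈ Cfsg.spGL d F, x ^ r = 1 ∧
      (∀ v, (x : Matrix (Fin d ⊕ Fin d) (Fin d ⊕ Fin d) F) *ᵥ v = v → v = 0) ∧
      ¬ r ∣ Nat.card {v : V // Q v ≠ 0} := by
    rcases hcase with ⟨hP, hdvd⟩ | ⟨hP, hdvd⟩
    · obtain ⟨a, ha⟩ := sp_flip hd0 hQ hw False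
      rcases sp_type_cases (hQ.shift (a • H48.sf.flip w)) with ⟨φ, -, hP'⟩ | ⟨-, ζ, φ, hζ, hφ, -⟩
      · exact (ha.1 hP').elim
      obtain ⟨x, hx, hxr, hfix⟩ := exists_minus_torus hd0 hodd hdvd (H44.binForm_one_anisotropic hζ)
      refine ⟨pullGL φ x, isometry_mem_spGL (hQ.shift (a • H48.sf.flip w)) fun v => ?_, by rw [← map_pow, hxr, map_one], fun v hv => ?_, ?_⟩
      · rw [pullGL_mulVec, hφ, LinearEquiv.apply_symm_apply, mem_isometry_iff.mp (mem_isometry_of_omega hx), ← hφ]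
      · rw [pullGL_mulVec, LinearEquiv.symm_apply_eq] at hv
        exact φ.map_eq_zero_iff.1 (hfix _ hv)
      rcases sp_type_cases hQ with ⟨ψ, hψ, -⟩ | ⟨-, ζ', ψ, -, -, hP'⟩
      · rw [Nat.card_congr (ψ.toEquiv.subtypeEquiv (q := fun u => Cfsg.quadFormPlus d F u ≠ 0)
          (fun v => by rw [hψ]; rfl)), card_plus_nonsingular_vectors hd0, ← hq, hr.out.dvd_mul, hr.out.dvd_mul]
        have hcon : r ∣ q ^ d - 1 → False := fun h => h2r (by
          have h' := Nat.dvd_sub hdvd h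
          rwa [show q ^ d + 1 - (q ^ d - 1) = 2 by omega] at h')
        rintro (h | h | h)
        · exact hcon h
        · exact hrp (hr.out.dvd_of_dvd_pow h)
        · exact hcon (h.trans hsub)
      · exact absurd hP hP'
    · obtain ⟨a, ha⟩ := sp_flip hd0 hQ hw True
      rcases sp_type_cases (hQ.shift (a • H48.sf.flip w)) with ⟨φ, hφ, -⟩ | ⟨-, ζ, φ, -, -, hP'⟩
      swap
      · exact absurd (ha.2 trivial) hP'
      obtain ⟨x, hx, hxr, hfix⟩ := plus_omega_fpf hd0 hodd hdvd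
      refine ⟨pullGL φ x, isometry_mem_spGL (hQ.shift (a • H48.sf.flip w)) fun v => ?_, by rw [← map_pow, hxr, map_one], fun v hv => ?_, ?_⟩
      · rw [pullGL_mulVec, hφ, LinearEquiv.apply_symm_apply, mem_isometry_iff.mp (mem_isometry_of_omega hx), ← hφ]
      · rw [pullGL_mulVec, LinearEquiv.symm_apply_eq] at hv
        exact φ.map_eq_zero_iff.1 (hfix _ hv)
      rcases sp_type_cases hQ with ⟨ψ, -, hP'⟩ | ⟨-, ζ', ψ, hζ', hψ, -⟩
      · exact absurd hP' hP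
      · rw [Nat.card_congr (ψ.toEquiv.subtypeEquiv (q := fun u => Cfsg.quadFormMinus (d - 1) F 1 ζ' u ≠ 0)
          (fun v => by rw [hψ]; rfl)), card_minus_nonsingular_vectors hd (H44.binForm_one_anisotropic hζ'),
          ← hq, hr.out.dvd_mul, hr.out.dvd_mul]
        have hcon : r ∣ q ^ d + 1 → False := fun h => h2r (by
          have h' := Nat.dvd_sub h hdvd
          rwa [show q ^ d + 1 - (q ^ d - 1) = 2 by omega] at h')
        rintro (h | h | h)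
        · exact hsplit ⟨hP, h⟩
        · exact hrp (hr.out.dvd_of_dvd_pow h)
        · exact hcon h
  refine ⟨x, hxS, hxr, fun h => ?_, fun g hg hmem => hns ?_⟩
  · have h1 := hfpf w (by rw [h, Units.val_one, Matrix.one_mulVec])
    exact hw (by rw [h1, map_zero])
  set y : GL (Fin d ⊕ Fin d) F := g⁻¹ * x * g with hy
  have hiso : ∀ v, Q ((y : Matrix (Fin d ⊕ Fin d) (Fin d ⊕ Fin d) F) *ᵥ v) = Q v := sim_isometry hd0 hQ ((Cfsg.spGL d F).mul_mem ((Cfsg.spGL d F).mul_mem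
    ((Cfsg.spGL d F).inv_mem hg) hxS) hg) hmem
  have hyr : y ^ r = 1 := by
    rw [hy, show g⁻¹ * x * g = MulAut.conj g⁻¹ x by simp, ← map_pow, hxr, map_one]
  have hfix : ∀ v, (y : Matrix (Fin d ⊕ Fin d) (Fin d ⊕ Fin d) F) *ᵥ v = v → v = 0 := by
    intro v hv
    have h1 := hfpf ((g : Matrix (Fin d ⊕ Fin d) (Fin d ⊕ Fin d) F) *ᵥ v) (by
      rw [Matrix.mulVec_mulVec, ← Units.val_mul, show x * g = g * y by rw [hy]; group, Units.val_mul,
        ← Matrix.mulVec_mulVec, hv])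
    simpa [Matrix.mulVec_mulVec] using congrArg (((g⁻¹ : GL (Fin d ⊕ Fin d) F) : Matrix (Fin d ⊕ Fin d) (Fin d ⊕ Fin d) F) *ᵥ ·) h1
  let act : GL (Fin d ⊕ Fin d) F → V → V := fun h v => (h : Matrix (Fin d ⊕ Fin d) (Fin d ⊕ Fin d) F) *ᵥ v
  let σ : Equiv.Perm {v : V // Q v ≠ 0} :=
    { toFun := fun v => ⟨act y v.1, by rw [hiso]; exact v.2⟩
      invFun := fun v => ⟨act y⁻¹ v.1, by
        rw [← hiso]
        simp only [act, Matrix.mulVec_mulVec, Units.mul_inv, Matrix.one_mulVec]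
        exact v.2⟩
      left_inv := fun v => Subtype.ext (by simp [act, Matrix.mulVec_mulVec])
      right_inv := fun v => Subtype.ext (by simp [act, Matrix.mulVec_mulVec]) }
  have hσ : ∀ (j : ℕ) v, ((σ ^ j) v : V) = ((y ^ j : GL (Fin d ⊕ Fin d) F) : Matrix (Fin d ⊕ Fin d) (Fin d ⊕ Fin d) F) *ᵥ v.1 := by
    intro j
    induction j with
    | zero => simp
    | succ j ih =>
      intro v
      rw [pow_succ', Equiv.Perm.mul_apply, pow_succ', Units.val_mul, ← Matrix.mulVec_mulVec, ← ih]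
      rfl
  refine dvd_card_of_fpf σ ?_ ?_
  · refine Equiv.ext fun v => Subtype.ext ?_
    rw [hσ, hyr, Units.val_one, Matrix.one_mulVec]
    rfl
  · intro v hv
    exact v.2 (by rw [hfix v.1 (congrArg Subtype.val hv)]; exact map_zero Q)

end H47
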