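import Mathlib
import Cfsg.Agent.H47.Basic
import Cfsg.Agent.H42.PGLPrimeOrder
import Cfsg.Agent.H40.SemisimpleClasses
import Cfsg.Agent.H51.Herm

/-!
# Characteristic polynomials of elements of order two, three and five in four dimensions
-/

set_option autoImplicit false
open scoped MatrixGroups Matrix
open Matrix Polynomial

namespace H47

section Diag

variable {E : Type*} [Field E] {n : ℕ}

lemma charpoly_conj_diag (P : GL (Fin n) E) (d : Fin n → E) :
    ((P : Matrix (Fin n) (Fin n) E) * Matrix.diagonal d * ((P⁻¹ : GL (Fin n) E) : Matrix (Fin n) (Fin n) E)).charpoly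
      = ∏ i, (X - C (d i)) := by
  rw [Matrix.charpoly_mul_comm, ← Matrix.mul_assoc, Units.inv_mul, Matrix.one_mul, Matrix.charpoly_diagonal]

lemma multiset_eq_of_prod {d d' : Fin n → E} (h : ∏ i, (X - C (d i)) = ∏ i, (X - C (d' i))) :
    (Finset.univ : Finset (Fin n)).val.map d = Finset.univ.val.map d' := by
  have h2 : ∀ φ : Fin n → E, (∏ i, (X - C (φ i))).roots = Finset.univ.val.map φ := by
    intro φ
    rw [Finset.prod_eq_multiset_prod]
    have := Polynomial.roots_multiset_prod_X_sub_C (Finset.univ.val.map φ)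
    rwa [Multiset.map_map] at this
  rw [← h2, ← h2, h]

lemma prod_eq_of_multiset {d d' : Fin n → E}
    (h : (Finset.univ : Finset (Fin n)).val.map d = Finset.univ.val.map d') :
    ∏ i, (X - C (d i)) = ∏ i, (X - C (d' i)) := by
  have := congrArg (fun s : Multiset E => (s.map fun a => X - C a).prod) h
  simp only [Multiset.map_map] at this
  exact this

/-- Roots of unity of odd prime order distributed invariantly under an exponent. -/
lemma root_counts {r : ℕ} [hr : Fact r.Prime] [DecidableEq E] {ζ : rootsOfUnity r E} (hζ : ∀ a, a ∈ Subgroup.zpowers ζ)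
    {e : ℕ} {f : Fin 4 → rootsOfUnity r E}
    (hf : (Finset.univ : Finset (Fin 4)).val.map (fun i => f i ^ e) = Finset.univ.val.map f) (hre : Nat.Coprime r e)
    (j : ℕ) :
    ((Finset.univ : Finset (Fin 4)).val.map f).count (ζ ^ (e ^ j)) = ((Finset.univ : Finset (Fin 4)).val.map f).count ζ := by
  induction j with
  | zero => simp
  | succ j ih =>
    rw [← ih]
    have hinj : Function.Injective fun a : rootsOfUnity r E => a ^ e := by
      intro a b h
      have hr1 : ∀ x : rootsOfUnity r E, x ^ r = 1 := fun x => Subtype.ext ((mem_rootsOfUnity r _).mp x.2)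
      have h1 : (a * b⁻¹) ^ e = 1 := by rw [mul_pow, inv_pow]; simp only at h; rw [h, mul_inv_cancel]
      have h2 : (a * b⁻¹) ^ r = 1 := hr1 _
      have : orderOf (a * b⁻¹) = 1 :=
        Nat.eq_one_of_dvd_coprimes hre (orderOf_dvd_of_pow_eq_one h2) (orderOf_dvd_of_pow_eq_one h1)
      exact mul_inv_eq_one.mp (orderOf_eq_one_iff.mp this)
    conv_lhs => rw [← hf, pow_succ, pow_mul]
    rw [show (Finset.univ : Finset (Fin 4)).val.map (fun i => f i ^ e)
      = ((Finset.univ : Finset (Fin 4)).val.map f).map (fun a => a ^ e) by rw [Multiset.map_map]; rfl]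
    exact Multiset.count_map_eq_count' _ _ hinj _

end Diag

variable {F : Type*} [Field F] [Fintype F]

section Ext

variable {E : Type*} [Field E] [Fintype E] [Algebra F E] {n r : ℕ}

/-- Diagonalisation over an extension. -/
lemma exists_diag_ext (hr : r.Prime) (hrE : r ∣ Fintype.card E - 1) {x : GL (Fin n) F} (hx : x ^ r = 1) :
    ∃ (P : GL (Fin n) E) (f : Fin n → rootsOfUnity r E),
      (x : Matrix (Fin n) (Fin n) F).map (algebraMap F E) = (P : Matrix (Fin n) (Fin n) E)
        * Matrix.diagonal (fun i => ((f i : Eˣ) : E)) * ((P⁻¹ : GL (Fin n) E) : Matrix (Fin n) (Fin n) E) := by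
  obtain ⟨P, f, h⟩ := H42.exists_diagonalize hr hrE (Matrix.GeneralLinearGroup.map (algebraMap F E) x)
    (by rw [← map_pow, hx, map_one])
  refine ⟨P, f, ?_⟩
  have := congrArg Units.val h
  rw [Units.val_mul, Units.val_mul, H42.coe_diagGL] at this
  exact this

omit [Fintype F] in
lemma charpoly_ext {x : Matrix (Fin n) (Fin n) F} {P : GL (Fin n) E} {d : Fin n → E}
    (h : x.map (algebraMap F E) = (P : Matrix (Fin n) (Fin n) E) * Matrix.diagonal d
      * ((P⁻¹ : GL (Fin n) E) : Matrix (Fin n) (Fin n) E)) :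
    x.charpoly.map (algebraMap F E) = ∏ i, (X - C (d i)) := by
  rw [← Matrix.charpoly_map, h, charpoly_conj_diag]

omit [Fintype F] in
lemma trace_ext {x : Matrix (Fin n) (Fin n) F} {P : GL (Fin n) E} {d : Fin n → E}
    (h : x.map (algebraMap F E) = (P : Matrix (Fin n) (Fin n) E) * Matrix.diagonal d
      * ((P⁻¹ : GL (Fin n) E) : Matrix (Fin n) (Fin n) E)) :
    algebraMap F E x.trace = ∑ i, d i := by
  show (algebraMap F E).toAddMonoidHom x.trace = _
  rw [AddMonoidHom.map_trace (algebraMap F E).toAddMonoidHom]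
  show (x.map (algebraMap F E)).trace = _
  rw [h, Matrix.trace_mul_comm, ← Matrix.mul_assoc, Units.inv_mul, Matrix.one_mul, Matrix.trace_diagonal]

variable {p : ℕ} [hp : Fact p.Prime] [CharP F p]

/-- Over a prime field the eigenvalues are invariant under the `p`-th power. -/
lemma roots_frob (hF : Fintype.card F = p) {x : Matrix (Fin n) (Fin n) F} {P : GL (Fin n) E}
    {f : Fin n → rootsOfUnity r E}
    (h : x.map (algebraMap F E) = (P : Matrix (Fin n) (Fin n) E) * Matrix.diagonal (fun i => ((f i : Eˣ) : E))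
      * ((P⁻¹ : GL (Fin n) E) : Matrix (Fin n) (Fin n) E)) :
    (Finset.univ : Finset (Fin n)).val.map (fun i => f i ^ p) = Finset.univ.val.map f := by
  haveI : CharP E p := charP_of_injective_algebraMap (algebraMap F E).injective p
  have hfix : (x.map (algebraMap F E)).map (frobenius E p) = x.map (algebraMap F E) := by
    ext i j
    simp only [Matrix.map_apply, frobenius_def, ← map_pow]
    rw [← hF, FiniteField.pow_card]
  have h1 := congrArg Matrix.charpoly hfix
  rw [Matrix.charpoly_map, Matrix.charpoly_map (M := x), charpoly_ext h, Polynomial.map_prod] at h1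
  simp only [Polynomial.map_sub, Polynomial.map_X, Polynomial.map_C, frobenius_def] at h1
  refine Multiset.map_injective (Units.val_injective.comp Subtype.val_injective) ?_
  rw [Multiset.map_map, Multiset.map_map]
  have := multiset_eq_of_prod h1
  convert this using 1 <;> first | rfl | (congr 1; done) | (congr 1; funext i; simp)

/-- For unitary matrices over the field with `p²` elements. -/
lemma roots_frob_herm (hF : Fintype.card F = p ^ 2) (hr : 0 < r) {x : GL (Fin n) F}
    (hxU : H51.adj hF (x : Matrix (Fin n) (Fin n) F) * x = 1) (hxr : x ^ r = 1) {P : GL (Fin n) E}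
    {f : Fin n → rootsOfUnity r E}
    (h : (x : Matrix (Fin n) (Fin n) F).map (algebraMap F E) = (P : Matrix (Fin n) (Fin n) E)
      * Matrix.diagonal (fun i => ((f i : Eˣ) : E)) * ((P⁻¹ : GL (Fin n) E) : Matrix (Fin n) (Fin n) E)) :
    (Finset.univ : Finset (Fin n)).val.map (fun i => f i ^ (p * (r - 1))) = Finset.univ.val.map f := by
  haveI : CharP E p := charP_of_injective_algebraMap (algebraMap F E).injective p
  set M := (x : Matrix (Fin n) (Fin n) F) with hM
  have hadj : H51.adj hF M = M ^ (r - 1) := by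
    have h' : M ^ (r - 1) * M = 1 := by
      rw [← pow_succ, Nat.sub_add_cancel hr, hM, ← Units.val_pow_eq_pow_val, hxr, Units.val_one]
    calc H51.adj hF M = H51.adj hF M * (M * M ^ (r - 1)) := by rw [mul_eq_one_comm.mp h', Matrix.mul_one]
      _ = _ := by rw [← Matrix.mul_assoc, hxU, Matrix.one_mul]
  have hl : ((M.map (algebraMap F E)).map (frobenius E p))ᵀ = (H51.adj hF M).map (algebraMap F E) := by
    ext i j
    simp [frobenius_def]
  have h1 := congrArg Matrix.charpoly hl
  rw [Matrix.charpoly_transpose, Matrix.charpoly_map, Matrix.charpoly_map (M := M), charpoly_ext h, hadj,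
    Matrix.map_pow, h] at h1
  have hpow : ((P : Matrix (Fin n) (Fin n) E) * Matrix.diagonal (fun i => ((f i : Eˣ) : E))
      * ((P⁻¹ : GL (Fin n) E) : Matrix (Fin n) (Fin n) E)) ^ (r - 1)
      = (P : Matrix (Fin n) (Fin n) E) * Matrix.diagonal (fun i => ((f i : Eˣ) : E) ^ (r - 1))
        * ((P⁻¹ : GL (Fin n) E) : Matrix (Fin n) (Fin n) E) := by
    rw [Units.conj_pow, Matrix.diagonal_pow]; rfl
  rw [hpow, charpoly_conj_diag, Polynomial.map_prod] at h1
  simp only [Polynomial.map_sub, Polynomial.map_X, Polynomial.map_C, frobenius_def] at h1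
  have h2 := congrArg (fun s : Multiset E => s.map fun a => a ^ (r - 1)) (multiset_eq_of_prod h1)
  simp only [Multiset.map_map] at h2
  refine Multiset.map_injective (Units.val_injective.comp Subtype.val_injective) ?_
  rw [Multiset.map_map, Multiset.map_map]
  convert h2 using 1
  · congr 1
    funext i
    simp [pow_mul]
  · congr 1
    funext i
    simp only [Function.comp_apply]
    rw [← pow_mul]
    have e1 : ((f i : Eˣ) : E) ^ r = 1 := by
      have := congrArg Units.val ((mem_rootsOfUnity r _).mp (f i).2); simpa using this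
    obtain ⟨k, hk⟩ : ∃ k, (r - 1) * (r - 1) = r * k + 1 ∨ r = 1 := by
      rcases Nat.lt_or_ge r 2 with h | h
      · exact ⟨0, Or.inr (by omega)⟩
      · refine ⟨r - 2, Or.inl ?_⟩
        obtain ⟨m, rfl⟩ : ∃ m, r = m + 2 := ⟨r - 2, by omega⟩
        simp only [Nat.add_sub_cancel, show m + 2 - 1 = m + 1 by omega]; ring
    rcases hk with hk | hk
    · rw [hk, pow_add, pow_mul, e1, one_pow, one_mul, pow_one]
    · subst hk
      rw [pow_one] at e1
      simp [e1]

end Ext

/-- The eigenvalue distribution is invariant under a generator of the automorphisms. -/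
def GoodExp (E : Type) [Field E] [Algebra F E] (r e : ℕ) (x : GL (Fin 4) F) : Prop :=
  ∀ (P : GL (Fin 4) E) (f : Fin 4 → rootsOfUnity r E),
    (x : Matrix (Fin 4) (Fin 4) F).map (algebraMap F E) = (P : Matrix (Fin 4) (Fin 4) E)
        * Matrix.diagonal (fun i => ((f i : Eˣ) : E)) * ((P⁻¹ : GL (Fin 4) E) : Matrix (Fin 4) (Fin 4) E) →
    (Finset.univ : Finset (Fin 4)).val.map (fun i => f i ^ e) = Finset.univ.val.map f

section Classes

variable {E : Type} [Field E] [Fintype E] [Algebra F E] {r e : ℕ} [hr : Fact r.Prime]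

/-- The structure of an element whose exponent permutes the nontrivial roots transitively. -/
lemma exists_count (hE : r ∣ Fintype.card E - 1) (hgen : ∀ t, 0 < t → t < r → ∃ j, e ^ j % r = t) (hre : Nat.Coprime r e)
    {x : GL (Fin 4) F} (hx : x ^ r = 1) (hg : GoodExp E r e x) :
    ∃ m0 m : ℕ, m0 + (r - 1) * m = 4 ∧ algebraMap F E (x : Matrix (Fin 4) (Fin 4) F).trace = (m0 : E) - (m : E) ∧
      (m = 0 → x = 1) ∧
      ∀ (y : GL (Fin 4) F), y ^ r = 1 → GoodExp E r e y →
        (∀ n0 n : ℕ, n0 + (r - 1) * n = 4 → algebraMap F E (y : Matrix (Fin 4) (Fin 4) F).trace = (n0 : E) - (n : E) →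
          (n = 0 → y = 1) → n = m) →
        (y : Matrix (Fin 4) (Fin 4) F).charpoly = (x : Matrix (Fin 4) (Fin 4) F).charpoly := by
  classical
  have hr' : r.Prime := hr.out
  haveI : NeZero r := ⟨hr'.ne_zero⟩
  haveI : Fintype (rootsOfUnity r E) := Fintype.ofFinite _
  have hcard : Fintype.card (rootsOfUnity r E) = r := by
    rw [← Nat.card_eq_fintype_card, show rootsOfUnity r E = (powMonoidHom r : Eˣ →* Eˣ).ker by
      ext a; simp [mem_rootsOfUnity], IsCyclic.card_powMonoidHom_ker, Nat.card_units, Nat.card_eq_fintype_card]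
    exact Nat.gcd_eq_right hE
  haveI : Nontrivial (rootsOfUnity r E) := Fintype.one_lt_card_iff_nontrivial.mp (by rw [hcard]; exact hr'.one_lt)
  obtain ⟨ζ, hζne⟩ := exists_ne (1 : rootsOfUnity r E)
  have hpowr : ∀ a : rootsOfUnity r E, a ^ r = 1 := fun a => Subtype.ext ((mem_rootsOfUnity r _).mp a.2)
  have hζr : orderOf ζ = r := orderOf_eq_prime (hpowr ζ) hζne
  have hζgen : ∀ a, a ∈ Subgroup.zpowers ζ := fun a => by
    have : Subgroup.zpowers ζ = ⊤ := Subgroup.eq_top_of_card_eq _ (by
      rw [Nat.card_zpowers, hζr, Nat.card_eq_fintype_card, hcard])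
    rw [this]; exact Subgroup.mem_top a
  have hnt : ∀ a : rootsOfUnity r E, a ≠ 1 → ∃ j, a = ζ ^ (e ^ j) := by
    intro a ha
    obtain ⟨k, hk⟩ := Subgroup.mem_zpowers_iff.mp (hζgen a)
    set t := (k % (r : ℤ)).toNat with ht
    have htk : ζ ^ t = a := by
      rw [← hk, ← zpow_mod_orderOf ζ k, hζr, ← zpow_natCast, ht,
        Int.toNat_of_nonneg (Int.emod_nonneg _ (by exact_mod_cast hr'.ne_zero))]
    have htlt : t < r := by
      rw [ht]; have := Int.emod_lt_of_pos k (show (0 : ℤ) < r by exact_mod_cast hr'.pos); have := hr'.pos; omega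
    have ht0 : 0 < t := Nat.pos_of_ne_zero fun h0 => ha (by rw [← htk, h0, pow_zero])
    obtain ⟨j, hj⟩ := hgen t ht0 htlt
    exact ⟨j, by rw [← htk, ← hj]; exact (pow_eq_pow_mod (e ^ j) (hpowr ζ)).symm⟩
  -- the invariants
  have hdata : ∀ z : GL (Fin 4) F, z ^ r = 1 → GoodExp E r e z →
      ∃ (P : GL (Fin 4) E) (f : Fin 4 → rootsOfUnity r E) (m0 m : ℕ),
        (z : Matrix (Fin 4) (Fin 4) F).map (algebraMap F E) = (P : Matrix (Fin 4) (Fin 4) E)
          * Matrix.diagonal (fun i => ((f i : Eˣ) : E)) * ((P⁻¹ : GL (Fin 4) E) : Matrix (Fin 4) (Fin 4) E) ∧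
        ((Finset.univ : Finset (Fin 4)).val.map f).count 1 = m0 ∧
        (∀ a, a ≠ 1 → ((Finset.univ : Finset (Fin 4)).val.map f).count a = m) ∧
        m0 + (r - 1) * m = 4 ∧ algebraMap F E (z : Matrix (Fin 4) (Fin 4) F).trace = (m0 : E) - (m : E) ∧
        (m = 0 → z = 1) := by
    intro z hz hgz
    obtain ⟨P, f, hP⟩ := exists_diag_ext hr' hE hz
    set s := (Finset.univ : Finset (Fin 4)).val.map f with hs
    have hm : ∀ a, a ≠ 1 → s.count a = s.count ζ := fun a ha => by
      obtain ⟨j, rfl⟩ := hnt a ha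
      exact root_counts hζgen (hgz P f hP) hre j
    refine ⟨P, f, s.count 1, s.count ζ, hP, rfl, hm, ?_, ?_, ?_⟩
    · have h := Multiset.sum_count_eq_card (s := Finset.univ) (m := s) (fun a _ => Finset.mem_univ a)
      rw [Fintype.sum_eq_add_sum_compl (1 : rootsOfUnity r E)] at h
      rw [Finset.sum_congr rfl (fun a ha => hm a (by simpa using ha)), Finset.sum_const, smul_eq_mul,
        Finset.card_compl, hcard, Finset.card_singleton] at h
      rw [h, hs, Multiset.card_map]; rfl
    · rw [trace_ext hP]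
      have hsum : ∑ i, ((f i : Eˣ) : E) = ∑ a : rootsOfUnity r E, (s.count a : E) * ((a : Eˣ) : E) := by
        have h := Finset.sum_multiset_map_count s (fun a : rootsOfUnity r E => ((a : Eˣ) : E))
        rw [hs, Multiset.map_map] at h
        refine (h.trans ?_)
        rw [Finset.sum_subset (Finset.subset_univ _) (fun a _ ha => by
          rw [Multiset.count_eq_zero_of_notMem (fun hh => ha (Multiset.mem_toFinset.mpr hh)), zero_smul])]
        refine Finset.sum_congr rfl fun a _ => ?_
        rw [nsmul_eq_mul, hs]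
      rw [hsum, Fintype.sum_eq_add_sum_compl (1 : rootsOfUnity r E),
        Finset.sum_congr rfl (fun a ha => by rw [hm a (by simpa using ha)]), ← Finset.mul_sum]
      have hsum0 : ∑ a : rootsOfUnity r E, ((a : Eˣ) : E) = 0 := by
        have hne : ((ζ : Eˣ) : E) ≠ 1 := fun h => hζne (Subtype.ext (Units.ext h))
        have hsh : ∑ a : rootsOfUnity r E, ((ζ : Eˣ) : E) * ((a : Eˣ) : E) = ∑ a : rootsOfUnity r E, ((a : Eˣ) : E) :=
          Fintype.sum_equiv (Equiv.mulLeft ζ) _ _ (fun a => by simp)
        rw [← Finset.mul_sum] at hsh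
        exact (mul_eq_zero.mp (show (((ζ : Eˣ) : E) - 1) * ∑ a : rootsOfUnity r E, ((a : Eˣ) : E) = 0 by
          linear_combination hsh)).resolve_left (sub_ne_zero.mpr hne)
      rw [Fintype.sum_eq_add_sum_compl (1 : rootsOfUnity r E)] at hsum0
      simp only [OneMemClass.coe_one, Units.val_one, mul_one] at hsum0 ⊢
      linear_combination ((s.count ζ : E)) * hsum0
    · intro h0
      have hf1 : ∀ i, f i = 1 := fun i => by
        by_contra hi
        have := hm (f i) hi
        rw [h0, Multiset.count_eq_zero] at this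
        exact this (Multiset.mem_map.mpr ⟨i, Finset.mem_univ_val i, rfl⟩)
      have hz1 : (z : Matrix (Fin 4) (Fin 4) F).map (algebraMap F E) = 1 := by
        rw [hP]; simp [hf1]
      refine Units.ext (Matrix.map_injective (algebraMap F E).injective ?_)
      show (z : Matrix (Fin 4) (Fin 4) F).map (algebraMap F E) = ((1 : GL (Fin 4) F) : Matrix (Fin 4) (Fin 4) F).map (algebraMap F E)
      rw [hz1, Units.val_one, Matrix.map_one _ (map_zero _) (map_one _)]
  obtain ⟨P, f, m0, m, hP, h0, hm, hsum, htr, h1⟩ := hdata x hx hg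
  refine ⟨m0, m, hsum, htr, h1, fun y hy hgy hy' => ?_⟩
  obtain ⟨Q, g, n0, n, hQ, g0, gm, gsum, gtr, g1⟩ := hdata y hy hgy
  obtain rfl := hy' n0 n gsum gtr g1
  have heq : (Finset.univ : Finset (Fin 4)).val.map g = Finset.univ.val.map f := by
    ext a
    by_cases ha : a = 1
    · subst ha; rw [g0, h0]; omega
    · rw [gm a ha, hm a ha]
  refine Polynomial.map_injective _ (algebraMap F E).injective ?_
  rw [charpoly_ext hQ, charpoly_ext hP]
  refine prod_eq_of_multiset ?_
  have := congrArg (fun s : Multiset (rootsOfUnity r E) => s.map fun a => ((a : Eˣ) : E)) heq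
  simpa [Multiset.map_map, Function.comp_def] using this

end Classes

/-- Elements of order three: the class is determined by the trace. -/
theorem charpoly_three (h2 : (2 : F) ≠ 0) (h3 : (3 : F) ≠ 0) {e : ℕ} (he : e % 3 = 2) {E : Type} [Field E]
    [Fintype E] [Algebra F E] (hE : 3 ∣ Fintype.card E - 1) {x y : GL (Fin 4) F} (hx : x ^ 3 = 1) (hy : y ^ 3 = 1)
    (hgx : GoodExp E 3 e x) (hgy : GoodExp E 3 e y) :
    (algebraMap F E (x : Matrix (Fin 4) (Fin 4) F).trace = 4 ∧ x = 1 ∨
      (x : Matrix (Fin 4) (Fin 4) F).trace = 1 ∨ (x : Matrix (Fin 4) (Fin 4) F).trace = -2) ∧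
    ((x : Matrix (Fin 4) (Fin 4) F).trace = (y : Matrix (Fin 4) (Fin 4) F).trace →
      (y : Matrix (Fin 4) (Fin 4) F).charpoly = (x : Matrix (Fin 4) (Fin 4) F).charpoly) := by
  haveI : Fact (Nat.Prime 3) := ⟨Nat.prime_three⟩
  have hre : Nat.Coprime 3 e := (Nat.Prime.coprime_iff_not_dvd Nat.prime_three).mpr (by omega)
  have hgen : ∀ t, 0 < t → t < 3 → ∃ j, e ^ j % 3 = t := by
    intro t h0 h3'
    interval_cases t
    · exact ⟨0, by simp⟩
    · exact ⟨1, by simpa using he⟩
  obtain ⟨m0, m, hsum, htr, h1, huniq⟩ := exists_count hE hgen hre hx hgx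
  have hinj := (algebraMap F E).injective
  refine ⟨?_, fun htr' => huniq y hy hgy fun n0 n gsum gtr _ => ?_⟩
  · have hm : m ≤ 2 := by omega
    interval_cases m
    · left; refine ⟨?_, h1 rfl⟩; rw [htr, show m0 = 4 by omega]; norm_num
    · right; left; apply hinj; rw [htr, show m0 = 2 by omega, map_one]; norm_num
    · right; right; apply hinj; rw [htr, show m0 = 0 by omega, map_neg, map_ofNat]; norm_num
  · rw [← htr', htr] at gtr
    have h2' : (2 : E) ≠ 0 := by rw [← map_ofNat (algebraMap F E)]; exact (_root_.map_ne_zero _).mpr h2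
    have h3' : (3 : E) ≠ 0 := by rw [← map_ofNat (algebraMap F E)]; exact (_root_.map_ne_zero _).mpr h3
    have hm : m ≤ 2 := by omega
    have hn : n ≤ 2 := by omega
    obtain rfl : m0 = 4 - 2 * m := by omega
    obtain rfl : n0 = 4 - 2 * n := by omega
    interval_cases m <;> interval_cases n <;> first | rfl | (exfalso; norm_num at gtr; first
      | exact h3' (by linear_combination gtr) | exact h3' (by linear_combination -gtr)
      | exact mul_ne_zero h2' h3' (by linear_combination gtr) | exact mul_ne_zero h2' h3' (by linear_combination -gtr))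

/-- Nontrivial elements of order five form one class. -/
theorem charpoly_five {e : ℕ} (he : e % 5 = 2 ∨ e % 5 = 3) {E : Type} [Field E]
    [Fintype E] [Algebra F E] (hE : 5 ∣ Fintype.card E - 1) {x y : GL (Fin 4) F} (hx : x ^ 5 = 1) (hy : y ^ 5 = 1)
    (hgx : GoodExp E 5 e x) (hgy : GoodExp E 5 e y) (hx1 : x ≠ 1) (hy1 : y ≠ 1) :
    (y : Matrix (Fin 4) (Fin 4) F).charpoly = (x : Matrix (Fin 4) (Fin 4) F).charpoly := by
  haveI : Fact (Nat.Prime 5) := ⟨by norm_num⟩
  have hre : Nat.Coprime 5 e := (Nat.Prime.coprime_iff_not_dvd (by norm_num)).mpr (by omega)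
  have hgen : ∀ t, 0 < t → t < 5 → ∃ j, e ^ j % 5 = t := by
    intro t h0 h5
    rcases he with he | he <;> interval_cases t
    · exact ⟨0, by norm_num⟩
    · exact ⟨1, by rw [pow_one, he]⟩
    · exact ⟨3, by rw [Nat.pow_mod, he]⟩
    · exact ⟨2, by rw [Nat.pow_mod, he]⟩
    · exact ⟨0, by norm_num⟩
    · exact ⟨3, by rw [Nat.pow_mod, he]⟩
    · exact ⟨1, by rw [pow_one, he]⟩
    · exact ⟨2, by rw [Nat.pow_mod, he]⟩
  obtain ⟨m0, m, hsum, -, h1, huniq⟩ := exists_count hE hgen hre hx hgx
  have hm : m = 1 := by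
    have : m ≠ 0 := fun h => hx1 (h1 h)
    omega
  refine huniq y hy hgy fun n0 n gsum _ g1 => ?_
  have : n ≠ 0 := fun h => hy1 (g1 h)
  omega

/-- Invariants of a matrix squaring to a scalar. -/
theorem square_data (h2 : (2 : F) ≠ 0) {x : GL (Fin 4) F} {c : F} (hc : c ≠ 0)
    (hx : (x : Matrix (Fin 4) (Fin 4) F) * x = c • 1) :
    ∃ k : ℕ, k ≤ 4 ∧ (x : Matrix (Fin 4) (Fin 4) F).det = (-1) ^ k * (c * c) ∧
      (x : Matrix (Fin 4) (Fin 4) F).trace ^ 2 = (4 - 2 * (k : F)) ^ 2 * c ∧
      (k = 2 → (x : Matrix (Fin 4) (Fin 4) F).trace = 0) ∧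
      (k = 0 ∨ k = 4 → ∃ a : F, (x : Matrix (Fin 4) (Fin 4) F) = a • 1) := by
  classical
  obtain ⟨E, _, _, _, hfr, hcard⟩ := exists_extension (F := F) 2 (by norm_num)
  haveI : Fintype E := Fintype.ofFinite E
  rw [Nat.card_eq_fintype_card] at hcard
  have h2E : (2 : E) ≠ 0 := by rw [← map_ofNat (algebraMap F E)]; exact (_root_.map_ne_zero _).mpr h2
  have hodd : Fintype.card F % 2 = 1 := FiniteField.odd_card_of_char_ne_two (fun h => h2 (by
    exact_mod_cast (h ▸ ringChar.Nat.cast_ringChar : ((2 : ℕ) : F) = 0)))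
  have hcharE : ringChar E ≠ 2 := fun h => h2E (by
    exact_mod_cast (h ▸ ringChar.Nat.cast_ringChar : ((2 : ℕ) : E) = 0))
  obtain ⟨l, hl⟩ : IsSquare (algebraMap F E c) := by
    rw [FiniteField.isSquare_iff hcharE ((_root_.map_ne_zero _).mpr hc), ← map_pow, hcard]
    obtain ⟨k, hk⟩ : ∃ k, Fintype.card F = 2 * k + 1 := ⟨Fintype.card F / 2, by omega⟩
    have hcf : c ^ (2 * k) = 1 := by
      have h := FiniteField.pow_card_sub_one_eq_one c hc
      rwa [hk, Nat.add_sub_cancel] at h
    have he : Fintype.card F ^ 2 / 2 = (2 * k) * (k + 1) := by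
      rw [hk, show (2 * k + 1) ^ 2 = 2 * ((2 * k) * (k + 1)) + 1 by ring]; omega
    rw [he, pow_mul, hcf, one_pow, map_one]
  have hl0 : l ≠ 0 := fun h => hc (by rw [h, mul_zero] at hl; exact (map_eq_zero _).mp hl)
  have hdg : ∀ z : GL (Fin 4) F, (z : Matrix (Fin 4) (Fin 4) F) * z = c • 1 →
      ∃ (P : GL (Fin 4) E) (f : Fin 4 → E), (∀ i, f i = l ∨ f i = -l) ∧
        (z : Matrix (Fin 4) (Fin 4) F).map (algebraMap F E) = (P : Matrix (Fin 4) (Fin 4) E)
          * Matrix.diagonal f * ((P⁻¹ : GL (Fin 4) E) : Matrix (Fin 4) (Fin 4) E) := by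
    intro z hz
    let K : GL (Fin 4) E := H42.diagGL fun _ => Units.mk0 l hl0
    let Z : GL (Fin 4) E := Matrix.GeneralLinearGroup.map (algebraMap F E) z
    have hZ : (Z : Matrix (Fin 4) (Fin 4) E) = (z : Matrix (Fin 4) (Fin 4) F).map (algebraMap F E) := rfl
    have hKv : (K : Matrix (Fin 4) (Fin 4) E) = l • 1 := by
      rw [H42.coe_diagGL, Matrix.smul_one_eq_diagonal]; rfl
    have hK : ∀ A : GL (Fin 4) E, K * A = A * K := fun A => Units.ext (by
      rw [Units.val_mul, Units.val_mul, hKv, Matrix.smul_mul, Matrix.one_mul, Matrix.mul_smul, Matrix.mul_one])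
    have hZZ : Z * Z = K * K := Units.ext (by
      rw [Units.val_mul, Units.val_mul, hKv, hZ, ← Matrix.map_mul, hz, Matrix.smul_mul, Matrix.one_mul, smul_smul, ← hl]
      ext i j
      by_cases h : i = j <;> simp [h])
    have hKi : Commute K⁻¹ Z := (show Commute K Z from hK Z).inv_left
    obtain ⟨P, f, hPf⟩ := H42.exists_diagonalize Nat.prime_two
      (by have := FiniteField.odd_card_of_char_ne_two hcharE; omega) (K⁻¹ * Z)
      (by rw [hKi.mul_pow, pow_two Z, hZZ, ← pow_two, inv_pow, inv_mul_cancel])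
    refine ⟨P, fun i => l * ((f i : Eˣ) : E), fun i => ?_, ?_⟩
    · have h := congrArg Units.val ((mem_rootsOfUnity 2 _).mp (f i).2)
      rw [Units.val_pow_eq_pow_val, Units.val_one, sq_eq_one_iff] at h
      rcases h with h | h <;> simp [h]
    · have hZe : Z = K * (P * (H42.diagGL fun i => (f i : Eˣ)) * P⁻¹) := by rw [← hPf, mul_inv_cancel_left]
      rw [← hZ, hZe, Units.val_mul, Units.val_mul, Units.val_mul, hKv, H42.coe_diagGL, Matrix.smul_mul, Matrix.one_mul,
        show Matrix.diagonal (fun i => l * ((f i : Eˣ) : E)) = l • Matrix.diagonal (fun i => ((f i : Eˣ) : E)) by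
          rw [← Matrix.diagonal_smul]; rfl, Matrix.mul_smul, Matrix.smul_mul]
  -- count the entries equal to `-l`
  have key : ∀ f : Fin 4 → E, (∀ i, f i = l ∨ f i = -l) →
      ∃ k ≤ 4, (Finset.univ : Finset (Fin 4)).val.map f = Multiset.replicate k (-l) + Multiset.replicate (4 - k) l ∧
        ∑ i, f i = (4 - 2 * (k : E)) * l ∧ ∏ i, f i = (-1) ^ k * l ^ 4 := by
    intro f hf
    set s := (Finset.univ : Finset (Fin 4)).val.map f with hs
    have hne : l ≠ -l := fun h => hl0 ((mul_eq_zero.mp (show (2 : E) * l = 0 by linear_combination h)).resolve_left h2E)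
    have hmem : ∀ a ∈ s, a = l ∨ a = -l := fun a ha => by
      obtain ⟨i, -, rfl⟩ := Multiset.mem_map.mp ha; exact hf i
    have h4 : Multiset.card s = 4 := by rw [hs, Multiset.card_map]; rfl
    have hsplit : s = Multiset.replicate (s.count (-l)) (-l) + Multiset.replicate (s.count l) l := by
      ext a
      rw [Multiset.count_add, Multiset.count_replicate, Multiset.count_replicate]
      by_cases h1 : a = -l
      · subst h1; simp [hne]
      by_cases h2 : a = l
      · subst h2; simp [hne.symm]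
      · rw [Multiset.count_eq_zero_of_notMem (fun h => (hmem a h).elim h2 h1)]
        simp [Ne.symm h1, Ne.symm h2]
    have hc4 : s.count (-l) + s.count l = 4 := by
      have := congrArg Multiset.card hsplit
      rw [h4, Multiset.card_add, Multiset.card_replicate, Multiset.card_replicate] at this
      omega
    refine ⟨s.count (-l), by omega, by rw [show 4 - s.count (-l) = s.count l by omega]; exact hsplit, ?_, ?_⟩
    · show (s.sum : E) = _
      rw [hsplit, Multiset.sum_add, Multiset.sum_replicate, Multiset.sum_replicate, nsmul_eq_mul, nsmul_eq_mul]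
      rw [← hsplit]
      have : (s.count l : E) = 4 - (s.count (-l) : E) := by
        rw [eq_sub_iff_add_eq, ← Nat.cast_add, add_comm, hc4]; norm_num
      rw [this]; ring
    · show (s.prod : E) = _
      rw [hsplit, Multiset.prod_add, Multiset.prod_replicate, Multiset.prod_replicate, ← hsplit]
      conv_rhs => rw [← hc4, pow_add, ← mul_assoc]
      rw [neg_pow]
  obtain ⟨P, f, hf, hP⟩ := hdg x hx
  obtain ⟨k, hk, hks, hkT, hkD⟩ := key f hf
  have hinj := (algebraMap F E).injective
  have hdet : algebraMap F E (x : Matrix (Fin 4) (Fin 4) F).det = ∏ i, f i := by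
    rw [RingHom.map_det]
    show ((x : Matrix (Fin 4) (Fin 4) F).map (algebraMap F E)).det = _
    rw [hP, Matrix.det_mul, Matrix.det_mul, mul_right_comm, ← Matrix.det_mul, Units.mul_inv, Matrix.det_one,
      one_mul, Matrix.det_diagonal]
  refine ⟨k, hk, hinj ?_, hinj ?_, fun h => hinj ?_, fun h => ?_⟩
  · rw [hdet, hkD, map_mul, map_pow, map_neg, map_one, map_mul, hl]; ring
  · rw [map_pow, trace_ext hP, hkT, map_mul, map_pow, map_sub, map_ofNat, map_mul, map_ofNat, map_natCast, hl]; ring
  · rw [trace_ext hP, hkT, h, map_zero]; push_cast; ring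
  · obtain ⟨a, ha⟩ : ∃ a : E, ∀ i, f i = a := by
      rcases h with rfl | rfl
      · refine ⟨l, fun i => ?_⟩
        have : f i ∈ (Finset.univ : Finset (Fin 4)).val.map f := Multiset.mem_map.mpr ⟨i, Finset.mem_univ_val i, rfl⟩
        rw [hks] at this
        simpa using this
      · refine ⟨-l, fun i => ?_⟩
        have : f i ∈ (Finset.univ : Finset (Fin 4)).val.map f := Multiset.mem_map.mpr ⟨i, Finset.mem_univ_val i, rfl⟩
        rw [hks] at this
        simpa using this
    have hd : (x : Matrix (Fin 4) (Fin 4) F).map (algebraMap F E) = a • 1 := by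
      rw [hP, funext ha, ← Matrix.smul_one_eq_diagonal, Matrix.mul_smul, Matrix.mul_one, Matrix.smul_mul, Units.mul_inv]
    refine ⟨(x : Matrix (Fin 4) (Fin 4) F) 0 0, Matrix.ext fun i j => hinj ?_⟩
    have h0 := congrFun (congrFun hd 0) 0
    have hij := congrFun (congrFun hd i) j
    simp only [Matrix.map_apply, Matrix.smul_apply, smul_eq_mul] at h0 hij ⊢
    rw [map_mul, h0, hij]
    by_cases e : i = j <;> simp [Matrix.one_apply, e]

/-- Matrices squaring to a scalar: the class is determined by trace and determinant. -/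
theorem charpoly_square (h2 : (2 : F) ≠ 0) {x y : GL (Fin 4) F} {c : F} (hc : c ≠ 0)
    (hx : (x : Matrix (Fin 4) (Fin 4) F) * x = c • 1) (hy : (y : Matrix (Fin 4) (Fin 4) F) * y = c • 1)
    (htr : (x : Matrix (Fin 4) (Fin 4) F).trace = (y : Matrix (Fin 4) (Fin 4) F).trace)
    (hdet : (x : Matrix (Fin 4) (Fin 4) F).det = (y : Matrix (Fin 4) (Fin 4) F).det) :
    (x : Matrix (Fin 4) (Fin 4) F).charpoly = (y : Matrix (Fin 4) (Fin 4) F).charpoly := by
  classical
  obtain ⟨E, _, _, _, hfr, hcard⟩ := exists_extension (F := F) 2 (by norm_num)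
  haveI : Fintype E := Fintype.ofFinite E
  rw [Nat.card_eq_fintype_card] at hcard
  have h2E : (2 : E) ≠ 0 := by rw [← map_ofNat (algebraMap F E)]; exact (_root_.map_ne_zero _).mpr h2
  have hodd : Fintype.card F % 2 = 1 := FiniteField.odd_card_of_char_ne_two (fun h => h2 (by
    exact_mod_cast (h ▸ ringChar.Nat.cast_ringChar : ((2 : ℕ) : F) = 0)))
  have hcharE : ringChar E ≠ 2 := fun h => h2E (by
    exact_mod_cast (h ▸ ringChar.Nat.cast_ringChar : ((2 : ℕ) : E) = 0))
  obtain ⟨l, hl⟩ : IsSquare (algebraMap F E c) := by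
    rw [FiniteField.isSquare_iff hcharE ((_root_.map_ne_zero _).mpr hc), ← map_pow, hcard]
    obtain ⟨k, hk⟩ : ∃ k, Fintype.card F = 2 * k + 1 := ⟨Fintype.card F / 2, by omega⟩
    have hcf : c ^ (2 * k) = 1 := by
      have h := FiniteField.pow_card_sub_one_eq_one c hc
      rwa [hk, Nat.add_sub_cancel] at h
    have he : Fintype.card F ^ 2 / 2 = (2 * k) * (k + 1) := by
      rw [hk, show (2 * k + 1) ^ 2 = 2 * ((2 * k) * (k + 1)) + 1 by ring]; omega
    rw [he, pow_mul, hcf, one_pow, map_one]
  have hl0 : l ≠ 0 := fun h => hc (by rw [h, mul_zero] at hl; exact (map_eq_zero _).mp hl)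
  have hdg : ∀ z : GL (Fin 4) F, (z : Matrix (Fin 4) (Fin 4) F) * z = c • 1 →
      ∃ (P : GL (Fin 4) E) (f : Fin 4 → E), (∀ i, f i = l ∨ f i = -l) ∧
        (z : Matrix (Fin 4) (Fin 4) F).map (algebraMap F E) = (P : Matrix (Fin 4) (Fin 4) E)
          * Matrix.diagonal f * ((P⁻¹ : GL (Fin 4) E) : Matrix (Fin 4) (Fin 4) E) := by
    intro z hz
    let K : GL (Fin 4) E := H42.diagGL fun _ => Units.mk0 l hl0
    let Z : GL (Fin 4) E := Matrix.GeneralLinearGroup.map (algebraMap F E) z
    have hZ : (Z : Matrix (Fin 4) (Fin 4) E) = (z : Matrix (Fin 4) (Fin 4) F).map (algebraMap F E) := rfl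
    have hKv : (K : Matrix (Fin 4) (Fin 4) E) = l • 1 := by
      rw [H42.coe_diagGL, Matrix.smul_one_eq_diagonal]; rfl
    have hK : ∀ A : GL (Fin 4) E, K * A = A * K := fun A => Units.ext (by
      rw [Units.val_mul, Units.val_mul, hKv, Matrix.smul_mul, Matrix.one_mul, Matrix.mul_smul, Matrix.mul_one])
    have hZZ : Z * Z = K * K := Units.ext (by
      rw [Units.val_mul, Units.val_mul, hKv, hZ, ← Matrix.map_mul, hz, Matrix.smul_mul, Matrix.one_mul, smul_smul, ← hl]
      ext i j
      by_cases h : i = j <;> simp [h])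
    have hKi : Commute K⁻¹ Z := (show Commute K Z from hK Z).inv_left
    obtain ⟨P, f, hPf⟩ := H42.exists_diagonalize Nat.prime_two
      (by have := FiniteField.odd_card_of_char_ne_two hcharE; omega) (K⁻¹ * Z)
      (by rw [hKi.mul_pow, pow_two Z, hZZ, ← pow_two, inv_pow, inv_mul_cancel])
    refine ⟨P, fun i => l * ((f i : Eˣ) : E), fun i => ?_, ?_⟩
    · have h := congrArg Units.val ((mem_rootsOfUnity 2 _).mp (f i).2)
      rw [Units.val_pow_eq_pow_val, Units.val_one, sq_eq_one_iff] at h
      rcases h with h | h <;> simp [h]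
    · have hZe : Z = K * (P * (H42.diagGL fun i => (f i : Eˣ)) * P⁻¹) := by rw [← hPf, mul_inv_cancel_left]
      rw [← hZ, hZe, Units.val_mul, Units.val_mul, Units.val_mul, hKv, H42.coe_diagGL, Matrix.smul_mul, Matrix.one_mul,
        show Matrix.diagonal (fun i => l * ((f i : Eˣ) : E)) = l • Matrix.diagonal (fun i => ((f i : Eˣ) : E)) by
          rw [← Matrix.diagonal_smul]; rfl, Matrix.mul_smul, Matrix.smul_mul]
  obtain ⟨P, f, hf, hP⟩ := hdg x hx
  obtain ⟨Q, g, hg, hQ⟩ := hdg y hy
  refine Polynomial.map_injective _ (algebraMap F E).injective ?_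
  rw [charpoly_ext hP, charpoly_ext hQ]
  refine prod_eq_of_multiset ?_
  have hT : ∑ i, f i = ∑ i, g i := by rw [← trace_ext hP, ← trace_ext hQ, htr]
  have hD : ∏ i, f i = ∏ i, g i := by
    have e : ∀ (z : Matrix (Fin 4) (Fin 4) F) (P : GL (Fin 4) E) (f : Fin 4 → E),
        z.map (algebraMap F E) = (P : Matrix (Fin 4) (Fin 4) E) * Matrix.diagonal f
          * ((P⁻¹ : GL (Fin 4) E) : Matrix (Fin 4) (Fin 4) E) → algebraMap F E z.det = ∏ i, f i := by
      intro z P f h
      rw [RingHom.map_det]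
      show (z.map (algebraMap F E)).det = _
      rw [h, Matrix.det_mul, Matrix.det_mul, mul_right_comm, ← Matrix.det_mul, Units.mul_inv, Matrix.det_one,
        one_mul, Matrix.det_diagonal]
    rw [← e _ P f hP, ← e _ Q g hQ, hdet]
  -- count the entries equal to `-l`
  have key : ∀ f : Fin 4 → E, (∀ i, f i = l ∨ f i = -l) →
      ∃ k ≤ 4, (Finset.univ : Finset (Fin 4)).val.map f = Multiset.replicate k (-l) + Multiset.replicate (4 - k) l ∧
        ∑ i, f i = (4 - 2 * (k : E)) * l ∧ ∏ i, f i = (-1) ^ k * l ^ 4 := by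
    intro f hf
    set s := (Finset.univ : Finset (Fin 4)).val.map f with hs
    have hne : l ≠ -l := fun h => hl0 ((mul_eq_zero.mp (show (2 : E) * l = 0 by linear_combination h)).resolve_left h2E)
    have hmem : ∀ a ∈ s, a = l ∨ a = -l := fun a ha => by
      obtain ⟨i, -, rfl⟩ := Multiset.mem_map.mp ha; exact hf i
    have h4 : Multiset.card s = 4 := by rw [hs, Multiset.card_map]; rfl
    have hsplit : s = Multiset.replicate (s.count (-l)) (-l) + Multiset.replicate (s.count l) l := by
      ext a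
      rw [Multiset.count_add, Multiset.count_replicate, Multiset.count_replicate]
      by_cases h1 : a = -l
      · subst h1; simp [hne]
      by_cases h2 : a = l
      · subst h2; simp [hne.symm]
      · rw [Multiset.count_eq_zero_of_notMem (fun h => (hmem a h).elim h2 h1)]
        simp [Ne.symm h1, Ne.symm h2]
    have hc4 : s.count (-l) + s.count l = 4 := by
      have := congrArg Multiset.card hsplit
      rw [h4, Multiset.card_add, Multiset.card_replicate, Multiset.card_replicate] at this
      omega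
    refine ⟨s.count (-l), by omega, by rw [show 4 - s.count (-l) = s.count l by omega]; exact hsplit, ?_, ?_⟩
    · show (s.sum : E) = _
      rw [hsplit, Multiset.sum_add, Multiset.sum_replicate, Multiset.sum_replicate, nsmul_eq_mul, nsmul_eq_mul]
      rw [← hsplit]
      have : (s.count l : E) = 4 - (s.count (-l) : E) := by
        rw [eq_sub_iff_add_eq, ← Nat.cast_add, add_comm, hc4]; norm_num
      rw [this]; ring
    · show (s.prod : E) = _
      rw [hsplit, Multiset.prod_add, Multiset.prod_replicate, Multiset.prod_replicate, ← hsplit]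
      conv_rhs => rw [← hc4, pow_add, ← mul_assoc]
      rw [neg_pow]
  obtain ⟨k, hk, hks, hkT, hkD⟩ := key f hf
  obtain ⟨j, hj, hjs, hjT, hjD⟩ := key g hg
  rw [hks, hjs]
  rw [hkT, hjT] at hT
  rw [hkD, hjD] at hD
  have hT' : (2 : E) * ((k : E) - j) = 0 := mul_right_cancel₀ hl0 (by linear_combination -hT)
  have hkj : (k : E) = j := sub_eq_zero.mp ((mul_eq_zero.mp hT').resolve_left h2E)
  have hD' : (-1 : E) ^ k = (-1) ^ j := mul_right_cancel₀ (pow_ne_zero 4 hl0) hD
  have hneg : (-1 : E) ≠ 1 := fun h => h2E (by linear_combination -h)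
  suffices k = j by rw [this]
  interval_cases k <;> interval_cases j <;> first | rfl | (exfalso; norm_num at hkj; done) | (exfalso; norm_num at hD'; done) | (exfalso; norm_num at hD' hkj; first
    | exact h2E (by linear_combination hkj) | exact h2E (by linear_combination -hkj)
    | exact mul_ne_zero h2E h2E (by linear_combination hkj) | exact mul_ne_zero h2E h2E (by linear_combination -hkj)
    | exact hneg hD' | exact hneg hD'.symm
    | exact one_ne_zero hkj | exact one_ne_zero hkj.symm)

end H47
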