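import Mathlib
import Cfsg.Agent.H6.Basic

/-!
# Two-groups of exponent four whose characteristic abelian subgroups are cyclic
-/

set_option autoImplicit false

namespace H47

/-- A finite abelian group of exponent two is its own dual; an injective pairing is surjective. -/
lemma pairing_surjective {T : Type*} [CommGroup T] [Finite T] (h2 : ∀ t : T, t * t = 1) (φ : T → (T →* ℤˣ))
    (hφ : Function.Injective φ) : Function.Surjective φ := by
  classical
  haveI h₂ : HasEnoughRootsOfUnity ℤ 2 :=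
    { prim := ⟨-1, IsPrimitiveRoot.neg_one 0 (by norm_num)⟩
      cyc := rootsOfUnity.isCyclic ℤ 2 }
  haveI : HasEnoughRootsOfUnity ℤ (Monoid.exponent T) :=
    HasEnoughRootsOfUnity.of_dvd ℤ (m := Monoid.exponent T) (n := 2)
      (Monoid.exponent_dvd_of_forall_pow_eq_one fun t => by rw [pow_two]; exact h2 t)
  have hcard := CommGroup.card_monoidHom_of_hasEnoughRootsOfUnity T ℤ
  haveI : Finite (T →* ℤˣ) := Nat.finite_of_card_ne_zero (by rw [hcard]; exact Nat.card_pos.ne')
  exact ((Nat.bijective_iff_injective_and_card φ).mpr ⟨hφ, hcard.symm⟩).2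

variable {G : Type*} [Group G]

lemma char_of_fixed {A : Subgroup G} (h : ∀ φ : G ≃* G, ∀ x ∈ A, φ x ∈ A) : A.Characteristic := by
  rw [Subgroup.characteristic_iff_le_comap]
  exact fun φ x hx => h φ x hx

/-- In a bilinear situation with nondegenerate radical, the second centre absorbs the group. -/
theorem absorb [Finite G] (hp : IsPGroup 2 G) {N C K S : Subgroup G} [N.Normal] [C.Normal] (hNC : N ≤ C)
    (hcen : ∀ n ∈ N, ∀ c ∈ C, n * c = c * n)
    (hK : ∀ x, x ∈ K ↔ x ∈ C ∧ ∀ y : G, y * x * y⁻¹ * x⁻¹ ∈ N) (hS : S ≤ Subgroup.center G)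
    (hS2 : Nat.card S ≤ 2) (hb : ∀ a ∈ K, ∀ x ∈ C, x * a * x⁻¹ * a⁻¹ ∈ S)
    (hsq : ∀ a ∈ K, a * a ∈ N) (hZK : ∀ a ∈ K, (∀ b ∈ K, a * b = b * a) → a ∈ N) : C ≤ K := by
  classical
  haveI : Fact (Nat.Prime 2) := ⟨Nat.prime_two⟩
  have hNK : N ≤ K := fun n hn => (hK n).mpr ⟨hNC hn, fun y => mul_mem (Subgroup.Normal.conj_mem ‹_› n hn y) (inv_mem hn)⟩
  let sgn : G → G → ℤˣ := fun x a => if x * a = a * x then 1 else -1
  have hone : ∀ {x a : G}, sgn x a = 1 ↔ x * a = a * x := by
    intro x a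
    simp only [sgn]
    split_ifs with h
    · simp [h]
    · simp [h]
  have hmul : ∀ x ∈ C, ∀ a ∈ K, ∀ b ∈ K, sgn x (a * b) = sgn x a * sgn x b := by
    intro x hx a ha b hb'
    set s := x * a * x⁻¹ * a⁻¹ with hs
    set t := x * b * x⁻¹ * b⁻¹ with ht
    have hsS : s ∈ S := hb a ha x hx
    have htS : t ∈ S := hb b hb' x hx
    have hxa : x * a = s * (a * x) := by rw [hs]; group
    have hxb : x * b = t * (b * x) := by rw [ht]; group
    have hxab : x * (a * b) = (s * t) * (a * b * x) := by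
      calc x * (a * b) = (x * a) * b := by group
        _ = s * a * (x * b) := by rw [hxa]; group
        _ = s * (a * t) * (b * x) := by rw [hxb]; group
        _ = (s * t) * (a * b * x) := by rw [Subgroup.mem_center_iff.mp (hS htS) a]; group
    have h1 : sgn x a = if s = 1 then 1 else -1 := by
      simp only [sgn]; congr 1; rw [hxa]; simp
    have h2 : sgn x b = if t = 1 then 1 else -1 := by
      simp only [sgn]; congr 1; rw [hxb]; simp
    have h3 : sgn x (a * b) = if s * t = 1 then 1 else -1 := by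
      simp only [sgn]; congr 1; rw [hxab]; simp
    rw [h1, h2, h3]
    by_cases h4 : s = 1
    · simp [h4]
    by_cases h5 : t = 1
    · simp [h4, h5]
    have : s * t = 1 := by
      by_contra hne
      have : 2 < Nat.card S := by
        haveI := Fintype.ofFinite S
        rw [Nat.card_eq_fintype_card]
        refine Fintype.two_lt_card_iff.mpr ⟨⟨s, hsS⟩, ⟨t, htS⟩, 1, fun h => ?_, fun h => ?_, fun h => ?_⟩
        · have hst : s = t := congrArg Subtype.val h
          have hc : Nat.card S = 2 := by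
            refine le_antisymm hS2 ?_
            haveI : Nontrivial S := ⟨⟨s, hsS⟩, 1, fun e => h4 (congrArg Subtype.val e)⟩
            exact Finite.one_lt_card
          have h' := pow_card_eq_one' (x := (⟨s, hsS⟩ : S))
          rw [hc, pow_two] at h'
          exact hne (by rw [← hst]; exact congrArg Subtype.val h')
        · exact h4 (congrArg Subtype.val h)
        · exact h5 (congrArg Subtype.val h)
      omega
    simp [h4, h5, this]
  let N' : Subgroup K := N.subgroupOf K
  haveI : N'.Normal := Subgroup.Normal.subgroupOf ‹_› K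
  let T := K ⧸ N'
  have hTc : ∀ s t : T, s * t = t * s := by
    intro s t
    obtain ⟨a, rfl⟩ := QuotientGroup.mk_surjective s
    obtain ⟨b, rfl⟩ := QuotientGroup.mk_surjective t
    refine ((QuotientGroup.eq).mpr ?_).symm
    show ((b : G) * a)⁻¹ * ((a : G) * b) ∈ N
    have h := ((hK b).mp b.2).2 a
    have := Subgroup.Normal.conj_mem ‹N.Normal› _ h ((b : G) * a)⁻¹
    convert this using 1
    group
  letI : CommGroup T := { (inferInstance : Group T) with mul_comm := hTc }
  have hT2 : ∀ t : T, t * t = 1 := by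
    intro t
    obtain ⟨a, rfl⟩ := QuotientGroup.mk_surjective t
    exact (QuotientGroup.eq_one_iff _).mpr (hsq a a.2)
  have hsgnN : ∀ x ∈ C, ∀ n ∈ N, sgn x n = 1 := fun x hx n hn => hone.mpr (hcen n hn x hx).symm
  let hom : C → (T →* ℤˣ) := fun x => QuotientGroup.lift N'
    { toFun := fun a : K => sgn x a
      map_one' := hone.mpr (by simp)
      map_mul' := fun a b => hmul x x.2 a a.2 b b.2 }
    (fun a ha => hsgnN x x.2 a ha)
  let inC : K → C := fun a => ⟨a, ((hK a).mp a.2).1⟩
  let φ : T → (T →* ℤˣ) := Quotient.lift (fun a : K => hom (inC a)) (by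
    intro a b hab
    have hab' : (a : G)⁻¹ * b ∈ N := (QuotientGroup.leftRel_apply (s := N')).mp hab
    refine MonoidHom.ext fun t => ?_
    obtain ⟨c, rfl⟩ := QuotientGroup.mk_surjective t
    show sgn a c = sgn b c
    have hcC : (c : G) ∈ C := ((hK c).mp c.2).1
    have e : ((a : G)⁻¹ * b) * c = c * ((a : G)⁻¹ * b) := hcen _ hab' c hcC
    simp only [sgn]
    congr 1
    refine propext ⟨fun h => ?_, fun h => ?_⟩
    · calc (b : G) * c = a * (((a : G)⁻¹ * b) * c) := by group
        _ = (a * c) * ((a : G)⁻¹ * b) := by rw [e]; group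
        _ = c * b := by rw [h]; group
    · calc (a : G) * c = (a * (((a : G)⁻¹ * b) * c)) * ((a : G)⁻¹ * b)⁻¹ := by rw [e]; group
        _ = (b * c) * ((a : G)⁻¹ * b)⁻¹ := by group
        _ = c * a := by rw [h]; group)
  have hinj : Function.Injective φ := by
    intro s t h
    obtain ⟨a, rfl⟩ := QuotientGroup.mk_surjective s
    obtain ⟨b, rfl⟩ := QuotientGroup.mk_surjective t
    refine QuotientGroup.eq.mpr (hZK _ (a⁻¹ * b).2 fun c hc => ?_)
    have h' : sgn a c = sgn b c := DFunLike.congr_fun h ((⟨c, hc⟩ : K) : T)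
    have hcC : c ∈ C := ((hK c).mp hc).1
    show ((a : G)⁻¹ * b) * c = c * ((a : G)⁻¹ * b)
    have e1 : sgn c a = sgn a c := by simp only [sgn]; congr 1; exact propext eq_comm
    have e2 : sgn c b = sgn b c := by simp only [sgn]; congr 1; exact propext eq_comm
    have := hmul c hcC ((a : G)⁻¹) (inv_mem a.2) b b.2
    have hinv : sgn c (a : G)⁻¹ = sgn c a := by
      have h1 := hmul c hcC ((a : G)⁻¹) (inv_mem a.2) a a.2
      rw [inv_mul_cancel, hone.mpr (show c * (1 : G) = 1 * c by simp)] at h1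
      rw [eq_comm, ← mul_left_inj (sgn c a), ← h1, Int.units_mul_self]
    rw [hinv, e1, e2, h', Int.units_mul_self] at this
    exact (hone.mp this).symm
  have hsurj := pairing_surjective hT2 φ hinj
  -- elements of `C` centralising `K` lie in `N`
  let D : Subgroup G := C ⊓ Subgroup.centralizer (K : Set G)
  have hKn : ∀ y : G, ∀ a ∈ K, y * a * y⁻¹ ∈ K := by
    intro y a ha
    have h := ((hK a).mp ha).2 y
    have : y * a * y⁻¹ = (y * a * y⁻¹ * a⁻¹) * a := by group
    rw [this]; exact mul_mem (hNK h) ha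
  haveI hDn : D.Normal := ⟨fun d hd y => by
    refine Subgroup.mem_inf.mpr ⟨Subgroup.Normal.conj_mem ‹C.Normal› d hd.1 y, ?_⟩
    rw [Subgroup.mem_centralizer_iff]
    intro a ha
    have := Subgroup.mem_centralizer_iff.mp hd.2 _ (by simpa using hKn y⁻¹ a ha)
    calc a * (y * d * y⁻¹) = y * ((y⁻¹ * a * y) * d) * y⁻¹ := by group
      _ = y * (d * (y⁻¹ * a * y)) * y⁻¹ := by rw [this]
      _ = y * d * y⁻¹ * a := by group⟩
  have hDN : D ≤ N := by
    by_contra hle
    let π := QuotientGroup.mk' N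
    haveI : (D.map π).Normal := hDn.map π (QuotientGroup.mk'_surjective N)
    have hne : D.map π ≠ ⊥ := by
      intro h
      apply hle
      rwa [Subgroup.map_eq_bot_iff, QuotientGroup.ker_mk'] at h
    obtain ⟨⟨q, hq⟩, hq1⟩ : ∃ q : (D.map π ⊓ Subgroup.center (G ⧸ N) : Subgroup (G ⧸ N)), q ≠ 1 := by
      have := H6.inf_center_ne_bot (hp.to_quotient N) hne
      obtain ⟨q, hq⟩ := (Subgroup.ne_bot_iff_exists_ne_one).mp this
      exact ⟨q, hq⟩
    obtain ⟨⟨d, hd, rfl⟩, hqc⟩ := Subgroup.mem_inf.mp hq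
    have hdK : d ∈ K := (hK d).mpr ⟨hd.1, fun y => by
      have hq' : (y : G ⧸ N) * (d : G ⧸ N) = (d : G ⧸ N) * y := Subgroup.mem_center_iff.mp hqc (y : G ⧸ N)
      rw [← QuotientGroup.eq_one_iff, QuotientGroup.mk_mul, QuotientGroup.mk_mul, QuotientGroup.mk_mul,
        QuotientGroup.mk_inv, QuotientGroup.mk_inv, hq']
      simp⟩
    have hdN : d ∈ N := hZK d hdK fun b hb' => (Subgroup.mem_centralizer_iff.mp hd.2 b hb').symm
    exact hq1 (Subtype.ext ((QuotientGroup.eq_one_iff d).mpr hdN))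
  intro x hx
  obtain ⟨t, ht⟩ := hsurj (hom ⟨x, hx⟩)
  obtain ⟨a, rfl⟩ := QuotientGroup.mk_surjective t
  have hxa : x * (a : G)⁻¹ ∈ D := by
    refine Subgroup.mem_inf.mpr ⟨mul_mem hx (inv_mem ((hK a).mp a.2).1), ?_⟩
    rw [Subgroup.mem_centralizer_iff]
    intro c hc
    have h' : sgn a c = sgn x c := DFunLike.congr_fun ht ((⟨c, hc⟩ : K) : T)
    have hac := hb c hc a ((hK a).mp a.2).1
    have hxc := hb c hc x hx
    have heq : x * c * x⁻¹ * c⁻¹ = (a : G) * c * (a : G)⁻¹ * c⁻¹ := by
      set s := x * c * x⁻¹ * c⁻¹ with hs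
      set t := (a : G) * c * (a : G)⁻¹ * c⁻¹ with ht'
      have es : x * c = c * x ↔ s = 1 := by
        rw [hs, mul_inv_eq_one, mul_inv_eq_iff_eq_mul]
      have et : (a : G) * c = c * a ↔ t = 1 := by
        rw [ht', mul_inv_eq_one, mul_inv_eq_iff_eq_mul]
      by_cases h0 : x * c = c * x
      · rw [es.mp h0, et.mp (hone.mp (h'.trans (hone.mpr h0)))]
      · by_contra hne
        have : 2 < Nat.card S := by
          haveI := Fintype.ofFinite S
          rw [Nat.card_eq_fintype_card]
          refine Fintype.two_lt_card_iff.mpr ⟨⟨s, hxc⟩, ⟨t, hac⟩, 1, fun h => hne (congrArg Subtype.val h),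
            fun h => h0 (es.mpr (congrArg Subtype.val h)), fun h => ?_⟩
          exact h0 (hone.mp (h' ▸ hone.mpr (et.mpr (congrArg Subtype.val h))))
        omega
    set t := (a : G) * c * (a : G)⁻¹ * c⁻¹ with ht'
    calc c * (x * (a : G)⁻¹) = (x * c * x⁻¹ * c⁻¹)⁻¹ * (x * ((a : G)⁻¹ * ((a : G) * c * (a : G)⁻¹ * c⁻¹) * c)) := by
          group
      _ = t⁻¹ * (x * ((a : G)⁻¹ * t * c)) := by rw [heq]
      _ = (t⁻¹ * (x * (a : G)⁻¹)) * t * c := by group
      _ = (x * (a : G)⁻¹ * t⁻¹) * t * c := by rw [Subgroup.mem_center_iff.mp (inv_mem (hS hac))]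
      _ = _ := by group
  have := mul_mem (hNK (hDN hxa)) a.2
  rwa [inv_mul_cancel_right] at this

/-- A group of exponent four whose characteristic abelian subgroups are cyclic is flat over its centre. -/
theorem st_flat [Finite G] (h4 : ∀ x : G, x ^ 4 = 1)
    (hcyc : ∀ A : Subgroup G, A.Characteristic → IsMulCommutative A → IsCyclic A) (hna : ¬ IsMulCommutative G)
    (hZ : Nat.card (Subgroup.center G) = 4 ∨ Nat.card (Subgroup.center G) = 2) :
    (∀ x : G, x * x ∈ Subgroup.center G) ∧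
      ∀ x y : G, x * y * x⁻¹ * y⁻¹ ∈ Subgroup.center G ∧
        (x * y * x⁻¹ * y⁻¹) * (x * y * x⁻¹ * y⁻¹) = 1 := by
  classical
  haveI : Fact (Nat.Prime 2) := ⟨Nat.prime_two⟩
  have hp : IsPGroup 2 G := fun x => ⟨2, h4 x⟩
  set Z := Subgroup.center G with hZdef
  let A : Subgroup G :=
    { carrier := {x | ∀ y : G, y * x * y⁻¹ * x⁻¹ ∈ Z}
      one_mem' := fun y => by simp
      mul_mem' := fun {a b} ha hb y => by
        have : y * (a * b) * y⁻¹ * (a * b)⁻¹ = (y * a * y⁻¹ * a⁻¹) * (a * (y * b * y⁻¹ * b⁻¹) * a⁻¹) := by group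
        rw [this]
        exact mul_mem (ha y) (Subgroup.Normal.conj_mem inferInstance _ (hb y) a)
      inv_mem' := fun {a} ha y => by
        have : y * a⁻¹ * y⁻¹ * a⁻¹⁻¹ = a⁻¹ * (y * a * y⁻¹ * a⁻¹)⁻¹ * a := by group
        rw [this]
        simpa using Subgroup.Normal.conj_mem inferInstance _ (inv_mem (ha y)) a⁻¹ }
  have hA : ∀ {x : G}, x ∈ A ↔ ∀ y : G, y * x * y⁻¹ * x⁻¹ ∈ Z := Iff.rfl
  have hAn : ∀ φ : G ≃* G, ∀ x ∈ A, φ x ∈ A := by
    intro φ x hx y
    have h := hx (φ.symm y)
    have : y * φ x * y⁻¹ * (φ x)⁻¹ = φ (φ.symm y * x * (φ.symm y)⁻¹ * x⁻¹) := by simp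
    rw [this]
    exact Subgroup.mem_center_iff.mpr fun g => by
      have := congrArg φ (Subgroup.mem_center_iff.mp h (φ.symm g)); simpa using this
  -- squares in the second centre
  have hcomm4 : ∀ a ∈ A, ∀ y : G, (y * a * y⁻¹ * a⁻¹) ^ 2 = y * (a * a) * y⁻¹ * (a * a)⁻¹ := by
    intro a ha y
    have hc := Subgroup.mem_center_iff.mp (ha y)
    calc (y * a * y⁻¹ * a⁻¹) ^ 2 = (y * a * y⁻¹ * a⁻¹) * (y * a * y⁻¹ * a⁻¹) := pow_two _
      _ = (y * a * y⁻¹) * ((y * a * y⁻¹ * a⁻¹) * a⁻¹) := by rw [← hc a⁻¹]; group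
      _ = _ := by group
  have hZc : IsCyclic Z := hcyc Z inferInstance inferInstance
  have hcyc4 : ∀ H : Subgroup G, IsCyclic H → Nat.card H ∣ 4 := by
    intro H hH
    obtain ⟨g, hg⟩ := hH.exists_generator
    rw [← orderOf_eq_card_of_forall_mem_zpowers hg]
    exact orderOf_dvd_of_pow_eq_one (Subtype.ext (by simp [h4]))
  -- the centre of the second centre
  let ZA : Subgroup G := A ⊓ Subgroup.centralizer (A : Set G)
  have hZAchar : ZA.Characteristic := char_of_fixed fun φ x hx => by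
    refine Subgroup.mem_inf.mpr ⟨hAn φ x hx.1, Subgroup.mem_centralizer_iff.mpr fun a ha => ?_⟩
    have := congrArg φ (Subgroup.mem_centralizer_iff.mp hx.2 _ (hAn φ.symm a ha))
    simpa using this
  have hZAcomm : IsMulCommutative ZA := ⟨⟨fun a b => Subtype.ext (by
    exact (Subgroup.mem_centralizer_iff.mp b.2.2 a.1 a.2.1))⟩⟩
  have hZAc := hcyc ZA hZAchar hZAcomm
  have hZleA : Z ≤ A := fun z hz y => by
    rw [Subgroup.mem_center_iff.mp hz y, mul_inv_cancel_right, mul_inv_cancel]; exact Z.one_mem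
  have hZleZA : Z ≤ ZA := fun z hz => Subgroup.mem_inf.mpr
    ⟨hZleA hz, Subgroup.mem_centralizer_iff.mpr fun a _ => Subgroup.mem_center_iff.mp hz a⟩
  -- squares of elements of `A` are central in `A`
  have hsqZA : ∀ a ∈ A, a * a ∈ ZA := by
    intro a ha
    rcases hZ with hZ4 | hZ2
    · let B : Subgroup G := Subgroup.closure ({x | ∃ a ∈ A, a * a = x} ∪ (Z : Set G))
      have hBchar : B.Characteristic := char_of_fixed fun φ x hx => by
        induction hx using Subgroup.closure_induction with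
        | mem x hx =>
          rcases hx with ⟨a, ha, rfl⟩ | hx
          · exact Subgroup.subset_closure (Or.inl ⟨φ a, hAn φ a ha, by simp⟩)
          · refine Subgroup.subset_closure (Or.inr (Subgroup.mem_center_iff.mpr fun g => ?_))
            have := congrArg φ (Subgroup.mem_center_iff.mp hx (φ.symm g)); simpa using this
        | one => simp
        | mul x y _ _ hx hy => rw [map_mul]; exact mul_mem hx hy
        | inv x _ hx => rw [map_inv]; exact inv_mem hx
      have hBcomm : IsMulCommutative B := by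
        refine Subgroup.isMulCommutative_closure ?_
        intro x hx y hy
        rcases hy with ⟨b, hb, rfl⟩ | hy
        · rcases hx with ⟨c, hc, rfl⟩ | hx
          · have h1 := hcomm4 b hb (c * c)
            have h2 : ((c * c) * b * (c * c)⁻¹ * b⁻¹) = (c * b * c⁻¹ * b⁻¹) ^ 2 := by
              have hz := Subgroup.mem_center_iff.mp (hb c)
              calc (c * c) * b * (c * c)⁻¹ * b⁻¹
                  = c * (c * b * c⁻¹ * b⁻¹) * c⁻¹ * (c * b * c⁻¹ * b⁻¹) := by group
                _ = _ := by rw [hz c, mul_inv_cancel_right, pow_two]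
            rw [h2, ← pow_mul] at h1
            have h3 : (c * b * c⁻¹ * b⁻¹) ^ (2 * 2) = 1 := h4 _
            rw [h3] at h1
            exact (mul_inv_eq_iff_eq_mul.mp (mul_inv_eq_one.mp h1.symm))
          · exact (Subgroup.mem_center_iff.mp hx _).symm
        · exact Subgroup.mem_center_iff.mp hy x
      have hBc := hcyc B hBchar hBcomm
      have hZB : Z ≤ B := fun z hz => Subgroup.subset_closure (Or.inr hz)
      have : Z = B := Subgroup.eq_of_le_of_card_ge hZB (hZ4 ▸ Nat.le_of_dvd (by norm_num) (hcyc4 B hBc))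
      exact hZleZA (this ▸ Subgroup.subset_closure (Or.inl ⟨a, ha, rfl⟩))
    · refine Subgroup.mem_inf.mpr ⟨mul_mem ha ha, Subgroup.mem_centralizer_iff.mpr fun b _ => ?_⟩
      have h1 := hcomm4 a ha b
      have h2 : (b * a * b⁻¹ * a⁻¹) ^ 2 = 1 := by
        have h' := pow_card_eq_one' (x := (⟨_, ha b⟩ : Z))
        rw [hZ2] at h'
        exact congrArg Subtype.val h'
      rw [h2] at h1
      exact mul_inv_eq_iff_eq_mul.mp (mul_inv_eq_one.mp h1.symm)
  -- commutators on `A` have order two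
  let S : Subgroup G :=
    { carrier := {z | z ∈ Z ∧ z * z = 1}
      one_mem' := ⟨Z.one_mem, one_mul 1⟩
      mul_mem' := fun {a b} ha hb => ⟨Z.mul_mem ha.1 hb.1, by
        rw [mul_assoc, ← mul_assoc b, Subgroup.mem_center_iff.mp ha.1 b, mul_assoc, hb.2, mul_one, ha.2]⟩
      inv_mem' := fun {a} ha => ⟨Z.inv_mem ha.1, by rw [← mul_inv_rev, ha.2, inv_one]⟩ }
  have hS2 : Nat.card S ≤ 2 := by
    haveI := hZc
    haveI : Fintype Z := Fintype.ofFinite _
    calc Nat.card S ≤ Nat.card {z : Z // z ^ 2 = 1} :=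
          Nat.card_le_card_of_injective (fun z => ⟨⟨z.1, z.2.1⟩, Subtype.ext (by simpa [pow_two] using z.2.2)⟩)
            (fun z w h => Subtype.ext (congrArg (fun t : {z : Z // z ^ 2 = 1} => t.1.1) h))
      _ ≤ 2 := by
          rw [Nat.card_eq_fintype_card, Fintype.card_subtype]
          exact IsCyclic.card_pow_eq_one_le (by norm_num)
  by_cases hcase : ZA ≤ Z
  · haveI : (⊤ : Subgroup G).Normal := inferInstance
    have htop : (⊤ : Subgroup G) ≤ A := by
      refine absorb hp (N := Z) (S := S) le_top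
        (fun n hn c _ => (Subgroup.mem_center_iff.mp hn c).symm)
        (fun x => ⟨fun h => ⟨Subgroup.mem_top x, h⟩, fun h => h.2⟩) (fun z hz => hz.1) hS2 ?_ ?_ ?_
      · intro a ha x _
        refine ⟨ha x, ?_⟩
        rw [← pow_two, hcomm4 a ha x, Subgroup.mem_center_iff.mp (hcase (hsqZA a ha)) x, mul_inv_cancel_right,
          mul_inv_cancel]
      · exact fun a ha => hcase (hsqZA a ha)
      · exact fun a ha h => hcase (Subgroup.mem_inf.mpr ⟨ha, Subgroup.mem_centralizer_iff.mpr fun b hb => (h b hb).symm⟩)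
    have hA' : ∀ x : G, x ∈ A := fun x => htop (Subgroup.mem_top x)
    refine ⟨fun x => hcase (hsqZA x (hA' x)), fun x y => ⟨hA' y x, ?_⟩⟩
    rw [← pow_two, hcomm4 y (hA' y) x, Subgroup.mem_center_iff.mp (hcase (hsqZA y (hA' y))) x,
      mul_inv_cancel_right, mul_inv_cancel]
  · exfalso
    -- the centre of `A` is cyclic of order four and the centre of `G` has order two
    have hd := hcyc4 ZA hZAc
    have hlt : Nat.card Z < Nat.card ZA := by
      refine lt_of_le_of_ne (Nat.le_of_dvd Nat.card_pos (Subgroup.card_dvd_of_le hZleZA)) fun h => ?_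
      exact hcase (Subgroup.eq_of_le_of_card_ge hZleZA h.ge).ge
    have hle4 := Nat.le_of_dvd (by norm_num) hd
    have hZ2 : Nat.card Z = 2 := by rcases hZ with h | h <;> omega
    have hZA4 : Nat.card ZA = 4 := by
      have : Nat.card ZA ≠ 3 := fun h => by rw [h] at hd; norm_num at hd
      omega
    haveI := hZAchar
    haveI : ZA.Normal := inferInstance
    let C := Subgroup.centralizer (ZA : Set G)
    haveI hCn : C.Normal := ⟨fun c hc y => Subgroup.mem_centralizer_iff.mpr fun n hn => by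
      have hn' : y⁻¹ * n * y ∈ ZA := by
        simpa using Subgroup.Normal.conj_mem (inferInstance : ZA.Normal) n hn y⁻¹
      calc n * (y * c * y⁻¹) = y * ((y⁻¹ * n * y) * c) * y⁻¹ := by group
        _ = y * (c * (y⁻¹ * n * y)) * y⁻¹ := by rw [Subgroup.mem_centralizer_iff.mp hc _ hn']
        _ = _ := by group⟩
    have hAC : A ≤ C := fun a ha => Subgroup.mem_centralizer_iff.mpr fun n hn =>
      (Subgroup.mem_centralizer_iff.mp hn.2 a ha).symm
    let K : Subgroup G :=
      { carrier := {x | x ∈ C ∧ ∀ y : G, y * x * y⁻¹ * x⁻¹ ∈ ZA}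
        one_mem' := ⟨C.one_mem, fun y => by simp⟩
        mul_mem' := fun {a b} ha hb => ⟨C.mul_mem ha.1 hb.1, fun y => by
          have : y * (a * b) * y⁻¹ * (a * b)⁻¹ = (y * a * y⁻¹ * a⁻¹) * (a * (y * b * y⁻¹ * b⁻¹) * a⁻¹) := by group
          rw [this]
          exact mul_mem (ha.2 y) (Subgroup.Normal.conj_mem inferInstance _ (hb.2 y) a)⟩
        inv_mem' := fun {a} ha => ⟨C.inv_mem ha.1, fun y => by
          have : y * a⁻¹ * y⁻¹ * a⁻¹⁻¹ = a⁻¹ * (y * a * y⁻¹ * a⁻¹)⁻¹ * a := by group
          rw [this]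
          simpa using Subgroup.Normal.conj_mem inferInstance _ (inv_mem (ha.2 y)) a⁻¹⟩ }
    have hZAC : ZA ≤ C := fun n hn => hAC hn.1
    -- squares of `K`
    let B : Subgroup G := Subgroup.closure ({x | ∃ a ∈ K, a * a = x} ∪ (ZA : Set G))
    have hCfix : ∀ φ : G ≃* G, ∀ x ∈ C, φ x ∈ C := fun φ x hx => Subgroup.mem_centralizer_iff.mpr fun n hn => by
      have hn' : φ.symm n ∈ ZA := (Subgroup.characteristic_iff_le_comap.mp hZAchar φ.symm) hn
      have := congrArg φ (Subgroup.mem_centralizer_iff.mp hx _ hn'); simpa using this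
    have hKfix : ∀ φ : G ≃* G, ∀ x ∈ K, φ x ∈ K := fun φ x hx => ⟨hCfix φ x hx.1, fun y => by
      have h := (Subgroup.characteristic_iff_le_comap.mp hZAchar φ) (hx.2 (φ.symm y))
      simpa using h⟩
    have hcz : ∀ a ∈ K, ∀ x ∈ C, ∀ k : ℕ, x ^ k * a * (x ^ k)⁻¹ * a⁻¹ = (x * a * x⁻¹ * a⁻¹) ^ k := by
      intro a ha x hx k
      induction k with
      | zero => simp
      | succ k ih =>
        have hn := ha.2 x
        have hc := Subgroup.mem_centralizer_iff.mp (pow_mem hx k) _ hn
        calc x ^ (k + 1) * a * (x ^ (k + 1))⁻¹ * a⁻¹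
            = x ^ k * (x * a * x⁻¹ * a⁻¹) * (x ^ k)⁻¹ * (x ^ k * a * (x ^ k)⁻¹ * a⁻¹) := by
              rw [pow_succ]; group
          _ = _ := by rw [← hc, mul_inv_cancel_right, ih, ← pow_succ']
    have hBchar : B.Characteristic := char_of_fixed fun φ x hx => by
      induction hx using Subgroup.closure_induction with
      | mem x hx =>
        rcases hx with ⟨a, ha, rfl⟩ | hx
        · exact Subgroup.subset_closure (Or.inl ⟨φ a, hKfix φ a ha, by simp⟩)
        · exact Subgroup.subset_closure (Or.inr ((Subgroup.characteristic_iff_le_comap.mp hZAchar φ) hx))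
      | one => simp
      | mul x y _ _ hx hy => rw [map_mul]; exact mul_mem hx hy
      | inv x _ hx => rw [map_inv]; exact inv_mem hx
    have hBcomm : IsMulCommutative B := by
      refine Subgroup.isMulCommutative_closure ?_
      intro x hx y hy
      rcases hy with ⟨b, hb, rfl⟩ | hy
      · rcases hx with ⟨c, hc, rfl⟩ | hx
        · have hn := hb.2 c
          have h1 := hcz b hb c hc.1 2
          rw [pow_two] at h1
          -- `c²` commutes with `b` up to the square of an element of `ZA`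
          have h2 : (c * c) * (b * b) * (c * c)⁻¹ = ((c * b * c⁻¹ * b⁻¹) ^ 2 * b) * ((c * b * c⁻¹ * b⁻¹) ^ 2 * b) := by
            rw [← h1]; group
          have hc2 := Subgroup.mem_centralizer_iff.mp hb.1 _ (pow_mem hn 2)
          have h3 : ((c * b * c⁻¹ * b⁻¹) ^ 2 * b) * ((c * b * c⁻¹ * b⁻¹) ^ 2 * b) = b * b := by
            calc _ = (c * b * c⁻¹ * b⁻¹) ^ 2 * (b * (c * b * c⁻¹ * b⁻¹) ^ 2) * b := by group
              _ = (c * b * c⁻¹ * b⁻¹) ^ 2 * ((c * b * c⁻¹ * b⁻¹) ^ 2 * b) * b := by rw [hc2]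
              _ = (c * b * c⁻¹ * b⁻¹) ^ 4 * (b * b) := by group
              _ = _ := by rw [h4, one_mul]
          rw [h3] at h2
          exact mul_inv_eq_iff_eq_mul.mp h2
        · exact (Subgroup.mem_centralizer_iff.mp (mul_mem hb.1 hb.1) x hx)
      · rcases hx with ⟨c, hc, rfl⟩ | hx
        · exact (Subgroup.mem_centralizer_iff.mp (mul_mem hc.1 hc.1) y hy).symm
        · exact Subgroup.mem_centralizer_iff.mp hy.2 x hx.1
    have hBc := hcyc B hBchar hBcomm
    have hZAB : ZA ≤ B := fun n hn => Subgroup.subset_closure (Or.inr hn)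
    have hBeq : ZA = B := Subgroup.eq_of_le_of_card_ge hZAB (hZA4 ▸ Nat.le_of_dvd (by norm_num) (hcyc4 B hBc))
    have hKsq : ∀ a ∈ K, a * a ∈ ZA := fun a ha => hBeq ▸ Subgroup.subset_closure (Or.inl ⟨a, ha, rfl⟩)
    -- a generator
    obtain ⟨⟨g, hgm⟩, hg⟩ := hZAc.exists_generator
    have hgo : orderOf g = 4 := by
      have := orderOf_eq_card_of_forall_mem_zpowers hg
      rw [hZA4, Subgroup.orderOf_mk] at this
      exact this
    have hg2Z : g * g ∈ Z := by
      by_contra h
      obtain ⟨⟨z, hz⟩, hz1⟩ : ∃ z : Z, z ≠ 1 := by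
        haveI : Nontrivial Z := Finite.one_lt_card_iff_nontrivial.mp (by omega)
        exact exists_ne 1
      obtain ⟨k, hk⟩ := Subgroup.mem_zpowers_iff.mp (hg ⟨z, hZleZA hz⟩)
      have hk' : g ^ k = z := congrArg Subtype.val hk
      have hzz : z * z = 1 := by
        have h' := pow_card_eq_one' (x := (⟨z, hz⟩ : Z))
        rw [hZ2, pow_two] at h'; exact congrArg Subtype.val h'
      have hmod : g ^ k = g ^ (k % 4).toNat := by
        rw [← zpow_natCast, Int.toNat_of_nonneg (Int.emod_nonneg _ (by norm_num)),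
          ← zpow_mod_orderOf g k, hgo]
        rfl
      rw [hmod] at hk'
      have : (k % 4).toNat < 4 := by omega
      interval_cases hj : (k % 4).toNat
      · exact hz1 (Subtype.ext (by simpa using hk'.symm))
      · rw [pow_one] at hk'; subst hk'; exact h (by rw [hzz]; exact Z.one_mem)
      · rw [pow_two] at hk'; exact h (hk' ▸ hz)
      · subst hk'
        exact h (by
          have : g * g = g ^ 3 * g ^ 3 := by
            rw [← pow_add, show 3 + 3 = 4 + 2 from rfl, pow_add, h4, one_mul, pow_two]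
          rw [this, hzz]; exact Z.one_mem)
    have hsmall : ∀ n ∈ ZA, n * n = 1 → n ∈ Z := by
      intro n hn h2
      obtain ⟨k, hk⟩ := Subgroup.mem_zpowers_iff.mp (hg ⟨n, hn⟩)
      have hk' : g ^ k = n := congrArg Subtype.val hk
      rw [← hk', ← zpow_add] at h2
      have := orderOf_dvd_iff_zpow_eq_one.mpr h2
      rw [hgo] at this
      obtain ⟨j, hj⟩ : (2 : ℤ) ∣ k := by omega
      rw [← hk', hj, zpow_mul, zpow_two]
      exact zpow_mem hg2Z j
    have hKS : ∀ a ∈ K, ∀ x : G, x * a * x⁻¹ * a⁻¹ ∈ S := by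
      intro a ha x
      have hn := ha.2 x
      have haZ : a * a ∈ Z := hsmall _ (hKsq a ha) (by rw [← mul_assoc]; rw [← h4 a]; simp [pow_succ])
      have hca := Subgroup.mem_centralizer_iff.mp ha.1 _ hn
      set t := x * a * x⁻¹ * a⁻¹ with ht
      have h2 : t * t = 1 := by
        have e : x * (a * a) * x⁻¹ = t * t * (a * a) := by
          calc x * (a * a) * x⁻¹ = (t * a) * (t * a) := by rw [ht]; group
            _ = t * (a * t) * a := by group
            _ = _ := by rw [← hca]; group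
        rw [Subgroup.mem_center_iff.mp haZ x, mul_inv_cancel_right] at e
        exact mul_eq_right.mp e.symm
      exact ⟨hsmall _ hn h2, h2⟩
    have hKA : ∀ a ∈ K, a ∈ A := fun a ha y => (hKS a ha y).1
    have hCK : C ≤ K := by
      refine absorb hp (N := ZA) (S := S) hZAC ?_ (fun x => Iff.rfl) (fun z hz => hz.1) hS2
        (fun a ha x _ => hKS a ha x) hKsq ?_
      · exact fun n hn c hc => (Subgroup.mem_centralizer_iff.mp hc n hn)
      · intro a ha h
        exact Subgroup.mem_inf.mpr ⟨hKA a ha, Subgroup.mem_centralizer_iff.mpr fun b hb =>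
          (h b ⟨hAC hb, fun y => hZleZA (hb y)⟩).symm⟩
    have hgC : ∀ x : G, x * g * x⁻¹ = g → x ∈ C := by
      intro x hx
      refine Subgroup.mem_centralizer_iff.mpr fun n hn => ?_
      obtain ⟨k, hk⟩ := Subgroup.mem_zpowers_iff.mp (hg ⟨n, hn⟩)
      have hk' : g ^ k = n := congrArg Subtype.val hk
      have hxg : Commute g x := (mul_inv_eq_iff_eq_mul.mp hx).symm
      rw [← hk']; exact (hxg.zpow_left k).eq
    have hconj : ∀ x : G, x ∉ C → x * g * x⁻¹ = g⁻¹ := by
      intro x hx
      have hn : x * g * x⁻¹ ∈ ZA := Subgroup.Normal.conj_mem inferInstance _ hgm x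
      obtain ⟨k, hk⟩ := Subgroup.mem_zpowers_iff.mp (hg ⟨_, hn⟩)
      have hk' : g ^ k = x * g * x⁻¹ := congrArg Subtype.val hk
      have hkodd : ¬ (2 : ℤ) ∣ k := by
        rintro ⟨j, rfl⟩
        have : (x * g * x⁻¹) ^ 2 = 1 := by
          rw [← hk', ← zpow_natCast, ← zpow_mul]
          exact orderOf_dvd_iff_zpow_eq_one.mp (by rw [hgo]; push_cast; omega)
        rw [conj_pow, conj_eq_one_iff] at this
        have := orderOf_dvd_of_pow_eq_one this
        rw [hgo] at this; norm_num at this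
      rw [← hk', ← zpow_mod_orderOf g k, hgo]
      have hlt : k % 4 = 1 ∨ k % 4 = 3 := by omega
      rcases hlt with h | h
      · exfalso
        apply hx; apply hgC
        rw [← hk', ← zpow_mod_orderOf g k, hgo]
        simp [h]
      · rw [show ((4 : ℕ) : ℤ) = 4 from rfl, h, eq_inv_iff_mul_eq_one]
        have : g ^ (3 : ℤ) * g = g ^ (4 : ℕ) := by rw [show (3 : ℤ) = ((3 : ℕ) : ℤ) from rfl, zpow_natCast, ← pow_succ]
        rw [this, h4]
    obtain ⟨y, hy⟩ : ∃ y, y ∉ C := by
      by_contra hall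
      push Not at hall
      have hgZ : g ∈ Z := Subgroup.mem_center_iff.mpr fun y =>
        (Subgroup.mem_centralizer_iff.mp (hall y) g hgm).symm
      exact hcase fun n hn => by
        obtain ⟨k, hk⟩ := Subgroup.mem_zpowers_iff.mp (hg ⟨n, hn⟩)
        have hk' : g ^ k = n := congrArg Subtype.val hk
        rw [← hk']; exact zpow_mem hgZ k
    apply hy
    apply hAC
    intro x
    by_cases hx : x ∈ C
    · have := inv_mem (hKS x (hCK hx) y).1
      simpa [mul_assoc] using this
    · have hc : y⁻¹ * x ∈ C := by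
        apply hgC
        have h1 := hconj x hx
        have h2 := hconj y hy
        calc y⁻¹ * x * g * (y⁻¹ * x)⁻¹ = y⁻¹ * (x * g * x⁻¹) * y := by group
          _ = y⁻¹ * g⁻¹ * y := by rw [h1]
          _ = y⁻¹ * (y * g * y⁻¹) * y := by rw [h2]
          _ = g := by group
      have hz := inv_mem (hKS _ (hCK hc) y).1
      have e : x * y * x⁻¹ * y⁻¹ = y * (y * (y⁻¹ * x) * y⁻¹ * (y⁻¹ * x)⁻¹)⁻¹ * y⁻¹ := by group
      rw [e]
      exact Subgroup.Normal.conj_mem inferInstance _ hz y

end H47
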