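import Mathlib
import Cfsg.Prelude.Def_GeometricClasses
import Cfsg.Agent.H47.SymTypeGroup

/-!
# Symplectic-type two-groups in four dimensions
-/

set_option autoImplicit false
open scoped MatrixGroups Matrix
open Matrix

namespace H47

variable {F : Type*} [Field F] {ι : Type} [Fintype ι] [DecidableEq ι]

local notation "MAT" => Matrix ι ι F

/-- The structure of an irreducible two-group of symplectic type in dimension four. -/
structure Sym4 (R : Subgroup (GL ι F)) (z : ℕ) : Prop where
  dim : Fintype.card ι = 4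
  two : (2 : F) ≠ 0
  irr : ∀ M : MAT, (∀ u ∈ R, M * (u : MAT) = (u : MAT) * M) → ∃ c : F, M = c • 1
  comm : ∀ u ∈ R, ∀ v ∈ R, (u : MAT) * v = (v : MAT) * u ∨ (u : MAT) * v = -((v : MAT) * u)
  sq : ∀ u ∈ R, (u : MAT) * u = 1 ∨ (u : MAT) * u = -1
  hz : z = 2 ∨ z = 4
  card_eq : Nat.card R = 16 * z
  card_scal : Nat.card ↥(R ⊓ Cfsg.Geo.scalars ι F) = z

/-- Five pairwise anticommuting involutions. -/
structure Gam (R : Subgroup (GL ι F)) (Γ : Fin 5 → GL ι F) : Prop where
  mem : ∀ i, Γ i ∈ R
  sq : ∀ i, (Γ i : MAT) * Γ i = 1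
  anti : ∀ i j, i ≠ j → (Γ i : MAT) * Γ j = -((Γ j : MAT) * Γ i)

lemma trace_zero_of_anti (h2 : (2 : F) ≠ 0) {M : MAT} {v : GL ι F} (h : (v : MAT) * M = -(M * v)) : M.trace = 0 := by
  have h1 : ((v : MAT) * M * ((v⁻¹ : GL ι F) : MAT)).trace = M.trace := by
    rw [Matrix.trace_mul_comm, ← Matrix.mul_assoc, Units.inv_mul, Matrix.one_mul]
  rw [h, Matrix.neg_mul, Matrix.mul_assoc, Units.mul_inv, Matrix.mul_one, Matrix.trace_neg] at h1
  have : (2 : F) * M.trace = 0 := by linear_combination -h1
  exact (mul_eq_zero.mp this).resolve_left h2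

lemma scal_mem_iff {R : Subgroup (GL ι F)} {u : GL ι F} :
    u ∈ R ⊓ Cfsg.Geo.scalars ι F ↔ u ∈ R ∧ ∃ c : F, (u : MAT) = c • 1 := by
  rw [Subgroup.mem_inf, Cfsg.Geo.mem_scalars_iff]
  refine and_congr_right fun _ => ⟨fun ⟨c, hc⟩ => ⟨c, hc⟩, fun ⟨c, hc⟩ => ?_⟩
  rcases isEmpty_or_nonempty ι with h | ⟨⟨i⟩⟩
  · exact ⟨1, Subsingleton.elim _ _⟩
  · have hc0 : c ≠ 0 := fun h0 => by
      have hu : (u : MAT) * ((u⁻¹ : GL ι F) : MAT) = 1 := Units.mul_inv u
      rw [hc, h0, zero_smul, Matrix.zero_mul] at hu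
      exact zero_ne_one (congrFun (congrFun hu i) i |>.trans (Matrix.one_apply_eq i))
    exact ⟨Units.mk0 c hc0, hc⟩

/-- Symplectic type with centre of order `z` gives the structure. -/
theorem sym4_of_data [Finite F] (hdim : Fintype.card ι = 4) (h2 : (2 : F) ≠ 0) {R : Subgroup (GL ι F)}
    (hs : Cfsg.Geo.IsSymplecticTypeGroup 2 R) (hi : Cfsg.Geo.ActsAbsolutelyIrreducibly (Cfsg.Geo.matrixSet R))
    {z : ℕ} (hz : z = 2 ∨ z = 4) (hR : Nat.card R = 16 * z) (hZ : Nat.card (Subgroup.center R) = z) :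
    Sym4 R z := by
  classical
  haveI : Nonempty ι := Fintype.card_pos_iff.mp (by omega)
  haveI : Finite R := Nat.finite_of_card_ne_zero (by rcases hz with h | h <;> omega)
  have h4 : ∀ x : R, x ^ 4 = 1 := by
    intro x
    have := Monoid.pow_exponent_eq_one x
    rwa [hs.exponent_eq, show 2 * Nat.gcd 2 2 = 4 from rfl] at this
  have hna : ¬ IsMulCommutative R := by
    intro h
    have : Subgroup.center R = ⊤ := eq_top_iff.mpr fun x _ =>
      Subgroup.mem_center_iff.mpr fun g => h.is_comm.comm g x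
    rw [this, Subgroup.card_top, hR] at hZ
    rcases hz with h | h <;> omega
  obtain ⟨hsq, hcom⟩ := st_flat h4 hs.cyclic_of_characteristic hna (by rcases hz with h | h <;> omega)
  have hirr : ∀ M : MAT, (∀ u ∈ R, M * (u : MAT) = (u : MAT) * M) → ∃ c : F, M = c • 1 :=
    fun M hM => hi.2 M (fun s hs' => by obtain ⟨u, hu, rfl⟩ := hs'; exact hM u hu)
  have hcen : ∀ c : R, c ∈ Subgroup.center R → ∃ a : F, ((c : GL ι F) : MAT) = a • 1 := fun c hc =>
    hirr _ fun u hu => (congrArg (fun x : R => ((x : GL ι F) : MAT)) (Subgroup.mem_center_iff.mp hc ⟨u, hu⟩)).symm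
  have hpm : ∀ c : R, c ∈ Subgroup.center R → c * c = 1 →
      ((c : GL ι F) : MAT) = 1 ∨ ((c : GL ι F) : MAT) = -1 := by
    intro c hc hcc
    obtain ⟨a, ha⟩ := hcen c hc
    have h1 : ((c : GL ι F) : MAT) * ((c : GL ι F) : MAT) = 1 := congrArg (fun x : R => ((x : GL ι F) : MAT)) hcc
    rw [ha, Matrix.smul_mul, Matrix.mul_smul, Matrix.mul_one, smul_smul] at h1
    obtain ⟨i⟩ := (inferInstance : Nonempty ι)
    have h' : a * a = 1 := by simpa using congrFun (congrFun h1 i) i
    rcases mul_self_eq_one_iff.mp h' with h | h <;> rw [ha, h]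
    · exact Or.inl (one_smul _ _)
    · exact Or.inr (by rw [neg_smul, one_smul])
  refine ⟨hdim, h2, hirr, ?_, ?_, hz, hR, ?_⟩
  · intro u hu v hv
    have hc := hcom ⟨u, hu⟩ ⟨v, hv⟩
    have e : (u : MAT) * v = ((u * v * u⁻¹ * v⁻¹ : GL ι F) : MAT) * ((v : MAT) * u) := by
      rw [← Units.val_mul, ← Units.val_mul, ← Units.val_mul]; congr 1; group
    rcases hpm _ hc.1 hc.2 with h | h
    · left; rw [e]; exact (congrArg (· * ((v : MAT) * u)) h).trans (Matrix.one_mul _)
    · right; rw [e]; exact (congrArg (· * ((v : MAT) * u)) h).trans (by rw [Matrix.neg_mul, Matrix.one_mul])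
  · intro u hu
    refine hpm (⟨u, hu⟩ * ⟨u, hu⟩) (hsq _) ?_
    have := h4 ⟨u, hu⟩
    rw [show (4 : ℕ) = 2 + 2 from rfl, pow_add, pow_two] at this
    exact this
  · rw [← hZ]
    refine Nat.card_congr
      { toFun := fun u => ⟨⟨u.1, u.2.1⟩, Subgroup.mem_center_iff.mpr fun v => ?_⟩
        invFun := fun c => ⟨c.1.1, scal_mem_iff.mpr ⟨c.1.2, hcen c.1 c.2⟩⟩
        left_inv := fun _ => rfl
        right_inv := fun _ => rfl }
    obtain ⟨a, ha⟩ := (scal_mem_iff.mp u.2).2
    apply Subtype.ext; apply Units.ext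
    show (v.1 : MAT) * (u.1 : MAT) = (u.1 : MAT) * (v.1 : MAT)
    rw [ha, Matrix.mul_smul, Matrix.mul_one, Matrix.smul_mul, Matrix.one_mul]

namespace Sym4

variable [Fintype F] {R : Subgroup (GL ι F)} {z : ℕ} (S : Sym4 R z)
include S

omit [Fintype F] in
lemma nonempty : Nonempty ι := Fintype.card_pos_iff.mp (by rw [S.dim]; omega)

omit [Fintype F] in
lemma four : (4 : F) ≠ 0 := by
  have : (4 : F) = 2 * 2 := by norm_num
  rw [this]; exact mul_ne_zero S.two S.two

omit [Fintype F] in
lemma z_ne : (z : F) ≠ 0 := by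
  rcases S.hz with h | h <;> subst h <;> push_cast
  · exact S.two
  · exact S.four

omit [Fintype F] in
lemma exists_anti {u : GL ι F} (hu : u ∈ R) (hns : ∀ c : F, (u : MAT) ≠ c • 1) :
    ∃ v ∈ R, (v : MAT) * u = -((u : MAT) * v) := by
  by_contra h
  push Not at h
  obtain ⟨c, hc⟩ := S.irr (u : MAT) fun v hv => ((S.comm v hv u hu).resolve_right (h v hv)).symm
  exact hns c hc

omit [Fintype F] in
lemma trace_zero {u : GL ι F} (hu : u ∈ R) (hns : ∀ c : F, (u : MAT) ≠ c • 1) : (u : MAT).trace = 0 := by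
  obtain ⟨v, -, hv⟩ := S.exists_anti hu hns
  exact trace_zero_of_anti S.two hv

/-- Averaging over the group. -/
lemma sum_conj [Fintype R] (X : MAT) :
    ∑ u : R, ((u : GL ι F) : MAT) * X * (((u : GL ι F)⁻¹ : GL ι F) : MAT) = (4 * (z : F) * X.trace) • 1 := by
  classical
  haveI := S.nonempty
  set Y : MAT := ∑ u : R, ((u : GL ι F) : MAT) * X * (((u : GL ι F)⁻¹ : GL ι F) : MAT) with hY
  have hcom : ∀ v ∈ R, Y * (v : MAT) = (v : MAT) * Y := by
    intro v hv
    rw [hY, Finset.sum_mul, Finset.mul_sum]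
    refine Fintype.sum_equiv (Equiv.mulLeft (⟨v, hv⟩ : R)⁻¹) _ _ fun u => ?_
    have e1 : ((((⟨v, hv⟩ : R)⁻¹ * u : R) : GL ι F) : MAT) = ((v⁻¹ : GL ι F) : MAT) * ((u : GL ι F) : MAT) := rfl
    have e2 : (((((⟨v, hv⟩ : R)⁻¹ * u : R) : GL ι F)⁻¹ : GL ι F) : MAT)
        = (((u : GL ι F)⁻¹ : GL ι F) : MAT) * (v : MAT) := by
      rw [← Units.val_mul]
      refine congrArg Units.val ?_
      show (v⁻¹ * (u : GL ι F))⁻¹ = _
      rw [_root_.mul_inv_rev, inv_inv]
    simp only [Equiv.coe_mulLeft, e1, e2]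
    rw [show (v : MAT) * (((v⁻¹ : GL ι F) : MAT) * ((u : GL ι F) : MAT) * X * ((((u : GL ι F)⁻¹ : GL ι F) : MAT) * (v : MAT)))
      = ((v : MAT) * ((v⁻¹ : GL ι F) : MAT)) * (((u : GL ι F) : MAT) * X * (((u : GL ι F)⁻¹ : GL ι F) : MAT)) * (v : MAT) by
        simp only [Matrix.mul_assoc], Units.mul_inv, Matrix.one_mul]
  obtain ⟨c, hc⟩ := S.irr Y hcom
  have htr : Y.trace = (Fintype.card R : F) * X.trace := by
    rw [hY, Matrix.trace_sum]
    have : ∀ u : R, (((u : GL ι F) : MAT) * X * (((u : GL ι F)⁻¹ : GL ι F) : MAT)).trace = X.trace := fun u => by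
      rw [Matrix.trace_mul_comm, ← Matrix.mul_assoc, Units.inv_mul, Matrix.one_mul]
    rw [Finset.sum_congr rfl fun u _ => this u, Finset.sum_const, nsmul_eq_mul, Finset.card_univ]
  rw [hc, Matrix.trace_smul, Matrix.trace_one, S.dim, ← Nat.card_eq_fintype_card, S.card_eq] at htr
  rw [hc]
  congr 1
  have h4 := S.four
  push_cast at htr
  apply mul_right_cancel₀ h4
  rw [smul_eq_mul] at htr
  linear_combination htr

/-- The number of fixed points of an element of odd order is read off from the trace. -/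
theorem trace_formula {r : ℕ} [hr : Fact r.Prime] (hr2 : r ≠ 2) {g : GL ι F}
    (hg : g ∈ Cfsg.Geo.subgroupNormalizer R) {d : F} (hgr : ((g ^ r : GL ι F) : MAT) = d • 1) :
    (Nat.card ↥(R ⊓ Subgroup.centralizer {g}) : F) = z * ((g : MAT).trace * ((g⁻¹ : GL ι F) : MAT).trace) := by
  classical
  haveI := S.nonempty
  haveI : Fintype R := Fintype.ofFinite _
  have hmem : ∀ u : GL ι F, u ∈ R ↔ g * u * g⁻¹ ∈ R := Subgroup.mem_normalizer_iff.mp hg
  have hsum := congrArg (fun Y : MAT => (Y * ((g⁻¹ : GL ι F) : MAT)).trace) (S.sum_conj (g : MAT))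
  simp only [Finset.sum_mul, Matrix.trace_sum, Matrix.smul_mul, Matrix.one_mul, Matrix.trace_smul, smul_eq_mul] at hsum
  have hterm : ∀ u : R, (((u : GL ι F) : MAT) * (g : MAT) * (((u : GL ι F)⁻¹ : GL ι F) : MAT) * ((g⁻¹ : GL ι F) : MAT)).trace
      = if (u : GL ι F) ∈ Subgroup.centralizer {g} then (4 : F) else 0 := by
    intro u
    have hw : (u : GL ι F) * g * (u : GL ι F)⁻¹ * g⁻¹ ∈ R := by
      have e : (u : GL ι F) * g * (u : GL ι F)⁻¹ * g⁻¹ = (u : GL ι F) * (g * (u : GL ι F)⁻¹ * g⁻¹) := by group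
      rw [e]; exact mul_mem u.2 ((hmem _).mp (inv_mem u.2))
    rw [← Units.val_mul, ← Units.val_mul, ← Units.val_mul]
    split_ifs with hu
    · have e : (u : GL ι F) * g * (u : GL ι F)⁻¹ * g⁻¹ = 1 := by
        rw [Subgroup.mem_centralizer_singleton_iff.mp hu]; group
      rw [e, Units.val_one, Matrix.trace_one, S.dim]; norm_num
    · refine S.trace_zero hw fun c hc => hu ?_
      obtain ⟨w, hwdef⟩ : ∃ w, w = (u : GL ι F) * g * (u : GL ι F)⁻¹ * g⁻¹ := ⟨_, rfl⟩
      rw [← hwdef] at hw hc
      have hwc : ∀ v : GL ι F, w * v = v * w := fun v => Units.ext (by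
        rw [Units.val_mul, Units.val_mul, hc, Matrix.smul_mul, Matrix.one_mul, Matrix.mul_smul, Matrix.mul_one])
      have hconj : MulAut.conj (u : GL ι F) g = w * g := by
        rw [MulAut.conj_apply, hwdef]; group
      have hgrc : ∀ v : GL ι F, g ^ r * v = v * g ^ r := fun v => Units.ext (by
        rw [Units.val_mul, Units.val_mul, hgr, Matrix.smul_mul, Matrix.one_mul, Matrix.mul_smul, Matrix.mul_one])
      have hwr : w ^ r = 1 := by
        have h1 : MulAut.conj (u : GL ι F) (g ^ r) = g ^ r := by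
          rw [MulAut.conj_apply, ← hgrc, mul_inv_cancel_right]
        rw [map_pow, hconj, (show Commute w g from hwc g).mul_pow] at h1
        exact mul_eq_right.mp h1
      have hc2 : c * c = 1 ∨ c * c = -1 := by
        obtain ⟨i⟩ := S.nonempty
        rcases S.sq w hw with h | h <;> rw [hc, Matrix.smul_mul, Matrix.one_mul, smul_smul] at h
        · exact Or.inl (by simpa using congrFun (congrFun h i) i)
        · exact Or.inr (by simpa using congrFun (congrFun h i) i)
      have hcr : c ^ r = 1 := by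
        obtain ⟨i⟩ := S.nonempty
        have h := congrArg Units.val hwr
        rw [Units.val_pow_eq_pow_val, hc, smul_pow, one_pow, Units.val_one] at h
        simpa using congrFun (congrFun h i) i
      have hc4 : c ^ 4 = 1 := by
        rcases hc2 with h | h
        · linear_combination (c * c + 1) * h
        · linear_combination (c * c - 1) * h
      have hc1 : c = 1 := orderOf_eq_one_iff.mp (Nat.eq_one_of_dvd_coprimes
        (show Nat.Coprime 4 r from Nat.Coprime.pow_left 2 ((Nat.coprime_primes Nat.prime_two hr.out).mpr (Ne.symm hr2)))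
        (orderOf_dvd_of_pow_eq_one hc4) (orderOf_dvd_of_pow_eq_one hcr))
      have hw1 : w = 1 := Units.ext (by rw [hc, hc1, one_smul, Units.val_one])
      rw [hw1, one_mul, MulAut.conj_apply] at hconj
      exact Subgroup.mem_centralizer_singleton_iff.mpr (mul_inv_eq_iff_eq_mul.mp hconj)
  rw [Finset.sum_congr rfl fun u _ => hterm u, ← Finset.sum_filter, Finset.sum_const, nsmul_eq_mul] at hsum
  have hcard : Nat.card ↥(R ⊓ Subgroup.centralizer {g})
      = (Finset.univ.filter fun u : R => (u : GL ι F) ∈ Subgroup.centralizer {g}).card := by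
    rw [← Fintype.card_subtype, ← Nat.card_eq_fintype_card]
    exact Nat.card_congr
      { toFun := fun u => ⟨⟨u.1, u.2.1⟩, u.2.2⟩
        invFun := fun u => ⟨u.1.1, u.1.2, u.2⟩
        left_inv := fun _ => rfl
        right_inv := fun _ => rfl }
  rw [hcard]
  apply mul_right_cancel₀ S.four
  linear_combination hsum

/-- The fixed subgroup of an element of odd prime order modulo scalars. -/
theorem fixed_cases {r : ℕ} [hr : Fact r.Prime] {g : GL ι F}
    (hg : g ∈ Cfsg.Geo.subgroupNormalizer R) {d : F} (hgr : ((g ^ r : GL ι F) : MAT) = d • 1) :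
    ∃ k, k ≤ 4 ∧ Nat.card ↥(R ⊓ Subgroup.centralizer {g}) = 2 ^ k * z ∧ 2 ^ k * z ≡ 16 * z [MOD r] := by
  classical
  haveI := S.nonempty
  haveI : Fintype R := Fintype.ofFinite _
  have hmem : ∀ x : GL ι F, x ∈ R ↔ g * x * g⁻¹ ∈ R := Subgroup.mem_normalizer_iff.mp hg
  let σ : Equiv.Perm R :=
    { toFun := fun x => ⟨g * x * g⁻¹, (hmem x).mp x.2⟩
      invFun := fun x => ⟨g⁻¹ * x * g, (hmem _).mpr (by simp [mul_assoc])⟩
      left_inv := fun x => Subtype.ext (by simp [mul_assoc])
      right_inv := fun x => Subtype.ext (by simp [mul_assoc]) }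
  have hσpow : ∀ (k : ℕ) (x : R), (((σ ^ k) x : R) : GL ι F) = g ^ k * x * (g ^ k)⁻¹ := by
    intro k
    induction k with
    | zero => intro x; simp
    | succ k ih =>
      intro x
      rw [pow_succ', Equiv.Perm.mul_apply]
      show g * _ * g⁻¹ = _
      rw [ih, pow_succ', _root_.mul_inv_rev]; group
  have hσr : σ ^ r ^ 1 = 1 := by
    refine Equiv.ext fun x => Subtype.ext ?_
    rw [pow_one, hσpow, Equiv.Perm.one_apply, mul_inv_eq_iff_eq_mul]
    apply Units.ext
    rw [Units.val_mul, Units.val_mul, hgr, Matrix.smul_mul, Matrix.one_mul, Matrix.mul_smul, Matrix.mul_one]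
  set C := R ⊓ Subgroup.centralizer {g} with hC
  have hfix : Fintype.card {x : R // σ x = x} = Nat.card C := by
    rw [← Nat.card_eq_fintype_card]
    refine Nat.card_congr
      { toFun := fun x => ⟨x.1.1, x.1.2, ?_⟩
        invFun := fun x => ⟨⟨x.1, x.2.1⟩, ?_⟩
        left_inv := fun x => rfl
        right_inv := fun x => rfl }
    · show _ ∈ Subgroup.centralizer _
      rw [Subgroup.mem_centralizer_singleton_iff]
      exact ((mul_inv_eq_iff_eq_mul.mp (congrArg Subtype.val x.2))).symm
    · apply Subtype.ext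
      show g * x.1 * g⁻¹ = x.1
      rw [mul_inv_eq_iff_eq_mul]
      exact (Subgroup.mem_centralizer_singleton_iff.mp x.2.2).symm
  have hmod := Equiv.Perm.card_compl_support_modEq hσr
  rw [← Fintype.card_of_subtype σ.supportᶜ (p := fun x => σ x = x)
    (fun x => by rw [Finset.mem_compl, Equiv.Perm.mem_support, not_not]), hfix, ← Nat.card_eq_fintype_card,
    S.card_eq] at hmod
  have hle : R ⊓ Cfsg.Geo.scalars ι F ≤ C := fun u hu => by
    obtain ⟨hu1, a, ha⟩ := scal_mem_iff.mp hu
    refine Subgroup.mem_inf.mpr ⟨hu1, Subgroup.mem_centralizer_singleton_iff.mpr (Units.ext ?_)⟩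
    rw [Units.val_mul, Units.val_mul, ha, Matrix.mul_smul, Matrix.mul_one, Matrix.smul_mul, Matrix.one_mul]
  obtain ⟨a, ha⟩ : z ∣ Nat.card C := S.card_scal ▸ Subgroup.card_dvd_of_le hle
  have hd := Subgroup.card_dvd_of_le (inf_le_left : C ≤ R)
  rw [S.card_eq, ha, mul_comm 16 z] at hd
  have hdd : a ∣ 2 ^ 4 := Nat.dvd_of_mul_dvd_mul_left (by rcases S.hz with h | h <;> omega) hd
  obtain ⟨k, hk, rfl⟩ := (Nat.dvd_prime_pow Nat.prime_two).mp hdd
  exact ⟨k, hk, by rw [ha, mul_comm], by rw [mul_comm, ← ha]; exact hmod⟩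

omit [Fintype F] in
lemma scalar_of_full {g : GL ι F} (hC : R ≤ Subgroup.centralizer {g}) : ∃ c : F, (g : MAT) = c • 1 :=
  S.irr _ fun u hu => (congrArg Units.val (Subgroup.mem_centralizer_singleton_iff.mp (hC hu))).symm

/-- Elements of order three modulo scalars. -/
theorem cases_three {g : GL ι F} (hg : g ∈ Cfsg.Geo.subgroupNormalizer R) {d : F}
    (hgr : ((g ^ 3 : GL ι F) : MAT) = d • 1) (hns : ∀ c : F, (g : MAT) ≠ c • 1) :
    (Nat.card ↥(R ⊓ Subgroup.centralizer {g}) = z ∧ (g : MAT).trace * ((g⁻¹ : GL ι F) : MAT).trace = 1) ∨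
      (g : MAT).trace * ((g⁻¹ : GL ι F) : MAT).trace = 4 := by
  haveI : Fact (Nat.Prime 3) := ⟨Nat.prime_three⟩
  obtain ⟨k, hk, hC, hmod⟩ := S.fixed_cases (r := 3) hg hgr
  have htr := S.trace_formula (r := 3) (by norm_num) hg hgr
  rw [hC, Nat.cast_mul, Nat.cast_pow, Nat.cast_ofNat] at htr
  have hgen : ((2 : F) ^ k) = (g : MAT).trace * ((g⁻¹ : GL ι F) : MAT).trace :=
    mul_right_cancel₀ S.z_ne (by linear_combination htr)
  unfold Nat.ModEq at hmod
  interval_cases k
  · left; exact ⟨by rw [hC]; simp, by rw [← hgen]; simp⟩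
  · exfalso; rcases S.hz with h | h <;> subst h <;> omega
  · right; rw [← hgen]; norm_num
  · exfalso; rcases S.hz with h | h <;> subst h <;> omega
  · exfalso
    obtain ⟨c, hc⟩ := S.scalar_of_full (g := g) fun u hu => by
      have : R ⊓ Subgroup.centralizer {g} = R := Subgroup.eq_of_le_of_card_ge inf_le_left (by rw [hC, S.card_eq]; norm_num)
      rw [← this] at hu; exact hu.2
    exact hns c hc

/-- Elements of order five modulo scalars. -/
theorem cases_five {g : GL ι F} (hg : g ∈ Cfsg.Geo.subgroupNormalizer R) {d : F}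
    (hgr : ((g ^ 5 : GL ι F) : MAT) = d • 1) (hns : ∀ c : F, (g : MAT) ≠ c • 1) :
    (g : MAT).trace * ((g⁻¹ : GL ι F) : MAT).trace = 1 := by
  haveI : Fact (Nat.Prime 5) := ⟨by norm_num⟩
  obtain ⟨k, hk, hC, hmod⟩ := S.fixed_cases (r := 5) hg hgr
  have htr := S.trace_formula (r := 5) (by norm_num) hg hgr
  rw [hC, Nat.cast_mul, Nat.cast_pow, Nat.cast_ofNat] at htr
  have hgen : ((2 : F) ^ k) = (g : MAT).trace * ((g⁻¹ : GL ι F) : MAT).trace :=
    mul_right_cancel₀ S.z_ne (by linear_combination htr)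
  unfold Nat.ModEq at hmod
  interval_cases k
  · rw [← hgen]; simp
  all_goals exfalso
  · rcases S.hz with h | h <;> subst h <;> omega
  · rcases S.hz with h | h <;> subst h <;> omega
  · rcases S.hz with h | h <;> subst h <;> omega
  · obtain ⟨c, hc⟩ := S.scalar_of_full (g := g) fun u hu => by
      have : R ⊓ Subgroup.centralizer {g} = R := Subgroup.eq_of_le_of_card_ge inf_le_left (by rw [hC, S.card_eq]; norm_num)
      rw [← this] at hu; exact hu.2
    exact hns c hc

/-- No element of prime order at least seven modulo scalars normalises the group. -/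
theorem scalar_of_seven {r : ℕ} [hr : Fact r.Prime] (h7 : 7 ≤ r) {g : GL ι F}
    (hg : g ∈ Cfsg.Geo.subgroupNormalizer R) {d : F} (hgr : ((g ^ r : GL ι F) : MAT) = d • 1) :
    ∃ c : F, (g : MAT) = c • 1 := by
  classical
  haveI := S.nonempty
  obtain ⟨k, hk, hC, hmod⟩ := S.fixed_cases hg hgr
  have hfull : k = 4 → ∃ c : F, (g : MAT) = c • 1 := fun h => S.scalar_of_full fun u hu => by
    have : R ⊓ Subgroup.centralizer {g} = R := Subgroup.eq_of_le_of_card_ge inf_le_left
      (by rw [hC, S.card_eq, h]; norm_num)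
    rw [← this] at hu; exact hu.2
  have h2k : 2 ^ k ≤ 16 := (Nat.pow_le_pow_right (by norm_num) hk : 2 ^ k ≤ 2 ^ 4)
  have hd := (Nat.modEq_iff_dvd' (Nat.mul_le_mul_right z h2k)).mp hmod
  rw [← Nat.sub_mul] at hd
  have hrz : ¬ r ∣ z := fun h => by
    rcases S.hz with hz | hz <;> subst hz <;> have := Nat.le_of_dvd (by norm_num) h <;> omega
  have hd' : r ∣ 16 - 2 ^ k := (hr.out.dvd_mul.mp hd).resolve_right hrz
  interval_cases k
  · exfalso
    have h15 : r ∣ 3 * 5 := hd'
    rcases hr.out.dvd_mul.mp h15 with h | h <;> have := Nat.le_of_dvd (by norm_num) h <;> omega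
  · exfalso
    have h14 : r ∣ 2 * 7 := hd'
    have hr7 : r = 7 := by
      rcases hr.out.dvd_mul.mp h14 with h | h <;> have := Nat.le_of_dvd (by norm_num) h <;> omega
    subst hr7
    set C := R ⊓ Subgroup.centralizer {g} with hCdef
    obtain ⟨w, hwC, hwns⟩ : ∃ w ∈ C, ∀ c : F, (w : MAT) ≠ c • 1 := by
      by_contra h
      push Not at h
      have hle : C ≤ R ⊓ Cfsg.Geo.scalars ι F := fun u hu =>
        scal_mem_iff.mpr ⟨hu.1, by obtain ⟨c, hc⟩ := h u hu; exact ⟨c, hc⟩⟩
      haveI : Finite ↥(R ⊓ Cfsg.Geo.scalars ι F) :=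
        Nat.finite_of_card_ne_zero (by rw [S.card_scal]; rcases S.hz with h | h <;> omega)
      have := Nat.le_of_dvd Nat.card_pos (Subgroup.card_dvd_of_le hle)
      rw [hC, S.card_scal] at this
      rcases S.hz with h | h <;> subst h <;> omega
    obtain ⟨v, hv, hvw⟩ := S.exists_anti hwC.1 hwns
    haveI : Fintype R := Fintype.ofFinite _
    let D := R ⊓ Subgroup.centralizer {w}
    have hmem : ∀ x : GL ι F, x ∈ R ↔ g * x * g⁻¹ ∈ R := Subgroup.mem_normalizer_iff.mp hg
    have hgw : g * w = w * g := (Subgroup.mem_centralizer_singleton_iff.mp hwC.2).symm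
    -- `D` has index two
    have hDidx : Nat.card R = 2 * Nat.card D := by
      let e : R ≃ D × Bool :=
        { toFun := fun u => if h : (u : GL ι F) ∈ Subgroup.centralizer {w} then (⟨u, u.2, h⟩, true)
            else (⟨(u : GL ι F) * v, mul_mem u.2 hv, Subgroup.mem_centralizer_singleton_iff.mpr (Units.ext (by
              have hu : ((u : GL ι F) : MAT) * w = -((w : MAT) * ((u : GL ι F) : MAT)) :=
                (S.comm _ u.2 _ hwC.1).resolve_left fun hh =>
                  h (Subgroup.mem_centralizer_singleton_iff.mpr (Units.ext hh))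
              simp only [Units.val_mul]
              rw [Matrix.mul_assoc, hvw, Matrix.mul_neg, ← Matrix.mul_assoc, hu, Matrix.neg_mul, neg_neg,
                Matrix.mul_assoc]))⟩, false)
          invFun := fun p => if p.2 then ⟨p.1, p.1.2.1⟩ else ⟨(p.1 : GL ι F) * v⁻¹, mul_mem p.1.2.1 (inv_mem hv)⟩
          left_inv := fun u => by
            by_cases h : (u : GL ι F) ∈ Subgroup.centralizer {w} <;> simp [h]
          right_inv := fun p => by
            obtain ⟨⟨d, hd1, hd2⟩, b⟩ := p
            have hdw : (d : MAT) * w = (w : MAT) * (d : MAT) :=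
              congrArg Units.val (Subgroup.mem_centralizer_singleton_iff.mp hd2)
            have hd2' : d ∈ Subgroup.centralizer {w} := hd2
            cases b
            · have hn : d * v⁻¹ ∉ Subgroup.centralizer {w} := by
                intro hh
                have hvinv : v⁻¹ ∈ Subgroup.centralizer {w} := by
                  have := mul_mem (inv_mem hd2') hh; rwa [inv_mul_cancel_left] at this
                have hvc := congrArg Units.val
                  (Subgroup.mem_centralizer_singleton_iff.mp (inv_inv v ▸ inv_mem hvinv))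
                rw [Units.val_mul, Units.val_mul, hvw] at hvc
                obtain ⟨i⟩ := S.nonempty
                have h2 : (2 : F) • ((w : MAT) * v) = 0 := by
                  rw [two_smul]; nth_rewrite 1 [← hvc]; rw [neg_add_cancel]
                have h0 := (smul_eq_zero.mp h2).resolve_left S.two
                rw [← Units.val_mul] at h0
                have hu := Units.mul_inv (w * v)
                rw [h0, Matrix.zero_mul] at hu
                exact zero_ne_one (congrFun (congrFun hu i) i |>.trans (Matrix.one_apply_eq i))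
              simp [hn]
            · simp [hd2'] }
      rw [Nat.card_congr e, Nat.card_prod, Nat.card_eq_fintype_card (α := Bool), Fintype.card_bool, mul_comm]
    let σ : Equiv.Perm D :=
      { toFun := fun x => ⟨g * x * g⁻¹, (hmem x).mp x.2.1, Subgroup.mem_centralizer_singleton_iff.mpr (by
          have hx := Subgroup.mem_centralizer_singleton_iff.mp x.2.2
          have hgw' : g⁻¹ * w = w * g⁻¹ := by rw [inv_mul_eq_iff_eq_mul, ← mul_assoc, hgw, mul_inv_cancel_right]
          calc g * x * g⁻¹ * w = g * x * (g⁻¹ * w) := by group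
            _ = g * (↑x * w) * g⁻¹ := by rw [hgw']; group
            _ = (g * w) * x * g⁻¹ := by rw [hx]; group
            _ = _ := by rw [hgw]; group)⟩
        invFun := fun x => ⟨g⁻¹ * x * g, (hmem _).mpr (by simpa [mul_assoc] using x.2.1),
          Subgroup.mem_centralizer_singleton_iff.mpr (by
          have hx := Subgroup.mem_centralizer_singleton_iff.mp x.2.2
          have hgw' : g⁻¹ * w = w * g⁻¹ := by rw [inv_mul_eq_iff_eq_mul, ← mul_assoc, hgw, mul_inv_cancel_right]
          calc g⁻¹ * x * g * w = g⁻¹ * x * (g * w) := by group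
            _ = g⁻¹ * (↑x * w) * g := by rw [hgw]; group
            _ = (g⁻¹ * w) * x * g := by rw [hx]; group
            _ = _ := by rw [hgw']; group)⟩
        left_inv := fun x => Subtype.ext (by simp [mul_assoc])
        right_inv := fun x => Subtype.ext (by simp [mul_assoc]) }
    have hσpow : ∀ (j : ℕ) (x : D), (((σ ^ j) x : D) : GL ι F) = g ^ j * x * (g ^ j)⁻¹ := by
      intro j
      induction j with
      | zero => intro x; simp
      | succ j ih =>
        intro x
        rw [pow_succ', Equiv.Perm.mul_apply]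
        show g * _ * g⁻¹ = _
        rw [ih, pow_succ', _root_.mul_inv_rev]; group
    haveI : Fintype D := Fintype.ofFinite _
    have hσr : σ ^ 7 ^ 1 = 1 := by
      refine Equiv.ext fun x => Subtype.ext ?_
      rw [pow_one, hσpow, Equiv.Perm.one_apply, mul_inv_eq_iff_eq_mul]
      apply Units.ext
      rw [Units.val_mul, Units.val_mul, hgr, Matrix.smul_mul, Matrix.one_mul, Matrix.mul_smul, Matrix.mul_one]
    have hwcen : ∀ u ∈ C, u * w = w * u := by
      intro u hu
      -- `C` is generated by `w` and the scalars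
      by_contra hne
      let K := C ⊓ Subgroup.centralizer {w}
      have hKC : Nat.card K < Nat.card C := by
        refine lt_of_le_of_ne (Nat.le_of_dvd Nat.card_pos (Subgroup.card_dvd_of_le inf_le_left)) fun h => hne ?_
        have : K = C := Subgroup.eq_of_le_of_card_ge inf_le_left h.ge
        rw [← this] at hu
        exact Subgroup.mem_centralizer_singleton_iff.mp hu.2
      have hwK : w ∈ K := ⟨hwC, Subgroup.mem_centralizer_singleton_iff.mpr rfl⟩
      have hsK : R ⊓ Cfsg.Geo.scalars ι F ≤ K := fun u hu => by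
        obtain ⟨hu1, a, ha⟩ := scal_mem_iff.mp hu
        have hcent : ∀ y : GL ι F, u ∈ Subgroup.centralizer {y} := fun y =>
          Subgroup.mem_centralizer_singleton_iff.mpr (Units.ext (by
            rw [Units.val_mul, Units.val_mul, ha, Matrix.mul_smul, Matrix.mul_one, Matrix.smul_mul, Matrix.one_mul]))
        exact ⟨⟨hu1, hcent g⟩, hcent w⟩
      have hsK' : Nat.card ↥(R ⊓ Cfsg.Geo.scalars ι F) < Nat.card K := by
        refine lt_of_le_of_ne (Nat.le_of_dvd Nat.card_pos (Subgroup.card_dvd_of_le hsK)) fun h => ?_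
        have heq := Subgroup.eq_of_le_of_card_ge hsK h.ge
        rw [← heq] at hwK
        obtain ⟨-, a, ha⟩ := scal_mem_iff.mp hwK
        exact hwns a ha
      have hd1 := Subgroup.card_dvd_of_le hsK
      have hd2 := Subgroup.card_dvd_of_le (inf_le_left : K ≤ C)
      rw [hC] at hd2 hKC
      rw [S.card_scal] at hd1 hsK'
      rcases S.hz with h | h <;> subst h
      · have : Nat.card K ≤ 4 := Nat.le_of_dvd (by norm_num) hd2
        interval_cases hj : Nat.card K <;> omega
      · have : Nat.card K ≤ 8 := Nat.le_of_dvd (by norm_num) hd2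
        interval_cases hj : Nat.card K <;> omega
    have hfix : Fintype.card {x : D // σ x = x} = Nat.card C := by
      rw [← Nat.card_eq_fintype_card]
      refine Nat.card_congr
        { toFun := fun x => ⟨x.1.1, x.1.2.1, ?_⟩
          invFun := fun x => ⟨⟨x.1, x.2.1, ?_⟩, ?_⟩
          left_inv := fun x => rfl
          right_inv := fun x => rfl }
      · show _ ∈ Subgroup.centralizer _
        rw [Subgroup.mem_centralizer_singleton_iff]
        exact ((mul_inv_eq_iff_eq_mul.mp (congrArg Subtype.val x.2))).symm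
      · exact Subgroup.mem_centralizer_singleton_iff.mpr (hwcen x.1 x.2)
      · apply Subtype.ext
        show g * x.1 * g⁻¹ = x.1
        rw [mul_inv_eq_iff_eq_mul]
        exact (Subgroup.mem_centralizer_singleton_iff.mp x.2.2).symm
    have hm := Equiv.Perm.card_compl_support_modEq hσr
    rw [← Fintype.card_of_subtype σ.supportᶜ (p := fun x => σ x = x)
      (fun x => by rw [Finset.mem_compl, Equiv.Perm.mem_support, not_not]), hfix, hC, ← Nat.card_eq_fintype_card] at hm
    rw [S.card_eq] at hDidx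
    unfold Nat.ModEq at hm
    rcases S.hz with h | h <;> subst h <;> omega
  · exfalso
    have h12 : r ∣ 2 ^ 2 * 3 := hd'
    rcases hr.out.dvd_mul.mp h12 with h | h
    · have := Nat.le_of_dvd (by norm_num) (hr.out.dvd_of_dvd_pow h); omega
    · have := Nat.le_of_dvd (by norm_num) h; omega
  · exfalso
    have h8 : r ∣ 2 ^ 3 := hd'
    have := Nat.le_of_dvd (by norm_num) (hr.out.dvd_of_dvd_pow h8); omega
  · exact hfull rfl

end Sym4

end H47
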