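import Mathlib
import Cfsg.Agent.H47.SymFrame

/-!
# Normalising elements for symplectic-type two-groups
-/

set_option autoImplicit false
open scoped MatrixGroups Matrix
open Matrix

namespace H47

variable {F : Type*} [Field F] {ι : Type} [Fintype ι] [DecidableEq ι]

local notation "MAT" => Matrix ι ι F

/-- Conjugation mapping generators into a finite group normalises it. -/
lemma normalize_of_map_le {G : Type*} [Group G] [Finite G] {R : Subgroup G} {g : G}
    (h : ∀ u ∈ R, g * u * g⁻¹ ∈ R) : g ∈ Subgroup.normalizer (R : Set G) := by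
  have hle : R.map (MulAut.conj g).toMonoidHom ≤ R := by rintro _ ⟨u, hu, rfl⟩; exact h u hu
  have heq : R.map (MulAut.conj g).toMonoidHom = R :=
    Subgroup.eq_of_le_of_card_ge hle (le_of_eq (Subgroup.card_map_of_injective (MulAut.conj g).injective).symm)
  refine Subgroup.mem_normalizer_iff.mpr fun u => ⟨h u, fun hu => ?_⟩
  obtain ⟨y, hy, hyu⟩ : g * u * g⁻¹ ∈ R.map (MulAut.conj g).toMonoidHom := by rw [heq]; exact hu
  have : y = u := (MulAut.conj g).injective hyu
  exact this ▸ hy

namespace Sym4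

variable [Fintype F] {R : Subgroup (GL ι F)} {z : ℕ} (S : Sym4 R z)
include S

omit [Fintype F] in
lemma finite : Finite R :=
  Nat.finite_of_card_ne_zero (by rw [S.card_eq]; rcases S.hz with h | h <;> omega)

omit [Fintype F] in
/-- `-1` lies in the group. -/
lemma neg_one_mem : (-1 : GL ι F) ∈ R := by
  haveI := S.finite
  by_contra hn
  have hle : R ≤ R ⊓ Cfsg.Geo.scalars ι F := by
    intro u hu
    refine scal_mem_iff.mpr ⟨hu, ?_⟩
    by_contra h
    push Not at h
    obtain ⟨v, hv, hvu⟩ := S.exists_anti hu h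
    refine hn ?_
    have : (-1 : GL ι F) = v * u * v⁻¹ * u⁻¹ := by
      apply Units.ext
      rw [Units.val_mul, Units.val_mul, Units.val_mul, hvu, Matrix.neg_mul, Matrix.neg_mul,
        Matrix.mul_assoc (u : MAT) (v : MAT), Units.mul_inv, Matrix.mul_one, Units.mul_inv, Units.val_neg, Units.val_one]
    rw [this]
    exact mul_mem (mul_mem (mul_mem hv hu) (inv_mem hv)) (inv_mem hu)
  haveI : Finite ↥(R ⊓ Cfsg.Geo.scalars ι F) :=
    Nat.finite_of_card_ne_zero (by rw [S.card_scal]; rcases S.hz with h | h <;> omega)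
  have := Nat.le_of_dvd Nat.card_pos (Subgroup.card_dvd_of_le hle)
  rw [S.card_eq, S.card_scal] at this
  rcases S.hz with h | h <;> omega

omit [Fintype F] in
lemma neg_mem' {u : GL ι F} (hu : u ∈ R) : -u ∈ R := by
  rw [← neg_one_mul]; exact mul_mem S.neg_one_mem hu

omit [Fintype F] in
lemma nonscalar_of_anti {u v : GL ι F} (h : (v : MAT) * u = -((u : MAT) * v)) : ∀ c : F, (u : MAT) ≠ c • 1 := by
  intro c hc
  obtain ⟨i⟩ := S.nonempty
  rw [hc, Matrix.mul_smul, Matrix.mul_one, Matrix.smul_mul, Matrix.one_mul, eq_neg_iff_add_eq_zero,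
    ← two_smul F, smul_smul] at h
  have hv : (v : MAT) ≠ 0 := by
    intro h0
    have := Units.mul_inv v
    rw [h0, Matrix.zero_mul] at this
    exact zero_ne_one (congrFun (congrFun this i) i |>.trans (Matrix.one_apply_eq i))
  have hc0 : c = 0 := (mul_eq_zero.mp ((smul_eq_zero.mp h).resolve_right hv)).resolve_left S.two
  have := Units.mul_inv u
  rw [hc, hc0, zero_smul, Matrix.zero_mul] at this
  exact zero_ne_one (congrFun (congrFun this i) i |>.trans (Matrix.one_apply_eq i))

/-- Only scalars of the group commute with four of the five involutions. -/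
theorem gam_scalar {Γ : Fin 5 → GL ι F} (hΓ : Gam R Γ) {u : GL ι F} (hu : u ∈ R)
    (hc : ∀ k : Fin 4, (u : MAT) * Γ k.castSucc = (Γ k.castSucc : MAT) * u) : ∃ c : F, (u : MAT) = c • 1 := by
  classical
  haveI := S.finite
  haveI := S.nonempty
  let sg : R → Fin 4 → ℤˣ := fun v k =>
    if ((v : GL ι F) : MAT) * Γ k.castSucc = (Γ k.castSucc : MAT) * ((v : GL ι F) : MAT) then 1 else -1
  have hne : ∀ (v : GL ι F) (k : Fin 4), (v : MAT) * Γ k.castSucc = -((Γ k.castSucc : MAT) * v) →
      ¬ (v : MAT) * Γ k.castSucc = (Γ k.castSucc : MAT) * v := by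
    intro v k h h'
    refine S.nonscalar_of_anti (u := v) (v := Γ k.castSucc) (by rw [h, neg_neg]) 0 ?_
    have h2 : (2 : F) • ((Γ k.castSucc : MAT) * v) = 0 := by
      rw [two_smul]; nth_rewrite 1 [← h']; rw [h, neg_add_cancel]
    have h0 := (smul_eq_zero.mp h2).resolve_left S.two
    rw [zero_smul, ← Matrix.one_mul (v : MAT), ← hΓ.sq k.castSucc, Matrix.mul_assoc, h0, Matrix.mul_zero]
  let φ : R →* (Fin 4 → ℤˣ) :=
    { toFun := sg
      map_one' := funext fun k => by simp [sg]
      map_mul' := fun v w => funext fun k => by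
        set g := (Γ k.castSucc : MAT)
        have hgm := hΓ.mem k.castSucc
        rcases S.comm v v.2 _ hgm with hv | hv <;> rcases S.comm w w.2 _ hgm with hw | hw
        · have : ((v : GL ι F) : MAT) * ((w : GL ι F) : MAT) * g = g * (((v : GL ι F) : MAT) * ((w : GL ι F) : MAT)) := by
            rw [Matrix.mul_assoc, hw, ← Matrix.mul_assoc, hv, Matrix.mul_assoc]
          simp [sg, g, hv, hw, this]
        · have : ((v * w : R) : GL ι F).1 * g = -(g * ((v * w : R) : GL ι F).1) := by
            show ((v : GL ι F) : MAT) * ((w : GL ι F) : MAT) * g = -(g * (((v : GL ι F) : MAT) * ((w : GL ι F) : MAT)))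
            rw [Matrix.mul_assoc, hw, Matrix.mul_neg, ← Matrix.mul_assoc, hv, Matrix.mul_assoc]
          simp only [sg, g, Pi.mul_apply, if_neg (hne _ k this), if_pos hv, if_neg (hne _ k hw), one_mul]
        · have : ((v * w : R) : GL ι F).1 * g = -(g * ((v * w : R) : GL ι F).1) := by
            show ((v : GL ι F) : MAT) * ((w : GL ι F) : MAT) * g = -(g * (((v : GL ι F) : MAT) * ((w : GL ι F) : MAT)))
            rw [Matrix.mul_assoc, hw, ← Matrix.mul_assoc, hv, Matrix.neg_mul, Matrix.mul_assoc]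
          simp only [sg, g, Pi.mul_apply, if_neg (hne _ k this), if_pos hw, if_neg (hne _ k hv), mul_one]
        · have : ((v * w : R) : GL ι F).1 * g = g * ((v * w : R) : GL ι F).1 := by
            show ((v : GL ι F) : MAT) * ((w : GL ι F) : MAT) * g = g * (((v : GL ι F) : MAT) * ((w : GL ι F) : MAT))
            rw [Matrix.mul_assoc, hw, Matrix.mul_neg, ← Matrix.mul_assoc, hv, Matrix.neg_mul, neg_neg, Matrix.mul_assoc]
          simp only [sg, g, Pi.mul_apply, if_pos this, if_neg (hne _ k hv), if_neg (hne _ k hw)]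
          rfl }
  let γ : Fin 4 → R := fun j => ⟨Γ j.castSucc, hΓ.mem _⟩
  have hγ : ∀ j k : Fin 4, φ (γ j) k = if j = k then 1 else -1 := by
    intro j k
    by_cases h : j = k
    · subst h; simp [φ, sg, γ]
    · have := hne (Γ j.castSucc) k (hΓ.anti _ _ (fun e => h (Fin.castSucc_injective _ e)))
      simp only [φ, sg, γ, MonoidHom.coe_mk, OneHom.coe_mk, if_neg this, if_neg h]
  have hsurj : Function.Surjective φ := by
    rw [← MonoidHom.range_eq_top, eq_top_iff]
    intro x _
    rw [← Finset.univ_prod_mulSingle x]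
    refine Subgroup.prod_mem _ fun k _ => ?_
    rcases Int.units_eq_one_or (x k) with hx | hx <;> rw [hx]
    · rw [Pi.mulSingle_one]; exact one_mem _
    · refine ⟨γ (k + 1) * γ (k + 2) * γ (k + 3), ?_⟩
      funext l
      rw [map_mul, map_mul, Pi.mul_apply, Pi.mul_apply, hγ, hγ, hγ]
      fin_cases k <;> fin_cases l <;> decide
  have hker : Nat.card φ.ker = z := by
    have h := Subgroup.card_eq_card_quotient_mul_card_subgroup φ.ker
    rw [Nat.card_congr (QuotientGroup.quotientKerEquivOfSurjective φ hsurj).toEquiv, S.card_eq] at h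
    have h16 : Nat.card (Fin 4 → ℤˣ) = 16 := by simp [Nat.card_eq_fintype_card]
    rw [h16] at h; omega
  have hle : (R ⊓ Cfsg.Geo.scalars ι F).subgroupOf R ≤ φ.ker := by
    intro v hv
    obtain ⟨-, a, ha⟩ := scal_mem_iff.mp (Subgroup.mem_subgroupOf.mp hv)
    refine MonoidHom.mem_ker.mpr (funext fun k => if_pos ?_)
    rw [ha, Matrix.smul_mul, Matrix.one_mul, Matrix.mul_smul, Matrix.mul_one]
  have heq : (R ⊓ Cfsg.Geo.scalars ι F).subgroupOf R = φ.ker :=
    Subgroup.eq_of_le_of_card_ge hle (by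
      rw [hker, Nat.card_congr (Subgroup.subgroupOfEquivOfLe (inf_le_left : R ⊓ Cfsg.Geo.scalars ι F ≤ R)).toEquiv,
        S.card_scal])
  have hmem : (⟨u, hu⟩ : R) ∈ (R ⊓ Cfsg.Geo.scalars ι F).subgroupOf R := by
    rw [heq, MonoidHom.mem_ker]; exact funext fun k => if_pos (hc k)
  exact (scal_mem_iff.mp (Subgroup.mem_subgroupOf.mp hmem)).2

/-- The group is generated by four of the involutions and its scalars. -/
theorem gam_generate {Γ : Fin 5 → GL ι F} (hΓ : Gam R Γ) {K : Subgroup (GL ι F)}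
    (hsc : ∀ v ∈ R, (∃ c : F, (v : MAT) = c • 1) → v ∈ K) (hc : ∀ k : Fin 4, Γ k.castSucc ∈ K) : R ≤ K := by
  classical
  intro u hu
  have key : ∀ k : Fin 4, ∀ v ∈ R, ∃ w ∈ K, w ∈ R ∧ ((v * w : GL ι F) : MAT) * Γ k.castSucc = (Γ k.castSucc : MAT) * ((v * w : GL ι F) : MAT) ∧
      ∀ l : Fin 4, l ≠ k → (w : MAT) * Γ l.castSucc = (Γ l.castSucc : MAT) * w := by
    intro k v hv
    rcases S.comm v hv _ (hΓ.mem k.castSucc) with h | h
    · exact ⟨1, one_mem _, one_mem _, by simpa using h, fun l _ => by simp⟩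
    · refine ⟨Γ (k + 1).castSucc * Γ (k + 2).castSucc * Γ (k + 3).castSucc,
        mul_mem (mul_mem (hc (k + 1)) (hc (k + 2))) (hc (k + 3)),
        mul_mem (mul_mem (hΓ.mem _) (hΓ.mem _)) (hΓ.mem _), ?_, ?_⟩
      · have a1 := hΓ.anti (k + 1).castSucc k.castSucc (by fin_cases k <;> decide)
        have a2 := hΓ.anti (k + 2).castSucc k.castSucc (by fin_cases k <;> decide)
        have a3 := hΓ.anti (k + 3).castSucc k.castSucc (by fin_cases k <;> decide)
        set A := (Γ (k + 1).castSucc : MAT)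
        set B := (Γ (k + 2).castSucc : MAT)
        set D := (Γ (k + 3).castSucc : MAT)
        set G := (Γ k.castSucc : MAT)
        set V := (v : MAT)
        show V * (A * B * D) * G = G * (V * (A * B * D))
        calc V * (A * B * D) * G = V * (A * (B * (D * G))) := by simp only [Matrix.mul_assoc]
          _ = -(V * (A * ((B * G) * D))) := by rw [a3]; simp only [Matrix.mul_neg, Matrix.mul_assoc]
          _ = V * ((A * G) * (B * D)) := by
              rw [a2]; simp only [Matrix.mul_neg, Matrix.neg_mul, Matrix.mul_assoc, neg_neg]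
          _ = -((V * G) * (A * (B * D))) := by
              rw [a1]; simp only [Matrix.mul_neg, Matrix.neg_mul, Matrix.mul_assoc]
          _ = _ := by rw [h]; simp only [Matrix.neg_mul, neg_neg, Matrix.mul_assoc]
      · intro l hl
        have key2 : ∀ a b c : Fin 5, a ≠ b → a ≠ c →
            ((Γ a : MAT) * Γ b * Γ c) * Γ a = (Γ a : MAT) * ((Γ a : MAT) * Γ b * Γ c) ∧
            ((Γ b : MAT) * Γ a * Γ c) * Γ a = (Γ a : MAT) * ((Γ b : MAT) * Γ a * Γ c) ∧
            ((Γ b : MAT) * Γ c * Γ a) * Γ a = (Γ a : MAT) * ((Γ b : MAT) * Γ c * Γ a) := by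
          intro a b c hab hac
          have e1 : ∀ X : MAT, (Γ b : MAT) * ((Γ a : MAT) * X) = -((Γ a : MAT) * ((Γ b : MAT) * X)) := fun X => by
            rw [← Matrix.mul_assoc, hΓ.anti b a hab.symm, Matrix.neg_mul, Matrix.mul_assoc]
          have e2 : ∀ X : MAT, (Γ c : MAT) * ((Γ a : MAT) * X) = -((Γ a : MAT) * ((Γ c : MAT) * X)) := fun X => by
            rw [← Matrix.mul_assoc, hΓ.anti c a hac.symm, Matrix.neg_mul, Matrix.mul_assoc]
          have e3 := hΓ.anti c a hac.symm
          refine ⟨?_, ?_, ?_⟩ <;>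
            simp only [Matrix.mul_assoc, e1, e2, e3, hΓ.sq, Matrix.mul_neg, Matrix.neg_mul, neg_neg, Matrix.mul_one]
        show ((Γ (k + 1).castSucc : MAT) * Γ (k + 2).castSucc * Γ (k + 3).castSucc) * _ = _
        have hl' : l = k + 1 ∨ l = k + 2 ∨ l = k + 3 := by
          fin_cases k <;> fin_cases l <;> first | (exact absurd rfl hl) | decide
        rcases hl' with rfl | rfl | rfl
        · exact (key2 (k + 1).castSucc (k + 2).castSucc (k + 3).castSucc (by fin_cases k <;> decide)
            (by fin_cases k <;> decide)).1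
        · exact (key2 (k + 2).castSucc (k + 1).castSucc (k + 3).castSucc (by fin_cases k <;> decide)
            (by fin_cases k <;> decide)).2.1
        · exact (key2 (k + 3).castSucc (k + 1).castSucc (k + 2).castSucc (by fin_cases k <;> decide)
            (by fin_cases k <;> decide)).2.2
  have hstep : ∀ (v w : GL ι F) (l : Fin 4), (v : MAT) * Γ l.castSucc = (Γ l.castSucc : MAT) * v →
      (w : MAT) * Γ l.castSucc = (Γ l.castSucc : MAT) * w →
      ((v * w : GL ι F) : MAT) * Γ l.castSucc = (Γ l.castSucc : MAT) * ((v * w : GL ι F) : MAT) := fun v w l h1 h2 => by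
    rw [Units.val_mul, Matrix.mul_assoc, h2, ← Matrix.mul_assoc, h1, Matrix.mul_assoc]
  obtain ⟨w0, k0, m0, c0, o0⟩ := key 0 u hu
  obtain ⟨w1, k1, m1, c1, o1⟩ := key 1 (u * w0) (mul_mem hu m0)
  obtain ⟨w2, k2, m2, c2, o2⟩ := key 2 (u * w0 * w1) (mul_mem (mul_mem hu m0) m1)
  obtain ⟨w3, k3, m3, c3, o3⟩ := key 3 (u * w0 * w1 * w2) (mul_mem (mul_mem (mul_mem hu m0) m1) m2)
  obtain ⟨a, ha⟩ := S.gam_scalar hΓ (mul_mem (mul_mem (mul_mem (mul_mem hu m0) m1) m2) m3) (fun l => by
    fin_cases l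
    · exact hstep _ _ _ (hstep _ _ _ (hstep _ _ _ c0 (o1 0 (by decide))) (o2 0 (by decide))) (o3 0 (by decide))
    · exact hstep _ _ _ (hstep _ _ _ c1 (o2 1 (by decide))) (o3 1 (by decide))
    · exact hstep _ _ _ c2 (o3 2 (by decide))
    · exact c3)
  have hall : u * w0 * w1 * w2 * w3 ∈ K :=
    hsc _ (mul_mem (mul_mem (mul_mem (mul_mem hu m0) m1) m2) m3) ⟨a, ha⟩
  have := mul_mem (mul_mem (mul_mem (mul_mem hall (inv_mem k3)) (inv_mem k2)) (inv_mem k1)) (inv_mem k0)
  simpa [mul_assoc] using this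

/-- A matrix commuting with four of the involutions is scalar. -/
theorem gam_commutant {Γ : Fin 5 → GL ι F} (hΓ : Gam R Γ) {M : MAT}
    (hc : ∀ k : Fin 4, M * Γ k.castSucc = (Γ k.castSucc : MAT) * M) : ∃ c : F, M = c • 1 := by
  classical
  refine S.irr M fun u hu => ?_
  -- the elements of `R` commuting with `M` form a subgroup containing the generators
  let K : Subgroup (GL ι F) :=
    { carrier := {v | M * (v : MAT) = (v : MAT) * M}
      one_mem' := by simp
      mul_mem' := fun {a b} ha hb => by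
        show M * ((a * b : GL ι F) : MAT) = ((a * b : GL ι F) : MAT) * M
        rw [Units.val_mul, ← Matrix.mul_assoc, ha, Matrix.mul_assoc, hb, Matrix.mul_assoc]
      inv_mem' := fun {a} ha => by
        show M * ((a⁻¹ : GL ι F) : MAT) = ((a⁻¹ : GL ι F) : MAT) * M
        calc M * ((a⁻¹ : GL ι F) : MAT) = ((a⁻¹ : GL ι F) : MAT) * ((a : MAT) * M) * ((a⁻¹ : GL ι F) : MAT) := by
              rw [← Matrix.mul_assoc, Units.inv_mul, Matrix.one_mul]
          _ = ((a⁻¹ : GL ι F) : MAT) * (M * (a : MAT)) * ((a⁻¹ : GL ι F) : MAT) := by rw [ha]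
          _ = _ := by rw [Matrix.mul_assoc, Matrix.mul_assoc, Units.mul_inv, Matrix.mul_one] }
  refine S.gam_generate hΓ (K := K) (fun v _ hv => ?_) (fun k => hc k) hu
  obtain ⟨a, ha⟩ := hv
  show M * (v : MAT) = (v : MAT) * M
  rw [ha, Matrix.mul_smul, Matrix.mul_one, Matrix.smul_mul, Matrix.one_mul]

/-- An element moving the involutions into the group normalises it. -/
theorem gam_normalize {Γ : Fin 5 → GL ι F} (hΓ : Gam R Γ) {g : GL ι F}
    (hg : ∀ k : Fin 4, g * Γ k.castSucc * g⁻¹ ∈ R) : g ∈ Cfsg.Geo.subgroupNormalizer R := by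
  classical
  refine normalize_of_map_le fun u hu => ?_
  -- the subgroup of elements moved into `R`
  let K : Subgroup (GL ι F) := R ⊓ R.comap (MulAut.conj g).toMonoidHom
  have hK : ∀ k : Fin 4, Γ k.castSucc ∈ K := fun k => Subgroup.mem_inf.mpr ⟨hΓ.mem _, hg k⟩
  suffices hRK : R ≤ K from (hRK hu).2
  refine S.gam_generate hΓ (fun v hv hsv => ?_) hK
  obtain ⟨c, hc⟩ := hsv
  refine Subgroup.mem_inf.mpr ⟨hv, ?_⟩
  show g * v * g⁻¹ ∈ R
  have : g * v = v * g := Units.ext (by
    rw [Units.val_mul, Units.val_mul, hc, Matrix.mul_smul, Matrix.mul_one, Matrix.smul_mul, Matrix.one_mul])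
  rw [this, mul_inv_cancel_right]; exact hv

/-- A quaternion pair gives an element of order three normalising the group. -/
theorem exists_quat_three {P Q : GL ι F} (hP : P ∈ R) (hQ : Q ∈ R) (hPP : (P : MAT) * P = -1)
    (hQQ : (Q : MAT) * Q = -1) (hQP : (Q : MAT) * P = -((P : MAT) * Q)) :
    ∃ A : GL ι F, A ^ 3 = 1 ∧ A ∈ Subgroup.normalizer (R : Set (GL ι F)) ∧
      (A : MAT) = (2 : F)⁻¹ • (-1 + P + Q + (P : MAT) * Q) ∧ (A : MAT).det = 1 := by
  classical
  haveI := S.nonempty
  haveI := S.finite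
  set p : MAT := (P : MAT) with hp
  set q : MAT := (Q : MAT) with hq
  have pp' : ∀ X : MAT, p * (p * X) = -X := fun X => by rw [← Matrix.mul_assoc, hPP, Matrix.neg_mul, Matrix.one_mul]
  have qq' : ∀ X : MAT, q * (q * X) = -X := fun X => by rw [← Matrix.mul_assoc, hQQ, Matrix.neg_mul, Matrix.one_mul]
  have qp' : ∀ X : MAT, q * (p * X) = -(p * (q * X)) := fun X => by
    rw [← Matrix.mul_assoc, hQP, Matrix.neg_mul, Matrix.mul_assoc]
  set s : MAT := -1 + p + q + p * q with hs
  have hs2 : s * s = (-2 : F) • (1 + p + q + p * q) := by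
    simp only [hs, Matrix.mul_add, Matrix.add_mul, Matrix.neg_mul, Matrix.mul_neg, Matrix.one_mul, Matrix.mul_one,
      Matrix.mul_assoc, hPP, hQQ, hQP, pp', qq', qp', neg_neg]
    module
  have hs3 : s * (s * s) = (8 : F) • 1 := by
    rw [hs2]
    simp only [hs, Matrix.mul_smul, Matrix.mul_add, Matrix.add_mul, Matrix.neg_mul, Matrix.mul_neg, Matrix.one_mul,
      Matrix.mul_one, Matrix.mul_assoc, hPP, hQQ, hQP, pp', qq', qp', neg_neg]
    module
  set a : MAT := (2 : F)⁻¹ • s with ha
  have ha3 : a * (a * a) = 1 := by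
    simp only [ha, Matrix.smul_mul, Matrix.mul_smul, smul_smul, hs3]
    have : (2 : F)⁻¹ * (2 : F)⁻¹ * ((2 : F)⁻¹ * 8) = 1 := by
      have := S.two; field_simp; norm_num
    rw [this, one_smul]
  let A : GL ι F := ⟨a, a * a, ha3, by rw [Matrix.mul_assoc]; exact ha3⟩
  have hA3 : A ^ 3 = 1 := Units.ext (by
    rw [Units.val_pow_eq_pow_val, pow_succ', pow_two, Units.val_one]; exact ha3)
  have hAP : a * p = (p * q) * a := by
    simp only [ha, hs, Matrix.smul_mul, Matrix.mul_smul, Matrix.mul_add, Matrix.add_mul, Matrix.neg_mul,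
      Matrix.mul_neg, Matrix.one_mul, Matrix.mul_one, Matrix.mul_assoc, hPP, hQQ, hQP, pp', qq', qp', neg_neg]
    module
  have hAQ : a * q = p * a := by
    simp only [ha, hs, Matrix.smul_mul, Matrix.mul_smul, Matrix.mul_add, Matrix.add_mul, Matrix.neg_mul,
      Matrix.mul_neg, Matrix.one_mul, Matrix.mul_one, Matrix.mul_assoc, hPP, hQQ, hQP, pp', qq', qp', neg_neg]
    module
  let K : Subgroup (GL ι F) := R ⊓ R.comap (MulAut.conj A).toMonoidHom
  have hK : ∀ {u : GL ι F}, u ∈ K ↔ u ∈ R ∧ A * u * A⁻¹ ∈ R := Iff.rfl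
  have hPK : P ∈ K := hK.mpr ⟨hP, by
    have : A * P = P * Q * A := Units.ext hAP
    rw [this, mul_inv_cancel_right]; exact mul_mem hP hQ⟩
  have hQK : Q ∈ K := hK.mpr ⟨hQ, by
    have : A * Q = P * A := Units.ext hAQ
    rw [this, mul_inv_cancel_right]; exact hP⟩
  have hcK : ∀ u ∈ R, (u : MAT) * p = p * u → (u : MAT) * q = q * u → u ∈ K := by
    intro u hu h1 h2
    refine hK.mpr ⟨hu, ?_⟩
    have : A * u = u * A := Units.ext (by
      show a * (u : MAT) = (u : MAT) * a
      simp only [ha, hs, Matrix.smul_mul, Matrix.mul_smul, Matrix.mul_add, Matrix.add_mul, Matrix.neg_mul,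
        Matrix.mul_neg, Matrix.one_mul, Matrix.mul_one]
      rw [← h1, ← h2, Matrix.mul_assoc, ← h2, ← Matrix.mul_assoc, ← h1, Matrix.mul_assoc])
    rw [this, mul_inv_cancel_right]; exact hu
  have hRK : R ≤ K := by
    intro u hu
    have hmk : ∀ w ∈ K, u * w ∈ K → u ∈ K := fun w hw h => by simpa using mul_mem h (inv_mem hw)
    rcases S.comm u hu P hP with h1 | h1 <;> rcases S.comm u hu Q hQ with h2 | h2
    · exact hcK u hu h1 h2
    · refine hmk P hPK (hcK _ (mul_mem hu hP) ?_ ?_) <;> rw [Units.val_mul]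
      · rw [← hp, ← Matrix.mul_assoc p, ← h1]
      · rw [← hp, Matrix.mul_assoc, show p * q = -(q * p) by rw [hQP, neg_neg], Matrix.mul_neg, ← Matrix.mul_assoc,
          h2, Matrix.neg_mul, neg_neg, Matrix.mul_assoc]
    · refine hmk Q hQK (hcK _ (mul_mem hu hQ) ?_ ?_) <;> rw [Units.val_mul]
      · rw [← hq, Matrix.mul_assoc, hQP, Matrix.mul_neg, ← Matrix.mul_assoc, h1, Matrix.neg_mul, neg_neg,
          Matrix.mul_assoc]
      · rw [← hq, ← Matrix.mul_assoc q, ← h2]
    · refine hmk (P * Q) (mul_mem hPK hQK) (hcK _ (mul_mem hu (mul_mem hP hQ)) ?_ ?_) <;>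
        rw [Units.val_mul, Units.val_mul, ← hp, ← hq]
      · rw [show (u : MAT) * (p * q) * p = -((u : MAT) * p * (p * q)) by
          simp only [Matrix.mul_assoc, hQP, pp', Matrix.mul_neg]]
        rw [h1]; simp only [Matrix.neg_mul, neg_neg, Matrix.mul_assoc]; rfl
      · rw [show (u : MAT) * (p * q) * q = -((u : MAT) * q * (p * q)) by
          simp only [Matrix.mul_assoc, hQQ, qp', Matrix.mul_neg, Matrix.mul_one, neg_neg]]
        rw [h2]; simp only [Matrix.neg_mul, neg_neg, Matrix.mul_assoc]; rfl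
  refine ⟨A, hA3, normalize_of_map_le fun u hu => (hK.mp (hRK hu)).2, rfl, ?_⟩
  -- the element is conjugate to its inverse
  set v : MAT := p - q with hv
  have hvv : v * v = (-2 : F) • 1 := by
    simp only [hv, Matrix.mul_sub, Matrix.sub_mul, hPP, hQQ, hQP]
    module
  have hinv : v * a = (a * a) * v := by
    simp only [ha, Matrix.smul_mul, Matrix.mul_smul, hs2, smul_smul]
    simp only [hv, hs, Matrix.mul_add, Matrix.add_mul, Matrix.sub_mul, Matrix.mul_sub, Matrix.neg_mul,
      Matrix.mul_neg, Matrix.one_mul, Matrix.mul_one, Matrix.mul_assoc, hPP, hQQ, hQP, pp', qq', qp', neg_neg]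
    have := S.two
    match_scalars <;> field_simp <;> ring
  have hd := congrArg Matrix.det hinv
  rw [Matrix.det_mul, Matrix.det_mul, Matrix.det_mul, mul_comm v.det] at hd
  have hvd : v.det ≠ 0 := fun h0 => by
    have h' := congrArg Matrix.det hvv
    rw [Matrix.det_mul, h0, zero_mul, Matrix.det_smul, Matrix.det_one, mul_one, S.dim] at h'
    exact pow_ne_zero 4 (neg_ne_zero.mpr S.two) h'.symm
  have hda := mul_right_cancel₀ hvd hd
  have hd3 := congrArg Matrix.det ha3
  rw [Matrix.det_mul, Matrix.det_mul, Matrix.det_one] at hd3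
  have ha0 : a.det ≠ 0 := fun h0 => by rw [h0, zero_mul] at hd3; exact zero_ne_one hd3
  exact mul_left_cancel₀ ha0 (by rw [mul_one]; exact hda.symm)

/-- A five-cycle of the involutions. -/
theorem exists_cycle_five {Γ : Fin 5 → GL ι F} (hΓ : Gam R Γ) :
    ∃ g : GL ι F, g ∈ Cfsg.Geo.subgroupNormalizer R ∧ (∃ d : F, ((g ^ 5 : GL ι F) : MAT) = d • 1) ∧
      ∀ c : F, (g : MAT) ≠ c • 1 := by
  classical
  haveI := S.nonempty
  set G : Fin 5 → MAT := fun i => (Γ i : MAT) with hG
  have htt : ∀ i j, i ≠ j → (G i - G j) * (G i - G j) = (2 : F) • 1 := by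
    intro i j h
    simp only [hG, Matrix.mul_sub, Matrix.sub_mul, hΓ.sq, hΓ.anti i j h]
    module
  let t : ∀ i j : Fin 5, i ≠ j → GL ι F := fun i j h =>
    ⟨G i - G j, (2 : F)⁻¹ • (G i - G j),
      by rw [Matrix.mul_smul, htt i j h, smul_smul, inv_mul_cancel₀ S.two, one_smul],
      by rw [Matrix.smul_mul, htt i j h, smul_smul, inv_mul_cancel₀ S.two, one_smul]⟩
  have ht : ∀ i j (h : i ≠ j) k, t i j h * Γ k = (-Γ (Equiv.swap i j k)) * t i j h := by
    intro i j h k
    apply Units.ext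
    show (G i - G j) * G k = -G (Equiv.swap i j k) * (G i - G j)
    by_cases h1 : k = i
    · subst h1
      rw [Equiv.swap_apply_left]
      simp only [hG, Matrix.sub_mul, Matrix.neg_mul, Matrix.mul_sub, hΓ.sq]
      abel
    by_cases h2 : k = j
    · subst h2
      rw [Equiv.swap_apply_right]
      simp only [hG, Matrix.sub_mul, Matrix.neg_mul, Matrix.mul_sub, hΓ.sq]
      abel
    rw [Equiv.swap_apply_of_ne_of_ne h1 h2]
    simp only [hG, Matrix.sub_mul, Matrix.neg_mul, Matrix.mul_sub, hΓ.anti i k (Ne.symm h1), hΓ.anti j k (Ne.symm h2)]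
    try abel
  have hneg : ∀ (i j : Fin 5) (h : i ≠ j) (k : Fin 5), t i j h * -Γ k = Γ (Equiv.swap i j k) * t i j h := by
    intro i j h k
    rw [mul_neg, ht i j h k, neg_mul, neg_neg]
  have h01 : (0 : Fin 5) ≠ 1 := by decide
  have h12 : (1 : Fin 5) ≠ 2 := by decide
  have h23 : (2 : Fin 5) ≠ 3 := by decide
  have h34 : (3 : Fin 5) ≠ 4 := by decide
  obtain ⟨g, hgdef⟩ : ∃ g : GL ι F, g = t 0 1 h01 * t 1 2 h12 * t 2 3 h23 * t 3 4 h34 := ⟨_, rfl⟩
  have hg : ∀ k : Fin 5, g * Γ k = Γ (k + 1) * g := by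
    intro k
    rw [hgdef, mul_assoc (t 0 1 h01 * t 1 2 h12 * t 2 3 h23), ht 3 4 h34, ← mul_assoc,
      mul_assoc (t 0 1 h01 * t 1 2 h12), hneg 2 3 h23, ← mul_assoc,
      mul_assoc (t 0 1 h01), ht 1 2 h12, ← mul_assoc, hneg 0 1 h01]
    have : Equiv.swap (0 : Fin 5) 1 (Equiv.swap 1 2 (Equiv.swap 2 3 (Equiv.swap 3 4 k))) = k + 1 := by
      revert k; decide
    rw [this]
    simp only [mul_assoc]
  have hmem : g ∈ Cfsg.Geo.subgroupNormalizer R := S.gam_normalize hΓ fun k => by
    rw [hg, mul_inv_cancel_right]; exact hΓ.mem _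
  have hpow : ∀ (n : ℕ) (k : Fin 5), g ^ n * Γ k = Γ ((fun j : Fin 5 => j + 1)^[n] k) * g ^ n := by
    intro n
    induction n with
    | zero => intro k; simp
    | succ n ih =>
      intro k
      rw [pow_succ, mul_assoc, hg, ← mul_assoc, ih, mul_assoc, Function.iterate_succ_apply]
  refine ⟨g, hmem, S.gam_commutant hΓ fun k => ?_, fun c hc => ?_⟩
  · have := congrArg Units.val (hpow 5 k.castSucc)
    rw [show (fun j : Fin 5 => j + 1)^[5] k.castSucc = k.castSucc by clear this; revert k; decide] at this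
    exact this
  · have hcomm : g * Γ 0 = Γ 0 * g := Units.ext (by
      rw [Units.val_mul, Units.val_mul, hc, Matrix.mul_smul, Matrix.mul_one, Matrix.smul_mul, Matrix.one_mul])
    rw [hg] at hcomm
    have h10 : Γ (0 + 1) = Γ 0 := mul_right_cancel hcomm
    have ha := hΓ.anti 1 0 (by decide)
    rw [show (0 : Fin 5) + 1 = 1 from rfl] at h10
    rw [h10, hΓ.sq] at ha
    obtain ⟨i⟩ := S.nonempty
    have h1 : (1 : F) = -1 := by simpa using congrFun (congrFun ha i) i
    exact S.two (by linear_combination h1)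

/-- A controlled sign change. -/
theorem exists_reflection_val {u w : GL ι F} (hu : u ∈ R) (hw : w ∈ R) (huu : (u : MAT) * u = 1)
    (hww : (w : MAT) * w = 1) (hwu : (w : MAT) * u = (u : MAT) * w) (hns : ∀ c : F, ((u * w : GL ι F) : MAT) ≠ c • 1)
    (hnu : ∀ c : F, (u : MAT) ≠ c • 1) (hnw : ∀ c : F, (w : MAT) ≠ c • 1) :
    ∃ C : GL ι F, (C : MAT) * C = 1 ∧ C ∈ Subgroup.normalizer (R : Set (GL ι F)) ∧ (C : MAT).trace = 2 ∧
      (C : MAT) = (2 : F)⁻¹ • (1 + (u : MAT) + w - (u : MAT) * w) := by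
  classical
  haveI := S.finite
  set a : MAT := (u : MAT) with hau
  set b : MAT := (w : MAT) with hbw
  have aa' : ∀ X : MAT, a * (a * X) = X := fun X => by rw [← Matrix.mul_assoc, huu, Matrix.one_mul]
  have bb' : ∀ X : MAT, b * (b * X) = X := fun X => by rw [← Matrix.mul_assoc, hww, Matrix.one_mul]
  have ba' : ∀ X : MAT, b * (a * X) = a * (b * X) := fun X => by
    rw [← Matrix.mul_assoc, hwu, Matrix.mul_assoc]
  set c : MAT := (2 : F)⁻¹ • (1 + a + b - a * b) with hc
  have hcc : c * c = 1 := by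
    simp only [hc, Matrix.smul_mul, Matrix.mul_smul, smul_smul, Matrix.mul_add, Matrix.add_mul, Matrix.mul_sub,
      Matrix.sub_mul, Matrix.one_mul, Matrix.mul_one, Matrix.mul_assoc, huu, hww, hwu, aa', bb', ba']
    have := S.two
    match_scalars <;> field_simp <;> ring
  let C : GL ι F := ⟨c, c, hcc, hcc⟩
  refine ⟨C, hcc, normalize_of_map_le fun v hv => ?_, ?_, rfl⟩
  · have key : ∀ (s t : F), s * s = 1 → t * t = 1 → (v : MAT) * a = s • (a * (v : MAT)) →
        (v : MAT) * b = t • (b * (v : MAT)) →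
        c * (v : MAT) = (v : MAT) * ((2 : F)⁻¹ • (1 + s • a + t • b - (s * t) • (a * b))) := by
      intro s t hs ht h1 h2
      have h1' : a * (v : MAT) = s • ((v : MAT) * a) := by rw [h1, smul_smul, hs, one_smul]
      have h2' : b * (v : MAT) = t • ((v : MAT) * b) := by rw [h2, smul_smul, ht, one_smul]
      simp only [hc, Matrix.smul_mul, Matrix.mul_smul, Matrix.mul_add, Matrix.add_mul, Matrix.mul_sub, Matrix.sub_mul,
        Matrix.one_mul, Matrix.mul_one, Matrix.mul_assoc, h1', h2']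
      rw [← Matrix.mul_assoc a (v : MAT), h1', Matrix.smul_mul, Matrix.mul_assoc, smul_smul, mul_comm t s]
    have hone : ∀ {X Y : MAT}, X * Y = Y * X → X * Y = (1 : F) • (Y * X) := fun h => by rw [one_smul]; exact h
    have hneg : ∀ {X Y : MAT}, X * Y = -(Y * X) → X * Y = (-1 : F) • (Y * X) := fun h => by
      rw [neg_smul, one_smul]; exact h
    have hfin : ∀ (X : MAT) (y : GL ι F), c * (v : MAT) = (v : MAT) * X → X * c = (y : MAT) → y ∈ R →
        C * v * C⁻¹ ∈ R := by
      intro X y h1 h2 hy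
      have : C * v * C⁻¹ = v * y := Units.ext (by
        show c * (v : MAT) * c = (v : MAT) * (y : MAT)
        rw [h1, Matrix.mul_assoc, h2])
      rw [this]; exact mul_mem hv hy
    have hr : (1 : F) * 1 = 1 ∧ (-1 : F) * -1 = 1 := ⟨one_mul 1, by ring⟩
    rcases S.comm v hv u hu with h1 | h1 <;> rcases S.comm v hv w hw with h2 | h2
    · refine hfin _ 1 (key 1 1 hr.1 hr.1 (hone h1) (hone h2)) ?_ (one_mem _)
      simp only [one_mul, one_smul, Units.val_one]
      exact hcc
    · refine hfin _ u (key 1 (-1) hr.1 hr.2 (hone h1) (hneg h2)) ?_ hu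
      simp only [← hau, hc, Matrix.smul_mul, Matrix.mul_smul, smul_smul, Matrix.mul_add, Matrix.add_mul, Matrix.mul_sub,
        Matrix.sub_mul, Matrix.one_mul, Matrix.mul_one, Matrix.mul_assoc, huu, hww, hwu, aa', bb', ba']
      have := S.two
      match_scalars <;> field_simp <;> ring
    · refine hfin _ w (key (-1) 1 hr.2 hr.1 (hneg h1) (hone h2)) ?_ hw
      simp only [← hbw, hc, Matrix.smul_mul, Matrix.mul_smul, smul_smul, Matrix.mul_add, Matrix.add_mul, Matrix.mul_sub,
        Matrix.sub_mul, Matrix.one_mul, Matrix.mul_one, Matrix.mul_assoc, huu, hww, hwu, aa', bb', ba']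
      have := S.two
      match_scalars <;> field_simp <;> ring
    · refine hfin _ (-(u * w)) (key (-1) (-1) hr.2 hr.2 (hneg h1) (hneg h2)) ?_ (S.neg_mem' (mul_mem hu hw))
      simp only [← hau, ← hbw, Units.val_neg, Units.val_mul, hc, Matrix.smul_mul, Matrix.mul_smul, smul_smul,
        Matrix.mul_add, Matrix.add_mul, Matrix.mul_sub, Matrix.sub_mul, Matrix.one_mul, Matrix.mul_one,
        Matrix.mul_assoc, huu, hww, hwu, aa', bb', ba']
      have := S.two
      match_scalars <;> field_simp <;> ring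
  · show c.trace = 2
    rw [hc, Matrix.trace_smul, Matrix.trace_sub, Matrix.trace_add, Matrix.trace_add, Matrix.trace_one, S.dim,
      hau, hbw, ← Units.val_mul, S.trace_zero hu hnu, S.trace_zero hw hnw, S.trace_zero (mul_mem hu hw) hns]
    have := S.two
    simp only [add_zero, sub_zero, smul_eq_mul, Nat.cast_ofNat]
    field_simp
    norm_num

/-- A matrix normalising the group is an isometry as soon as its determinant and order allow. -/
theorem isometry_of_normalize (adj : MAT → MAT) (hmul : ∀ A B, adj (A * B) = adj B * adj A) (hone : adj 1 = 1)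
    (hR : ∀ u ∈ R, adj (u : MAT) * u = 1) {g : GL ι F} (hg : g ∈ Cfsg.Geo.subgroupNormalizer R) {r : ℕ}
    (hr : Nat.Coprime 4 r) (hgr : g ^ r = 1) (hdet : (g : MAT).det = 1) (hdet' : (adj (g : MAT)).det = 1) :
    adj (g : MAT) * g = 1 := by
  classical
  haveI := S.nonempty
  set y : MAT := (g : MAT) with hy
  have hcomm : ∀ u ∈ R, adj y * y * (u : MAT) = (u : MAT) * (adj y * y) := by
    intro u hu
    have hv : g * u * g⁻¹ ∈ R := (Subgroup.mem_normalizer_iff.mp hg u).mp hu
    set D : MAT := (u : MAT) with hD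
    set Y : MAT := ((g * u * g⁻¹ : GL ι F) : MAT) with hY
    have e1 : Y * y = y * D := by rw [hY, hy, hD, ← Units.val_mul, ← Units.val_mul, inv_mul_cancel_right]
    have e2 : adj Y * Y = 1 := hR _ hv
    have e3 : adj D * D = 1 := hR _ hu
    have e4 : adj D * (adj y * y) * D = adj y * y := by
      calc adj D * (adj y * y) * D = adj (y * D) * (y * D) := by rw [hmul]; simp only [Matrix.mul_assoc]
        _ = adj y * (adj Y * Y) * y := by rw [← e1, hmul]; simp only [Matrix.mul_assoc]
        _ = _ := by rw [e2, Matrix.mul_one]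
    calc adj y * y * D = (D * adj D) * (adj y * y) * D := by rw [mul_eq_one_comm.mp e3, Matrix.one_mul]
      _ = D * (adj D * (adj y * y) * D) := by simp only [Matrix.mul_assoc]
      _ = D * (adj y * y) := by rw [e4]
  obtain ⟨c, hc⟩ := S.irr _ hcomm
  have hpow : ∀ k : ℕ, adj (y ^ k) * y ^ k = (c ^ k) • 1 := by
    intro k
    induction k with
    | zero => simp [hone]
    | succ k ih =>
      calc adj (y ^ (k + 1)) * y ^ (k + 1) = adj y * (adj (y ^ k) * y ^ k) * y := by
            rw [pow_succ, hmul]; simp only [Matrix.mul_assoc]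
        _ = (c ^ k) • (adj y * y) := by rw [ih, Matrix.mul_smul, Matrix.mul_one, Matrix.smul_mul]
        _ = _ := by rw [hc, smul_smul, pow_succ]
  obtain ⟨i⟩ := S.nonempty
  have hcr : c ^ r = 1 := by
    have h := hpow r
    rw [hy, ← Units.val_pow_eq_pow_val, hgr, Units.val_one, hone, Matrix.one_mul] at h
    simpa using (congrFun (congrFun h i) i).symm
  have hc4 : c ^ 4 = 1 := by
    have h := congrArg Matrix.det hc
    rw [Matrix.det_mul, hdet, hdet', one_mul, Matrix.det_smul, Matrix.det_one, mul_one, S.dim] at h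
    exact h.symm
  have hc1 : c = 1 := orderOf_eq_one_iff.mp (Nat.eq_one_of_dvd_coprimes hr
    (orderOf_dvd_of_pow_eq_one hc4) (orderOf_dvd_of_pow_eq_one hcr))
  rw [hc, hc1, one_smul]

end Sym4

end H47
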