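import Mathlib
import Cfsg.Agent.H47.SymElems

/-!
# Five anticommuting involutions, and transvections
-/

set_option autoImplicit false
open scoped MatrixGroups Matrix
open Matrix

namespace H47

variable {F : Type*} [Field F] {ι : Type} [Fintype ι] [DecidableEq ι]

local notation "MAT" => Matrix ι ι F

namespace Sym4

variable [Fintype F] {R : Subgroup (GL ι F)} {z : ℕ} (S : Sym4 R z)
include S

omit [Fintype F] in
/-- With centre of order four there is a scalar of square `-1`. -/
lemma exists_i (hz : z = 4) : ∃ I ∈ R, ∃ c : F, (I : MAT) = c • 1 ∧ c * c = -1 := by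
  classical
  haveI := S.nonempty
  obtain ⟨i0⟩ := S.nonempty
  by_contra h
  push Not at h
  have key : ∀ u : ↥(R ⊓ Cfsg.Geo.scalars ι F), (u : GL ι F).1 = 1 ∨ (u : GL ι F).1 = -1 := by
    intro u
    obtain ⟨hu, c, hc⟩ := scal_mem_iff.mp u.2
    rcases S.sq _ hu with h2 | h2 <;> rw [hc, Matrix.smul_mul, Matrix.one_mul, smul_smul] at h2
    · have h1 : c * c = 1 := by simpa using congrFun (congrFun h2 i0) i0
      rcases mul_self_eq_one_iff.mp h1 with e | e <;> rw [hc, e]
      · exact Or.inl (one_smul _ _)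
      · exact Or.inr (by rw [neg_smul, one_smul])
    · exact absurd (by simpa using congrFun (congrFun h2 i0) i0) (h _ hu c hc)
  let f : ↥(R ⊓ Cfsg.Geo.scalars ι F) → Bool := fun u => decide ((u : GL ι F).1 = 1)
  have hinj : Function.Injective f := by
    intro u v huv
    simp only [f, decide_eq_decide] at huv
    apply Subtype.ext; apply Units.ext
    rcases key u with a | a <;> rcases key v with b | b
    · rw [a, b]
    · rw [a, huv.mp a]
    · rw [b, huv.mpr b]
    · rw [a, b]
  have := Nat.card_le_card_of_injective f hinj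
  rw [S.card_scal, hz] at this
  simp at this

omit [Fintype F] in
/-- An element commuting with a quaternion pair outside the scalars. -/
lemma exists_pair_commuting {P Q : GL ι F} (hP : P ∈ R) (hQ : Q ∈ R)
    (hQP : (Q : MAT) * P = -((P : MAT) * Q)) :
    ∃ w ∈ R, (w : MAT) * P = (P : MAT) * w ∧ (w : MAT) * Q = (Q : MAT) * w ∧ ∀ c : F, (w : MAT) ≠ c • 1 := by
  classical
  haveI := S.finite
  by_contra h
  push Not at h
  have hcase : ∀ u : R, ∃ (b : Bool × Bool) (w : GL ι F), w ∈ R ⊓ Cfsg.Geo.scalars ι F ∧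
      (u : GL ι F) = w * ((if b.1 then Q else 1) * (if b.2 then P else 1))⁻¹ := by
    intro u
    obtain ⟨u, hu⟩ := u
    have done : ∀ (b : Bool × Bool) (e : GL ι F), e ∈ R → e = (if b.1 then Q else 1) * (if b.2 then P else 1) →
        ((u * e : GL ι F) : MAT) * P = (P : MAT) * ((u * e : GL ι F) : MAT) →
        ((u * e : GL ι F) : MAT) * Q = (Q : MAT) * ((u * e : GL ι F) : MAT) →
        ∃ (b : Bool × Bool) (w : GL ι F), w ∈ R ⊓ Cfsg.Geo.scalars ι F ∧
          u = w * ((if b.1 then Q else 1) * (if b.2 then P else 1))⁻¹ := by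
      intro b e he heq h1 h2
      obtain ⟨c, hc⟩ := h (u * e) (mul_mem hu he) h1 h2
      exact ⟨b, u * e, scal_mem_iff.mpr ⟨mul_mem hu he, c, hc⟩, by rw [← heq, mul_inv_cancel_right]⟩
    have pq : ∀ X : MAT, (Q : MAT) * ((P : MAT) * X) = -((P : MAT) * ((Q : MAT) * X)) := fun X => by
      rw [← Matrix.mul_assoc, hQP, Matrix.neg_mul, Matrix.mul_assoc]
    rcases S.comm u hu P hP with h1 | h1 <;> rcases S.comm u hu Q hQ with h2 | h2
    · exact done (false, false) 1 (one_mem _) (by simp) (by simpa using h1) (by simpa using h2)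
    · refine done (false, true) P hP (by simp) ?_ ?_ <;> rw [Units.val_mul]
      · rw [← Matrix.mul_assoc (P : MAT), ← h1]
      · rw [Matrix.mul_assoc, show (P : MAT) * Q = -((Q : MAT) * P) by rw [hQP, neg_neg], Matrix.mul_neg,
          ← Matrix.mul_assoc, h2, Matrix.neg_mul, neg_neg, Matrix.mul_assoc]
    · refine done (true, false) Q hQ (by simp) ?_ ?_ <;> rw [Units.val_mul]
      · rw [Matrix.mul_assoc, hQP, Matrix.mul_neg, ← Matrix.mul_assoc, h1, Matrix.neg_mul, neg_neg, Matrix.mul_assoc]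
      · rw [← Matrix.mul_assoc (Q : MAT), ← h2]
    · refine done (true, true) (Q * P) (mul_mem hQ hP) (by simp) ?_ ?_ <;> rw [Units.val_mul, Units.val_mul]
      · calc (u : MAT) * ((Q : MAT) * P) * P = -((u : MAT) * P * ((Q : MAT) * P)) := by
              simp only [Matrix.mul_assoc, pq, Matrix.mul_neg, neg_neg]
              try rw [hQP]
              try simp only [Matrix.mul_neg, neg_neg, Matrix.mul_assoc]
          _ = _ := by rw [h1]; simp only [Matrix.neg_mul, neg_neg, Matrix.mul_assoc]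
      · calc (u : MAT) * ((Q : MAT) * P) * Q = -((u : MAT) * Q * ((Q : MAT) * P)) := by
              simp only [Matrix.mul_assoc]
              rw [show (P : MAT) * Q = -((Q : MAT) * P) by rw [hQP, neg_neg]]
              simp only [Matrix.mul_neg]
          _ = _ := by rw [h2]; simp only [Matrix.neg_mul, neg_neg, Matrix.mul_assoc]
  choose b w hw hu using hcase
  let f : R → (Bool × Bool) × ↥(R ⊓ Cfsg.Geo.scalars ι F) := fun u => (b u, ⟨w u, hw u⟩)
  have hinj : Function.Injective f := by
    intro u v huv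
    simp only [f, Prod.mk.injEq, Subtype.mk.injEq] at huv
    apply Subtype.ext
    rw [hu u, hu v, huv.1, huv.2]
  haveI : Finite ↥(R ⊓ Cfsg.Geo.scalars ι F) :=
    Nat.finite_of_card_ne_zero (by rw [S.card_scal]; rcases S.hz with hh | hh <;> omega)
  have := Nat.card_le_card_of_injective f hinj
  rw [Nat.card_prod, S.card_scal, S.card_eq] at this
  simp [Nat.card_eq_fintype_card] at this
  rcases S.hz with hh | hh <;> omega

omit [Fintype F] in
/-- Five anticommuting involutions when `i` is in the group. -/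
theorem exists_gam {I : GL ι F} (hI : I ∈ R) {c : F} (hIc : (I : MAT) = c • 1) (hc : c * c = -1) :
    ∃ Γ : Fin 5 → GL ι F, Gam R Γ := by
  classical
  haveI := S.finite
  haveI := S.nonempty
  have hfix : ∀ u ∈ R, ∃ u' ∈ R, (u' : MAT) * u' = 1 ∧ ∃ s : F, s ≠ 0 ∧ (u' : MAT) = s • (u : MAT) := by
    intro u hu
    rcases S.sq u hu with h | h
    · exact ⟨u, hu, h, 1, one_ne_zero, (one_smul _ _).symm⟩
    · refine ⟨I * u, mul_mem hI hu, ?_, c, fun h0 => by rw [h0, mul_zero] at hc; exact one_ne_zero (neg_eq_zero.mp hc.symm), ?_⟩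
      · rw [Units.val_mul, hIc, Matrix.smul_mul, Matrix.one_mul, Matrix.smul_mul, Matrix.mul_smul, smul_smul, hc, h,
          neg_smul, one_smul, neg_neg]
      · rw [Units.val_mul, hIc, Matrix.smul_mul, Matrix.one_mul]
  -- first pair
  obtain ⟨u0, hu0, hu0ns⟩ : ∃ u ∈ R, ∀ a : F, (u : MAT) ≠ a • 1 := by
    by_contra h
    push Not at h
    have hle : R ≤ R ⊓ Cfsg.Geo.scalars ι F := fun u hu => scal_mem_iff.mpr ⟨hu, h u hu⟩
    haveI : Finite ↥(R ⊓ Cfsg.Geo.scalars ι F) :=
      Nat.finite_of_card_ne_zero (by rw [S.card_scal]; rcases S.hz with hh | hh <;> omega)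
    have := Nat.le_of_dvd Nat.card_pos (Subgroup.card_dvd_of_le hle)
    rw [S.card_eq, S.card_scal] at this
    rcases S.hz with hh | hh <;> omega
  obtain ⟨v0, hv0, hv0u⟩ := S.exists_anti hu0 hu0ns
  obtain ⟨P, hP, hPP, s, hs, hPs⟩ := hfix u0 hu0
  obtain ⟨Q, hQ, hQQ, t, ht, hQt⟩ := hfix v0 hv0
  have hQP : (Q : MAT) * P = -((P : MAT) * Q) := by
    simp only [hPs, hQt, Matrix.smul_mul, Matrix.mul_smul, smul_smul, hv0u, smul_neg, mul_comm s t]
  -- second pair
  obtain ⟨w0, hw0, hw0P, hw0Q, hw0ns⟩ := S.exists_pair_commuting hP hQ hQP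
  obtain ⟨a, ha, haa, sa, hsa, has⟩ := hfix w0 hw0
  have haP : (a : MAT) * P = (P : MAT) * a := by rw [has, Matrix.smul_mul, hw0P, Matrix.mul_smul]
  have haQ : (a : MAT) * Q = (Q : MAT) * a := by rw [has, Matrix.smul_mul, hw0Q, Matrix.mul_smul]
  have hans : ∀ d : F, (a : MAT) ≠ d • 1 := fun d hd => hw0ns (sa⁻¹ * d) (by
    rw [← smul_smul, ← hd, has, smul_smul, inv_mul_cancel₀ hsa, one_smul])
  obtain ⟨v1, hv1, hv1a⟩ := S.exists_anti ha hans
  obtain ⟨e, he, heP, heQ, hea⟩ : ∃ e ∈ R, (e : MAT) * P = (P : MAT) * e ∧ (e : MAT) * Q = (Q : MAT) * e ∧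
      (e : MAT) * a = -((a : MAT) * e) := by
    have pq : ∀ X : MAT, (Q : MAT) * ((P : MAT) * X) = -((P : MAT) * ((Q : MAT) * X)) := fun X => by
      rw [← Matrix.mul_assoc, hQP, Matrix.neg_mul, Matrix.mul_assoc]
    have hPQ : (P : MAT) * Q = -((Q : MAT) * P) := by rw [hQP, neg_neg]
    rcases S.comm v1 hv1 P hP with h1 | h1 <;> rcases S.comm v1 hv1 Q hQ with h2 | h2
    · exact ⟨v1, hv1, h1, h2, hv1a⟩
    · refine ⟨v1 * P, mul_mem hv1 hP, ?_, ?_, ?_⟩ <;> rw [Units.val_mul]
      · rw [← Matrix.mul_assoc (P : MAT), ← h1]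
      · rw [Matrix.mul_assoc, hPQ, Matrix.mul_neg, ← Matrix.mul_assoc, h2, Matrix.neg_mul, neg_neg, Matrix.mul_assoc]
      · rw [Matrix.mul_assoc, ← haP, ← Matrix.mul_assoc, hv1a, Matrix.neg_mul, Matrix.mul_assoc]
    · refine ⟨v1 * Q, mul_mem hv1 hQ, ?_, ?_, ?_⟩ <;> rw [Units.val_mul]
      · rw [Matrix.mul_assoc, hQP, Matrix.mul_neg, ← Matrix.mul_assoc, h1, Matrix.neg_mul, neg_neg, Matrix.mul_assoc]
      · rw [← Matrix.mul_assoc (Q : MAT), ← h2]
      · rw [Matrix.mul_assoc, ← haQ, ← Matrix.mul_assoc, hv1a, Matrix.neg_mul, Matrix.mul_assoc]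
    · refine ⟨v1 * (Q * P), mul_mem hv1 (mul_mem hQ hP), ?_, ?_, ?_⟩ <;> rw [Units.val_mul, Units.val_mul]
      · calc (v1 : MAT) * ((Q : MAT) * P) * P = -((v1 : MAT) * P * ((Q : MAT) * P)) := by
              simp only [Matrix.mul_assoc, pq, Matrix.mul_neg, neg_neg]
              try rw [hQP]
              try simp only [Matrix.mul_neg, neg_neg, Matrix.mul_assoc]
          _ = _ := by rw [h1]; simp only [Matrix.neg_mul, neg_neg, Matrix.mul_assoc]
      · calc (v1 : MAT) * ((Q : MAT) * P) * Q = -((v1 : MAT) * Q * ((Q : MAT) * P)) := by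
              simp only [Matrix.mul_assoc]
              rw [hPQ]
              simp only [Matrix.mul_neg]
          _ = _ := by rw [h2]; simp only [Matrix.neg_mul, neg_neg, Matrix.mul_assoc]
      · calc (v1 : MAT) * ((Q : MAT) * P) * a = (v1 : MAT) * a * ((Q : MAT) * P) := by
              simp only [Matrix.mul_assoc]
              rw [← haP, ← Matrix.mul_assoc (Q : MAT), ← haQ, Matrix.mul_assoc]
          _ = _ := by rw [hv1a]; simp only [Matrix.neg_mul, Matrix.mul_assoc]
  obtain ⟨b, hb, hbb, sb, hsb, hbs⟩ := hfix e he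
  have hbP : (b : MAT) * P = (P : MAT) * b := by rw [hbs, Matrix.smul_mul, heP, Matrix.mul_smul]
  have hbQ : (b : MAT) * Q = (Q : MAT) * b := by rw [hbs, Matrix.smul_mul, heQ, Matrix.mul_smul]
  have hba : (b : MAT) * a = -((a : MAT) * b) := by rw [hbs, Matrix.smul_mul, hea, Matrix.mul_smul, smul_neg]
  -- the five involutions
  refine ⟨![P, Q, I * P * Q * a, I * P * Q * b, (I * P * Q) * (I * a * b)], ?_, ?_, ?_⟩
  · intro k
    fin_cases k
    · exact hP
    · exact hQ
    · exact mul_mem (mul_mem (mul_mem hI hP) hQ) ha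
    · exact mul_mem (mul_mem (mul_mem hI hP) hQ) hb
    · exact mul_mem (mul_mem (mul_mem hI hP) hQ) (mul_mem (mul_mem hI ha) hb)
  all_goals
    set p : MAT := (P : MAT)
    set q : MAT := (Q : MAT)
    set x : MAT := (a : MAT)
    set y : MAT := (b : MAT)
    have qp' : ∀ X : MAT, q * (p * X) = -(p * (q * X)) := fun X => by
      rw [← Matrix.mul_assoc, hQP, Matrix.neg_mul, Matrix.mul_assoc]
    have xp' : ∀ X : MAT, x * (p * X) = p * (x * X) := fun X => by rw [← Matrix.mul_assoc, haP, Matrix.mul_assoc]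
    have xq' : ∀ X : MAT, x * (q * X) = q * (x * X) := fun X => by rw [← Matrix.mul_assoc, haQ, Matrix.mul_assoc]
    have yp' : ∀ X : MAT, y * (p * X) = p * (y * X) := fun X => by rw [← Matrix.mul_assoc, hbP, Matrix.mul_assoc]
    have yq' : ∀ X : MAT, y * (q * X) = q * (y * X) := fun X => by rw [← Matrix.mul_assoc, hbQ, Matrix.mul_assoc]
    have yx' : ∀ X : MAT, y * (x * X) = -(x * (y * X)) := fun X => by
      rw [← Matrix.mul_assoc, hba, Matrix.neg_mul, Matrix.mul_assoc]
    have pp' : ∀ X : MAT, p * (p * X) = X := fun X => by rw [← Matrix.mul_assoc, hPP, Matrix.one_mul]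
    have qq' : ∀ X : MAT, q * (q * X) = X := fun X => by rw [← Matrix.mul_assoc, hQQ, Matrix.one_mul]
    have xx' : ∀ X : MAT, x * (x * X) = X := fun X => by rw [← Matrix.mul_assoc, haa, Matrix.one_mul]
    have yy' : ∀ X : MAT, y * (y * X) = X := fun X => by rw [← Matrix.mul_assoc, hbb, Matrix.one_mul]
  · intro k
    fin_cases k <;>
      simp [Units.val_mul, hIc, Matrix.smul_mul, Matrix.mul_smul, Matrix.one_mul, Matrix.mul_one,
        Matrix.mul_assoc, smul_smul, smul_neg, Matrix.mul_neg, neg_neg, hPP, hQQ, haa, hbb, hQP, haP, haQ, hbP, hbQ, hba,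
        qp', xp', xq', yp', yq', yx', pp', qq', xx', yy', Matrix.cons_val, hc, p, q, x, y]
  · intro k l hkl
    fin_cases k <;> fin_cases l <;> first | (exact absurd rfl hkl) | skip
    all_goals simp [Units.val_mul, hIc, Matrix.smul_mul, Matrix.mul_smul, Matrix.one_mul, Matrix.mul_one,
        Matrix.mul_assoc, smul_smul, smul_neg, Matrix.mul_neg, neg_neg, hPP, hQQ, haa, hbb, hQP, haP, haQ, hbP, hbQ, hba,
        qp', xp', xq', yp', yq', yx', pp', qq', xx', yy', Matrix.cons_val, hc, p, q, x, y]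

/-- A transvection does not normalise the group. -/
theorem no_transvection {g : GL ι F} (hg : g ∈ Cfsg.Geo.subgroupNormalizer R) {u v : ι → F} (huv : v ⬝ᵥ u = 0)
    (hgm : (g : MAT) = 1 + Matrix.vecMulVec u v) (hne : (g : MAT) ≠ 1) : False := by
  classical
  haveI := S.nonempty
  set A : MAT := Matrix.vecMulVec u v with hA
  have hvv : ∀ (a b c d : ι → F), Matrix.vecMulVec a b * Matrix.vecMulVec c d = (b ⬝ᵥ c) • Matrix.vecMulVec a d := by
    intro a b c d
    rw [Matrix.vecMulVec_mul_vecMulVec, Matrix.vecMulVec_smul]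
  have hginv : ((g⁻¹ : GL ι F) : MAT) = 1 - A := by
    have h : (g : MAT) * (1 - A) = 1 := by
      rw [hgm, Matrix.mul_sub, Matrix.mul_one, Matrix.add_mul, Matrix.one_mul, hA, hvv, huv, zero_smul]; abel
    exact (Units.eq_inv_of_mul_eq_one_left (u := g) (a := ((1 : MAT) - A)) h ▸ rfl)
  have hall : ∀ x ∈ R, (x : MAT) * g = (g : MAT) * x := by
    intro x hx
    set w : GL ι F := g * x * g⁻¹ * x⁻¹ with hw
    have hwR : w ∈ R := mul_mem ((Subgroup.mem_normalizer_iff.mp hg x).mp hx) (inv_mem hx)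
    set c : ι → F := (x : MAT) *ᵥ u with hc
    set d : ι → F := v ᵥ* ((x⁻¹ : GL ι F) : MAT) with hd
    have hdc : d ⬝ᵥ c = 0 := by
      rw [hd, hc, ← Matrix.dotProduct_mulVec, Matrix.mulVec_mulVec, Units.inv_mul, Matrix.one_mulVec, huv]
    have hwm : (w : MAT) = (1 + A) * (1 - Matrix.vecMulVec c d) := by
      rw [hw, Units.val_mul, Units.val_mul, Units.val_mul, hgm, hginv, Matrix.mul_assoc, Matrix.mul_assoc,
        ← Matrix.mul_assoc (x : MAT)]
      congr 1
      rw [Matrix.mul_sub, Matrix.mul_one, Matrix.sub_mul, Units.mul_inv, hA, Matrix.mul_vecMulVec,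
        Matrix.vecMulVec_mul]
    by_contra hne'
    have hw1 : (w : MAT) ≠ 1 := fun h1 => hne' (by
      have h' : g * x = x * g := by
        have : w = 1 := Units.ext h1
        rw [hw, mul_inv_eq_one, mul_inv_eq_iff_eq_mul] at this
        exact this
      exact (congrArg Units.val h').symm)
    -- the element moves a vector `a` only inside the plane
    set s := v ⬝ᵥ c with hs
    set t := d ⬝ᵥ u with ht
    have hwu : (w : MAT) *ᵥ u = (1 - s * t) • u - t • c := by
      rw [hwm, ← Matrix.mulVec_mulVec, Matrix.sub_mulVec, Matrix.one_mulVec, Matrix.vecMulVec_mulVec,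
        op_smul_eq_smul, ← ht, Matrix.mulVec_sub, Matrix.mulVec_smul, Matrix.add_mulVec, Matrix.one_mulVec,
        Matrix.add_mulVec, Matrix.one_mulVec, hA, Matrix.vecMulVec_mulVec, Matrix.vecMulVec_mulVec,
        op_smul_eq_smul, op_smul_eq_smul, huv, ← hs]
      module
    have hwc : (w : MAT) *ᵥ c = c + s • u := by
      rw [hwm, ← Matrix.mulVec_mulVec, Matrix.sub_mulVec, Matrix.one_mulVec, Matrix.vecMulVec_mulVec,
        op_smul_eq_smul, hdc, zero_smul, sub_zero, Matrix.add_mulVec, Matrix.one_mulVec, hA,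
        Matrix.vecMulVec_mulVec, op_smul_eq_smul, ← hs]
    by_cases hsc : ∃ e : F, (w : MAT) = e • 1
    · obtain ⟨e, he⟩ := hsc
      have htr : (w : MAT).trace = 4 - s * t := by
        rw [hwm, Matrix.add_mul, Matrix.one_mul, Matrix.mul_sub, Matrix.mul_one, hA, hvv, Matrix.trace_add,
          Matrix.trace_sub, Matrix.trace_sub, Matrix.trace_one, S.dim, Matrix.trace_smul, Matrix.trace_vecMulVec,
          Matrix.trace_vecMulVec, Matrix.trace_vecMulVec, dotProduct_comm u v, huv, dotProduct_comm c d, hdc,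
          dotProduct_comm u d, ← hs, ← ht, smul_eq_mul]
        push_cast; ring
      rw [he, Matrix.trace_smul, Matrix.trace_one, S.dim, smul_eq_mul] at htr
      push_cast at htr
      rw [he, Matrix.smul_mulVec, Matrix.one_mulVec] at hwu hwc
      by_cases hs0 : s = 0
      · have he1 : e = 1 := mul_right_cancel₀ S.four (by rw [hs0] at htr; linear_combination htr)
        exact hw1 (by rw [he, he1, one_smul])
      · have hu : u = (s⁻¹ * (e - 1)) • c := by
          rw [← smul_smul, sub_smul, one_smul, hwc, add_sub_cancel_left, smul_smul, inv_mul_cancel₀ hs0, one_smul]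
        have ht0 : t = 0 := by rw [ht, hu, dotProduct_smul, hdc, smul_zero]
        have he1 : e = 1 := mul_right_cancel₀ S.four (by rw [ht0] at htr; linear_combination htr)
        exact hw1 (by rw [he, he1, one_smul])
    · push Not at hsc
      have htr := S.trace_zero hwR hsc
      have hst : s * t = 4 := by
        rw [hwm, Matrix.add_mul, Matrix.one_mul, Matrix.mul_sub, Matrix.mul_one, hA, hvv, Matrix.trace_add,
          Matrix.trace_sub, Matrix.trace_sub, Matrix.trace_one, S.dim, Matrix.trace_smul, Matrix.trace_vecMulVec,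
          Matrix.trace_vecMulVec, Matrix.trace_vecMulVec, dotProduct_comm u v, huv, dotProduct_comm c d, hdc,
          dotProduct_comm u d, ← hs, ← ht, smul_eq_mul] at htr
        push_cast at htr
        linear_combination -htr
      have hww : (w : MAT) * w = 1 := by
        refine (S.sq w hwR).resolve_right fun hm => ?_
        obtain ⟨y, hy1, hy2⟩ : ∃ y : ι → F, y ≠ 0 ∧ (w : MAT) *ᵥ y = y := by
          let L : (ι → F) →ₗ[F] (Fin 2 → F) :=
            { toFun := fun y => ![v ⬝ᵥ y, d ⬝ᵥ y]
              map_add' := fun a b => by funext i; fin_cases i <;> simp [dotProduct_add]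
              map_smul' := fun r a => by funext i; fin_cases i <;> simp [dotProduct_smul] }
          have hker : LinearMap.ker L ≠ ⊥ := fun h => by
            have := LinearMap.finrank_le_finrank_of_injective (LinearMap.ker_eq_bot.mp h)
            simp [S.dim] at this
          obtain ⟨y, hy, hy0⟩ := (Submodule.ne_bot_iff _).mp hker
          have h0 : v ⬝ᵥ y = 0 := congrFun (LinearMap.mem_ker.mp hy) 0
          have h1 : d ⬝ᵥ y = 0 := congrFun (LinearMap.mem_ker.mp hy) 1
          refine ⟨y, hy0, ?_⟩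
          rw [hwm, ← Matrix.mulVec_mulVec, Matrix.sub_mulVec, Matrix.one_mulVec, Matrix.vecMulVec_mulVec,
            op_smul_eq_smul, h1, zero_smul, sub_zero, Matrix.add_mulVec, Matrix.one_mulVec, hA,
            Matrix.vecMulVec_mulVec, op_smul_eq_smul, h0, zero_smul, add_zero]
        have h := congrArg (fun M : MAT => M *ᵥ y) hm
        simp only [← Matrix.mulVec_mulVec, hy2, Matrix.neg_mulVec, Matrix.one_mulVec] at h
        have h2 : (2 : F) • y = 0 := by
          rw [two_smul]; nth_rewrite 1 [h]; rw [neg_add_cancel]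
        exact hy1 ((smul_eq_zero.mp h2).resolve_left S.two)
      have h := congrArg (fun M : MAT => M *ᵥ u) hww
      simp only [← Matrix.mulVec_mulVec, hwu, Matrix.mulVec_sub, Matrix.mulVec_smul, hwc, Matrix.one_mulVec] at h
      have hlin : (4 : F) • u + (2 * t) • c = 0 := by
        rw [hst] at h
        linear_combination (norm := (match_scalars <;> first | ring1 | linear_combination hst | linear_combination -hst)) h
      have h' := congrArg (fun y : ι → F => v ⬝ᵥ y) hlin
      simp only [dotProduct_add, dotProduct_smul, huv, dotProduct_zero, ← hs, smul_eq_mul, mul_zero, zero_add] at h'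
      exact S.four (mul_left_cancel₀ S.two (by rw [mul_zero, ← hst]; linear_combination h'))
  obtain ⟨c, hc⟩ := S.irr (g : MAT) fun x hx => (hall x hx).symm
  obtain ⟨i⟩ := S.nonempty
  have hu0 : ∃ j, u j ≠ 0 := by
    by_contra h; push Not at h
    exact hne (by rw [hgm, hA, show u = 0 from funext h, Matrix.zero_vecMulVec, add_zero])
  have h := hgm.symm.trans hc
  have htr := congrArg Matrix.trace h
  rw [Matrix.trace_add, Matrix.trace_one, Matrix.trace_smul, Matrix.trace_one, Matrix.trace_vecMulVec, dotProduct_comm,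
    huv, add_zero, S.dim, smul_eq_mul] at htr
  push_cast at htr
  have hc1 : c = 1 := mul_right_cancel₀ S.four (by linear_combination -htr)
  exact hne (by rw [hc, hc1, one_smul])

end Sym4

end H47
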