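import Mathlib
import Cfsg.Agent.H47.SymGam
import Cfsg.Agent.H47.SymClasses

/-!
# Targets in the normaliser and derangements, in four dimensions
-/

set_option autoImplicit false
open scoped MatrixGroups Matrix
open Matrix

namespace H47

variable {F : Type*} [Field F] {ι : Type} [Fintype ι] [DecidableEq ι]

local notation "MAT" => Matrix ι ι F

lemma scalar_gl_exists (c : F) (hc : c ≠ 0) : ∃ K : GL ι F, (K : MAT) = c • 1 := by
  refine ⟨⟨c • 1, c⁻¹ • 1, ?_, ?_⟩, rfl⟩ <;>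
    simp [Matrix.smul_mul, Matrix.mul_smul, smul_smul, hc]

lemma scalar_normalize {R : Subgroup (GL ι F)} {K : GL ι F} {c : F} (hK : (K : MAT) = c • 1) :
    K ∈ Cfsg.Geo.subgroupNormalizer R := by
  refine Subgroup.mem_normalizer_iff.mpr fun h => ?_
  have : K * h * K⁻¹ = h := by
    rw [mul_inv_eq_iff_eq_mul]
    apply Units.ext
    rw [Units.val_mul, Units.val_mul, hK, Matrix.smul_mul, Matrix.one_mul, Matrix.mul_smul, Matrix.mul_one]
  rw [this]

lemma scalar_comm {K : GL ι F} {c : F} (hK : (K : MAT) = c • 1) (g : GL ι F) : K * g = g * K := Units.ext (by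
  rw [Units.val_mul, Units.val_mul, hK, Matrix.smul_mul, Matrix.one_mul, Matrix.mul_smul, Matrix.mul_one])

namespace Sym4

variable [Fintype F] {R : Subgroup (GL ι F)} {z : ℕ} (S : Sym4 R z)
include S

omit [Fintype F] in
lemma gam_nonscalar {Γ : Fin 5 → GL ι F} (hΓ : Gam R Γ) (i : Fin 5) : ∀ c : F, (Γ i : MAT) ≠ c • 1 :=
  S.nonscalar_of_anti (v := Γ (i + 1)) (hΓ.anti (i + 1) i (by fin_cases i <;> decide))

/-- An involution outside the scalars with trace zero. -/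
theorem target_plus {Γ : Fin 5 → GL ι F} (hΓ : Gam R Γ) :
    ∃ y ∈ R, (y : MAT) * y = 1 ∧ (y : MAT).trace = 0 :=
  ⟨Γ 0, hΓ.mem 0, hΓ.sq 0, S.trace_zero (hΓ.mem 0) (S.gam_nonscalar hΓ 0)⟩

omit [Fintype F] in
/-- An element of square `-1` with trace zero. -/
theorem target_minus {Γ : Fin 5 → GL ι F} (hΓ : Gam R Γ) :
    ∃ y ∈ R, (y : MAT) * y = -1 ∧ (y : MAT).trace = 0 := by
  have h := hΓ.anti 1 0 (by decide)
  refine ⟨Γ 0 * Γ 1, mul_mem (hΓ.mem 0) (hΓ.mem 1), ?_, ?_⟩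
  · rw [Units.val_mul, Matrix.mul_assoc, ← Matrix.mul_assoc (Γ 1 : MAT), h, Matrix.neg_mul,
      Matrix.mul_assoc (Γ 0 : MAT) (Γ 1 : MAT), hΓ.sq 1, Matrix.mul_one, Matrix.mul_neg, hΓ.sq 0]
  · refine trace_zero_of_anti S.two (v := Γ 0) ?_
    rw [Units.val_mul, ← Matrix.mul_assoc, hΓ.sq 0, Matrix.one_mul, Matrix.mul_assoc, h, Matrix.mul_neg,
      ← Matrix.mul_assoc, hΓ.sq 0, Matrix.one_mul, neg_neg]

/-- A reflection normalising the group. -/
theorem target_reflection {Γ : Fin 5 → GL ι F} (hΓ : Gam R Γ) {I : GL ι F} (hI : I ∈ R) {c : F}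
    (hIc : (I : MAT) = c • 1) (hc : c * c = -1) :
    ∃ u ∈ R, ∃ w ∈ R, (u : MAT) * u = 1 ∧ (w : MAT) * w = 1 ∧
      ∃ C : GL ι F, C ∈ Cfsg.Geo.subgroupNormalizer R ∧ (C : MAT) * C = 1 ∧ (C : MAT).trace = 2 ∧
        (C : MAT) = (2 : F)⁻¹ • (1 + (u : MAT) + w - (u : MAT) * w) ∧ (w : MAT) * u = (u : MAT) * w ∧
        ∀ a : F, (C : MAT) ≠ a • 1 := by
  classical
  haveI := S.nonempty
  set u := Γ 0 with hu
  set w := I * Γ 1 * Γ 2 with hw
  have h01 := hΓ.anti 1 0 (by decide)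
  have h02 := hΓ.anti 2 0 (by decide)
  have h12 := hΓ.anti 2 1 (by decide)
  have e0 : ∀ X : MAT, (Γ 1 : MAT) * ((Γ 0 : MAT) * X) = -((Γ 0 : MAT) * ((Γ 1 : MAT) * X)) := fun X => by
    rw [← Matrix.mul_assoc, h01, Matrix.neg_mul, Matrix.mul_assoc]
  have e1 : ∀ X : MAT, (Γ 2 : MAT) * ((Γ 1 : MAT) * X) = -((Γ 1 : MAT) * ((Γ 2 : MAT) * X)) := fun X => by
    rw [← Matrix.mul_assoc, h12, Matrix.neg_mul, Matrix.mul_assoc]
  have hwv : (w : MAT) = c • ((Γ 1 : MAT) * Γ 2) := by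
    rw [hw, Units.val_mul, Units.val_mul, hIc, Matrix.smul_mul, Matrix.one_mul, Matrix.smul_mul]
  have hwR : w ∈ R := mul_mem (mul_mem hI (hΓ.mem 1)) (hΓ.mem 2)
  have hww : (w : MAT) * w = 1 := by
    rw [hwv, Matrix.smul_mul, Matrix.mul_smul, smul_smul, hc, Matrix.mul_assoc, e1, hΓ.sq 2, Matrix.mul_one,
      Matrix.mul_neg, hΓ.sq 1, smul_neg, neg_smul, one_smul, neg_neg]
  have hwu : (w : MAT) * u = (u : MAT) * w := by
    rw [hwv, Matrix.smul_mul, Matrix.mul_smul, Matrix.mul_assoc, hu, h02, Matrix.mul_neg, e0, neg_neg]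
  have hnw : ∀ a : F, (w : MAT) ≠ a • 1 := S.nonscalar_of_anti (v := Γ 1) (by
    rw [hwv, Matrix.mul_smul, Matrix.smul_mul, Matrix.mul_assoc, h12, Matrix.mul_neg, smul_neg, neg_neg])
  have hnuw : ∀ a : F, ((u * w : GL ι F) : MAT) ≠ a • 1 := S.nonscalar_of_anti (v := Γ 3) (by
    have h30 := hΓ.anti 3 0 (by decide)
    have h31 := hΓ.anti 3 1 (by decide)
    have h32 := hΓ.anti 3 2 (by decide)
    have e30 : ∀ X : MAT, (Γ 3 : MAT) * ((Γ 0 : MAT) * X) = -((Γ 0 : MAT) * ((Γ 3 : MAT) * X)) := fun X => by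
      rw [← Matrix.mul_assoc, h30, Matrix.neg_mul, Matrix.mul_assoc]
    have e31 : ∀ X : MAT, (Γ 3 : MAT) * ((Γ 1 : MAT) * X) = -((Γ 1 : MAT) * ((Γ 3 : MAT) * X)) := fun X => by
      rw [← Matrix.mul_assoc, h31, Matrix.neg_mul, Matrix.mul_assoc]
    simp only [Units.val_mul, hwv, hu, Matrix.mul_smul, Matrix.smul_mul, Matrix.mul_assoc, e30, e31, h32,
      Matrix.mul_neg, smul_neg, neg_neg])
  obtain ⟨C, hC1, hC2, hC3, hC4⟩ := S.exists_reflection_val (hΓ.mem 0) hwR (hΓ.sq 0) hww hwu hnuw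
    (S.gam_nonscalar hΓ 0) hnw
  refine ⟨u, hΓ.mem 0, w, hwR, hΓ.sq 0, hww, C, hC2, hC1, hC3, hC4, hwu, fun a ha => ?_⟩
  have h := congrArg (fun M : MAT => (M * (u : MAT)).trace) (hC4.symm.trans ha)
  simp only [Matrix.smul_mul, Matrix.one_mul, Matrix.sub_mul, Matrix.add_mul, Matrix.trace_smul, Matrix.trace_sub,
    Matrix.trace_add, hu] at h
  rw [hΓ.sq 0, S.trace_zero (hΓ.mem 0) (S.gam_nonscalar hΓ 0), Matrix.trace_one, S.dim,
    show (w : MAT) * (Γ 0 : MAT) = ((u * w : GL ι F) : MAT) from hwu.trans (Units.val_mul u w).symm,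
    show (Γ 0 : MAT) * (w : MAT) * (Γ 0 : MAT) = (w : MAT) by
      rw [Matrix.mul_assoc, show (w : MAT) * (Γ 0 : MAT) = (Γ 0 : MAT) * (w : MAT) from hwu, ← Matrix.mul_assoc,
        hΓ.sq 0, Matrix.one_mul],
    S.trace_zero hwR hnw, S.trace_zero (mul_mem (hΓ.mem 0) hwR) hnuw] at h
  simp only [zero_add, add_zero, sub_zero, smul_eq_mul, mul_zero] at h
  exact mul_ne_zero (inv_ne_zero S.two) (by exact_mod_cast S.four) h

/-- Elements of order three with traces `-2` and `1`. -/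
theorem target_three {Γ : Fin 5 → GL ι F} (hΓ : Gam R Γ) {I : GL ι F} (hI : I ∈ R) {c : F}
    (hIc : (I : MAT) = c • 1) (hc : c * c = -1) :
    ∃ A B : GL ι F, A ∈ Cfsg.Geo.subgroupNormalizer R ∧ B ∈ Cfsg.Geo.subgroupNormalizer R ∧ A ^ 3 = 1 ∧ B ^ 3 = 1 ∧
      (A : MAT).det = 1 ∧ (B : MAT).det = 1 ∧ (A : MAT).trace = -2 ∧ (B : MAT).trace = 1 := by
  classical
  haveI := S.nonempty
  have E : ∀ i j, i ≠ j → ∀ X : MAT, (Γ i : MAT) * ((Γ j : MAT) * X) = -((Γ j : MAT) * ((Γ i : MAT) * X)) :=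
    fun i j h X => by rw [← Matrix.mul_assoc, hΓ.anti i j h, Matrix.neg_mul, Matrix.mul_assoc]
  have Q : ∀ i, ∀ X : MAT, (Γ i : MAT) * ((Γ i : MAT) * X) = X := fun i X => by
    rw [← Matrix.mul_assoc, hΓ.sq i, Matrix.one_mul]
  have a10 := hΓ.anti 1 0 (by decide)
  have a20 := hΓ.anti 2 0 (by decide)
  have a21 := hΓ.anti 2 1 (by decide)
  have a30 := hΓ.anti 3 0 (by decide)
  have a31 := hΓ.anti 3 1 (by decide)
  have a32 := hΓ.anti 3 2 (by decide)
  have a40 := hΓ.anti 4 0 (by decide)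
  have a41 := hΓ.anti 4 1 (by decide)
  have a42 := hΓ.anti 4 2 (by decide)
  have a43 := hΓ.anti 4 3 (by decide)
  have e10 := E 1 0 (by decide)
  have e20 := E 2 0 (by decide)
  have e21 := E 2 1 (by decide)
  have e30 := E 3 0 (by decide)
  have e31 := E 3 1 (by decide)
  have e32 := E 3 2 (by decide)
  have e40 := E 4 0 (by decide)
  have e41 := E 4 1 (by decide)
  have e42 := E 4 2 (by decide)
  have e43 := E 4 3 (by decide)
  obtain ⟨A, hA3, hAN, hAv, hAd⟩ := S.exists_quat_three (P := Γ 0 * Γ 1) (Q := Γ 1 * Γ 2)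
    (mul_mem (hΓ.mem 0) (hΓ.mem 1)) (mul_mem (hΓ.mem 1) (hΓ.mem 2))
    (by simp only [Units.val_mul, Matrix.mul_assoc, e10, hΓ.sq, Matrix.mul_one, Matrix.mul_neg])
    (by simp only [Units.val_mul, Matrix.mul_assoc, e21, hΓ.sq, Matrix.mul_one, Matrix.mul_neg])
    (by simp only [Units.val_mul, Matrix.mul_assoc, e10, e20, e21, a10, a20, a21, Q, hΓ.sq, Matrix.mul_one,
          Matrix.mul_neg, neg_neg])
  obtain ⟨A', hA'3, hA'N, hA'v, hA'd⟩ := S.exists_quat_three (P := Γ 3 * Γ 4) (Q := I * Γ 3)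
    (mul_mem (hΓ.mem 3) (hΓ.mem 4)) (mul_mem hI (hΓ.mem 3))
    (by simp only [Units.val_mul, Matrix.mul_assoc, e43, hΓ.sq, Matrix.mul_one, Matrix.mul_neg])
    (by simp only [Units.val_mul, hIc, Matrix.smul_mul, Matrix.one_mul, Matrix.mul_smul, smul_smul, hc, hΓ.sq,
          neg_smul, one_smul])
    (by simp only [Units.val_mul, hIc, Matrix.smul_mul, Matrix.one_mul, Matrix.mul_smul, Matrix.mul_assoc, e43, a43,
          Q, Matrix.mul_neg, smul_neg, neg_neg])
  have hnine : ∀ X : MAT, ∀ Y : MAT, ∀ v : GL ι F, (v : MAT) * X = -(X * v) → (v : MAT) * Y = Y * v →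
      (X * Y).trace = 0 := fun X Y v h1 h2 => trace_zero_of_anti S.two (v := v) (by
    rw [← Matrix.mul_assoc, h1, Matrix.neg_mul, Matrix.mul_assoc, h2, Matrix.mul_assoc])
  set p : MAT := ((Γ 0 * Γ 1 : GL ι F) : MAT) with hp
  set q : MAT := ((Γ 1 * Γ 2 : GL ι F) : MAT) with hq
  set p' : MAT := ((Γ 3 * Γ 4 : GL ι F) : MAT) with hp'
  set q' : MAT := ((I * Γ 3 : GL ι F) : MAT) with hq'
  have hpq : (p : MAT) * q = -(q * p) := by
    simp only [hp, hq, Units.val_mul, Matrix.mul_assoc, e10, e20, e21, a10, a20, a21, Q, hΓ.sq, Matrix.mul_one,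
      Matrix.mul_neg, neg_neg]
  have hpq' : (p' : MAT) * q' = -(q' * p') := by
    simp only [hp', hq', Units.val_mul, hIc, Matrix.smul_mul, Matrix.one_mul, Matrix.mul_smul, Matrix.mul_assoc, e43,
      a43, Q, Matrix.mul_neg, smul_neg, neg_neg]
  have c1 : p * p' = p' * p := by
    simp only [hp, hp', Units.val_mul, Matrix.mul_assoc, e30, e31, e40, e41, a30, a31, a40, a41, Matrix.mul_neg, neg_neg]
  have c2 : p * q' = q' * p := by
    simp only [hp, hq', Units.val_mul, hIc, Matrix.smul_mul, Matrix.one_mul, Matrix.mul_smul, Matrix.mul_assoc, e30,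
      e31, a30, a31, Matrix.mul_neg, smul_neg, neg_neg]
  have c3 : q * p' = p' * q := by
    simp only [hq, hp', Units.val_mul, Matrix.mul_assoc, e31, e32, e41, e42, a31, a32, a41, a42, Matrix.mul_neg, neg_neg]
  have c4 : q * q' = q' * q := by
    simp only [hq, hq', Units.val_mul, hIc, Matrix.smul_mul, Matrix.one_mul, Matrix.mul_smul, Matrix.mul_assoc, e31,
      e32, a31, a32, Matrix.mul_neg, smul_neg, neg_neg]
  have c5 : p * (p' * q') = p' * q' * p := by rw [← Matrix.mul_assoc, c1, Matrix.mul_assoc, c2, Matrix.mul_assoc]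
  have c6 : q * (p' * q') = p' * q' * q := by rw [← Matrix.mul_assoc, c3, Matrix.mul_assoc, c4, Matrix.mul_assoc]
  have hpw : q * p = -(p * q) := by rw [hpq, neg_neg]
  have hqw : p * (p * q) = -(p * q * p) := by
    rw [Matrix.mul_assoc, hpw, Matrix.mul_neg, neg_neg]
  have hpw' : q' * p' = -(p' * q') := by rw [hpq', neg_neg]
  have hqw' : p' * (p' * q') = -(p' * q' * p') := by
    rw [Matrix.mul_assoc, hpw', Matrix.mul_neg, neg_neg]
  have t1 : p.trace = 0 := trace_zero_of_anti S.two (v := Γ 1 * Γ 2) hpw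
  have t2 : q.trace = 0 := trace_zero_of_anti S.two (v := Γ 0 * Γ 1) hpq
  have t3 : (p * q).trace = 0 := trace_zero_of_anti S.two (v := Γ 0 * Γ 1) hqw
  have t4 : p'.trace = 0 := trace_zero_of_anti S.two (v := I * Γ 3) hpw'
  have t5 : q'.trace = 0 := trace_zero_of_anti S.two (v := Γ 3 * Γ 4) hpq'
  have t6 : (p' * q').trace = 0 := trace_zero_of_anti S.two (v := Γ 3 * Γ 4) hqw'
  have hAA' : (A : MAT) * A' = (A' : MAT) * A := by
    have c1' : ∀ X : MAT, p' * (p * X) = p * (p' * X) := fun X => by rw [← Matrix.mul_assoc, ← c1, Matrix.mul_assoc]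
    have c2' : ∀ X : MAT, q' * (p * X) = p * (q' * X) := fun X => by rw [← Matrix.mul_assoc, ← c2, Matrix.mul_assoc]
    have c3' : ∀ X : MAT, p' * (q * X) = q * (p' * X) := fun X => by rw [← Matrix.mul_assoc, ← c3, Matrix.mul_assoc]
    have c4' : ∀ X : MAT, q' * (q * X) = q * (q' * X) := fun X => by rw [← Matrix.mul_assoc, ← c4, Matrix.mul_assoc]
    rw [hAv, hA'v]
    simp only [Matrix.smul_mul, Matrix.mul_smul, Matrix.mul_add, Matrix.add_mul, Matrix.neg_mul, Matrix.mul_neg,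
      Matrix.one_mul, Matrix.mul_one, Matrix.mul_assoc, ← c1, ← c2, ← c3, ← c4, c1', c2', c3', c4']
    module
  refine ⟨A, A * A', hAN, mul_mem hAN hA'N, hA3, ?_, hAd, ?_, ?_, ?_⟩
  · rw [(show Commute A A' from Units.ext hAA').mul_pow, hA3, hA'3, one_mul]
  · rw [Units.val_mul, Matrix.det_mul, hAd, hA'd, one_mul]
  · rw [hAv, Matrix.trace_smul, Matrix.trace_add, Matrix.trace_add, Matrix.trace_add, Matrix.trace_neg,
      Matrix.trace_one, S.dim, t1, t2, t3]
    have := S.two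
    simp only [add_zero, smul_eq_mul, Nat.cast_ofNat]; field_simp; norm_num
  · rw [Units.val_mul, hAv, hA'v]
    simp only [Matrix.smul_mul, Matrix.mul_smul, smul_smul, Matrix.mul_add, Matrix.add_mul, Matrix.neg_mul,
      Matrix.mul_neg, Matrix.one_mul, Matrix.mul_one, neg_neg]
    simp only [Matrix.trace_smul, Matrix.trace_add, Matrix.trace_neg, Matrix.trace_one, S.dim, t1, t2, t3, t4, t5, t6,
      hnine p p' (Γ 1 * Γ 2) hpw c3, hnine p q' (Γ 1 * Γ 2) hpw c4, hnine p (p' * q') (Γ 1 * Γ 2) hpw c6,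
      hnine q p' (Γ 0 * Γ 1) hpq c1, hnine q q' (Γ 0 * Γ 1) hpq c2, hnine q (p' * q') (Γ 0 * Γ 1) hpq c5,
      hnine (p * q) p' (Γ 0 * Γ 1) hqw c1, hnine (p * q) q' (Γ 0 * Γ 1) hqw c2,
      hnine (p * q) (p' * q') (Γ 0 * Γ 1) hqw c5]
    have := S.two
    simp only [neg_zero, add_zero, smul_eq_mul, Nat.cast_ofNat]; field_simp; norm_num

/-- An element of order five, normalised. -/
theorem target_five {Γ : Fin 5 → GL ι F} (hΓ : Gam R Γ) (h5 : Nat.Coprime (Fintype.card F - 1) 5) :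
    ∃ y : GL ι F, y ∈ Cfsg.Geo.subgroupNormalizer R ∧ y ^ 5 = 1 ∧ y ≠ 1 ∧ (y : MAT).det = 1 := by
  classical
  haveI := S.nonempty
  obtain ⟨g, hgN, ⟨d, hd⟩, hns⟩ := S.exists_cycle_five hΓ
  obtain ⟨i⟩ := S.nonempty
  have hd0 : d ≠ 0 := fun h => by
    have hh := Units.mul_inv (g ^ 5)
    rw [hd, h, zero_smul, Matrix.zero_mul] at hh
    exact zero_ne_one (congrFun (congrFun hh i) i |>.trans (Matrix.one_apply_eq i))
  have hcard : Nat.card Fˣ = Fintype.card F - 1 := by rw [Nat.card_units, Nat.card_eq_fintype_card]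
  obtain ⟨m, hm⟩ := (powCoprime (G := Fˣ) (hcard ▸ h5)).surjective (Units.mk0 d hd0)
  have hm5 : (m : F) ^ 5 = d := by simpa using congrArg Units.val hm
  obtain ⟨K, hK⟩ := scalar_gl_exists (ι := ι) ((m⁻¹ : Fˣ) : F) (Units.ne_zero _)
  have hy5 : (K * g) ^ 5 = 1 := Units.ext (by
    rw [(show Commute K g from scalar_comm hK g).mul_pow, Units.val_mul, hd, Units.val_pow_eq_pow_val, hK, smul_pow,
      one_pow, Matrix.smul_mul, Matrix.one_mul, smul_smul, ← hm5, ← mul_pow, Units.inv_mul, one_pow, one_smul,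
      Units.val_one])
  refine ⟨K * g, mul_mem (scalar_normalize hK) hgN, hy5, fun h1 => hns (m : F) ?_, ?_⟩
  · have : g = K⁻¹ := eq_inv_of_mul_eq_one_right h1
    have hKg : (K : MAT) * g = 1 := by rw [← Units.val_mul, h1, Units.val_one]
    rw [hK, Matrix.smul_mul, Matrix.one_mul] at hKg
    calc (g : MAT) = ((m : F) * ((m⁻¹ : Fˣ) : F)) • (g : MAT) := by rw [Units.mul_inv, one_smul]
      _ = (m : F) • 1 := by rw [← smul_smul, hKg]
  · have h : ((K * g : GL ι F) : MAT).det ^ 5 = 1 := by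
      rw [← Matrix.det_pow, ← Units.val_pow_eq_pow_val, hy5, Units.val_one, Matrix.det_one]
    have hu : (Matrix.GeneralLinearGroup.det (K * g)) ^ 5 = 1 := Units.ext (by simpa using h)
    have := (powCoprime (G := Fˣ) (hcard ▸ h5)).injective (a₁ := Matrix.GeneralLinearGroup.det (K * g)) (a₂ := 1)
      (by simpa using hu)
    exact congrArg Units.val this

/-- An element fixing a point has its trace invariant among those allowed. -/
theorem conj_cases {r : ℕ} [hr : Fact r.Prime] {x g : GL ι F} (hn : g⁻¹ * x * g ∈ Cfsg.Geo.subgroupNormalizer R)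
    {d : F} (hxr : ((x ^ r : GL ι F) : MAT) = d • 1) (hns : ∀ c : F, (x : MAT) ≠ c • 1) :
    (r = 3 → (x : MAT).trace * ((x⁻¹ : GL ι F) : MAT).trace = 1 ∨
      (x : MAT).trace * ((x⁻¹ : GL ι F) : MAT).trace = 4) ∧
    (r = 5 → (x : MAT).trace * ((x⁻¹ : GL ι F) : MAT).trace = 1) ∧ r < 7 := by
  classical
  set y := g⁻¹ * x * g with hy
  have hyr : ((y ^ r : GL ι F) : MAT) = d • 1 := by
    have : y ^ r = g⁻¹ * x ^ r * g := by
      have h := conj_pow (a := g⁻¹) (b := x) (i := r)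
      rw [inv_inv] at h
      exact h
    rw [this, Units.val_mul, Units.val_mul, hxr, Matrix.mul_smul, Matrix.mul_one, Matrix.smul_mul, Units.inv_mul]
  have hyns : ∀ c : F, (y : MAT) ≠ c • 1 := fun c hc => hns c (by
    have hx : x = g * y * g⁻¹ := by rw [hy]; group
    rw [hx, Units.val_mul, Units.val_mul, hc, Matrix.mul_smul, Matrix.mul_one, Matrix.smul_mul, Units.mul_inv])
  have htr : ∀ a : GL ι F, ((g⁻¹ * a * g : GL ι F) : MAT).trace = (a : MAT).trace := fun a => by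
    rw [Units.val_mul, Units.val_mul, Matrix.trace_mul_comm, ← Matrix.mul_assoc, Units.mul_inv, Matrix.one_mul]
  have hyinv : y⁻¹ = g⁻¹ * x⁻¹ * g := by rw [hy]; group
  refine ⟨fun h3 => ?_, fun h5 => ?_, ?_⟩
  · subst h3
    rcases S.cases_three hn hyr hyns with ⟨-, h⟩ | h <;> rw [hyinv, hy, htr, htr] at h
    · exact Or.inl h
    · exact Or.inr h
  · subst h5
    have h := S.cases_five hn hyr hyns
    rwa [hyinv, hy, htr, htr] at h
  · by_contra h7
    obtain ⟨c, hc⟩ := S.scalar_of_seven (r := r) (by omega) hn hyr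
    exact hyns c hc

/-- A conjugate transvection does not fix a point. -/
theorem transvection_der {x g : GL ι F} (hn : g⁻¹ * x * g ∈ Cfsg.Geo.subgroupNormalizer R) {u v : ι → F}
    (huv : v ⬝ᵥ u = 0) (hx : (x : MAT) = 1 + Matrix.vecMulVec u v) (hne : (x : MAT) ≠ 1) : False := by
  refine S.no_transvection hn (u := ((g⁻¹ : GL ι F) : MAT) *ᵥ u) (v := v ᵥ* (g : MAT)) ?_ ?_ ?_
  · rw [← Matrix.dotProduct_mulVec, Matrix.mulVec_mulVec, Units.mul_inv, Matrix.one_mulVec, huv]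
  · rw [Units.val_mul, Units.val_mul, hx, Matrix.mul_add, Matrix.mul_one, Matrix.add_mul, Units.inv_mul,
      Matrix.mul_vecMulVec, Matrix.vecMulVec_mul]
  · intro h
    apply hne
    have : x = g * (g⁻¹ * x * g) * g⁻¹ := by group
    rw [this, Units.val_mul, Units.val_mul, h, Matrix.mul_one, Units.mul_inv]

end Sym4

/-- A rotation in a plane. -/
theorem exists_plane_elem {a b c d η : F} (hη : η = a + d) (hdet : a * d - b * c = 1) :
    ∃ x : GL (Fin 4) F,
      (x : Matrix (Fin 4) (Fin 4) F) = !![a, b, 0, 0; c, d, 0, 0; 0, 0, 1, 0; 0, 0, 0, 1] ∧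
      ((x⁻¹ : GL (Fin 4) F) : Matrix (Fin 4) (Fin 4) F) = !![d, -b, 0, 0; -c, a, 0, 0; 0, 0, 1, 0; 0, 0, 0, 1] ∧
      (x : Matrix (Fin 4) (Fin 4) F).det = 1 ∧ (x : Matrix (Fin 4) (Fin 4) F).trace = η + 2 ∧
      ((x⁻¹ : GL (Fin 4) F) : Matrix (Fin 4) (Fin 4) F).trace = η + 2 ∧
      (η ^ 2 + η = 1 → x ^ 5 = 1) ∧ (η ≠ 2 → ∀ e : F, (x : Matrix (Fin 4) (Fin 4) F) ≠ e • 1) := by
  set M : Matrix (Fin 4) (Fin 4) F := !![a, b, 0, 0; c, d, 0, 0; 0, 0, 1, 0; 0, 0, 0, 1] with hM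
  set N : Matrix (Fin 4) (Fin 4) F := !![d, -b, 0, 0; -c, a, 0, 0; 0, 0, 1, 0; 0, 0, 0, 1] with hN
  have h1 : M * N = 1 := by
    ext i j
    fin_cases i <;> fin_cases j <;> simp [hM, hN, Matrix.mul_apply, Fin.sum_univ_four]
    all_goals first | ring1 | linear_combination hdet
  have h2 : N * M = 1 := mul_eq_one_comm.mp h1
  let x : GL (Fin 4) F := ⟨M, N, h1, h2⟩
  refine ⟨x, rfl, rfl, ?_, ?_, ?_, fun hη2 => ?_, fun hη2 e he => ?_⟩
  · show M.det = 1
    simp [hM, Matrix.det_succ_row_zero, Fin.sum_univ_succ, Fin.succAbove]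
    linear_combination hdet
  · show M.trace = η + 2
    simp [hM, Matrix.trace, Fin.sum_univ_four, hη]; ring
  · show N.trace = η + 2
    simp [hN, Matrix.trace, Fin.sum_univ_four, hη]; ring
  · have hann : (M - 1) * (M * M - η • M + 1) = 0 := by
      ext i j
      fin_cases i <;> fin_cases j <;> simp [hM, hη, Matrix.mul_apply, Fin.sum_univ_four]
      all_goals grind
    have hid : M ^ 5 - 1 = (M * M + (1 + η) • M + 1) * ((M - 1) * (M * M - η • M + 1)) := by
      simp only [pow_succ, pow_zero, Matrix.one_mul, Matrix.mul_add, Matrix.add_mul, Matrix.mul_sub, Matrix.sub_mul,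
        Matrix.smul_mul, Matrix.mul_smul, Matrix.mul_one, Matrix.mul_assoc, smul_smul, smul_sub, smul_add]
      match_scalars <;> grind
    rw [hann, Matrix.mul_zero, sub_eq_zero] at hid
    exact Units.ext (by rw [Units.val_pow_eq_pow_val, Units.val_one]; exact hid)
  · have h00 : a = e := by simpa [hM, x] using congrFun (congrFun he 0) 0
    have h22 : (1 : F) = e := by simpa [hM, x] using congrFun (congrFun he 2) 2
    have h11 : d = e := by simpa [hM, x] using congrFun (congrFun he 1) 1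
    exact hη2 (by rw [hη, h00, h11, ← h22]; norm_num)

/-- `diag (w, w, w, 1)`. -/
theorem exists_diag_three {w : F} (hw : w ^ 2 + w + 1 = 0) (h3 : (3 : F) ≠ 0) :
    ∃ x : GL (Fin 4) F, (x : Matrix (Fin 4) (Fin 4) F) = Matrix.diagonal ![w, w, w, 1] ∧
      (x : Matrix (Fin 4) (Fin 4) F).det = 1 ∧ x ^ 3 = 1 ∧
      (x : Matrix (Fin 4) (Fin 4) F).trace * ((x⁻¹ : GL (Fin 4) F) : Matrix (Fin 4) (Fin 4) F).trace = 7 ∧
      ∀ e : F, (x : Matrix (Fin 4) (Fin 4) F) ≠ e • 1 := by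
  have hw3 : w ^ 3 = 1 := by linear_combination (w - 1) * hw
  have hw1 : w ≠ 1 := fun h => h3 (by rw [h] at hw; linear_combination hw)
  let x : GL (Fin 4) F :=
    { val := Matrix.diagonal ![w, w, w, 1]
      inv := Matrix.diagonal ![w ^ 2, w ^ 2, w ^ 2, 1]
      val_inv := by
        rw [Matrix.diagonal_mul_diagonal, ← Matrix.diagonal_one]; congr 1; funext i
        fin_cases i <;> simp <;> linear_combination hw3
      inv_val := by
        rw [Matrix.diagonal_mul_diagonal, ← Matrix.diagonal_one]; congr 1; funext i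
        fin_cases i <;> simp <;> linear_combination hw3 }
  refine ⟨x, rfl, ?_, Units.ext ?_, ?_, fun e he => ?_⟩
  · show (Matrix.diagonal ![w, w, w, 1]).det = 1
    rw [Matrix.det_diagonal]; simp [Fin.prod_univ_four]; linear_combination hw3
  · rw [Units.val_pow_eq_pow_val, Units.val_one]
    show Matrix.diagonal ![w, w, w, 1] ^ 3 = 1
    rw [Matrix.diagonal_pow, ← Matrix.diagonal_one]; congr 1; funext i
    fin_cases i <;> simp [hw3]
  · show (Matrix.diagonal ![w, w, w, 1]).trace * (Matrix.diagonal ![w ^ 2, w ^ 2, w ^ 2, 1]).trace = 7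
    simp [Matrix.trace_diagonal, Fin.sum_univ_four]
    linear_combination 9 * hw3 + 3 * hw
  · have h00 : w = e := by simpa [x] using congrFun (congrFun he 0) 0
    have h33 : (1 : F) = e := by simpa [x] using congrFun (congrFun he 3) 3
    exact hw1 (h00.trans h33.symm)

end H47
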