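import Mathlib
import Cfsg.Agent.H47.SymTargets

/-!
# Shared steps for normalisers of symplectic-type two-groups in four dimensions
-/

set_option autoImplicit false
open scoped MatrixGroups Matrix
open Matrix

namespace H47

variable {F : Type*} [Field F] [Fintype F]

/-- Semisimple elements of `SL` with equal characteristic polynomial are conjugate in `SL`. -/
theorem sl_conj_charpoly {n m : ℕ} (hn : 1 ≤ n) (hm : (m : F) ≠ 0) {x y : GL (Fin n) F} (hx : x ^ m = 1)
    (hy : y ^ m = 1)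
    (hc : (x : Matrix (Fin n) (Fin n) F).charpoly = (y : Matrix (Fin n) (Fin n) F).charpoly) :
    ∃ g ∈ Cfsg.Geo.specialLinear (Fin n) F, g⁻¹ * x * g = y := by
  have hxm : ∃ m : ℕ, (m : F) ≠ 0 ∧ (x : Matrix (Fin n) (Fin n) F) ^ m = 1 :=
    ⟨m, hm, by rw [← Units.val_pow_eq_pow_val, hx, Units.val_one]⟩
  have hym : ∃ m : ℕ, (m : F) ≠ 0 ∧ (y : Matrix (Fin n) (Fin n) F) ^ m = 1 :=
    ⟨m, hm, by rw [← Units.val_pow_eq_pow_val, hy, Units.val_one]⟩
  obtain ⟨C, hC, hCx⟩ := H40.exists_conj_matrix hxm hym hc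
  obtain ⟨D, hD, hDx⟩ := H40.exists_commuting_det_matrix hn hxm (inv_ne_zero hC)
  let h : GL (Fin n) F := Matrix.GeneralLinearGroup.mkOfDetNeZero (C * D)
    (by rw [Matrix.det_mul, hD, mul_inv_cancel₀ hC]; exact one_ne_zero)
  have hd : (h : Matrix (Fin n) (Fin n) F).det = 1 := by
    show (C * D).det = 1
    rw [Matrix.det_mul, hD, mul_inv_cancel₀ hC]
  have hxy : h * x = y * h := Units.ext (by
    show C * D * (x : Matrix (Fin n) (Fin n) F) = (y : Matrix (Fin n) (Fin n) F) * (C * D)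
    rw [Matrix.mul_assoc, ← hDx, ← Matrix.mul_assoc, hCx, Matrix.mul_assoc])
  refine ⟨h⁻¹, inv_mem (show h ∈ Cfsg.Geo.specialLinear (Fin n) F from mem_sl_iff.mpr hd), ?_⟩
  rw [inv_inv, hxy, mul_inv_cancel_right]

/-- Square roots of five give the traces of elements of order five. -/
theorem exists_eta {p : ℕ} [hp : Fact p.Prime] [CharP F p] (hp2 : p ≠ 2) (h : p % 5 = 1 ∨ p % 5 = 4) :
    ∃ η : F, η ^ 2 + η = 1 ∧ η ^ p = η ∧ η ≠ 2 := by
  haveI : Fact (Nat.Prime 5) := ⟨by norm_num⟩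
  have h5 : IsSquare ((5 : ℕ) : ZMod p) := by
    rw [← ZMod.exists_sq_eq_prime_iff_of_mod_four_eq_one (p := 5) (by norm_num) hp2]
    have : (p : ZMod 5) = ((p % 5 : ℕ) : ZMod 5) := (ZMod.natCast_mod p 5).symm
    rw [this]
    rcases h with h | h <;> rw [h]
    · exact ⟨1, by norm_num⟩
    · exact ⟨2, by norm_num⟩
  obtain ⟨s, hs⟩ := h5
  set S : F := ZMod.castHom (dvd_refl p) F s with hS
  have hSS : S * S = 5 := by rw [hS, ← map_mul, ← hs, map_natCast]; norm_num
  have h2 : (2 : F) ≠ 0 := fun h0 => by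
    have : p ∣ 2 := (CharP.cast_eq_zero_iff F p 2).mp (by exact_mod_cast h0)
    exact hp2 ((Nat.prime_dvd_prime_iff_eq hp.out Nat.prime_two).mp this)
  have hη : ((S - 1) / 2) ^ 2 + (S - 1) / 2 = 1 := by
    field_simp; linear_combination hSS
  refine ⟨(S - 1) / 2, hη, ?_, fun he => ?_⟩
  · have : (S - 1) / 2 = ZMod.castHom (dvd_refl p) F ((s - 1) / 2) := by
      rw [map_div₀, map_sub, map_one, map_ofNat]
    rw [this, ← map_pow, ZMod.pow_card]
  · rw [he] at hη
    have h50 : ((5 : ℕ) : F) = 0 := by push_cast; linear_combination hη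
    have hd : p ∣ 5 := (CharP.cast_eq_zero_iff F p 5).mp h50
    have := (Nat.prime_dvd_prime_iff_eq hp.out (by norm_num : Nat.Prime 5)).mp hd
    omega

lemma trace_sq_ne_five {p : ℕ} [hp : Fact p.Prime] [CharP F p] (h5 : p ≠ 5) {η : F} (hη : η ^ 2 + η = 1) :
    (η + 2) * (η + 2) ≠ 1 := by
  intro h
  have h1 : (η + 1) * (η + 3) = 0 := by linear_combination h
  rcases mul_eq_zero.mp h1 with h2 | h2
  · exact one_ne_zero (α := F) (by linear_combination -hη + η * h2)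
  · have h50 : ((5 : ℕ) : F) = 0 := by push_cast; linear_combination hη - (η - 2) * h2
    exact h5 ((Nat.prime_dvd_prime_iff_eq hp.out (by norm_num : Nat.Prime 5)).mp ((CharP.cast_eq_zero_iff F p 5).mp h50))

omit [Fintype F] in
/-- Seven is neither one nor four. -/
lemma seven_ne {p : ℕ} [hp : Fact p.Prime] [CharP F p] (h2 : p ≠ 2) (h3 : p ≠ 3) :
    (7 : F) ≠ 1 ∧ (7 : F) ≠ 4 := by
  constructor
  · intro h
    have h6 : ((2 * 3 : ℕ) : F) = 0 := by push_cast; linear_combination h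
    rcases hp.out.dvd_mul.mp ((CharP.cast_eq_zero_iff F p _).mp h6) with e | e
    · exact h2 ((Nat.prime_dvd_prime_iff_eq hp.out Nat.prime_two).mp e)
    · exact h3 ((Nat.prime_dvd_prime_iff_eq hp.out Nat.prime_three).mp e)
  · intro h
    have h6 : ((3 : ℕ) : F) = 0 := by push_cast; linear_combination h
    exact h3 ((Nat.prime_dvd_prime_iff_eq hp.out Nat.prime_three).mp ((CharP.cast_eq_zero_iff F p _).mp h6))

/-- A primitive cube root. -/
lemma exists_omega (h : 3 ∣ Fintype.card F - 1) (h3 : (3 : F) ≠ 0) : ∃ w : F, w ^ 2 + w + 1 = 0 ∧ w ^ 3 = 1 ∧ w ≠ 1 := by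
  classical
  haveI : Fact (Nat.Prime 3) := ⟨Nat.prime_three⟩
  obtain ⟨u, hu⟩ := exists_prime_orderOf_dvd_card' (G := Fˣ) 3 (by rwa [Nat.card_units, Nat.card_eq_fintype_card])
  have h1 : (u : F) ^ 3 = 1 := by rw [← Units.val_pow_eq_pow_val, ← hu, pow_orderOf_eq_one, Units.val_one]
  have hne : (u : F) ≠ 1 := fun he => by
    have : u = 1 := Units.ext he
    rw [this, orderOf_one] at hu; omega
  exact ⟨u, (mul_eq_zero.mp (show ((u : F) - 1) * ((u : F) ^ 2 + u + 1) = 0 by linear_combination h1)).resolve_left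
    (sub_ne_zero.mpr hne), h1, hne⟩

lemma orderOf_mod_five {p : ℕ} : orderOf (p : ZMod 5) = 4 ↔ p % 5 = 2 ∨ p % 5 = 3 := by
  haveI : Fact (Nat.Prime 2) := ⟨Nat.prime_two⟩
  have hcast : (p : ZMod 5) = ((p % 5 : ℕ) : ZMod 5) := (ZMod.natCast_mod p 5).symm
  have hlt := Nat.mod_lt p (show 5 > 0 by norm_num)
  constructor
  · intro h
    have h4 := pow_orderOf_eq_one (p : ZMod 5)
    rw [h] at h4
    have h2 : (p : ZMod 5) ^ 2 ≠ 1 := fun h2 => by
      have := Nat.le_of_dvd (by norm_num) (orderOf_dvd_of_pow_eq_one h2); omega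
    rw [hcast] at h4 h2
    generalize p % 5 = t at h4 h2 hlt ⊢
    interval_cases t
    · exact absurd h4 (by decide)
    · exact absurd (by decide) h2
    · exact Or.inl rfl
    · exact Or.inr rfl
    · exact absurd (by decide) h2
  · intro h
    rw [hcast]
    rcases h with h | h <;> rw [h] <;> exact orderOf_eq_prime_pow (p := 2) (n := 1) (by decide) (by decide)

lemma dvd_pow_pred_sub_one {Q r : ℕ} [hr : Fact r.Prime] (h : ¬ r ∣ Q) : r ∣ Q ^ (r - 1) - 1 := by
  have hQ : (Q : ZMod r) ≠ 0 := fun h0 => h ((ZMod.natCast_eq_zero_iff Q r).mp h0)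
  have h1 := ZMod.pow_card_sub_one_eq_one hQ
  have hpos : 1 ≤ Q ^ (r - 1) := Nat.one_le_pow _ _ (Nat.pos_of_ne_zero fun h0 => h (h0 ▸ dvd_zero r))
  rw [← ZMod.natCast_eq_zero_iff, Nat.cast_sub hpos, Nat.cast_pow, h1]
  simp

/-- Elements of `G` fixing a point after removing a scalar. -/
lemma fix_of_scalar {ι : Type} [Fintype ι] [DecidableEq ι] {R G : Subgroup (GL ι F)} {x K : GL ι F} {c : F}
    (hK : (K : Matrix ι ι F) = c • 1) {g : GL ι F} (hg : g ∈ G)
    (h : g⁻¹ * (K⁻¹ * x) * g ∈ Cfsg.Geo.subgroupNormalizer R) :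
    ∃ g ∈ G, g⁻¹ * x * g ∈ Cfsg.Geo.subgroupNormalizer R := by
  refine ⟨g, hg, ?_⟩
  have : g⁻¹ * x * g = K * (g⁻¹ * (K⁻¹ * x) * g) := by
    calc g⁻¹ * x * g = g⁻¹ * (K * (K⁻¹ * x)) * g := by group
      _ = (g⁻¹ * K) * (K⁻¹ * x) * g := by group
      _ = K * g⁻¹ * (K⁻¹ * x) * g := by rw [scalar_comm hK]
      _ = _ := by group
  rw [this]
  exact mul_mem (scalar_normalize hK) h

/-- Dividing by a scalar. -/
lemma scalar_split {ι : Type} [Fintype ι] [DecidableEq ι] [Nonempty ι] {r : ℕ} {x : GL ι F} {z μ : F} (hμ : μ ^ r = z)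
    (hμ0 : μ ≠ 0) (hxr : ((x ^ r : GL ι F) : Matrix ι ι F) = z • 1) (hns : ∀ c : F, (x : Matrix ι ι F) ≠ c • 1) :
    ∃ K : GL ι F, (K : Matrix ι ι F) = μ • 1 ∧ (K⁻¹ * x) ^ r = 1 ∧ K⁻¹ * x ≠ 1 ∧
      ((K⁻¹ * x : GL ι F) : Matrix ι ι F).det = (x : Matrix ι ι F).det / μ ^ Fintype.card ι := by
  obtain ⟨K, hK⟩ := scalar_gl_exists (ι := ι) μ hμ0
  have hKr : K ^ r = x ^ r := Units.ext (by rw [Units.val_pow_eq_pow_val, hK, smul_pow, one_pow, hμ, hxr])
  refine ⟨K, hK, ?_, fun h => hns μ ?_, ?_⟩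
  · rw [(show Commute K⁻¹ x from (show Commute K x from scalar_comm hK x).inv_left).mul_pow, inv_pow, hKr,
      inv_mul_cancel]
  · rw [inv_mul_eq_one] at h; rw [← h, hK]
  · rw [eq_div_iff (pow_ne_zero _ hμ0)]
    have hx : x = K * (K⁻¹ * x) := by group
    conv_rhs => rw [hx, Units.val_mul, Matrix.det_mul, hK, Matrix.det_smul, Matrix.det_one, mul_one]
    ring

namespace Sym4

variable {R : Subgroup (GL (Fin 4) F)} {k : ℕ} (S : Sym4 R k)
include S

/-- The target for an element squaring to a scalar. -/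
theorem target_two {Γ : Fin 5 → GL (Fin 4) F} (hΓ : Gam R Γ) {I : GL (Fin 4) F} (hI : I ∈ R) {c : F}
    (hIc : (I : Matrix (Fin 4) (Fin 4) F) = c • 1) (hc : c * c = -1) {x : GL (Fin 4) F} {z : F}
    (hxx : (x : Matrix (Fin 4) (Fin 4) F) * x = z • 1) (hdet : (x : Matrix (Fin 4) (Fin 4) F).det = 1) (hz4 : z ^ 4 = 1)
    (hns : ∀ a : F, (x : Matrix (Fin 4) (Fin 4) F) ≠ a • 1) :
    ∃ y : GL (Fin 4) F, y ∈ Cfsg.Geo.subgroupNormalizer R ∧ (y : Matrix (Fin 4) (Fin 4) F) * y = z • 1 ∧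
      (y : Matrix (Fin 4) (Fin 4) F).det = 1 ∧
      (y : Matrix (Fin 4) (Fin 4) F).trace = (x : Matrix (Fin 4) (Fin 4) F).trace ∧
      (y ∈ R ∨ ∃ u ∈ R, ∃ w ∈ R, (u : Matrix (Fin 4) (Fin 4) F) * u = 1 ∧ (w : Matrix (Fin 4) (Fin 4) F) * w = 1 ∧
        (w : Matrix (Fin 4) (Fin 4) F) * u = (u : Matrix (Fin 4) (Fin 4) F) * w ∧
        (y : Matrix (Fin 4) (Fin 4) F) * y = z • 1 ∧
        (y : Matrix (Fin 4) (Fin 4) F) = ((x : Matrix (Fin 4) (Fin 4) F).trace / 2) •
          ((2 : F)⁻¹ • (1 + (u : Matrix (Fin 4) (Fin 4) F) + w - (u : Matrix (Fin 4) (Fin 4) F) * w)) ∧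
        ((x : Matrix (Fin 4) (Fin 4) F).trace / 2) * ((x : Matrix (Fin 4) (Fin 4) F).trace / 2) = z) := by
  classical
  have hz0 : z ≠ 0 := fun h0 => by rw [h0] at hz4; norm_num at hz4
  have h2 := S.two
  obtain ⟨n, hn, hnd, hnt, hn2, hn04⟩ := square_data h2 hz0 hxx
  have hself : ∀ u ∈ R, u ∈ Cfsg.Geo.subgroupNormalizer R := fun u hu => Subgroup.le_normalizer hu
  have hfour : (4 : F) ≠ 0 := S.four
  -- the case of trace zero
  have htr0 : ∀ (y : GL (Fin 4) F), (y : Matrix (Fin 4) (Fin 4) F) * y = z • 1 →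
      (y : Matrix (Fin 4) (Fin 4) F).trace = 0 → (y : Matrix (Fin 4) (Fin 4) F).det = z * z := by
    intro y hy ht
    obtain ⟨j, hj, hjd, hjt, -, -⟩ := square_data h2 hz0 hy
    rw [ht, zero_pow (by norm_num)] at hjt
    have h4 : (4 - 2 * (j : F)) = 0 := pow_eq_zero_iff (by norm_num : 2 ≠ 0) |>.mp
      ((mul_eq_zero.mp hjt.symm).resolve_right hz0)
    interval_cases j
    · exact absurd (by simpa using h4) hfour
    · exact absurd (show (2 : F) = 0 by push_cast at h4; linear_combination h4) h2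
    · rw [hjd]; ring
    · exact absurd (show (2 : F) = 0 by push_cast at h4; linear_combination -h4) h2
    · exact absurd (show (4 : F) = 0 by push_cast at h4; linear_combination -h4) hfour
  have hzz : z * z = 1 ∨ z * z = -1 := mul_self_eq_one_iff.mp (by linear_combination hz4)
  rcases hzz with hzz | hzz
  · have hne : (-1 : F) ≠ 1 := fun h => h2 (by linear_combination -h)
    have ht : (x : Matrix (Fin 4) (Fin 4) F).trace = 0 := by
      interval_cases n
      · obtain ⟨a, ha⟩ := hn04 (Or.inl rfl); exact absurd ha (hns a)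
      · exact absurd (by rw [hdet, hzz] at hnd; simpa using hnd.symm) hne
      · exact hn2 rfl
      · exact absurd (by rw [hdet, hzz] at hnd; norm_num at hnd; exact hnd.symm) hne
      · obtain ⟨a, ha⟩ := hn04 (Or.inr rfl); exact absurd ha (hns a)
    rcases mul_self_eq_one_iff.mp hzz with rfl | rfl
    · obtain ⟨y, hy, hyy, hyt⟩ := S.target_plus hΓ
      have hyy' : (y : Matrix (Fin 4) (Fin 4) F) * y = (1 : F) • 1 := by rw [hyy, one_smul]
      exact ⟨y, hself y hy, hyy', by rw [htr0 y hyy' hyt, one_mul], by rw [hyt, ht], Or.inl hy⟩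
    · obtain ⟨y, hy, hyy, hyt⟩ := S.target_minus hΓ
      have hyy' : (y : Matrix (Fin 4) (Fin 4) F) * y = (-1 : F) • 1 := by rw [hyy, neg_smul, one_smul]
      exact ⟨y, hself y hy, hyy', by rw [htr0 y hyy' hyt]; ring, by rw [hyt, ht], Or.inl hy⟩
  · have hne : (1 : F) ≠ -1 := fun h => h2 (by linear_combination h)
    rw [hdet, hzz] at hnd
    have htr : (x : Matrix (Fin 4) (Fin 4) F).trace ^ 2 = 4 * z := by
      rw [hnt]
      interval_cases n
      · exact absurd (by simpa using hnd) hne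
      · push_cast; ring
      · exact absurd (by simpa using hnd) hne
      · push_cast; ring
      · exact absurd (by norm_num at hnd; exact hnd) hne
    obtain ⟨u, hu, w, hw, huu, hww, C, hCN, hCC, hCt, hCv, hwu, hCns⟩ := S.target_reflection hΓ hI hIc hc
    set l := (x : Matrix (Fin 4) (Fin 4) F).trace / 2 with hl
    have hll : l * l = z := by
      rw [hl]; field_simp; linear_combination htr
    have hl0 : l ≠ 0 := fun h0 => hz0 (by rw [← hll, h0, mul_zero])
    obtain ⟨L, hL⟩ := scalar_gl_exists (ι := Fin 4) l hl0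
    have hy : ((L * C : GL (Fin 4) F) : Matrix (Fin 4) (Fin 4) F) = l • (C : Matrix (Fin 4) (Fin 4) F) := by
      rw [Units.val_mul, hL, Matrix.smul_mul, Matrix.one_mul]
    have hyy : ((L * C : GL (Fin 4) F) : Matrix (Fin 4) (Fin 4) F) * ((L * C : GL (Fin 4) F) : Matrix (Fin 4) (Fin 4) F) = z • 1 := by
      rw [hy, Matrix.smul_mul, Matrix.mul_smul, smul_smul, hCC, hll]
    refine ⟨L * C, mul_mem (scalar_normalize hL) hCN, hyy, ?_, ?_,
      Or.inr ⟨u, hu, w, hw, huu, hww, hwu, hyy, by rw [hy, hCv], hll⟩⟩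
    · obtain ⟨j, hj, hjd, hjt, hj2, hj04⟩ := square_data h2 hz0 hyy
      rw [hjd, hzz]
      have hns' : ∀ a : F, ((L * C : GL (Fin 4) F) : Matrix (Fin 4) (Fin 4) F) ≠ a • 1 := fun a ha => hCns (l⁻¹ * a) (by
        rw [← smul_smul, ← ha, hy, smul_smul, inv_mul_cancel₀ hl0, one_smul])
      interval_cases j
      · obtain ⟨a, ha⟩ := hj04 (Or.inl rfl); exact absurd ha (hns' a)
      · ring
      · exfalso
        have h0 := hj2 rfl
        rw [hy, Matrix.trace_smul, hCt, smul_eq_mul] at h0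
        exact mul_ne_zero hl0 h2 h0
      · ring
      · obtain ⟨a, ha⟩ := hj04 (Or.inr rfl); exact absurd ha (hns' a)
    · rw [hy, Matrix.trace_smul, hCt, smul_eq_mul, hl, div_mul_cancel₀ _ h2]

end Sym4

end H47
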