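import Mathlib
import Cfsg.Agent.H47.SymGam

/-!
# Symplectic-type two-groups of minus type in four dimensions
-/

set_option autoImplicit false
open scoped MatrixGroups Matrix
open Matrix

namespace H47

variable {F : Type*} [Field F] {ι : Type} [Fintype ι] [DecidableEq ι]

local notation "MAT" => Matrix ι ι F

/-- An invertible matrix cannot both commute and anticommute with a unit. -/
lemma comm_anti_absurd [Nonempty ι] (h2 : (2 : F) ≠ 0) {u v : GL ι F} (h : (v : MAT) * u = (u : MAT) * v)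
    (h' : (v : MAT) * u = -((u : MAT) * v)) : False := by
  obtain ⟨i⟩ := (inferInstance : Nonempty ι)
  have h2' : (2 : F) • ((u : MAT) * v) = 0 := by
    rw [two_smul]; nth_rewrite 1 [← h]; rw [h', neg_add_cancel]
  have h0 := (smul_eq_zero.mp h2').resolve_left h2
  have hu := Units.mul_inv (u * v)
  rw [Units.val_mul, h0, Matrix.zero_mul] at hu
  exact zero_ne_one (congrFun (congrFun hu i) i |>.trans (Matrix.one_apply_eq i))

/-- The minus-type condition on matrices: commuting nonscalar involutions agree up to sign. -/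
def MinusCond (R : Subgroup (GL ι F)) : Prop :=
  ∀ u ∈ R, ∀ v ∈ R, (u : MAT) * u = 1 → (v : MAT) * v = 1 → (u : MAT) * v = (v : MAT) * u →
    (∀ c : F, (u : MAT) ≠ c • 1) → (∀ c : F, (v : MAT) ≠ c • 1) → (u : MAT) = v ∨ (u : MAT) = -(v : MAT)

namespace Sym4

variable {R : Subgroup (GL ι F)} {z : ℕ} (S : Sym4 R z)
include S

/-- Minus type gives the condition. -/
theorem minusCond_of_type [Fintype F] (hm : Cfsg.Geo.IsOfMinusType 2 R) : MinusCond R := by
  classical
  haveI := S.nonempty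
  intro u hu v hv huu hvv huv hnu hnv
  by_contra hne
  push Not at hne
  let U : R := ⟨u, hu⟩
  let V : R := ⟨v, hv⟩
  let N : R := ⟨-1, S.neg_one_mem⟩
  have hN : ∀ w : R, N * w = w * N := fun w => Subtype.ext (Units.ext (by simp [N]))
  have hNN : N * N = 1 := Subtype.ext (Units.ext (by simp [N]))
  have hUU : U * U = 1 := Subtype.ext (Units.ext huu)
  have hVV : V * V = 1 := Subtype.ext (Units.ext hvv)
  have hUV : U * V = V * U := Subtype.ext (Units.ext huv)
  let A : Subgroup R := Subgroup.closure {U, V, N}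
  have hgen : ∀ x ∈ ({U, V, N} : Set R), x * x = 1 ∧ ∀ y ∈ ({U, V, N} : Set R), x * y = y * x := by
    intro x hx
    rcases hx with rfl | rfl | rfl
    · refine ⟨hUU, fun y hy => ?_⟩
      rcases hy with rfl | rfl | rfl
      exacts [rfl, hUV, (hN U).symm]
    · refine ⟨hVV, fun y hy => ?_⟩
      rcases hy with rfl | rfl | rfl
      exacts [hUV.symm, rfl, (hN V).symm]
    · exact ⟨hNN, fun y _ => hN y⟩
  have hcomm : ∀ x ∈ A, ∀ y ∈ A, x * y = y * x := by
    intro x hx y hy
    have h1 : ∀ g ∈ ({U, V, N} : Set R), g * y = y * g := by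
      intro g hg
      induction hy using Subgroup.closure_induction with
      | mem a ha => exact (hgen g hg).2 a ha
      | one => simp
      | mul a b _ _ iha ihb => rw [← mul_assoc, iha, mul_assoc, ihb, mul_assoc]
      | inv a _ iha => exact (show Commute g a from iha).inv_right
    induction hx using Subgroup.closure_induction with
    | mem a ha => exact h1 a ha
    | one => simp
    | mul a b _ _ iha ihb => rw [mul_assoc, ihb, ← mul_assoc, iha, mul_assoc]
    | inv a _ iha => exact (show Commute a y from iha).inv_left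
  have hsq : ∀ x ∈ A, x * x = 1 := by
    intro x hx
    induction hx using Subgroup.closure_induction with
    | mem a ha => exact (hgen a ha).1
    | one => simp
    | mul a b ha hb iha ihb =>
      calc a * b * (a * b) = a * (b * a) * b := by group
        _ = (a * a) * (b * b) := by rw [← hcomm a ha b hb]; group
        _ = 1 := by rw [iha, ihb, one_mul]
    | inv a _ iha => rw [← _root_.mul_inv_rev, iha, inv_one]
  haveI hA : IsMulCommutative A := ⟨⟨fun x y => Subtype.ext (hcomm _ x.2 _ y.2)⟩⟩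
  have hlt := hm A hA hsq
  -- eight elements
  let f : Bool × Bool × Bool → A := fun b =>
    ⟨(if b.1 then U else 1) * (if b.2.1 then V else 1) * (if b.2.2 then N else 1), by
      refine mul_mem (mul_mem ?_ ?_) ?_ <;> split_ifs <;>
        first | exact one_mem _ | exact Subgroup.subset_closure (by simp)⟩
  have hval : ∀ b : Bool × Bool × Bool, (((f b : A) : R) : GL ι F).1 =
      (if b.2.2 then (-1 : F) else 1) • ((if b.1 then (u : MAT) else 1) * (if b.2.1 then (v : MAT) else 1)) := by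
    rintro ⟨a, b, c⟩
    cases a <;> cases b <;> cases c <;> simp [f, U, V, N]
  have hpm : ∀ s : F, s * s = 1 → s = 1 ∨ s = -1 := fun s h => mul_self_eq_one_iff.mp h
  have hinj : Function.Injective f := by
    rintro ⟨a, b, c⟩ ⟨a', b', c'⟩ h
    have h0 := congrArg (fun x : A => ((x : R) : GL ι F).1) h
    simp only [hval] at h0
    obtain ⟨i⟩ := S.nonempty
    have hvu : (v : MAT) * u = (u : MAT) * v := huv.symm
    have uu' : ∀ X : MAT, (u : MAT) * ((u : MAT) * X) = X := fun X => by rw [← Matrix.mul_assoc, huu, Matrix.one_mul]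
    have vu' : ∀ X : MAT, (v : MAT) * ((u : MAT) * X) = (u : MAT) * ((v : MAT) * X) := fun X => by
      rw [← Matrix.mul_assoc, hvu, Matrix.mul_assoc]
    have huvns : ∀ s : F, (u : MAT) * v ≠ s • 1 := fun s hs => by
      have hus : (u : MAT) = s • (v : MAT) := by
        calc (u : MAT) = (u : MAT) * v * v := by rw [Matrix.mul_assoc, hvv, Matrix.mul_one]
          _ = _ := by rw [hs, Matrix.smul_mul, Matrix.one_mul]
      have hss : s * s = 1 := by
        have := huu
        rw [hus, Matrix.smul_mul, Matrix.mul_smul, smul_smul, hvv] at this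
        simpa using congrFun (congrFun this i) i
      rcases hpm s hss with e | e <;> rw [e] at hus
      · exact hne.1 (by rw [hus, one_smul])
      · exact hne.2 (by rw [hus, neg_smul, one_smul])
    let X : Bool → Bool → MAT := fun a b => (if a then (u : MAT) else 1) * (if b then (v : MAT) else 1)
    have hX : ∀ a b a' b', X a b * X a' b' = X (xor a a') (xor b b') := by
      intro a b a' b'
      cases a <;> cases b <;> cases a' <;> cases b' <;> simp [X, Matrix.mul_assoc, huu, hvv, hvu, uu', vu']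
    have hXns : ∀ a b, (a = true ∨ b = true) → ∀ s : F, X a b ≠ s • 1 := by
      intro a b hab s
      cases a <;> cases b <;> simp [X] at hab ⊢
      exacts [hnv s, hnu s, huvns s]
    set sc : F := if c then -1 else 1 with hsc
    set sc' : F := if c' then -1 else 1 with hsc'
    have hsc0 : sc * sc = 1 := by rw [hsc]; split_ifs <;> ring
    have h1 : X (xor a a') (xor b b') = (sc * sc') • 1 := by
      rw [← hX]
      calc X a b * X a' b' = (sc • (sc • X a b)) * X a' b' := by rw [smul_smul, hsc0, one_smul]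
        _ = (sc • (sc' • X a' b')) * X a' b' := by rw [show sc • X a b = sc' • X a' b' from h0]
        _ = _ := by rw [smul_smul, Matrix.smul_mul, hX]; simp [X]
    have hab : xor a a' = false ∧ xor b b' = false := by
      by_contra hcon
      refine hXns _ _ ?_ _ h1
      cases hA' : xor a a' <;> cases hB' : xor b b' <;> simp_all
    obtain rfl : a = a' := by cases a <;> cases a' <;> simp at hab ⊢
    obtain rfl : b = b' := by cases b <;> cases b' <;> simp at hab ⊢
    have h2 : sc * sc' = 1 := by simpa [X] using (congrFun (congrFun h1 i) i).symm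
    have : c = c' := by
      cases c <;> cases c' <;> simp [hsc, hsc'] at h2 ⊢ <;> exact S.two (by linear_combination -h2)
    rw [this]
  haveI : Finite R := S.finite
  have := Nat.card_le_card_of_injective f hinj
  rw [Nat.card_prod, Nat.card_prod, Nat.card_eq_fintype_card (α := Bool), Fintype.card_bool] at this
  omega

/-- With centre of order two the scalars in the group are the signs. -/
lemma scal_pm [Fintype F] (hz : z = 2) {w : GL ι F} (hw : w ∈ R) (hws : ∃ c : F, (w : MAT) = c • 1) :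
    (w : MAT) = 1 ∨ (w : MAT) = -1 := by
  classical
  haveI := S.nonempty
  obtain ⟨i⟩ := S.nonempty
  obtain ⟨c, hc⟩ := hws
  by_contra h
  push Not at h
  let T := R ⊓ Cfsg.Geo.scalars ι F
  haveI : Finite T := Nat.finite_of_card_ne_zero (by rw [S.card_scal, hz]; norm_num)
  let e : Fin 3 → T := ![1, ⟨-1, scal_mem_iff.mpr ⟨S.neg_one_mem, -1, by simp⟩⟩, ⟨w, scal_mem_iff.mpr ⟨hw, c, hc⟩⟩]
  have hinj : Function.Injective e := by
    intro a b hab
    have h1 := congrArg (fun x : T => ((x : GL ι F) : MAT)) hab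
    have hm : (1 : MAT) ≠ -1 := fun e => by
      have h' : (1 : F) = -1 := by simpa using congrFun (congrFun e i) i
      exact S.two (by linear_combination h')
    fin_cases a <;> fin_cases b <;> simp [e] at h1 ⊢
    all_goals first
      | exact hm h1 | exact hm h1.symm | exact h.1 h1 | exact h.1 h1.symm | exact h.2 h1 | exact h.2 h1.symm
      | (refine h.1 ?_; simp [h1]; done) | (refine h.1 ?_; simp [← h1]; done)
      | (refine h.2 ?_; simp [h1]; done) | (refine h.2 ?_; simp [← h1]; done)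
  have := Nat.card_le_card_of_injective e hinj
  rw [S.card_scal, hz] at this
  simp at this

/-- Two commuting anticommuting pairs. -/
lemma exists_two_pairs [Fintype F] :
    ∃ P ∈ R, ∃ Q ∈ R, ∃ a ∈ R, ∃ b ∈ R, (Q : MAT) * P = -((P : MAT) * Q) ∧ (b : MAT) * a = -((a : MAT) * b) ∧
      (a : MAT) * P = (P : MAT) * a ∧ (a : MAT) * Q = (Q : MAT) * a ∧
      (b : MAT) * P = (P : MAT) * b ∧ (b : MAT) * Q = (Q : MAT) * b := by
  classical
  haveI := S.finite
  haveI := S.nonempty
  obtain ⟨P, hP, hPns⟩ : ∃ u ∈ R, ∀ a : F, (u : MAT) ≠ a • 1 := by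
    by_contra h
    push Not at h
    have hle : R ≤ R ⊓ Cfsg.Geo.scalars ι F := fun u hu => scal_mem_iff.mpr ⟨hu, h u hu⟩
    haveI : Finite ↥(R ⊓ Cfsg.Geo.scalars ι F) :=
      Nat.finite_of_card_ne_zero (by rw [S.card_scal]; rcases S.hz with hh | hh <;> omega)
    have := Nat.le_of_dvd Nat.card_pos (Subgroup.card_dvd_of_le hle)
    rw [S.card_eq, S.card_scal] at this
    rcases S.hz with hh | hh <;> omega
  obtain ⟨Q, hQ, hQP⟩ := S.exists_anti hP hPns
  obtain ⟨a, ha, haP, haQ, hans⟩ := S.exists_pair_commuting hP hQ hQP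
  obtain ⟨v1, hv1, hv1a⟩ := S.exists_anti ha hans
  have pq : ∀ X : MAT, (Q : MAT) * ((P : MAT) * X) = -((P : MAT) * ((Q : MAT) * X)) := fun X => by
    rw [← Matrix.mul_assoc, hQP, Matrix.neg_mul, Matrix.mul_assoc]
  have hPQ : (P : MAT) * Q = -((Q : MAT) * P) := by rw [hQP, neg_neg]
  obtain ⟨e, he, heP, heQ, hea⟩ : ∃ e ∈ R, (e : MAT) * P = (P : MAT) * e ∧ (e : MAT) * Q = (Q : MAT) * e ∧
      (e : MAT) * a = -((a : MAT) * e) := by
    rcases S.comm v1 hv1 P hP with h1 | h1 <;> rcases S.comm v1 hv1 Q hQ with h2 | h2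
    · exact ⟨v1, hv1, h1, h2, hv1a⟩
    · refine ⟨v1 * P, mul_mem hv1 hP, ?_, ?_, ?_⟩ <;> rw [Units.val_mul]
      · rw [← Matrix.mul_assoc (P : MAT), ← h1]
      · rw [Matrix.mul_assoc, hPQ, Matrix.mul_neg, ← Matrix.mul_assoc, h2, Matrix.neg_mul, neg_neg, Matrix.mul_assoc]
      · rw [Matrix.mul_assoc, ← haP, ← Matrix.mul_assoc, hv1a, Matrix.neg_mul, Matrix.mul_assoc]
    · refine ⟨v1 * Q, mul_mem hv1 hQ, ?_, ?_, ?_⟩ <;> rw [Units.val_mul]
      · rw [Matrix.mul_assoc, hQP, Matrix.mul_neg, ← Matrix.mul_assoc, h1, Matrix.neg_mul, neg_neg, Matrix.mul_assoc]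
      · rw [← Matrix.mul_assoc (Q : MAT), ← h2]
      · rw [Matrix.mul_assoc, ← haQ, ← Matrix.mul_assoc, hv1a, Matrix.neg_mul, Matrix.mul_assoc]
    · refine ⟨v1 * (Q * P), mul_mem hv1 (mul_mem hQ hP), ?_, ?_, ?_⟩ <;> rw [Units.val_mul, Units.val_mul]
      · calc (v1 : MAT) * ((Q : MAT) * P) * P = -((v1 : MAT) * P * ((Q : MAT) * P)) := by
              simp only [Matrix.mul_assoc, pq, Matrix.mul_neg, neg_neg]
              try rw [hQP]
              try simp only [Matrix.mul_neg, neg_neg, Matrix.mul_assoc]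
          _ = _ := by rw [h1]; simp only [Matrix.neg_mul, neg_neg, Matrix.mul_assoc]
      · calc (v1 : MAT) * ((Q : MAT) * P) * Q = -((v1 : MAT) * Q * ((Q : MAT) * P)) := by
              simp only [Matrix.mul_assoc]
              rw [hPQ]
              simp only [Matrix.mul_neg]
          _ = _ := by rw [h2]; simp only [Matrix.neg_mul, neg_neg, Matrix.mul_assoc]
      · calc (v1 : MAT) * ((Q : MAT) * P) * a = (v1 : MAT) * a * ((Q : MAT) * P) := by
              simp only [Matrix.mul_assoc]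
              rw [← haP, ← Matrix.mul_assoc (Q : MAT), ← haQ, Matrix.mul_assoc]
          _ = _ := by rw [hv1a]; simp only [Matrix.neg_mul, Matrix.mul_assoc]
  exact ⟨P, hP, Q, hQ, a, ha, e, he, hQP, hea, haP, haQ, heP, heQ⟩

/-- Either a quaternion pair, or a dihedral pair with the same commutant. -/
lemma pair_cases {P Q : GL ι F} (hP : P ∈ R) (hQ : Q ∈ R) (hQP : (Q : MAT) * P = -((P : MAT) * Q)) :
    ((P : MAT) * P = -1 ∧ (Q : MAT) * Q = -1) ∨
      ∃ A ∈ R, ∃ B ∈ R, (A : MAT) * A = 1 ∧ (B : MAT) * B = 1 ∧ (B : MAT) * A = -((A : MAT) * B) ∧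
        ∀ X : MAT, X * (P : MAT) = (P : MAT) * X → X * (Q : MAT) = (Q : MAT) * X →
          X * (A : MAT) = (A : MAT) * X ∧ X * (B : MAT) = (B : MAT) * X := by
  have key : ∀ P Q : GL ι F, P ∈ R → Q ∈ R → (Q : MAT) * P = -((P : MAT) * Q) → (P : MAT) * P = 1 →
      (Q : MAT) * Q = -1 →
      ∃ A ∈ R, ∃ B ∈ R, (A : MAT) * A = 1 ∧ (B : MAT) * B = 1 ∧ (B : MAT) * A = -((A : MAT) * B) ∧
        ∀ X : MAT, X * (P : MAT) = (P : MAT) * X → X * (Q : MAT) = (Q : MAT) * X →
          X * (A : MAT) = (A : MAT) * X ∧ X * (B : MAT) = (B : MAT) * X := by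
    intro P Q hP hQ hQP hPP hQQ
    refine ⟨P, hP, P * Q, mul_mem hP hQ, hPP, ?_, ?_, fun X h1 h2 => ⟨h1, ?_⟩⟩ <;> rw [Units.val_mul]
    · rw [Matrix.mul_assoc, ← Matrix.mul_assoc (Q : MAT), hQP, Matrix.neg_mul, Matrix.mul_neg, Matrix.mul_assoc,
        hQQ, Matrix.mul_neg, Matrix.mul_one, Matrix.mul_neg, hPP, neg_neg]
    · rw [Matrix.mul_assoc, hQP, Matrix.mul_neg]
    · rw [← Matrix.mul_assoc, h1, Matrix.mul_assoc, h2, Matrix.mul_assoc]
  rcases S.sq P hP with h1 | h1 <;> rcases S.sq Q hQ with h2 | h2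
  · exact Or.inr ⟨P, hP, Q, hQ, h1, h2, hQP, fun X a b => ⟨a, b⟩⟩
  · exact Or.inr (key P Q hP hQ hQP h1 h2)
  · obtain ⟨A, hA, B, hB, e1, e2, e3, e4⟩ := key Q P hQ hP (by rw [hQP, neg_neg]) h2 h1
    exact Or.inr ⟨A, hA, B, hB, e1, e2, e3, fun X a b => e4 X b a⟩
  · exact Or.inl ⟨h1, h2⟩

/-- Five anticommuting involutions in minus type. -/
theorem exists_gam_minus [Fintype F] (hm : MinusCond R) : ∃ Γ : Fin 5 → GL ι F, Gam R Γ := by
  classical
  haveI := S.nonempty
  obtain ⟨P, hP, Q, hQ, a, ha, b, hb, hQP, hba, haP, haQ, hbP, hbQ⟩ := S.exists_two_pairs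
  -- a dihedral pair commuting with a quaternion pair
  obtain ⟨P, hP, Q, hQ, a, ha, b, hb, hPP, hQQ, haa, hbb, hQP, hba, haP, haQ, hbP, hbQ⟩ :
      ∃ P ∈ R, ∃ Q ∈ R, ∃ a ∈ R, ∃ b ∈ R, (P : MAT) * P = 1 ∧ (Q : MAT) * Q = 1 ∧ (a : MAT) * a = -1 ∧
        (b : MAT) * b = -1 ∧ (Q : MAT) * P = -((P : MAT) * Q) ∧ (b : MAT) * a = -((a : MAT) * b) ∧
        (a : MAT) * P = (P : MAT) * a ∧ (a : MAT) * Q = (Q : MAT) * a ∧
        (b : MAT) * P = (P : MAT) * b ∧ (b : MAT) * Q = (Q : MAT) * b := by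
    rcases S.pair_cases hP hQ hQP with ⟨p1, q1⟩ | ⟨A, hA, B, hB, eA, eB, eBA, eX⟩ <;>
      rcases S.pair_cases ha hb hba with ⟨a1, b1⟩ | ⟨C, hC, D, hD, eC, eD, eDC, eY⟩
    · exfalso
      -- two quaternion pairs give commuting involutions
      have hne1 : ∀ c : F, ((P * a : GL ι F) : MAT) ≠ c • 1 := S.nonscalar_of_anti (v := Q) (by
        rw [Units.val_mul, ← Matrix.mul_assoc, hQP, Matrix.neg_mul, Matrix.mul_assoc, ← haQ, Matrix.mul_assoc])
      have hne2 : ∀ c : F, ((Q * b : GL ι F) : MAT) ≠ c • 1 := S.nonscalar_of_anti (v := P) (by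
        rw [Units.val_mul, ← Matrix.mul_assoc, show (P : MAT) * Q = -((Q : MAT) * P) by rw [hQP, neg_neg],
          Matrix.neg_mul, Matrix.mul_assoc, ← hbP, Matrix.mul_assoc])
      have e1 : ((P * a : GL ι F) : MAT) * ((P * a : GL ι F) : MAT) = 1 := by
        rw [Units.val_mul, Matrix.mul_assoc, ← Matrix.mul_assoc (a : MAT), haP, Matrix.mul_assoc (P : MAT) (a : MAT),
          a1, Matrix.mul_neg, Matrix.mul_one, Matrix.mul_neg, p1, neg_neg]
      have e2 : ((Q * b : GL ι F) : MAT) * ((Q * b : GL ι F) : MAT) = 1 := by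
        rw [Units.val_mul, Matrix.mul_assoc, ← Matrix.mul_assoc (b : MAT), hbQ, Matrix.mul_assoc (Q : MAT) (b : MAT),
          b1, Matrix.mul_neg, Matrix.mul_one, Matrix.mul_neg, q1, neg_neg]
      have e3 : ((P * a : GL ι F) : MAT) * ((Q * b : GL ι F) : MAT)
          = ((Q * b : GL ι F) : MAT) * ((P * a : GL ι F) : MAT) := by
        simp only [Units.val_mul]
        calc (P : MAT) * a * ((Q : MAT) * b) = (P : MAT) * (((a : MAT) * Q) * b) := by simp only [Matrix.mul_assoc]
          _ = ((P : MAT) * Q) * ((a : MAT) * b) := by rw [haQ]; simp only [Matrix.mul_assoc]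
          _ = ((Q : MAT) * P) * ((b : MAT) * a) := by rw [hQP, hba, Matrix.neg_mul, Matrix.mul_neg, neg_neg]
          _ = (Q : MAT) * (((P : MAT) * b) * a) := by simp only [Matrix.mul_assoc]
          _ = _ := by rw [← hbP]; simp only [Matrix.mul_assoc]
      have hc : (P : MAT) * ((P * a : GL ι F) : MAT) = ((P * a : GL ι F) : MAT) * P := by
        rw [Units.val_mul, Matrix.mul_assoc, haP]
      have hc' : (P : MAT) * ((Q * b : GL ι F) : MAT) = -(((Q * b : GL ι F) : MAT) * P) := by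
        rw [Units.val_mul, ← Matrix.mul_assoc, show (P : MAT) * Q = -((Q : MAT) * P) by rw [hQP, neg_neg],
          Matrix.neg_mul, Matrix.mul_assoc, ← hbP, Matrix.mul_assoc]
      refine comm_anti_absurd S.two (u := Q * b) (v := P) ?_ hc'
      rcases hm _ (mul_mem hP ha) _ (mul_mem hQ hb) e1 e2 e3 hne1 hne2 with e | e <;> rw [e] at hc
      · exact hc
      · rwa [Matrix.mul_neg, Matrix.neg_mul, neg_inj] at hc
    · exact ⟨C, hC, D, hD, P, hP, Q, hQ, eC, eD, p1, q1, eDC, hQP, (eY _ haP.symm hbP.symm).1,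
        (eY _ haP.symm hbP.symm).2, (eY _ haQ.symm hbQ.symm).1, (eY _ haQ.symm hbQ.symm).2⟩
    · exact ⟨A, hA, B, hB, a, ha, b, hb, eA, eB, a1, b1, eBA, hba, (eX _ haP haQ).1, (eX _ haP haQ).2,
        (eX _ hbP hbQ).1, (eX _ hbP hbQ).2⟩
    · exfalso
      obtain ⟨c1, c2⟩ := eX _ haP haQ
      obtain ⟨d1, d2⟩ := eX _ hbP hbQ
      obtain ⟨c1', -⟩ := eY _ c1.symm d1.symm
      obtain ⟨c2', -⟩ := eY _ c2.symm d2.symm
      refine comm_anti_absurd S.two (u := A) (v := B) ?_ eBA
      rcases hm _ hA _ hC eA eC c1' (S.nonscalar_of_anti (v := B) eBA) (S.nonscalar_of_anti (v := D) eDC) with e | e <;>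
        rw [e]
      · exact c2'
      · rw [Matrix.mul_neg, Matrix.neg_mul, c2']
  refine ⟨![P, Q, P * Q * a, P * Q * b, P * Q * (a * b)], ?_, ?_, ?_⟩
  · intro k
    fin_cases k
    · exact hP
    · exact hQ
    · exact mul_mem (mul_mem hP hQ) ha
    · exact mul_mem (mul_mem hP hQ) hb
    · exact mul_mem (mul_mem hP hQ) (mul_mem ha hb)
  all_goals
    set p : MAT := (P : MAT)
    set q : MAT := (Q : MAT)
    set x : MAT := (a : MAT)
    set y : MAT := (b : MAT)
    have qp' : ∀ X : MAT, q * (p * X) = -(p * (q * X)) := fun X => by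
      rw [← Matrix.mul_assoc, hQP, Matrix.neg_mul, Matrix.mul_assoc]
    have xp' : ∀ X : MAT, x * (p * X) = p * (x * X) := fun X => by rw [← Matrix.mul_assoc, haP, Matrix.mul_assoc]
    have xq' : ∀ X : MAT, x * (q * X) = q * (x * X) := fun X => by rw [← Matrix.mul_assoc, haQ, Matrix.mul_assoc]
    have yp' : ∀ X : MAT, y * (p * X) = p * (y * X) := fun X => by rw [← Matrix.mul_assoc, hbP, Matrix.mul_assoc]
    have yq' : ∀ X : MAT, y * (q * X) = q * (y * X) := fun X => by rw [← Matrix.mul_assoc, hbQ, Matrix.mul_assoc]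
    have yx' : ∀ X : MAT, y * (x * X) = -(x * (y * X)) := fun X => by
      rw [← Matrix.mul_assoc, hba, Matrix.neg_mul, Matrix.mul_assoc]
    have pp' : ∀ X : MAT, p * (p * X) = X := fun X => by rw [← Matrix.mul_assoc, hPP, Matrix.one_mul]
    have qq' : ∀ X : MAT, q * (q * X) = X := fun X => by rw [← Matrix.mul_assoc, hQQ, Matrix.one_mul]
    have xx' : ∀ X : MAT, x * (x * X) = -X := fun X => by
      rw [← Matrix.mul_assoc, haa, Matrix.neg_mul, Matrix.one_mul]
    have yy' : ∀ X : MAT, y * (y * X) = -X := fun X => by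
      rw [← Matrix.mul_assoc, hbb, Matrix.neg_mul, Matrix.one_mul]
  · intro k
    fin_cases k <;>
      simp [Units.val_mul, Matrix.mul_assoc, Matrix.mul_neg, neg_neg, hPP, hQQ, haa, hbb, hQP, haP, haQ, hbP, hbQ, hba,
        qp', xp', xq', yp', yq', yx', pp', qq', xx', yy', Matrix.cons_val, p, q, x, y]
  · intro k l hkl
    fin_cases k <;> fin_cases l <;> first | (exact absurd rfl hkl) | skip
    all_goals simp [Units.val_mul, Matrix.mul_assoc, Matrix.mul_neg, neg_neg, hPP, hQQ, haa, hbb, hQP, haP, haQ, hbP,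
        hbQ, hba, qp', xp', xq', yp', yq', yx', pp', qq', xx', yy', Matrix.cons_val, p, q, x, y]

/-- In minus type the nonscalar involutions are the five, up to sign. -/
theorem invol_cases [Fintype F] (hz : z = 2) (hm : MinusCond R) {Γ : Fin 5 → GL ι F} (hΓ : Gam R Γ) {u : GL ι F}
    (hu : u ∈ R) (huu : (u : MAT) * u = 1) (hns : ∀ c : F, (u : MAT) ≠ c • 1) :
    ∃ i, (u : MAT) = Γ i ∨ (u : MAT) = -(Γ i : MAT) := by
  classical
  haveI := S.nonempty
  by_contra h
  push Not at h
  have hnsΓ : ∀ i, ∀ c : F, (Γ i : MAT) ≠ c • 1 := fun i =>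
    S.nonscalar_of_anti (v := Γ (i + 1)) (hΓ.anti (i + 1) i (by fin_cases i <;> decide))
  have hanti : ∀ i, (u : MAT) * Γ i = -((Γ i : MAT) * u) := fun i =>
    (S.comm u hu _ (hΓ.mem i)).resolve_left fun hc => by
      rcases hm u hu _ (hΓ.mem i) huu (hΓ.sq i) hc hns (hnsΓ i) with e | e
      · exact (h i).1 e
      · exact (h i).2 e
  have hmem : u * Γ 4 ∈ R := mul_mem hu (hΓ.mem 4)
  have hsc := S.gam_scalar hΓ hmem fun k => by
    rw [Units.val_mul, Matrix.mul_assoc, hΓ.anti 4 k.castSucc (by fin_cases k <;> decide), Matrix.mul_neg,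
      ← Matrix.mul_assoc, hanti, Matrix.neg_mul, neg_neg, Matrix.mul_assoc]
  have hu4 : (u : MAT) = ((u * Γ 4 : GL ι F) : MAT) * Γ 4 := by
    rw [Units.val_mul, Matrix.mul_assoc, hΓ.sq, Matrix.mul_one]
  rcases S.scal_pm hz hmem hsc with e | e
  · exact (h 4).1 (by rw [hu4, e, Matrix.one_mul])
  · exact (h 4).2 (by rw [hu4, e, Matrix.neg_mul, Matrix.one_mul])

/-- An element of order three modulo scalars fixes one of the five. -/
theorem trace_four_of_three [Fintype F] (hz : z = 2) (hm : MinusCond R) {Γ : Fin 5 → GL ι F} (hΓ : Gam R Γ)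
    {g : GL ι F} (hg : g ∈ Cfsg.Geo.subgroupNormalizer R) {d : F} (hgr : ((g ^ 3 : GL ι F) : MAT) = d • 1)
    (hns : ∀ c : F, (g : MAT) ≠ c • 1) : (g : MAT).trace * ((g⁻¹ : GL ι F) : MAT).trace = 4 := by
  classical
  haveI := S.nonempty
  haveI : Fact (Nat.Prime 3) := ⟨Nat.prime_three⟩
  refine ((S.cases_three hg hgr hns).resolve_left ?_)
  rintro ⟨hC, -⟩
  have hnsΓ : ∀ i, ∀ c : F, (Γ i : MAT) ≠ c • 1 := fun i =>
    S.nonscalar_of_anti (v := Γ (i + 1)) (hΓ.anti (i + 1) i (by fin_cases i <;> decide))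
  set G : MAT := (g : MAT) with hG
  set G' : MAT := ((g⁻¹ : GL ι F) : MAT) with hG'
  have hGG : G' * G = 1 := Units.inv_mul g
  have hGG' : G * G' = 1 := Units.mul_inv g
  have hπ : ∀ i, ∃ j, ∃ s : F, s * s = 1 ∧ G * Γ i * G' = s • (Γ j : MAT) := by
    intro i
    have hmem : g * Γ i * g⁻¹ ∈ R := (Subgroup.mem_normalizer_iff.mp hg _).mp (hΓ.mem i)
    have hv : ((g * Γ i * g⁻¹ : GL ι F) : MAT) = G * Γ i * G' := rfl
    obtain ⟨j, hj⟩ := S.invol_cases hz hm hΓ hmem (by
        rw [hv, show G * (Γ i : MAT) * G' * (G * (Γ i : MAT) * G') = G * ((Γ i : MAT) * (G' * G) * Γ i) * G' by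
          simp only [Matrix.mul_assoc], hGG, Matrix.mul_one, hΓ.sq, Matrix.mul_one, hGG'])
      (fun c hc => hnsΓ i c (by
        rw [hv] at hc
        calc (Γ i : MAT) = G' * (G * Γ i * G') * G := by
              simp only [← Matrix.mul_assoc, hGG, Matrix.one_mul]
              rw [Matrix.mul_assoc, hGG, Matrix.mul_one]
          _ = _ := by rw [hc, Matrix.mul_smul, Matrix.mul_one, Matrix.smul_mul, hGG]))
    rcases hj with hj | hj
    · exact ⟨j, 1, one_mul 1, by rw [← hv, hj, one_smul]⟩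
    · exact ⟨j, -1, by ring, by rw [← hv, hj, neg_smul, one_smul]⟩
  choose π s hs hπs using hπ
  have hcube : ∀ X : MAT, G * (G * (G * X * G') * G') * G' = X := by
    intro X
    have hd : G * (G * G) = d • 1 := by rw [← hgr, Units.val_pow_eq_pow_val, pow_succ', pow_two]
    have hi : G' * (G' * G') * (G * (G * G)) = 1 := by
      have e1 : ∀ Y : MAT, G' * (G * Y) = Y := fun Y => by rw [← Matrix.mul_assoc, hGG, Matrix.one_mul]
      simp only [Matrix.mul_assoc, e1, hGG]
    calc G * (G * (G * X * G') * G') * G' = (G * (G * G)) * X * (G' * (G' * G')) := by simp only [Matrix.mul_assoc]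
      _ = X * ((G * (G * G)) * (G' * (G' * G'))) := by
          rw [hd, Matrix.smul_mul, Matrix.one_mul, Matrix.smul_mul, Matrix.smul_mul, Matrix.one_mul, Matrix.mul_smul]
      _ = _ := by rw [mul_eq_one_comm.mp hi, Matrix.mul_one]
  have hπ3 : ∀ i, π (π (π i)) = i ∧ (π i = i → s i = 1) := by
    intro i
    have e := hcube (Γ i : MAT)
    rw [hπs, Matrix.mul_smul, Matrix.smul_mul, hπs, smul_smul, Matrix.mul_smul, Matrix.smul_mul, hπs, smul_smul] at e
    obtain ⟨k⟩ := S.nonempty
    refine ⟨?_, fun hi => ?_⟩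
    · by_contra hne
      set c := s i * s (π i) * s (π (π i))
      have h1 := hΓ.anti i (π (π (π i))) (Ne.symm hne)
      rw [← e, Matrix.smul_mul, Matrix.mul_smul, hΓ.sq, ← neg_smul] at h1
      have : c = -c := by simpa using congrFun (congrFun h1 k) k
      have hc0 : c = 0 := (mul_eq_zero.mp (show (2 : F) * c = 0 by linear_combination this)).resolve_left S.two
      rw [hc0, zero_smul] at e
      exact hnsΓ i 0 (by rw [← e, zero_smul])
    · rw [hi, hi, hi] at e
      have h1 := congrArg (fun M : MAT => M * (Γ i : MAT)) e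
      simp only [Matrix.smul_mul, hΓ.sq] at h1
      have h3 : s i * s i * s i = 1 := by simpa using congrFun (congrFun h1 k) k
      rwa [hs i, one_mul] at h3
  let σ : Equiv.Perm (Fin 5) :=
    { toFun := π, invFun := fun i => π (π i), left_inv := fun i => (hπ3 i).1, right_inv := fun i => (hπ3 i).1 }
  obtain ⟨i, hi⟩ := Equiv.Perm.exists_fixed_point_of_prime (p := 3) (n := 1) (α := Fin 5) (σ := σ) (by simp)
    (Equiv.ext fun i => by
      show (σ ^ 3) i = i
      rw [pow_succ', pow_two, Equiv.Perm.mul_apply, Equiv.Perm.mul_apply]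
      exact (hπ3 i).1)
  have hfix := hπs i
  rw [(hπ3 i).2 hi, show π i = i from hi, one_smul] at hfix
  have hΓC : Γ i ∈ R ⊓ Subgroup.centralizer {g} := by
    refine Subgroup.mem_inf.mpr ⟨hΓ.mem i, Subgroup.mem_centralizer_singleton_iff.mpr (Units.ext ?_)⟩
    show (Γ i : MAT) * G = G * Γ i
    conv_lhs => rw [← hfix, Matrix.mul_assoc, hGG, Matrix.mul_one]
  haveI : Finite ↥(R ⊓ Subgroup.centralizer {g}) := Nat.finite_of_card_ne_zero (by rw [hC, hz]; norm_num)
  have hle : R ⊓ Cfsg.Geo.scalars ι F ≤ R ⊓ Subgroup.centralizer {g} := fun v hv => by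
    obtain ⟨hv1, a, ha⟩ := scal_mem_iff.mp hv
    refine Subgroup.mem_inf.mpr ⟨hv1, Subgroup.mem_centralizer_singleton_iff.mpr (Units.ext ?_)⟩
    rw [Units.val_mul, Units.val_mul, ha, Matrix.mul_smul, Matrix.mul_one, Matrix.smul_mul, Matrix.one_mul]
  have heq := Subgroup.eq_of_le_of_card_ge hle (by rw [hC, S.card_scal])
  rw [← heq] at hΓC
  obtain ⟨-, a, ha⟩ := scal_mem_iff.mp hΓC
  exact hnsΓ i a ha

end Sym4

end H47
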