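import Mathlib
import Cfsg.Prelude.Def_ClassicalGeometry
import Cfsg.Agent.H47.SymMinus
import Cfsg.Agent.H47.SymLinear
import Cfsg.Agent.H49.Adjoint
import Cfsg.Agent.H51.NormSurj

/-!
# Symplectic steps for symplectic-type two-groups
-/

set_option autoImplicit false
open scoped MatrixGroups Matrix
open Matrix
open H49 (adjS)

namespace H47

variable {F : Type*} [Field F]

local notation "SI" => (Fin 2 ⊕ Fin 2)
local notation "MS" => Matrix (Fin 2 ⊕ Fin 2) (Fin 2 ⊕ Fin 2) F

lemma mem_spGL_adj {g : GL SI F} : g ∈ Cfsg.spGL 2 F ↔ adjS (g : MS) * g = 1 :=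
  (Iff.symm H48.mem_symplectic_iff).trans H49.mem_sp_iff_adjS

lemma spGL_det {g : GL SI F} (hg : g ∈ Cfsg.spGL 2 F) : (g : MS).det = 1 :=
  SymplecticGroup.det_eq_one ((Iff.symm H48.mem_symplectic_iff).mp hg)

lemma adjS_eq_inv {g : GL SI F} (hg : g ∈ Cfsg.spGL 2 F) : adjS (g : MS) = ((g⁻¹ : GL SI F) : MS) := by
  calc adjS (g : MS) = adjS (g : MS) * ((g : MS) * ((g⁻¹ : GL SI F) : MS)) := by rw [Units.mul_inv, Matrix.mul_one]
    _ = _ := by rw [← Matrix.mul_assoc, mem_spGL_adj.mp hg, Matrix.one_mul]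

lemma adjS_trace (X : MS) : (adjS X).trace = X.trace := by
  rw [adjS, Matrix.trace_mul_comm, ← Matrix.mul_assoc, Matrix.mul_neg, Matrix.J_squared, neg_neg, Matrix.one_mul,
    Matrix.trace_transpose]

/-- Coordinates `0, 1` span a hyperbolic pair. -/
def spEquiv : Fin 4 ≃ SI := (Equiv.swap (1 : Fin 4) 2).trans (finSumFinEquiv (m := 2) (n := 2)).symm

/-- The same element with indices in `Fin 4`. -/
noncomputable def toFour : GL SI F ≃* GL (Fin 4) F :=
  Units.mapEquiv (Matrix.reindexAlgEquiv F F spEquiv.symm).toMulEquiv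

lemma toFour_val (x : GL SI F) :
    (toFour x : Matrix (Fin 4) (Fin 4) F) = (x : MS).submatrix spEquiv spEquiv := rfl

lemma toFour_det (x : GL SI F) : (toFour x : Matrix (Fin 4) (Fin 4) F).det = (x : MS).det := by
  rw [toFour_val, Matrix.det_submatrix_equiv_self]

lemma toFour_trace (x : GL SI F) : (toFour x : Matrix (Fin 4) (Fin 4) F).trace = (x : MS).trace := by
  rw [toFour_val, Matrix.trace, Matrix.trace]
  exact spEquiv.sum_comp (fun i => (x : MS) i i)

lemma toFour_scalar (x : GL SI F) {c : F} :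
    (toFour x : Matrix (Fin 4) (Fin 4) F) = c • 1 ↔ (x : MS) = c • 1 := by
  constructor
  · intro h
    ext i j
    have := congrFun (congrFun h (spEquiv.symm i)) (spEquiv.symm j)
    simpa [toFour_val, Matrix.one_apply, spEquiv.symm.injective.eq_iff] using this
  · intro h
    ext i j
    simp [toFour_val, h, Matrix.one_apply, spEquiv.injective.eq_iff]

/-- Self-adjoint invertible matrices commuting with a symplectic element are norms from its centraliser. -/
theorem sp_fix [Fintype F] (h2 : (2 : F) ≠ 0) {x y : GL SI F} (hx : x ∈ Cfsg.spGL 2 F) (hy : y ∈ Cfsg.spGL 2 F)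
    {k : GL SI F} (hk : x * k = k * y) {G : MS} (hG : adjS G = -G) (hGu : G.det ≠ 0)
    (hGy : G * (y : MS) = (y : MS) * G)
    (hGs : ∀ s : MS, adjS s = s → s * (y : MS) = (y : MS) * s → s * G = G * s) :
    ∃ g ∈ Cfsg.spGL 2 F, g⁻¹ * x * g = y := by
  classical
  set K : MS := (k : MS) with hK
  set Y : MS := (y : MS) with hY
  set X : MS := (x : MS) with hX
  have hk' : X * K = K * Y := congrArg Units.val hk
  have hXX := mem_spGL_adj.mp hx
  have hYY := mem_spGL_adj.mp hy
  set s : MS := adjS K * K with hs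
  have hsa : adjS s = s := by rw [hs, H49.adjS_mul, H49.adjS_adjS]
  have hsy : s * Y = Y * s := by
    have e : adjS Y * (s * Y) = s := by
      calc adjS Y * (s * Y) = adjS (K * Y) * (K * Y) := by rw [H49.adjS_mul, hs]; simp only [Matrix.mul_assoc]
        _ = adjS K * (adjS X * X) * K := by rw [← hk', H49.adjS_mul]; simp only [Matrix.mul_assoc]
        _ = s := by rw [hXX, Matrix.mul_one, hs]
    calc s * Y = (Y * adjS Y) * (s * Y) := by rw [mul_eq_one_comm.mp hYY, Matrix.one_mul]
      _ = Y * s := by rw [Matrix.mul_assoc, e]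
  have hsG := hGs s hsa hsy
  let R0 : Subring MS := Subring.closure {s, G * G}
  have hcommgen : ∀ a ∈ ({s, G * G} : Set MS), ∀ b ∈ ({s, G * G} : Set MS), a * b = b * a := by
    have : s * (G * G) = G * G * s := by rw [← Matrix.mul_assoc, hsG, Matrix.mul_assoc, hsG, Matrix.mul_assoc]
    intro a ha b hb
    rcases ha with rfl | rfl <;> rcases hb with rfl | rfl
    exacts [rfl, this, this.symm, rfl]
  letI : CommRing R0 := Subring.closureCommRingOfComm hcommgen
  have hprop : ∀ a ∈ R0, adjS a = a ∧ a * G = G * a ∧ a * Y = Y * a := by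
    intro a ha
    have hsub : ∀ a ∈ R0, a * G = G * a ∧ a * Y = Y * a := by
      intro a ha
      induction ha using Subring.closure_induction with
      | mem b hb =>
        rcases hb with rfl | rfl
        · exact ⟨hsG, hsy⟩
        · exact ⟨by rw [Matrix.mul_assoc], by rw [Matrix.mul_assoc, hGy, ← Matrix.mul_assoc, hGy, Matrix.mul_assoc]⟩
      | zero => simp
      | one => simp
      | add b c _ _ hb hc => simp [Matrix.add_mul, Matrix.mul_add, hb, hc]
      | neg b _ hb => simp [hb]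
      | mul b c _ _ hb hc =>
        exact ⟨by rw [Matrix.mul_assoc, hc.1, ← Matrix.mul_assoc, hb.1, Matrix.mul_assoc],
          by rw [Matrix.mul_assoc, hc.2, ← Matrix.mul_assoc, hb.2, Matrix.mul_assoc]⟩
    refine ⟨?_, hsub a ha⟩
    induction ha using Subring.closure_induction with
    | mem b hb =>
      rcases hb with rfl | rfl
      · exact hsa
      · rw [H49.adjS_mul, hG, Matrix.neg_mul, Matrix.mul_neg, neg_neg]
    | zero => exact H49.adjS_zero
    | one => exact H49.adjS_one
    | add b c _ _ hb hc => rw [H49.adjS_add, hb, hc]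
    | neg b _ hb => rw [H49.adjS_neg, hb]
    | mul b c hb' hc' hb hc =>
      rw [H49.adjS_mul, hb, hc]
      exact congrArg Subtype.val (mul_comm (⟨c, hc'⟩ : R0) ⟨b, hb'⟩)
  have hunit : ∀ (a : R0), (a : MS).det ≠ 0 → IsUnit a := by
    intro a ha
    have hu : IsUnit (a : MS) := (Matrix.isUnit_iff_isUnit_det _).mpr (isUnit_iff_ne_zero.mpr ha)
    have hord := (isOfFinOrder_of_finite hu.unit).orderOf_pos
    have hinv : (a : MS) * (a : MS) ^ (orderOf hu.unit - 1) = 1 := by
      rw [← pow_succ', Nat.sub_add_cancel hord]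
      exact congrArg Units.val (pow_orderOf_eq_one hu.unit)
    exact IsUnit.of_mul_eq_one (a ^ (orderOf hu.unit - 1)) (Subtype.ext hinv)
  let S0 : R0 := ⟨s, Subring.subset_closure (Set.mem_insert _ _)⟩
  let N : R0 := ⟨G * G, Subring.subset_closure (Set.mem_insert_of_mem _ rfl)⟩
  have h4 : (4 : F) ≠ 0 := by rw [show (4 : F) = 2 * 2 by norm_num]; exact mul_ne_zero h2 h2
  have hdet2 : ∀ c : F, c ≠ 0 → ∀ M : MS, M.det ≠ 0 → (c • M).det ≠ 0 := fun c hc M hM => by
    rw [Matrix.det_smul]; exact mul_ne_zero (pow_ne_zero _ hc) hM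
  have hsdet : s.det ≠ 0 := by
    rw [hs, Matrix.det_mul, H49.adjS_det]
    exact mul_ne_zero (Matrix.GeneralLinearGroup.det k).ne_zero (Matrix.GeneralLinearGroup.det k).ne_zero
  have htwo : IsUnit (2 : R0) := hunit 2 (by
    rw [show ((2 : R0) : MS) = (2 : F) • (1 : MS) by
      rw [show ((2 : R0) : MS) = 2 from map_ofNat R0.subtype 2, ← Algebra.algebraMap_eq_smul_one, map_ofNat]]
    exact hdet2 _ h2 _ (by simp))
  have hΔ : IsUnit ((2 : R0) ^ 2 - 4 * (1 - N)) := hunit _ (by
    rw [show (2 : R0) ^ 2 - 4 * (1 - N) = 4 * N by ring,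
      show ((4 * N : R0) : MS) = (4 : F) • (G * G) by
        rw [Subring.coe_mul, show ((4 : R0) : MS) = 4 from map_ofNat R0.subtype 4, Algebra.smul_def, map_ofNat]]
    exact hdet2 _ h4 _ (by rw [Matrix.det_mul]; exact mul_ne_zero hGu hGu))
  obtain ⟨a, b, hab⟩ := H51.ring_quad_rep htwo hΔ (hunit S0 hsdet)
  obtain ⟨a1, a2, a3⟩ := hprop a a.2
  obtain ⟨b1, b2, b3⟩ := hprop b b.2
  set A : MS := (a : MS)
  set B : MS := (b : MS)
  have hab' : A * A + (2 : F) • (A * B) + (1 - G * G) * (B * B) = s := by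
    have h := congrArg Subtype.val hab
    simp only [Subring.coe_add, Subring.coe_mul, SubmonoidClass.coe_pow, AddSubgroupClass.coe_sub,
      OneMemClass.coe_one] at h
    rw [show ((2 : R0) : MS) = 2 from map_ofNat R0.subtype 2, two_mul] at h
    rw [two_smul]
    simpa [pow_two, Matrix.mul_assoc, Matrix.add_mul] using h
  have hBA : B * A = A * B := congrArg Subtype.val (mul_comm b a)
  set C : MS := A + B + G * B with hC
  have hCa : adjS C = A + B - G * B := by
    rw [hC, H49.adjS_add, H49.adjS_add, H49.adjS_mul, a1, b1, hG, Matrix.mul_neg, ← sub_eq_add_neg, b2]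
  have hCC : adjS C * C = s := by
    have e1 : A * (G * B) = G * (A * B) := by rw [← Matrix.mul_assoc, a2, Matrix.mul_assoc]
    have e2 : B * (G * B) = G * (B * B) := by rw [← Matrix.mul_assoc, b2, Matrix.mul_assoc]
    have e3 : G * B * A = G * (A * B) := by rw [Matrix.mul_assoc, hBA]
    have e4 : G * B * (G * B) = G * G * (B * B) := by rw [Matrix.mul_assoc, e2, ← Matrix.mul_assoc]
    have e5 : G * B * B = G * (B * B) := Matrix.mul_assoc _ _ _
    rw [← hab', hCa, hC]
    simp only [Matrix.sub_mul, Matrix.add_mul, Matrix.mul_add, Matrix.one_mul, hBA, e1, e2, e3, e4, e5, two_smul]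
    abel
  have hCu : C.det ≠ 0 := fun h0 => by
    have := congrArg Matrix.det hCC
    rw [Matrix.det_mul, h0, mul_zero] at this
    exact hsdet this.symm
  let c : GL SI F := Matrix.GeneralLinearGroup.mkOfDetNeZero C hCu
  have hcy : c * y = y * c := Units.ext (by
    show C * Y = Y * C
    rw [hC, Matrix.add_mul, Matrix.add_mul, Matrix.mul_add, Matrix.mul_add, a3, b3, Matrix.mul_assoc G B, b3,
      ← Matrix.mul_assoc, hGy, Matrix.mul_assoc])
  refine ⟨k * c⁻¹, mem_spGL_adj.mpr ?_, ?_⟩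
  · set D : MS := ((c⁻¹ : GL SI F) : MS)
    have hCD : C * D = 1 := Units.mul_inv c
    rw [Units.val_mul, H49.adjS_mul]
    calc adjS D * adjS K * (K * D) = adjS D * s * D := by rw [hs]; simp only [Matrix.mul_assoc]
      _ = adjS (C * D) * (C * D) := by rw [← hCC, H49.adjS_mul]; simp only [Matrix.mul_assoc]
      _ = 1 := by rw [hCD, H49.adjS_one, Matrix.one_mul]
  · calc (k * c⁻¹)⁻¹ * x * (k * c⁻¹) = c * (k⁻¹ * (x * k)) * c⁻¹ := by group
      _ = y := by rw [hk, inv_mul_cancel_left, hcy, mul_inv_cancel_right]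

/-- Semisimple symplectic elements with equal characteristic polynomial are conjugate in the symplectic group. -/
theorem sp_conj_charpoly [Fintype F] (h2 : (2 : F) ≠ 0) {m : ℕ} (hm : (m : F) ≠ 0) {x y : GL SI F}
    (hx : x ∈ Cfsg.spGL 2 F) (hy : y ∈ Cfsg.spGL 2 F) (hxm : x ^ m = 1) (hym : y ^ m = 1)
    (hc : (toFour x : Matrix (Fin 4) (Fin 4) F).charpoly = (toFour y : Matrix (Fin 4) (Fin 4) F).charpoly)
    {G : MS} (hG : adjS G = -G) (hGu : G.det ≠ 0) (hGy : G * (y : MS) = (y : MS) * G)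
    (hGs : ∀ s : MS, adjS s = s → s * (y : MS) = (y : MS) * s → s * G = G * s) :
    ∃ g ∈ Cfsg.spGL 2 F, g⁻¹ * x * g = y := by
  obtain ⟨C, hC, hCx⟩ := H40.exists_conj_matrix
    (A := (toFour x : Matrix (Fin 4) (Fin 4) F)) (B := (toFour y : Matrix (Fin 4) (Fin 4) F))
    ⟨m, hm, by rw [← Units.val_pow_eq_pow_val, ← map_pow, hxm, map_one, Units.val_one]⟩
    ⟨m, hm, by rw [← Units.val_pow_eq_pow_val, ← map_pow, hym, map_one, Units.val_one]⟩ hc
  let c : GL (Fin 4) F := Matrix.GeneralLinearGroup.mkOfDetNeZero C hC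
  have e : c * toFour x = toFour y * c := Units.ext hCx
  refine sp_fix h2 hx hy (k := toFour.symm c⁻¹) ?_ hG hGu hGy hGs
  apply toFour.injective
  rw [map_mul, map_mul, MulEquiv.apply_symm_apply, eq_inv_mul_iff_mul_eq, ← mul_assoc, e, mul_inv_cancel_right]

/-- An element of order five has no fixed vector. -/
lemma det_sub_one_five [Fintype F] {p : ℕ} [Fact p.Prime] [CharP F p] (hF : Fintype.card F = p)
    (h5 : p % 5 = 2 ∨ p % 5 = 3) {y : GL (Fin 4) F} (hy : y ^ 5 = 1) (hy1 : y ≠ 1) :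
    (1 - (y : Matrix (Fin 4) (Fin 4) F)).det ≠ 0 := by
  classical
  haveI : Fact (Nat.Prime 5) := ⟨by norm_num⟩
  set M : Matrix (Fin 4) (Fin 4) F := !![0, 0, 0, -1; 1, 0, 0, -1; 0, 1, 0, -1; 0, 0, 1, -1] with hM
  have hM5 : M ^ 5 = 1 := by
    simp only [hM, pow_succ, pow_zero, Matrix.one_mul]
    ext i j
    fin_cases i <;> fin_cases j <;> simp [Matrix.mul_apply, Fin.sum_univ_four]
  have hl : M * M ^ 4 = 1 := by rw [← pow_succ']; exact hM5
  have hr' : M ^ 4 * M = 1 := by rw [← pow_succ]; exact hM5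
  let x : GL (Fin 4) F := ⟨M, M ^ 4, hl, hr'⟩
  have hx5 : x ^ 5 = 1 := Units.ext (by rw [Units.val_pow_eq_pow_val]; exact hM5)
  have hx1 : x ≠ 1 := fun h => by
    have := congrFun (congrFun (congrArg (fun a : GL (Fin 4) F => (a : Matrix (Fin 4) (Fin 4) F)) h) 0) 0
    simp [x, hM] at this
  have h5p : ¬ 5 ∣ p := by omega
  obtain ⟨E, _, _, _, -, hEc⟩ := exists_extension (F := F) 4 (by norm_num)
  haveI : Fintype E := Fintype.ofFinite E
  rw [Nat.card_eq_fintype_card, hF] at hEc
  have hE : 5 ∣ Fintype.card E - 1 := hEc ▸ dvd_pow_pred_sub_one (r := 5) h5p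
  have hgood : ∀ a : GL (Fin 4) F, GoodExp E 5 p a := fun a P f h => roots_frob hF h
  have hcp := charpoly_five h5 hE hy hx5 (hgood _) (hgood _) hy1 hx1
  have he : ∀ A : Matrix (Fin 4) (Fin 4) F, A.charpoly.eval 1 = (1 - A).det := fun A => by
    rw [Matrix.eval_charpoly, map_one]
  have hev := congrArg (Polynomial.eval (1 : F)) hcp
  rw [he, he] at hev
  have hx : (1 - M).det = 5 := by
    have e : 1 - M = !![1, 0, 0, 1; -1, 1, 0, 1; 0, -1, 1, 1; 0, 0, -1, 2] := by
      ext i j
      fin_cases i <;> fin_cases j <;> simp [hM, Matrix.one_apply] <;> norm_num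
    rw [e]
    simp [Matrix.det_succ_row_zero, Fin.sum_univ_succ, Fin.succAbove]
    norm_num
  intro h0
  have h50 : ((5 : ℕ) : F) = 0 := by
    push_cast
    rw [← hx]
    first
    | exact hev ▸ h0
    | exact hev.symm ▸ h0
  have := (Nat.prime_dvd_prime_iff_eq (Fact.out : p.Prime) (by norm_num : Nat.Prime 5)).mp
    ((CharP.cast_eq_zero_iff F p 5).mp h50)
  omega

/-- A hyperbolic rotation, symplectic. -/
theorem exists_sp_plane {η : F} :
    ∃ x ∈ Cfsg.spGL 2 F, (x : MS).trace = η + 2 ∧ ((x⁻¹ : GL SI F) : MS).trace = η + 2 ∧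
      (η ^ 2 + η = 1 → x ^ 5 = 1) ∧ (η = -1 → x ^ 3 = 1) ∧ (η ≠ 2 → ∀ e : F, (x : MS) ≠ e • 1) := by
  obtain ⟨w, hw, hw', hwd, hwt, hwt', hw5, hwns⟩ :=
    exists_plane_elem (a := η) (b := (-1 : F)) (c := 1) (d := 0) (η := η) (by ring) (by ring)
  set x : GL SI F := toFour.symm w with hxd
  have hx : toFour x = w := toFour.apply_symm_apply w
  have hent : ∀ i j, (x : MS) i j = (w : Matrix (Fin 4) (Fin 4) F) (spEquiv.symm i) (spEquiv.symm j) := fun i j => by
    rw [← hx, toFour_val]; simp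
  refine ⟨x, ?_, by rw [← toFour_trace, hx, hwt], by rw [← toFour_trace, map_inv, hx, hwt'],
    fun h => toFour.injective (by rw [map_pow, hx, hw5 h, map_one]), fun h => ?_,
    fun h e he => hwns h e (by rw [← hx]; exact (toFour_scalar x).mpr he)⟩
  · refine (Iff.symm H48.mem_symplectic_iff).mpr (H48.mem_symplectic_iff.mpr fun u v => ?_)
    have e0 : spEquiv.symm (Sum.inl 0) = 0 := by decide
    have e1 : spEquiv.symm (Sum.inl 1) = 2 := by decide
    have e2 : spEquiv.symm (Sum.inr 0) = 1 := by decide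
    have e3 : spEquiv.symm (Sum.inr 1) = 3 := by decide
    simp [H48.sf_apply, Matrix.mulVec, dotProduct, Fintype.sum_sum_type, hent, hw, e0, e1, e2, e3]
    ring
  · refine toFour.injective ?_
    rw [map_pow, hx, map_one]
    apply Units.ext
    rw [Units.val_pow_eq_pow_val, hw, h, Units.val_one]
    ext i j
    fin_cases i <;> fin_cases j <;> simp [pow_succ, Matrix.mul_apply, Fin.sum_univ_four]

/-- A symplectic transvection. -/
theorem exists_sp_transvection {p : ℕ} [hp : Fact p.Prime] [CharP F p] :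
    ∃ x ∈ Cfsg.spGL 2 F, ∃ u v : SI → F, v ⬝ᵥ u = 0 ∧ (x : MS) = 1 + Matrix.vecMulVec u v ∧ x ^ p = 1 ∧
      (x : MS) ≠ 1 ∧ ∀ a : F, (x : MS) ≠ a • 1 := by
  classical
  set u : SI → F := Pi.single (Sum.inl 0) 1 with hu
  set v : SI → F := Matrix.J (Fin 2) F *ᵥ u with hv
  have hT : H48.transMat u (1 : F) = 1 + Matrix.vecMulVec u v := by rw [H48.transMat, one_smul]
  have hmem := H48.transMat_mem (F := F) u 1
  have hd : (H48.transMat u (1 : F)).det ≠ 0 := by rw [SymplecticGroup.det_eq_one hmem]; exact one_ne_zero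
  let x : GL SI F := Matrix.GeneralLinearGroup.mkOfDetNeZero _ hd
  have hvu : v ⬝ᵥ u = 0 := by rw [dotProduct_comm]; exact H48.sf_self u
  have hN2 : (Matrix.vecMulVec u v) ^ 2 = 0 := by
    rw [pow_two, Matrix.vecMulVec_mul_vecMulVec, hvu, zero_smul, Matrix.vecMulVec_zero]
  have hval : (x : MS) = 1 + Matrix.vecMulVec u v := hT
  have hij : (x : MS) (Sum.inl 0) (Sum.inr 0) ≠ 0 := by
    rw [hval]
    simp [hu, hv, Matrix.vecMulVec_apply, Matrix.J, Matrix.fromBlocks_apply₂₁]
  refine ⟨x, H48.mem_symplectic_iff.mp hmem, u, v, hvu, hval, Units.ext ?_, fun h => ?_, fun a ha => ?_⟩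
  · haveI : CharP MS p := Matrix.charP p
    rw [Units.val_pow_eq_pow_val, Units.val_one, hval, add_pow_char_of_commute p (Commute.one_left _), one_pow,
      pow_eq_zero_of_le hp.out.two_le hN2, add_zero]
  · rw [h] at hij; simp at hij
  · rw [ha] at hij; simp at hij

namespace Sym4

variable [Fintype F] {R : Subgroup (GL SI F)} (S : Sym4 R 2) (hRf : R ≤ Cfsg.spGL 2 F)
include S hRf

omit [Fintype F] in
lemma adjS_self {u : GL SI F} (hu : u ∈ R) (huu : (u : MS) * u = 1) : adjS (u : MS) = u := by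
  calc adjS (u : MS) = adjS (u : MS) * ((u : MS) * u) := by rw [huu, Matrix.mul_one]
    _ = _ := by rw [← Matrix.mul_assoc, mem_spGL_adj.mp (hRf hu), Matrix.one_mul]

omit [Fintype F] in
lemma adjS_skew {u : GL SI F} (hu : u ∈ R) (huu : (u : MS) * u = -1) : adjS (u : MS) = -(u : MS) := by
  calc adjS (u : MS) = -(adjS (u : MS) * ((u : MS) * u)) := by rw [huu, Matrix.mul_neg, Matrix.mul_one, neg_neg]
    _ = _ := by rw [← Matrix.mul_assoc, mem_spGL_adj.mp (hRf hu), Matrix.one_mul]

/-- A self-adjoint matrix commuting with one involution commutes with whatever commutes with it. -/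
theorem selfadj_commute (hm : MinusCond R) {v : GL SI F} (hv : v ∈ R) (hvv : (v : MS) * v = 1)
    (hvns : ∀ c : F, (v : MS) ≠ c • 1) {s : MS} (hs : adjS s = s) (hsv : s * (v : MS) = (v : MS) * s)
    {G : MS} (hG : G * (v : MS) = (v : MS) * G) : s * G = G * s := by
  classical
  haveI : Fintype R := Fintype.ofFinite _
  haveI := S.nonempty
  have hexp : ((8 : F)) • s = ∑ u : R, (s * (((u : GL SI F)⁻¹ : GL SI F) : MS)).trace • ((u : GL SI F) : MS) := by
    ext i j
    have hcol : ∀ k l, ∑ u : R, ((u : GL SI F) : MS) i j * (((u : GL SI F)⁻¹ : GL SI F) : MS) l k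
        = if j = l ∧ i = k then (8 : F) else 0 := by
      intro k l
      have h := congrFun (congrFun (S.sum_conj (Matrix.single j l (1 : F))) i) k
      simp only [Matrix.sum_apply, Matrix.smul_apply, Matrix.one_apply, smul_eq_mul] at h
      have hterm : ∀ u : R, (((u : GL SI F) : MS) * Matrix.single j l (1 : F) * (((u : GL SI F)⁻¹ : GL SI F) : MS)) i k
          = ((u : GL SI F) : MS) i j * (((u : GL SI F)⁻¹ : GL SI F) : MS) l k := fun u => by
        rw [Matrix.mul_assoc, Matrix.mul_apply, Finset.sum_eq_single j (fun a _ ha => by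
          simp [Matrix.mul_apply, Matrix.single_apply, Ne.symm ha]) (by simp), Matrix.single_mul_apply_same, one_mul]
      rw [Finset.sum_congr rfl fun u _ => hterm u] at h
      rw [h]
      by_cases hjl : j = l
      · subst hjl
        rw [Matrix.trace_single_eq_same]
        by_cases hik : i = k <;> simp [hik] <;> norm_num
      · rw [Matrix.trace_single_eq_of_ne _ _ _ hjl]
        simp [hjl]
    rw [Matrix.smul_apply, Matrix.sum_apply]
    simp only [Matrix.smul_apply, Matrix.trace, Matrix.diag, Matrix.mul_apply, smul_eq_mul, Finset.sum_mul]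
    rw [Finset.sum_comm, Finset.sum_congr rfl fun k _ => Finset.sum_comm,
      Finset.sum_congr rfl fun k _ => Finset.sum_congr rfl fun l _ => show
        ∑ u : R, s k l * (((u : GL SI F)⁻¹ : GL SI F) : MS) l k * ((u : GL SI F) : MS) i j
          = s k l * (if j = l ∧ i = k then (8 : F) else 0) by
        rw [← hcol, Finset.mul_sum]; exact Finset.sum_congr rfl fun u _ => by ring]
    rw [Finset.sum_eq_single i (fun a _ ha => by simp [Ne.symm ha]) (by simp),
      Finset.sum_eq_single j (fun a _ ha => by simp [Ne.symm ha]) (by simp)]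
    simp [mul_comm]
  have hterm : ∀ u : R, (s * (((u : GL SI F)⁻¹ : GL SI F) : MS)).trace ≠ 0 →
      ((u : GL SI F) : MS) * G = G * ((u : GL SI F) : MS) := by
    intro u hne
    obtain ⟨u, hu⟩ := u
    simp only at hne ⊢
    have huinv : ((u⁻¹ : GL SI F) : MS) = adjS (u : MS) := (adjS_eq_inv (hRf hu)).symm
    have huu : (u : MS) * u = 1 := by
      refine (S.sq u hu).resolve_right fun h => hne ?_
      rw [huinv, S.adjS_skew hRf hu h, Matrix.mul_neg, Matrix.trace_neg]
      have h1 : (s * (u : MS)).trace = -((s * (u : MS)).trace) := by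
        conv_lhs => rw [← adjS_trace, H49.adjS_mul, S.adjS_skew hRf hu h, hs, Matrix.neg_mul, Matrix.trace_neg,
          Matrix.trace_mul_comm]
      have : (2 : F) * (s * (u : MS)).trace = 0 := by linear_combination h1
      rw [(mul_eq_zero.mp this).resolve_left S.two, neg_zero]
    have huv : (u : MS) * v = (v : MS) * u := by
      refine (S.comm u hu v hv).resolve_right fun h => hne ?_
      rw [huinv, S.adjS_self hRf hu huu]
      refine trace_zero_of_anti S.two (v := v) ?_
      rw [← Matrix.mul_assoc, ← hsv, Matrix.mul_assoc, Matrix.mul_assoc, h, Matrix.mul_neg, neg_neg]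
    by_cases hsc : ∃ c : F, (u : MS) = c • 1
    · obtain ⟨c, hc⟩ := hsc
      rw [hc, Matrix.smul_mul, Matrix.one_mul, Matrix.mul_smul, Matrix.mul_one]
    · push Not at hsc
      rcases hm u hu v hv huu hvv huv hsc hvns with e | e <;> rw [e]
      · exact hG.symm
      · rw [Matrix.neg_mul, Matrix.mul_neg, hG]
  have h8 : (8 : F) ≠ 0 := by
    rw [show (8 : F) = 2 * (2 * 2) by norm_num]; exact mul_ne_zero S.two (mul_ne_zero S.two S.two)
  apply smul_right_injective MS h8
  show (8 : F) • (s * G) = (8 : F) • (G * s)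
  rw [← Matrix.smul_mul, ← Matrix.mul_smul, hexp, Finset.sum_mul, Finset.mul_sum]
  refine Finset.sum_congr rfl fun u _ => ?_
  rw [Matrix.smul_mul, Matrix.mul_smul]
  by_cases h0 : (s * (((u : GL SI F)⁻¹ : GL SI F) : MS)).trace = 0
  · rw [h0, zero_smul, zero_smul]
  · rw [hterm u h0]

end Sym4

end H47
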