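import Mathlib
import Cfsg.Prelude.Def_LieClassical
import Cfsg.Agent.H47.SymLinear
import Cfsg.Agent.H51.Herm
import Cfsg.Agent.H50.DetCentralizer
import Cfsg.Agent.H50.Field
import Cfsg.Agent.H50.Hyperbolic

/-!
# Unitary steps for symplectic-type two-groups
-/

set_option autoImplicit false
open scoped MatrixGroups Matrix
open Matrix

namespace H47

variable {F : Type*} [Field F] [Fintype F] {q : ℕ} (hF : Fintype.card F = q ^ 2)
include hF

/-- Semisimple unitary elements with equal characteristic polynomial are conjugate in `SU`. -/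
theorem su_conj_charpoly {n m : ℕ} (hn : 1 ≤ n) (hm : (m : F) ≠ 0) {x y : GL (Fin n) F}
    (hxU : x ∈ Cfsg.GU n F q) (hyU : y ∈ Cfsg.GU n F q) (hx : x ^ m = 1) (hy : y ^ m = 1)
    (hc : (x : Matrix (Fin n) (Fin n) F).charpoly = (y : Matrix (Fin n) (Fin n) F).charpoly) :
    ∃ g ∈ Cfsg.GU n F q ⊓ Cfsg.Geo.specialLinear (Fin n) F, g⁻¹ * x * g = y := by
  have hxm : ∃ m : ℕ, (m : F) ≠ 0 ∧ (x : Matrix (Fin n) (Fin n) F) ^ m = 1 :=
    ⟨m, hm, by rw [← Units.val_pow_eq_pow_val, hx, Units.val_one]⟩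
  have hym : ∃ m : ℕ, (m : F) ≠ 0 ∧ (y : Matrix (Fin n) (Fin n) F) ^ m = 1 :=
    ⟨m, hm, by rw [← Units.val_pow_eq_pow_val, hy, Units.val_one]⟩
  obtain ⟨C, hC, hCx⟩ := H40.exists_conj_matrix hxm hym hc
  have hconj : IsConj x y := isConj_iff.mpr ⟨Matrix.GeneralLinearGroup.mkOfDetNeZero C hC, by
    rw [mul_inv_eq_iff_eq_mul]; exact Units.ext hCx⟩
  obtain ⟨u, huU, hu⟩ := H51.gu_conj_of_gl_conj hF hxU hyU hconj
  have hud := H51.det_norm_GU hF ((H51.mem_GU_iff hF _).mp huU)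
  have hu0 : (u : Matrix (Fin n) (Fin n) F).det ≠ 0 := (Matrix.isUnits_det_units u).ne_zero
  obtain ⟨Y, hY, hYx, hYd⟩ := H50.exists_commuting_unitary_det hF ((H51.mem_GU_iff hF _).mp hxU) hxm hn
    (l := ((u : Matrix (Fin n) (Fin n) F).det)⁻¹) (by rw [inv_pow, pow_succ, hud, inv_one])
  let Yg : GL (Fin n) F := H51.mkGL hF Y hY
  have hYU : Yg ∈ Cfsg.GU n F q := H51.mkGL_mem hF Y hY
  have hYc : Yg * x = x * Yg := Units.ext hYx
  have hd : ((u * Yg : GL (Fin n) F) : Matrix (Fin n) (Fin n) F).det = 1 := by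
    show ((u : Matrix (Fin n) (Fin n) F) * Y).det = 1
    rw [Matrix.det_mul, hYd, mul_inv_cancel₀ hu0]
  refine ⟨(u * Yg)⁻¹, inv_mem (Subgroup.mem_inf.mpr ⟨mul_mem huU hYU, mem_sl_iff.mpr hd⟩), ?_⟩
  rw [inv_inv, mul_assoc u, hYc, ← hu]
  group

/-- The two kinds of targets are unitary. -/
theorem target_two_unitary {R : Subgroup (GL (Fin 4) F)} (hR : R ≤ Cfsg.GU 4 F q) (h2 : (2 : F) ≠ 0)
    {x y : GL (Fin 4) F} {z : F} (hxU : x ∈ Cfsg.GU 4 F q)
    (hxx : (x : Matrix (Fin 4) (Fin 4) F) * x = z • 1) (hz : z ≠ 0)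
    (h : y ∈ R ∨ ∃ u ∈ R, ∃ w ∈ R, (u : Matrix (Fin 4) (Fin 4) F) * u = 1 ∧ (w : Matrix (Fin 4) (Fin 4) F) * w = 1 ∧
        (w : Matrix (Fin 4) (Fin 4) F) * u = (u : Matrix (Fin 4) (Fin 4) F) * w ∧
        (y : Matrix (Fin 4) (Fin 4) F) * y = z • 1 ∧
        (y : Matrix (Fin 4) (Fin 4) F) = ((x : Matrix (Fin 4) (Fin 4) F).trace / 2) •
          ((2 : F)⁻¹ • (1 + (u : Matrix (Fin 4) (Fin 4) F) + (w : Matrix (Fin 4) (Fin 4) F) - (u : Matrix (Fin 4) (Fin 4) F) * (w : Matrix (Fin 4) (Fin 4) F))) ∧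
        ((x : Matrix (Fin 4) (Fin 4) F).trace / 2) * ((x : Matrix (Fin 4) (Fin 4) F).trace / 2) = z) :
    y ∈ Cfsg.GU 4 F q := by
  rcases h with h | ⟨u, hu, w, hw, huu, hww, hwu, hyy, hy, hll⟩
  · exact hR h
  set t := (x : Matrix (Fin 4) (Fin 4) F).trace with ht
  have hself : ∀ v ∈ R, (v : Matrix (Fin 4) (Fin 4) F) * v = 1 →
      H51.adj hF (v : Matrix (Fin 4) (Fin 4) F) = (v : Matrix (Fin 4) (Fin 4) F) := by
    intro v hv hvv
    calc H51.adj hF (v : Matrix (Fin 4) (Fin 4) F)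
        = H51.adj hF (v : Matrix (Fin 4) (Fin 4) F) * ((v : Matrix (Fin 4) (Fin 4) F) * v) := by rw [hvv, Matrix.mul_one]
      _ = _ := by rw [← Matrix.mul_assoc, (H51.mem_GU_iff hF _).mp (hR hv), Matrix.one_mul]
  have h2q : (2 : F) ^ q = 2 := by
    rw [show (2 : F) = 1 + 1 by norm_num, H51.add_pow_q hF, one_pow]
  have hC : H51.adj hF ((2 : F)⁻¹ • (1 + (u : Matrix (Fin 4) (Fin 4) F) + (w : Matrix (Fin 4) (Fin 4) F) - (u : Matrix (Fin 4) (Fin 4) F) * (w : Matrix (Fin 4) (Fin 4) F)))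
      = (2 : F)⁻¹ • (1 + (u : Matrix (Fin 4) (Fin 4) F) + (w : Matrix (Fin 4) (Fin 4) F) - (u : Matrix (Fin 4) (Fin 4) F) * (w : Matrix (Fin 4) (Fin 4) F)) := by
    rw [H51.adj_smul, H51.adj_sub, H51.adj_add, H51.adj_add, H51.adj_one, H51.adj_mul, hself u hu huu, hself w hw hww,
      inv_pow, h2q, hwu]
  have hl : (t / 2) ^ q * (t / 2) = 1 := by
    have hadj : H51.adj hF (x : Matrix (Fin 4) (Fin 4) F) = z⁻¹ • (x : Matrix (Fin 4) (Fin 4) F) := by
      calc H51.adj hF (x : Matrix (Fin 4) (Fin 4) F)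
          = H51.adj hF (x : Matrix (Fin 4) (Fin 4) F) * (z⁻¹ • ((x : Matrix (Fin 4) (Fin 4) F) * x)) := by
            rw [hxx, smul_smul, inv_mul_cancel₀ hz, one_smul, Matrix.mul_one]
        _ = _ := by rw [Matrix.mul_smul, ← Matrix.mul_assoc, (H51.mem_GU_iff hF _).mp hxU, Matrix.one_mul]
    have htq : t ^ q = z⁻¹ * t := by
      have h := congrArg Matrix.trace hadj
      rw [Matrix.trace_smul, smul_eq_mul] at h
      rw [← h, ht, Matrix.trace, Matrix.trace, H51.sum_pow_q hF]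
      exact Finset.sum_congr rfl fun i _ => rfl
    rw [div_pow, h2q, htq]
    calc z⁻¹ * t / 2 * (t / 2) = z⁻¹ * (t / 2 * (t / 2)) := by ring
      _ = 1 := by rw [hll, inv_mul_cancel₀ hz]
  rw [H51.mem_GU_iff hF, hy]
  set M := (2 : F)⁻¹ • (1 + (u : Matrix (Fin 4) (Fin 4) F) + (w : Matrix (Fin 4) (Fin 4) F) - (u : Matrix (Fin 4) (Fin 4) F) * (w : Matrix (Fin 4) (Fin 4) F)) with hM
  rw [H51.adj_smul, hC, Matrix.smul_mul, Matrix.mul_smul, smul_smul, hl, one_smul]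
  have hMM : ((t / 2) * (t / 2)) • (M * M) = z • (1 : Matrix (Fin 4) (Fin 4) F) := by
    rw [← smul_smul, ← Matrix.mul_smul, ← Matrix.smul_mul, ← hy, hyy]
  rw [hll] at hMM
  exact smul_right_injective _ hz hMM

/-- A unitary transvection. -/
theorem exists_gu_transvection {p : ℕ} [hp : Fact p.Prime] [CharP F p] :
    ∃ x ∈ Cfsg.GU 4 F q, ∃ u v : Fin 4 → F, v ⬝ᵥ u = 0 ∧ (x : Matrix (Fin 4) (Fin 4) F) = 1 + Matrix.vecMulVec u v ∧
      (x : Matrix (Fin 4) (Fin 4) F).det = 1 ∧ x ^ p = 1 ∧ ∀ a : F, (x : Matrix (Fin 4) (Fin 4) F) ≠ a • 1 := by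
  classical
  obtain ⟨v, hv0, hv⟩ := H50.exists_isotropic hF (show 2 ≤ 4 by norm_num)
  obtain ⟨c, hc0, hc⟩ := H50.exists_trace_zero_ne_zero hF
  set T := Cfsg.unitaryTransvection 4 q v c
  have hiso : H50.IsIso q T := H50.ut_isIso_isotropic hF hv hc
  have hTd : T.det = 1 := by rw [H50.ut_det, hv, mul_zero, add_zero]
  let x : GL (Fin 4) F := Matrix.GeneralLinearGroup.mkOfDetNeZero T (by rw [hTd]; exact one_ne_zero)
  set w : Fin 4 → F := fun j => v j ^ q with hw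
  have h0 : w ⬝ᵥ v = 0 := by rw [dotProduct_comm]; exact hv
  have hwu : w ⬝ᵥ (c • v) = 0 := by rw [dotProduct_smul, h0, smul_zero]
  have hTN : T = 1 + Matrix.vecMulVec (c • v) w := by
    show (1 : Matrix (Fin 4) (Fin 4) F) + c • Matrix.vecMulVec v w = _
    rw [Matrix.smul_vecMulVec]
  have hN2 : (Matrix.vecMulVec (c • v) w) ^ 2 = 0 := by
    rw [pow_two, Matrix.vecMulVec_mul_vecMulVec, hwu, zero_smul, Matrix.vecMulVec_zero]
  refine ⟨x, hiso, c • v, w, hwu, hTN, hTd, Units.ext ?_, fun a ha => ?_⟩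
  · haveI : CharP (Matrix (Fin 4) (Fin 4) F) p := Matrix.charP p
    rw [Units.val_pow_eq_pow_val, Units.val_one]
    show T ^ p = 1
    rw [hTN, add_pow_char_of_commute p (Commute.one_left _), one_pow, pow_eq_zero_of_le hp.out.two_le hN2, add_zero]
  · obtain ⟨i, hi⟩ := Function.ne_iff.mp hv0
    rw [Pi.zero_apply] at hi
    -- a vector with another non-zero coordinate
    obtain ⟨j, hij, hj⟩ : ∃ j, j ≠ i ∧ v j ≠ 0 := by
      by_contra h
      push Not at h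
      have : Cfsg.hermForm 4 F q v v = v i * v i ^ q := by
        rw [Cfsg.hermForm]
        refine Finset.sum_eq_single i (fun j _ hj => ?_) (by simp)
        rw [h j hj, zero_mul]
      rw [hv] at this
      exact mul_ne_zero hi (pow_ne_zero _ hi) this.symm
    have h1 : (T : Matrix (Fin 4) (Fin 4) F) j i = (a • (1 : Matrix (Fin 4) (Fin 4) F)) j i := congrFun (congrFun ha j) i
    rw [hTN] at h1
    simp [Matrix.vecMulVec_apply, hij, hc0, hj, hw, hi] at h1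

end H47
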