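import Mathlib
import Cfsg.Prelude.Def_GeometricClasses
import Cfsg.Agent.H47.SymLinear

/-!
# Ranks of translates of tensor products of two matrices
-/

set_option autoImplicit false
open scoped MatrixGroups Matrix Kronecker
open Matrix

namespace H47

variable {F : Type*} [Field F] {a b : ℕ}

local notation "PM" => Matrix (Fin a × Fin b) (Fin a × Fin b) F

/-- A non-scalar matrix moves some vector off its line. -/
lemma exists_test_of_nonscalar {A : Matrix (Fin a) (Fin a) F} (h : ∀ α : F, A ≠ α • 1) :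
    ∃ φ w : Fin a → F, φ ⬝ᵥ w = 0 ∧ φ ⬝ᵥ (A *ᵥ w) = 1 := by
  classical
  by_cases hoff : ∃ i j, i ≠ j ∧ A i j ≠ 0
  · obtain ⟨i, j, hij, hA⟩ := hoff
    exact ⟨Pi.single i (A i j)⁻¹, Pi.single j 1, by simp [hij.symm], by simp [hA]⟩
  push Not at hoff
  rcases Nat.eq_zero_or_pos a with rfl | ha
  · exact absurd (Subsingleton.elim _ _) (h 0)
  obtain ⟨i, hi⟩ : ∃ i, A i i ≠ A ⟨0, ha⟩ ⟨0, ha⟩ := by
    by_contra hh
    push Not at hh
    refine h (A ⟨0, ha⟩ ⟨0, ha⟩) (Matrix.ext fun i j => ?_)
    rcases eq_or_ne i j with rfl | hij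
    · simp [hh i]
    · simp [hoff i j hij, hij]
  set o : Fin a := ⟨0, ha⟩
  have hio : i ≠ o := fun e => hi (by rw [e])
  have hd : A i i - A o o ≠ 0 := sub_ne_zero.mpr hi
  refine ⟨Pi.single i (A i i - A o o)⁻¹ - Pi.single o (A i i - A o o)⁻¹, Pi.single i 1 + Pi.single o 1, ?_, ?_⟩
  · simp [sub_dotProduct, Pi.single_apply, hio, hio.symm]
  · simp [sub_dotProduct, Matrix.mulVec_add, Matrix.mulVec, hoff i o hio, hoff o i hio.symm]
    field_simp
    ring

/-- A translate of a tensor product of small rank has scalar first factor. -/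
theorem left_scalar_of_rank_lt {A : Matrix (Fin a) (Fin a) F} {B : Matrix (Fin b) (Fin b) F} (hB : B.det ≠ 0) {c : F}
    (h : (A ⊗ₖ B - c • (1 : PM)).rank < b) : ∃ α : F, A = α • 1 := by
  classical
  by_contra hA
  push Not at hA
  obtain ⟨φ, w, h0, h1⟩ := exists_test_of_nonscalar hA
  let L : Matrix (Fin b) (Fin a × Fin b) F := Matrix.of fun j p => if p.2 = j then φ p.1 else 0
  let R : Matrix (Fin a × Fin b) (Fin b) F := Matrix.of fun p l => if p.2 = l then w p.1 else 0
  have hB' : L * (A ⊗ₖ B - c • (1 : PM)) * R = B := by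
    ext j l
    rw [Matrix.mul_sub, Matrix.sub_mul, Matrix.mul_smul, Matrix.mul_one, Matrix.smul_mul, Matrix.sub_apply,
      Matrix.smul_apply]
    have e1 : (L * (A ⊗ₖ B) * R) j l = B j l := by
      have e : (L * (A ⊗ₖ B) * R) j l = (φ ⬝ᵥ (A *ᵥ w)) * B j l := by
        simp only [L, R, Matrix.mul_apply, Matrix.of_apply, Matrix.kroneckerMap_apply, Fintype.sum_prod_type, ite_mul,
          zero_mul, mul_ite, mul_zero, Finset.sum_ite_eq', Finset.mem_univ, if_true, dotProduct, Matrix.mulVec]
        simp only [Finset.mul_sum, Finset.sum_mul]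
        rw [Finset.sum_comm]
        exact Finset.sum_congr rfl fun i _ => Finset.sum_congr rfl fun k _ => by ring
      rw [e, h1, one_mul]
    have e2 : (L * R) j l = 0 := by
      have e : (L * R) j l = if j = l then φ ⬝ᵥ w else 0 := by
        simp only [L, R, Matrix.mul_apply, Matrix.of_apply, Fintype.sum_prod_type, ite_mul, zero_mul,
          Finset.sum_ite_eq', Finset.mem_univ, if_true, dotProduct]
        by_cases hjl : j = l <;> simp [hjl]
      rw [e, h0]; simp
    rw [e1, e2]; simp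
  have hr : B.rank = b := by
    rw [Matrix.rank_of_isUnit B ((Matrix.isUnit_iff_isUnit_det B).mpr (isUnit_iff_ne_zero.mpr hB)), Fintype.card_fin]
  have := (Matrix.rank_mul_le_left (L * (A ⊗ₖ B - c • (1 : PM))) R).trans (Matrix.rank_mul_le_right _ _)
  rw [hB', hr] at this
  omega

/-- The rank of an inflated matrix. -/
theorem rank_one_kronecker (M : Matrix (Fin b) (Fin b) F) :
    ((1 : Matrix (Fin a) (Fin a) F) ⊗ₖ M).rank = a * M.rank := by
  classical
  have hv : ∀ (v : Fin a × Fin b → F) i j, (((1 : Matrix (Fin a) (Fin a) F) ⊗ₖ M) *ᵥ v) (i, j)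
      = (M *ᵥ fun l => v (i, l)) j := fun v i j => by
    simp [Matrix.mulVec, dotProduct, Fintype.sum_prod_type, Matrix.one_apply, ite_mul]
  set W := LinearMap.range ((1 : Matrix (Fin a) (Fin a) F) ⊗ₖ M).mulVecLin
  set U := LinearMap.range M.mulVecLin
  let Φ : W →ₗ[F] (Fin a → U) :=
    { toFun := fun v i => ⟨fun j => v.1 (i, j), by
        obtain ⟨v, u, rfl⟩ := v
        exact ⟨fun l => u (i, l), funext fun j => (hv u i j).symm⟩⟩
      map_add' := fun _ _ => rfl
      map_smul' := fun _ _ => rfl }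
  have hinj : Function.Injective Φ := fun v w h => Subtype.ext (funext fun p =>
    congrFun (congrArg Subtype.val (congrFun h p.1)) p.2)
  have hsur : Function.Surjective Φ := fun u => by
    have hu : ∀ i, ∃ x, M *ᵥ x = (u i : Fin b → F) := fun i => (u i).2
    choose x hx using hu
    exact ⟨⟨_, fun p => x p.1 p.2, rfl⟩, funext fun i => Subtype.ext (funext fun j =>
      (hv _ i j).trans (congrFun (hx i) j))⟩
  show Module.finrank F W = a * Module.finrank F U
  rw [(LinearEquiv.ofBijective Φ ⟨hinj, hsur⟩).finrank_eq, Module.finrank_pi_fintype]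
  simp

/-- The translates of a tensor product with scalar first factor have rank divisible by its dimension. -/
theorem rank_sub_of_left_scalar {A : Matrix (Fin a) (Fin a) F} {B : Matrix (Fin b) (Fin b) F} {α : F}
    (hA : A = α • 1) (c : F) : (A ⊗ₖ B - c • (1 : PM)).rank = a * (α • B - c • 1).rank := by
  rw [← rank_one_kronecker, hA]
  congr 1
  ext ⟨i, j⟩ ⟨k, l⟩
  by_cases hik : i = k <;> by_cases hjl : j = l <;> simp [hik, hjl, Matrix.one_apply]

section order

variable [Fintype F] {r : ℕ} [hr : Fact r.Prime] {m : ℕ}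

/-- An element of prime order moves a space large enough to carry it. -/
theorem rank_sub_one_ge (hrq : ¬ r ∣ Fintype.card F) {g : GL (Fin m) F} (hg : g ^ r = 1) (hg1 : g ≠ 1) :
    orderOf (Fintype.card F : ZMod r) ≤ ((g : Matrix (Fin m) (Fin m) F) - 1).rank := by
  classical
  set G := (g : Matrix (Fin m) (Fin m) F) with hG
  set W := LinearMap.range (G - 1).mulVecLin with hW
  have hmap : ∀ v ∈ W, G.mulVecLin v ∈ W := by
    rintro _ ⟨u, rfl⟩
    refine ⟨G *ᵥ u, ?_⟩
    simp only [Matrix.mulVecLin_apply, Matrix.mulVec_mulVec]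
    rw [Matrix.sub_mul, Matrix.mul_sub, Matrix.one_mul, Matrix.mul_one]
  set T : Module.End F W := G.mulVecLin.restrict hmap with hT
  have hTpow : ∀ (k : ℕ) (v : W), ((T ^ k) v : Fin m → F) = (G ^ k) *ᵥ (v : Fin m → F) := by
    intro k
    induction k with
    | zero => intro v; simp
    | succ k ih =>
      intro v
      rw [pow_succ', Module.End.mul_apply, pow_succ', ← Matrix.mulVec_mulVec, ← ih]
      rfl
  have hTr : T ^ r = 1 := LinearMap.ext fun v => Subtype.ext (by
    rw [hTpow, hG, ← Units.val_pow_eq_pow_val, hg, Units.val_one, Matrix.one_mulVec]; rfl)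
  have hrF : (r : F) ≠ 0 := fun h => by
    obtain ⟨p, hp⟩ := CharP.exists F
    haveI := hp
    obtain ⟨e, hpp, hcard⟩ := FiniteField.card F p
    have := (Nat.prime_dvd_prime_iff_eq hpp hr.out).mp ((CharP.cast_eq_zero_iff F p r).mp h)
    exact hrq (this ▸ hcard ▸ dvd_pow_self p e.ne_zero)
  have hT1 : T ≠ 1 := by
    intro h
    have hsq : (G - 1) * (G - 1) = 0 := by
      apply Matrix.mulVec_injective.eq_iff.mp
      funext v
      rw [← Matrix.mulVec_mulVec, Matrix.zero_mulVec, Matrix.sub_mulVec, Matrix.one_mulVec, sub_eq_zero]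
      have := congrArg (fun S : Module.End F W => (S ⟨(G - 1) *ᵥ v, v, rfl⟩ : Fin m → F)) h
      exact this
    have hlin : ∀ k : ℕ, G ^ k = 1 + (k : F) • (G - 1) := by
      intro k
      induction k with
      | zero => simp
      | succ k ih =>
        calc G ^ (k + 1) = (1 + (k : F) • (G - 1)) * (1 + (G - 1)) := by rw [pow_succ, ih, add_sub_cancel]
          _ = 1 + (G - 1) + (k : F) • (G - 1) + (k : F) • ((G - 1) * (G - 1)) := by
            simp only [Matrix.add_mul, Matrix.mul_add, Matrix.smul_mul, Matrix.mul_one, Matrix.one_mul, smul_add]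
            abel
          _ = _ := by rw [hsq, smul_zero, add_zero, Nat.cast_succ, add_smul, one_smul]; abel
    have h' := hlin r
    rw [hG, ← Units.val_pow_eq_pow_val, hg, Units.val_one, ← hG, left_eq_add] at h'
    exact hg1 (Units.ext (sub_eq_zero.mp ((smul_eq_zero.mp h').resolve_left hrF)))
  let e := (LinearMap.toMatrixAlgEquiv (Module.finBasis F W)).toMulEquiv
  let u : (Module.End F W)ˣ := (IsUnit.of_pow_eq_one hTr hr.out.ne_zero).unit
  let u' : GL (Fin (Module.finrank F W)) F := Units.mapEquiv e u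
  have hu : orderOf u' = r := by
    rw [MulEquiv.orderOf_eq]
    exact orderOf_eq_prime (Units.ext (by rw [Units.val_pow_eq_pow_val]; exact hTr)) fun h => hT1 (congrArg Units.val h)
  have hd : r ∣ Nat.card (GL (Fin (Module.finrank F W)) F) := hu ▸ orderOf_dvd_natCard u'
  rw [Matrix.card_GL_field, (Prime.dvd_finsetProd_iff hr.out.prime _)] at hd
  obtain ⟨i, -, hi⟩ := hd
  have key : ∀ Q D i : ℕ, 0 < Q → ¬ r ∣ Q → i < D → r ∣ Q ^ D - Q ^ i → orderOf (Q : ZMod r) ≤ D := by
    intro Q D i hQ hrQ hiD hd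
    have hi' : r ∣ Q ^ i * (Q ^ (D - i) - 1) := by
      rwa [Nat.mul_sub, mul_one, ← pow_add, Nat.add_sub_cancel' hiD.le]
    have h1 : r ∣ Q ^ (D - i) - 1 := (hr.out.dvd_mul.mp hi').resolve_left fun h => hrQ (hr.out.dvd_of_dvd_pow h)
    have h2 : (Q : ZMod r) ^ (D - i) = 1 := by
      have := (ZMod.natCast_eq_zero_iff _ r).mpr h1
      rw [Nat.cast_sub (Nat.one_le_pow _ _ hQ), Nat.cast_one, sub_eq_zero, Nat.cast_pow] at this
      exact this
    exact (Nat.le_of_dvd (Nat.sub_pos_of_lt hiD) (orderOf_dvd_of_pow_eq_one h2)).trans (Nat.sub_le _ _)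
  exact key _ _ _ Fintype.card_pos hrq i.isLt hi

end order

section group

variable {ι : Type} [Fintype ι] [DecidableEq ι] (e : ι ≃ Fin a × Fin b) (P : GL ι F)

/-- The transport of matrices on the product index set. -/
noncomputable def tensHom : GL (Fin a × Fin b) F →* GL ι F :=
  (MulAut.conj P).toMonoidHom.comp (Cfsg.Geo.glReindex e.symm).toMonoidHom

lemma tens_eq_map : Cfsg.Geo.tensorProductSubgroup a b e P = (Cfsg.Geo.kroneckerSubgroup a b F).map (tensHom e P) :=
  Subgroup.map_map _ _ _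

lemma tensHom_injective : Function.Injective (tensHom e P) :=
  (MulAut.conj P).injective.comp (Cfsg.Geo.glReindex e.symm).injective

lemma tensHom_val (k : GL (Fin a × Fin b) F) :
    (tensHom e P k : Matrix ι ι F) = (P : Matrix ι ι F) * (k : PM).submatrix e e * ((P⁻¹ : GL ι F) : Matrix ι ι F) :=
  rfl

lemma tensHom_sub (k : GL (Fin a × Fin b) F) (c : F) :
    (tensHom e P k : Matrix ι ι F) - c • 1
      = (P : Matrix ι ι F) * ((k : PM) - c • 1).submatrix e e * ((P⁻¹ : GL ι F) : Matrix ι ι F) := by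
  have hs : ((k : PM) - c • 1).submatrix e e = (k : PM).submatrix e e - c • (1 : Matrix ι ι F) := by
    ext i j; simp [Matrix.one_apply, e.injective.eq_iff]
  rw [tensHom_val, hs, Matrix.mul_sub, Matrix.sub_mul, Matrix.mul_smul, Matrix.mul_one, Matrix.smul_mul,
    Units.mul_inv]

lemma tensHom_rank (k : GL (Fin a × Fin b) F) (c : F) :
    ((tensHom e P k : Matrix ι ι F) - c • 1).rank = ((k : PM) - c • 1).rank := by
  rw [tensHom_sub, Matrix.rank_mul_eq_left_of_isUnit_det _ _ (Matrix.isUnits_det_units _),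
    Matrix.rank_mul_eq_right_of_isUnit_det _ _ (Matrix.isUnits_det_units _), Matrix.rank_submatrix]

/-- Conjugation leaves the rank of translates alone. -/
lemma rank_conj_sub (g x : GL ι F) (c : F) :
    (((g⁻¹ * x * g : GL ι F) : Matrix ι ι F) - c • 1).rank = ((x : Matrix ι ι F) - c • 1).rank := by
  have : ((g⁻¹ * x * g : GL ι F) : Matrix ι ι F) - c • 1
      = ((g⁻¹ : GL ι F) : Matrix ι ι F) * ((x : Matrix ι ι F) - c • 1) * (g : Matrix ι ι F) := by
    rw [Matrix.mul_sub, Matrix.sub_mul, Units.val_mul, Units.val_mul, Matrix.mul_smul, Matrix.mul_one, Matrix.smul_mul,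
      Units.inv_mul]
  rw [this, Matrix.rank_mul_eq_left_of_isUnit_det _ _ (Matrix.isUnits_det_units _),
    Matrix.rank_mul_eq_right_of_isUnit_det _ _ (Matrix.isUnits_det_units _)]

/-- An element with a fixed point gives a tensor product with the same invariants. -/
theorem tensor_witness {x g : GL ι F} (h : g⁻¹ * x * g ∈ Cfsg.Geo.tensorProductSubgroup a b e P) :
    ∃ (k : GL (Fin a × Fin b) F) (A : GL (Fin a) F) (B : GL (Fin b) F),
      (k : PM) = (A : Matrix (Fin a) (Fin a) F) ⊗ₖ (B : Matrix (Fin b) (Fin b) F) ∧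
      (∀ c : F, ((k : PM) - c • 1).rank = ((x : Matrix ι ι F) - c • 1).rank) ∧
      ∀ n : ℕ, x ^ n = 1 → k ^ n = 1 := by
  rw [tens_eq_map] at h
  obtain ⟨k, ⟨A, B, hk⟩, hkx⟩ := Subgroup.mem_map.mp h
  refine ⟨k, A, B, hk, fun c => ?_, fun n hn => tensHom_injective e P ?_⟩
  · rw [← rank_conj_sub g x, ← hkx, tensHom_rank]
  · have h := conj_pow (a := g⁻¹) (b := x) (i := n)
    rw [inv_inv] at h
    rw [map_pow, hkx, map_one, h, hn, mul_one, inv_mul_cancel]

/-- A small translate makes all translates have rank divisible by the first dimension. -/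
theorem dvd_rank_of_small {x g : GL ι F} (h : g⁻¹ * x * g ∈ Cfsg.Geo.tensorProductSubgroup a b e P) {c : F}
    (hc : ((x : Matrix ι ι F) - c • 1).rank < b) (c' : F) : a ∣ ((x : Matrix ι ι F) - c' • 1).rank := by
  obtain ⟨k, A, B, hk, hrk, -⟩ := tensor_witness e P h
  obtain ⟨α, hα⟩ := left_scalar_of_rank_lt (Matrix.isUnits_det_units B).ne_zero (A := (A : Matrix (Fin a) (Fin a) F))
    (c := c) (by rw [← hk, hrk]; exact hc)
  rw [← hrk, hk, rank_sub_of_left_scalar hα]
  exact dvd_mul_right _ _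

/-- An element of prime order with a minimal moved space has no fixed point. -/
theorem tensor_der_block [Fintype F] {r : ℕ} [hr : Fact r.Prime] (hrq : ¬ r ∣ Fintype.card F)
    (hr1 : ¬ r ∣ Fintype.card F - 1) (ha : 2 ≤ a) (hab : a < b) {x g : GL ι F} (hxr : x ^ r = 1) (hx1 : x ≠ 1)
    (hrank : ((x : Matrix ι ι F) - 1).rank ≤ orderOf (Fintype.card F : ZMod r))
    (h : g⁻¹ * x * g ∈ Cfsg.Geo.tensorProductSubgroup a b e P) : False := by
  classical
  obtain ⟨k, A, B, hk, hrk, hpow⟩ := tensor_witness e P h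
  haveI : Nonempty (Fin a) := ⟨⟨0, by omega⟩⟩
  set i := orderOf (Fintype.card F : ZMod r) with hi
  have hcardu : Nat.card Fˣ = Fintype.card F - 1 := by rw [Nat.card_units, Nat.card_eq_fintype_card]
  have hcop : Nat.Coprime (Nat.card Fˣ) r := hcardu ▸ ((hr.out.coprime_iff_not_dvd).mpr hr1).symm
  have hkr : (k : PM) ^ r = 1 := by rw [← Units.val_pow_eq_pow_val, hpow r hxr, Units.val_one]
  have hk1 : ((A : Matrix (Fin a) (Fin a) F) ^ r) ⊗ₖ ((B : Matrix (Fin b) (Fin b) F) ^ r) = 1 := by
    have : ∀ n : ℕ, ((A : Matrix (Fin a) (Fin a) F) ⊗ₖ (B : Matrix (Fin b) (Fin b) F)) ^ n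
        = ((A : Matrix (Fin a) (Fin a) F) ^ n) ⊗ₖ ((B : Matrix (Fin b) (Fin b) F) ^ n) := by
      intro n
      induction n with
      | zero => simp
      | succ n ih => rw [pow_succ, ih, ← Matrix.mul_kronecker_mul, pow_succ, pow_succ]
    rw [← this, ← hk, hkr]
  -- the first factor is scalar
  obtain ⟨α, hα⟩ : ∃ α : F, (A : Matrix (Fin a) (Fin a) F) = α • 1 := by
    rcases lt_or_ge a i with hai | hai
    · obtain ⟨α, hα⟩ := left_scalar_of_rank_lt (A := (A : Matrix (Fin a) (Fin a) F) ^ r)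
        (B := (B : Matrix (Fin b) (Fin b) F) ^ r) (by
          rw [Matrix.det_pow]; exact pow_ne_zero _ (Matrix.isUnits_det_units B).ne_zero) (c := 1)
        (by rw [hk1, one_smul, sub_self, Matrix.rank_zero]; omega)
      have hα0 : α ≠ 0 := fun h0 => by
        have hd := congrArg Matrix.det hα
        rw [h0, zero_smul, Matrix.det_pow, Matrix.det_zero] at hd
        exact pow_ne_zero _ (Matrix.isUnits_det_units A).ne_zero hd
      obtain ⟨β, hβ⟩ := (powCoprime hcop).surjective (Units.mk0 α hα0)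
      have hβ' : (β : F) ^ r = α := by simpa using congrArg Units.val hβ
      by_contra hns
      push Not at hns
      obtain ⟨K, hK⟩ := scalar_gl_exists (ι := Fin a) ((β⁻¹ : Fˣ) : F) (Units.ne_zero _)
      have hA' : (K * A) ^ r = 1 := Units.ext (by
        rw [(show Commute K A from scalar_comm hK A).mul_pow, Units.val_mul, Units.val_pow_eq_pow_val,
          Units.val_pow_eq_pow_val, hK, smul_pow, one_pow, hα, Matrix.smul_mul, Matrix.one_mul, smul_smul, ← hβ',
          ← mul_pow, Units.inv_mul, one_pow, one_smul, Units.val_one])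
      have hA1 : K * A ≠ 1 := fun h1 => hns (β : F) (by
        have h2 := congrArg Units.val h1
        rw [Units.val_mul, hK, Matrix.smul_mul, Matrix.one_mul, Units.val_one] at h2
        rw [← h2, smul_smul, Units.mul_inv, one_smul])
      have := rank_sub_one_ge hrq hA' hA1
      have := Matrix.rank_le_card_width ((K * A : GL (Fin a) F).1 - 1)
      rw [Fintype.card_fin] at this
      omega
    · exact left_scalar_of_rank_lt (Matrix.isUnits_det_units B).ne_zero (c := 1)
        (by rw [← hk, hrk, one_smul]; omega)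
  -- the second factor then carries too little
  have hα0 : α ≠ 0 := fun h0 => (Matrix.isUnits_det_units A).ne_zero (by
    rw [hα, h0, zero_smul, Matrix.det_zero])
  obtain ⟨L, hL⟩ := scalar_gl_exists (ι := Fin b) α hα0
  set B' : GL (Fin b) F := L * B with hB'
  have hB'v : (B' : Matrix (Fin b) (Fin b) F) = α • (B : Matrix (Fin b) (Fin b) F) := by
    rw [hB', Units.val_mul, hL, Matrix.smul_mul, Matrix.one_mul]
  have hk' : (k : PM) = (1 : Matrix (Fin a) (Fin a) F) ⊗ₖ (B' : Matrix (Fin b) (Fin b) F) := by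
    rw [hk, hα, hB'v, Matrix.smul_kronecker, Matrix.kronecker_smul]
  have hB'r : B' ^ r = 1 := by
    apply Units.ext
    rw [Units.val_one, ← sub_eq_zero]
    ext j l
    have := congrFun (congrFun hkr (Classical.arbitrary (Fin a), j)) (Classical.arbitrary (Fin a), l)
    have hp : ∀ n : ℕ, ((1 : Matrix (Fin a) (Fin a) F) ⊗ₖ (B' : Matrix (Fin b) (Fin b) F)) ^ n
        = (1 : Matrix (Fin a) (Fin a) F) ⊗ₖ ((B' : Matrix (Fin b) (Fin b) F) ^ n) := by
      intro n
      induction n with
      | zero => simp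
      | succ n ih => rw [pow_succ, ih, ← Matrix.mul_kronecker_mul, Matrix.one_mul, pow_succ]
    rw [hk', hp] at this
    simp [Matrix.one_apply] at this
    simp [Units.val_pow_eq_pow_val, this, Matrix.one_apply]
  have hrkeq : ((x : Matrix ι ι F) - 1).rank = a * ((B' : Matrix (Fin b) (Fin b) F) - 1).rank := by
    have e := hrk 1
    rw [hk', rank_sub_of_left_scalar (α := 1) (one_smul _ _).symm, one_smul, one_smul, one_smul] at e
    exact e.symm
  rcases eq_or_ne B' 1 with hB1 | hB1
  · rw [hB1, Units.val_one, sub_self, Matrix.rank_zero, mul_zero] at hrkeq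
    apply hx1
    refine Units.ext (sub_eq_zero.mp ?_)
    apply Matrix.mulVec_injective.eq_iff.mp
    funext v
    rw [Matrix.zero_mulVec]
    have hz : LinearMap.range ((x : Matrix ι ι F) - 1).mulVecLin = ⊥ := Submodule.finrank_eq_zero.mp hrkeq
    exact (Submodule.mem_bot F).mp (hz ▸ (⟨v, rfl⟩ : ((x : Matrix ι ι F) - 1) *ᵥ v ∈ LinearMap.range ((x : Matrix ι ι F) - 1).mulVecLin))
  · have h1 := rank_sub_one_ge hrq hB'r hB1
    have hmul := Nat.mul_le_mul_right i ha
    have : a * i ≤ a * ((B' : Matrix (Fin b) (Fin b) F) - 1).rank := Nat.mul_le_mul_left a h1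
    have hi0 : 0 < i := orderOf_pos_iff.mpr (isOfFinOrder_iff_pow_eq_one.mpr ⟨r - 1, by
      have := hr.out.two_le; omega, ZMod.pow_card_sub_one_eq_one (fun h0 => hrq ((ZMod.natCast_eq_zero_iff _ r).mp h0))⟩)
    omega

end group

end H47
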