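import Mathlib
import Cfsg.Agent.H47.Tensor

/-!
# Test elements of prime order for tensor decompositions, and their normal forms
-/

set_option autoImplicit false
open scoped MatrixGroups Matrix Kronecker
open Matrix Polynomial

namespace H47

variable {F : Type*} [Field F]

lemma rank_diag_sub {ι : Type} [Fintype ι] [DecidableEq ι] [DecidableEq F] (f : ι → F) (c : F) :
    (Matrix.diagonal f - c • (1 : Matrix ι ι F)).rank = Fintype.card {i // f i ≠ c} := by
  rw [Matrix.smul_one_eq_diagonal, Matrix.diagonal_sub, Matrix.rank_diagonal]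
  exact Fintype.card_congr (Equiv.subtypeEquivRight fun i => sub_ne_zero)

/-- An element of order `r` moving at most `orderOf q` dimensions. -/
theorem exists_block_element [Fintype F] {r : ℕ} [hr : Fact r.Prime] (hrq : ¬ r ∣ Fintype.card F)
    (hr1 : ¬ r ∣ Fintype.card F - 1) {n : ℕ} (hin : orderOf (Fintype.card F : ZMod r) ≤ n) :
    ∃ x : GL (Fin n) F, (x : Matrix (Fin n) (Fin n) F).det = 1 ∧ x ^ r = 1 ∧ x ≠ 1 ∧
      ((x : Matrix (Fin n) (Fin n) F) - 1).rank ≤ orderOf (Fintype.card F : ZMod r) := by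
  classical
  set i := orderOf (Fintype.card F : ZMod r) with hi
  have hq0 : (Fintype.card F : ZMod r) ≠ 0 := fun h => hrq ((ZMod.natCast_eq_zero_iff _ r).mp h)
  have hi0 : 0 < i := orderOf_pos_iff.mpr (isOfFinOrder_iff_pow_eq_one.mpr ⟨r - 1, by
    have := hr.out.two_le; omega, ZMod.pow_card_sub_one_eq_one hq0⟩)
  have hdvd : r ∣ Nat.card (GL (Fin i) F) := by
    rw [Matrix.card_GL_field]
    refine dvd_trans ?_ (Finset.dvd_prod_of_mem _ (Finset.mem_univ (⟨0, hi0⟩ : Fin i)))
    simp only [pow_zero]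
    rw [← ZMod.natCast_eq_zero_iff, Nat.cast_sub (Nat.one_le_pow _ _ Fintype.card_pos), Nat.cast_pow,
      show (Fintype.card F : ZMod r) ^ i = 1 from pow_orderOf_eq_one _]
    simp
  obtain ⟨x0, hx0⟩ := exists_prime_orderOf_dvd_card' (G := GL (Fin i) F) r hdvd
  have hd : (Matrix.GeneralLinearGroup.det x0) = 1 := by
    refine orderOf_eq_one_iff.mp (Nat.eq_one_of_dvd_coprimes
      ((hr.out.coprime_iff_not_dvd).mpr hr1) ?_ ?_)
    · exact orderOf_dvd_of_pow_eq_one (by rw [← map_pow, ← hx0, pow_orderOf_eq_one, map_one])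
    · have := orderOf_dvd_natCard (Matrix.GeneralLinearGroup.det x0)
      rwa [Nat.card_units, Nat.card_eq_fintype_card] at this
  have hd' : (x0 : Matrix (Fin i) (Fin i) F).det = 1 := congrArg Units.val hd
  obtain ⟨k, rfl⟩ : ∃ k, n = i + k := ⟨n - i, by omega⟩
  let M : Matrix (Fin i ⊕ Fin k) (Fin i ⊕ Fin k) F := fromBlocks (x0 : Matrix (Fin i) (Fin i) F) 0 0 1
  have hMd : M.det = 1 := by rw [Matrix.det_fromBlocks_zero₂₁, hd', Matrix.det_one, mul_one]
  let m : GL (Fin i ⊕ Fin k) F := Matrix.GeneralLinearGroup.mkOfDetNeZero M (by rw [hMd]; exact one_ne_zero)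
  have hpow : ∀ j : ℕ, M ^ j = fromBlocks ((x0 : Matrix (Fin i) (Fin i) F) ^ j) 0 0 1 := by
    intro j
    induction j with
    | zero => simp [Matrix.fromBlocks_one]
    | succ j ih => rw [pow_succ, ih, Matrix.fromBlocks_multiply]; simp [pow_succ]
  have hmr : m ^ r = 1 := Units.ext (by
    rw [Units.val_pow_eq_pow_val, Units.val_one]
    show M ^ r = 1
    rw [hpow, ← Units.val_pow_eq_pow_val, ← hx0, pow_orderOf_eq_one, Units.val_one, Matrix.fromBlocks_one])
  have hm1 : m ≠ 1 := fun h => by
    have hM1 : fromBlocks (x0 : Matrix (Fin i) (Fin i) F) 0 0 (1 : Matrix (Fin k) (Fin k) F) = fromBlocks 1 0 0 1 :=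
      (congrArg Units.val h).trans Matrix.fromBlocks_one.symm
    have : x0 = 1 := Units.ext (Matrix.fromBlocks_inj.mp hM1).1
    rw [this, orderOf_one] at hx0
    exact hr.out.one_lt.ne hx0
  let Φ := Cfsg.Geo.glReindex (F := F) (finSumFinEquiv (m := i) (n := k))
  refine ⟨Φ m, ?_, by rw [← map_pow, hmr, map_one], fun h => hm1 (Φ.injective (h.trans (map_one Φ).symm)), ?_⟩
  · show (M.submatrix finSumFinEquiv.symm finSumFinEquiv.symm).det = 1
    rw [Matrix.det_submatrix_equiv_self, hMd]
  · show (M.submatrix finSumFinEquiv.symm finSumFinEquiv.symm - 1).rank ≤ i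
    rw [← Matrix.submatrix_one_equiv (finSumFinEquiv (m := i) (n := k)).symm, ← Pi.sub_apply, ← Pi.sub_apply,
      ← Matrix.submatrix_sub, Matrix.rank_submatrix]
    have : M - 1 = Matrix.of (Sum.elim (fun a b => (1 : Matrix (Fin i) (Fin i) F) a b) (fun _ _ => 0))
        * Matrix.of (fun a => Sum.elim (fun b => ((x0 : Matrix (Fin i) (Fin i) F) - 1) a b) (fun _ => 0)) := by
      ext (a | a) (b | b) <;> simp [M, Matrix.mul_apply, Matrix.one_apply]
    rw [this]
    exact (Matrix.rank_mul_le_left _ _).trans ((Matrix.rank_le_card_width _).trans_eq (Fintype.card_fin i))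

/-- Two two-valued labellings with equally many of the first value differ by a permutation. -/
lemma exists_perm_of_count {α : Type*} [Fintype α] [DecidableEq F] {f h : α → F} {u v : F} (huv : u ≠ v)
    (hf : ∀ i, f i = u ∨ f i = v) (hh : ∀ i, h i = u ∨ h i = v)
    (hc : Fintype.card {i // f i = u} = Fintype.card {i // h i = u}) : ∃ π : Equiv.Perm α, ∀ i, h i = f (π i) := by
  classical
  have hfib : ∀ c, Fintype.card {i // h i = c} = Fintype.card {i // f i = c} := by
    intro c
    by_cases hu : c = u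
    · subst hu; exact hc.symm
    by_cases hv : c = v
    · subst hv
      have e : ∀ g : α → F, (∀ i, g i = u ∨ g i = c) →
          Fintype.card {i // g i = c} = Fintype.card α - Fintype.card {i // g i = u} := fun g hg => by
        rw [← Fintype.card_subtype_compl]
        exact Fintype.card_congr (Equiv.subtypeEquivRight fun i =>
          ⟨fun e he => huv (he.symm.trans e), fun e => (hg i).resolve_left e⟩)
      rw [e f hf, e h hh, hc]
    · have e : ∀ g : α → F, (∀ i, g i = u ∨ g i = v) → Fintype.card {i // g i = c} = 0 := fun g hg =>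
        Fintype.card_eq_zero_iff.mpr ⟨fun ⟨i, hi⟩ => (hg i).elim (fun e => hu (hi ▸ e)) fun e => hv (hi ▸ e)⟩
      rw [e f hf, e h hh]
  refine ⟨Equiv.ofFiberEquiv fun c => Fintype.equivOfCardEq (hfib c), fun i => ?_⟩
  exact (Equiv.ofFiberEquiv_map _ i).symm

/-- A square root of a non-square scalar has the obvious characteristic polynomial. -/
lemma charpoly_nonsquare {ι : Type} [Fintype ι] [DecidableEq ι] {M : Matrix ι ι F} {z : F} (hM : M * M = z • 1)
    (hz : ¬ IsSquare z) : M.charpoly = (X ^ 2 - C z) ^ (Fintype.card ι / 2) := by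
  classical
  set p : F[X] := X ^ 2 - C z with hp
  have hirr : Irreducible p := by
    refine (X_pow_sub_C_irreducible_iff_of_prime Nat.prime_two).mpr fun b hb => hz ⟨b, ?_⟩
    rw [← hb, pow_two]
  have hmon : p.Monic := monic_X_pow_sub_C z two_ne_zero
  have hcm : ∀ N : Matrix ι ι F, Matrix.charmatrix N = Matrix.scalar ι (X : F[X]) - N.map C := fun N => rfl
  have hprod : Matrix.charmatrix M * Matrix.charmatrix (-M) = p • (1 : Matrix ι ι F[X]) := by
    rw [hcm, hcm, show ((-M).map C : Matrix ι ι F[X]) = -(M.map C) by ext i j; simp]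
    have hMM : (M.map C : Matrix ι ι F[X]) * M.map C = C z • 1 := by
      rw [← Matrix.map_mul, hM]
      ext i j
      by_cases h : i = j <;> simp [h]
    rw [Matrix.scalar_apply, ← Matrix.smul_one_eq_diagonal]
    simp only [sub_neg_eq_add, Matrix.mul_add, Matrix.sub_mul, Matrix.smul_mul, Matrix.mul_smul, Matrix.one_mul,
      Matrix.mul_one, smul_smul, hMM, hp]
    module
  have hdet := congrArg Matrix.det hprod
  rw [Matrix.det_mul, Matrix.det_smul, Matrix.det_one, mul_one] at hdet
  obtain ⟨j, -, hj⟩ := (dvd_prime_pow hirr.prime _).mp (Dvd.intro _ hdet : M.charpoly ∣ p ^ Fintype.card ι)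
  have heq := eq_of_monic_of_associated M.charpoly_monic (hmon.pow j) hj
  have hdeg := congrArg natDegree heq
  rw [Matrix.charpoly_natDegree_eq_dim, natDegree_pow, hp, natDegree_X_pow_sub_C] at hdeg
  rw [heq, show Fintype.card ι / 2 = j by omega]

end H47
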