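import Mathlib
import Cfsg.Agent.H47.TensorSL
import Cfsg.Agent.H47.SymClasses

/-!
# Eigenvalue multiplicities of elements of prime order in tensor products
-/

set_option autoImplicit false
open scoped MatrixGroups Matrix Kronecker
open Matrix Polynomial

namespace H47

variable {F : Type*} [Field F] {E : Type*} [Field E] [Algebra F E] {r : ℕ}

/-- Diagonalisation over an extension, for any index type. -/
lemma exists_diag_any [Fintype F] [Fintype E] (hr : r.Prime) (hrE : r ∣ Fintype.card E - 1) {ι : Type} [Fintype ι]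
    [DecidableEq ι] {x : GL ι F} (hx : x ^ r = 1) :
    ∃ (P : GL ι E) (f : ι → rootsOfUnity r E),
      (x : Matrix ι ι F).map (algebraMap F E) = (P : Matrix ι ι E)
        * Matrix.diagonal (fun i => ((f i : Eˣ) : E)) * ((P⁻¹ : GL ι E) : Matrix ι ι E) := by
  let e := Fintype.equivFin ι
  obtain ⟨P, f, h⟩ := exists_diag_ext (F := F) (E := E) hr hrE (x := Cfsg.Geo.glReindex e x)
    (by rw [← map_pow, hx, map_one])
  refine ⟨(Cfsg.Geo.glReindex e).symm P, f ∘ e, ?_⟩
  ext i j
  have h' := congrFun (congrFun h (e i)) (e j)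
  simp [Cfsg.Geo.glReindex, Matrix.map_apply] at h'
  rw [Matrix.map_apply, h']
  have e1 : Matrix.diagonal (fun i => (((f ∘ e) i : Eˣ) : E)) = (Matrix.diagonal fun i => ((f i : Eˣ) : E)).submatrix e e := by
    rw [Matrix.submatrix_diagonal_equiv]; rfl
  show _ = (((P : Matrix (Fin _) (Fin _) E).submatrix e e : Matrix ι ι E) * Matrix.diagonal (fun i => (((f ∘ e) i : Eˣ) : E))
    * (((P⁻¹ : GL (Fin _) E) : Matrix (Fin _) (Fin _) E).submatrix e e : Matrix ι ι E)) i j
  rw [e1, Matrix.submatrix_mul_equiv, Matrix.submatrix_mul_equiv, Matrix.coe_units_inv]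
  rfl

lemma charpoly_conj_any {ι : Type} [Fintype ι] [DecidableEq ι] (P : GL ι E) (d : ι → E) :
    ((P : Matrix ι ι E) * Matrix.diagonal d * ((P⁻¹ : GL ι E) : Matrix ι ι E)).charpoly = ∏ i, (X - C (d i)) := by
  rw [Matrix.charpoly_mul_comm, ← Matrix.mul_assoc, Units.inv_mul, Matrix.one_mul, Matrix.charpoly_diagonal]

/-- Equal products of linear factors give equal multiplicities. -/
lemma count_eq_of_prod {α β : Type*} [Fintype α] [Fintype β] [DecidableEq (rootsOfUnity r E)]
    {f : α → rootsOfUnity r E} {g : β → rootsOfUnity r E}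
    (h : ∏ i, (X - C ((f i : Eˣ) : E)) = ∏ j, (X - C ((g j : Eˣ) : E))) (c : rootsOfUnity r E) :
    (Finset.univ.filter fun i => f i = c).card = (Finset.univ.filter fun j => g j = c).card := by
  classical
  have h1 : (∏ i, (X - C ((f i : Eˣ) : E))).roots = Finset.univ.val.map fun i => ((f i : Eˣ) : E) := by
    rw [Finset.prod_eq_multiset_prod]
    have := Polynomial.roots_multiset_prod_X_sub_C (Finset.univ.val.map fun i => ((f i : Eˣ) : E))
    rwa [Multiset.map_map] at this
  have h2 : (∏ i, (X - C ((g i : Eˣ) : E))).roots = Finset.univ.val.map fun i => ((g i : Eˣ) : E) := by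
    rw [Finset.prod_eq_multiset_prod]
    have := Polynomial.roots_multiset_prod_X_sub_C (Finset.univ.val.map fun i => ((g i : Eˣ) : E))
    rwa [Multiset.map_map] at this
  rw [h, h2] at h1
  have h3 := congrArg (Multiset.count ((c : Eˣ) : E)) h1
  rw [Multiset.count_map, Multiset.count_map] at h3
  simp only [Units.val_inj, Subtype.coe_inj] at h3
  rw [← Multiset.filter_congr (fun j _ => eq_comm (a := g j) (b := c)),
    ← Multiset.filter_congr (fun j _ => eq_comm (a := f j) (b := c))] at h3
  exact h3.symm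

variable [Fintype F] [Fintype E]

/-- The eigenvalues of an element of order dividing `r`. -/
theorem exists_eigen (hr : r.Prime) (hrE : r ∣ Fintype.card E - 1) {ι : Type} [Fintype ι] [DecidableEq ι]
    [DecidableEq (rootsOfUnity r E)] {x : GL ι F} (hx : x ^ r = 1) :
    ∃ f : ι → rootsOfUnity r E,
      (∀ e : ℕ, ((x : Matrix ι ι F) ^ e).charpoly.map (algebraMap F E) = ∏ i, (X - C (((f i ^ e : rootsOfUnity r E) : Eˣ) : E))) ∧
      ((∀ i, f i = 1) → x = 1) ∧
      ∀ {κ : Type} [Fintype κ] (L : Matrix ι κ F) (R : Matrix κ ι F), (x : Matrix ι ι F) - 1 = L * R →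
        (Finset.univ.filter fun i => f i ≠ 1).card ≤ Fintype.card κ := by
  classical
  obtain ⟨P, f, hP⟩ := exists_diag_any (E := E) hr hrE hx
  set M := (x : Matrix ι ι F) with hM
  refine ⟨f, fun e => ?_, fun h1 => ?_, fun {κ} _ L R hLR => ?_⟩
  · rw [← Matrix.charpoly_map, Matrix.map_pow, hP, Units.conj_pow, Matrix.diagonal_pow, charpoly_conj_any]
    simp
  · refine Units.ext (Matrix.map_injective (algebraMap F E).injective ?_)
    show M.map (algebraMap F E) = ((1 : GL ι F) : Matrix ι ι F).map (algebraMap F E)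
    rw [hP, Units.val_one, Matrix.map_one _ (map_zero _) (map_one _)]
    simp [h1]
  · have e : (P : Matrix ι ι E) * (Matrix.diagonal (fun i => ((f i : Eˣ) : E)) - (1 : E) • 1) * ((P⁻¹ : GL ι E) : Matrix ι ι E)
        = L.map (algebraMap F E) * R.map (algebraMap F E) := by
      rw [← Matrix.map_mul, ← hLR, Matrix.map_sub _ (map_sub _), Matrix.map_one _ (map_zero _) (map_one _), hP,
        one_smul, Matrix.mul_sub, Matrix.sub_mul, Matrix.mul_one, Units.mul_inv]
    have h2 : ((P : Matrix ι ι E) * (Matrix.diagonal (fun i => ((f i : Eˣ) : E)) - (1 : E) • 1) * ((P⁻¹ : GL ι E) : Matrix ι ι E)).rank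
        ≤ Fintype.card κ := by
      rw [e]; exact (Matrix.rank_mul_le_left _ _).trans (Matrix.rank_le_card_width _)
    rw [Matrix.rank_mul_eq_left_of_isUnit_det _ _ (Matrix.isUnits_det_units _),
      Matrix.rank_mul_eq_right_of_isUnit_det _ _ (Matrix.isUnits_det_units _), rank_diag_sub, Fintype.card_subtype] at h2
    refine le_of_eq_of_le ?_ h2
    congr 1
    ext i
    simp

/-- Orbit counting: non-trivial eigenvalues come in sets closed under powers and inversion. -/
theorem eigen_orbit_bound [hr : Fact r.Prime] (hr2 : r ≠ 2) (hrq : ¬ r ∣ Fintype.card F)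
    [DecidableEq (rootsOfUnity r E)] {α : Type*} [Fintype α] {f : α → rootsOfUnity r E}
    (hq : ∀ c, (Finset.univ.filter fun s => f s = c ^ Fintype.card F).card = (Finset.univ.filter fun s => f s = c).card)
    (hinv : ∀ c, (Finset.univ.filter fun s => f s = c⁻¹).card = (Finset.univ.filter fun s => f s = c).card)
    {c : rootsOfUnity r E} (hc : c ≠ 1) :
    (if Odd (orderOf (Fintype.card F : ZMod r)) then 2 else 1) * orderOf (Fintype.card F : ZMod r)
      * (Finset.univ.filter fun s => f s = c).card ≤ (Finset.univ.filter fun s => f s ≠ 1).card := by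
  classical
  set q := Fintype.card F
  set i := orderOf (q : ZMod r) with hi
  set N : rootsOfUnity r E → ℕ := fun c => (Finset.univ.filter fun s => f s = c).card with hN
  have hcr : orderOf c = r := orderOf_eq_prime (Subtype.ext ((mem_rootsOfUnity r _).mp c.2)) hc
  have hNq : ∀ t : ℕ, N (c ^ (q ^ t)) = N c := by
    intro t
    induction t with
    | zero => simp
    | succ t ih => rw [pow_succ, pow_mul, ← ih]; exact hq _
  have hne : ∀ t : ℕ, c ^ (q ^ t) ≠ 1 := fun t h => by
    have := orderOf_dvd_of_pow_eq_one h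
    rw [hcr] at this
    exact hrq (hr.out.dvd_of_dvd_pow this)
  have hmod : ∀ s t : ℕ, c ^ s = c ^ t → (s : ZMod r) = t := fun s t h => by
    rw [pow_eq_pow_iff_modEq, hcr] at h
    exact (ZMod.natCast_eq_natCast_iff _ _ _).mpr h
  set S := (Finset.range i).image fun t => c ^ (q ^ t) with hS
  have hScard : S.card = i := by
    rw [hS, Finset.card_image_of_injOn, Finset.card_range]
    intro s hs t ht h
    have h' := hmod _ _ h
    rw [Nat.cast_pow, Nat.cast_pow] at h'
    exact pow_injOn_Iio_orderOf (Finset.mem_range.mp hs) (Finset.mem_range.mp ht) h'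
  set S' := S.image (fun a => a⁻¹) with hS'
  set T := if Odd i then S ∪ S' else S with hT
  have hTN : ∀ a ∈ T, N a = N c ∧ a ≠ 1 := by
    have h1 : ∀ a ∈ S, N a = N c ∧ a ≠ 1 := fun a ha => by
      obtain ⟨t, -, rfl⟩ := Finset.mem_image.mp ha; exact ⟨hNq t, hne t⟩
    intro a ha
    rw [hT] at ha
    split_ifs at ha
    · rcases Finset.mem_union.mp ha with h | h
      · exact h1 a h
      · obtain ⟨b, hb, rfl⟩ := Finset.mem_image.mp h
        exact ⟨(hinv b).trans (h1 b hb).1, inv_ne_one.mpr (h1 b hb).2⟩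
    · exact h1 a ha
  have hTcard : (if Odd i then 2 else 1) * i = T.card := by
    rw [hT]
    split_ifs with ho
    · rw [Finset.card_union_of_disjoint, hS', Finset.card_image_of_injective _ inv_injective, hScard, two_mul]
      rw [Finset.disjoint_left]
      intro a ha ha'
      obtain ⟨s, -, rfl⟩ := Finset.mem_image.mp ha
      obtain ⟨b, hb, hbe⟩ := Finset.mem_image.mp ha'
      obtain ⟨t, -, rfl⟩ := Finset.mem_image.mp hb
      have h0 : c ^ (q ^ s + q ^ t) = c ^ 0 := by rw [pow_add, ← hbe, inv_mul_cancel, pow_zero]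
      have h' := hmod _ _ h0
      rw [Nat.cast_add, Nat.cast_pow, Nat.cast_pow, Nat.cast_zero] at h'
      have h2 : ((q : ZMod r) ^ s) ^ i = ((-1 : ZMod r) * (q : ZMod r) ^ t) ^ i := by
        rw [eq_neg_of_add_eq_zero_left h', neg_one_mul]
      rw [mul_pow, ← pow_mul, ← pow_mul, mul_comm s, mul_comm t, pow_mul, pow_mul, hi, pow_orderOf_eq_one, one_pow,
        one_pow, ← hi, ho.neg_one_pow, mul_one] at h2
      have h3 : ((2 : ℕ) : ZMod r) = 0 := by push_cast; linear_combination h2
      exact hr2 ((Nat.prime_dvd_prime_iff_eq hr.out Nat.prime_two).mp ((ZMod.natCast_eq_zero_iff 2 r).mp h3))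
    · rw [one_mul, hScard]
  rw [hTcard]
  calc T.card * N c = ∑ a ∈ T, N a := by rw [Finset.sum_congr rfl fun a ha => (hTN a ha).1, Finset.sum_const, smul_eq_mul]
    _ = (Finset.univ.filter fun s => f s ∈ T).card := by
      rw [Finset.card_eq_sum_card_fiberwise (f := f) (s := Finset.univ.filter fun s => f s ∈ T) (t := T)
        (fun s hs => by simpa using hs)]
      refine Finset.sum_congr rfl fun a ha => ?_
      rw [Finset.filter_filter]
      refine congrArg Finset.card ?_
      ext s
      simp only [Finset.mem_filter, Finset.mem_univ, true_and]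
      exact ⟨fun h => ⟨h ▸ ha, h⟩, fun h => h.2⟩
    _ ≤ _ := Finset.card_le_card fun s hs => by
      simp only [Finset.mem_filter, Finset.mem_univ, true_and] at hs ⊢
      exact (hTN _ hs).2

end H47
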