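import Mathlib
import Cfsg.Prelude.Def_ClassicalGeometry
import Cfsg.Agent.H47.TensorEigen
import Cfsg.Agent.H49.Adjoint
import Cfsg.Agent.H49.SpElements
import Cfsg.Agent.H49.SpBlock
import Cfsg.Agent.H45.AltIso
import Cfsg.Agent.H40.SemisimpleClasses
import Cfsg.Agent.H51.NormSurj

/-!
# Symplectic test elements and normal forms for tensor decompositions
-/

set_option autoImplicit false
open scoped MatrixGroups Matrix Kronecker
open Matrix Polynomial
open H49 (adjS)
open H48 (sf)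

namespace H47

variable {F : Type*} [Field F]

/-- Factors of a tensor product of order dividing `r` may be taken of order dividing `r`. -/
theorem tensor_normalize [Fintype F] {a b r : ℕ} [hr : Fact r.Prime] (hr1 : ¬ r ∣ Fintype.card F - 1) (ha : 0 < a)
    (hb : 0 < b) {k : GL (Fin a × Fin b) F} {A : GL (Fin a) F} {B : GL (Fin b) F}
    (hk : (k : Matrix (Fin a × Fin b) (Fin a × Fin b) F) = (A : Matrix (Fin a) (Fin a) F) ⊗ₖ (B : Matrix (Fin b) (Fin b) F))
    (hkr : k ^ r = 1) :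
    ∃ (A' : GL (Fin a) F) (B' : GL (Fin b) F), A' ^ r = 1 ∧ B' ^ r = 1 ∧
      (k : Matrix (Fin a × Fin b) (Fin a × Fin b) F) = (A' : Matrix (Fin a) (Fin a) F) ⊗ₖ (B' : Matrix (Fin b) (Fin b) F) := by
  classical
  haveI : Nonempty (Fin a) := ⟨⟨0, ha⟩⟩
  haveI : Nonempty (Fin b) := ⟨⟨0, hb⟩⟩
  have hpw : ∀ (X : Matrix (Fin a) (Fin a) F) (Y : Matrix (Fin b) (Fin b) F) (n : ℕ),
      (X ⊗ₖ Y) ^ n = (X ^ n) ⊗ₖ (Y ^ n) := by
    intro X Y n
    induction n with
    | zero => simp
    | succ n ih => rw [pow_succ, ih, ← Matrix.mul_kronecker_mul, pow_succ, pow_succ]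
  have hk1 : ((A : Matrix (Fin a) (Fin a) F) ^ r) ⊗ₖ ((B : Matrix (Fin b) (Fin b) F) ^ r) = 1 := by
    rw [← hpw, ← hk, ← Units.val_pow_eq_pow_val, hkr, Units.val_one]
  obtain ⟨α, hα⟩ := left_scalar_of_rank_lt (A := (A : Matrix (Fin a) (Fin a) F) ^ r) (B := (B : Matrix (Fin b) (Fin b) F) ^ r)
    (by rw [Matrix.det_pow]; exact pow_ne_zero _ (Matrix.isUnits_det_units B).ne_zero) (c := 1)
    (by rw [hk1, one_smul, sub_self, Matrix.rank_zero]; omega)
  have hα0 : α ≠ 0 := fun h0 => by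
    have hd := congrArg Matrix.det hα
    rw [h0, zero_smul, Matrix.det_pow, Matrix.det_zero] at hd
    exact pow_ne_zero _ (Matrix.isUnits_det_units A).ne_zero hd
  have hcop : Nat.Coprime (Nat.card Fˣ) r := by
    rw [Nat.card_units, Nat.card_eq_fintype_card]; exact ((hr.out.coprime_iff_not_dvd).mpr hr1).symm
  obtain ⟨β, hβ⟩ := (powCoprime hcop).surjective (Units.mk0 α hα0)
  have hβ' : (β : F) ^ r = α := by simpa using congrArg Units.val hβ
  obtain ⟨K, hK⟩ := scalar_gl_exists (ι := Fin a) ((β⁻¹ : Fˣ) : F) (Units.ne_zero _)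
  obtain ⟨L, hL⟩ := scalar_gl_exists (ι := Fin b) (β : F) (Units.ne_zero _)
  have hAr : (K * A) ^ r = 1 := Units.ext (by
    rw [(show Commute K A from scalar_comm hK A).mul_pow, Units.val_mul, Units.val_pow_eq_pow_val,
      Units.val_pow_eq_pow_val, hK, _root_.smul_pow, one_pow, hα, Matrix.smul_mul, Matrix.one_mul, smul_smul, ← hβ', ← mul_pow,
      Units.inv_mul, one_pow, one_smul, Units.val_one])
  have hk' : (k : Matrix (Fin a × Fin b) (Fin a × Fin b) F)
      = ((K * A : GL (Fin a) F) : Matrix (Fin a) (Fin a) F) ⊗ₖ ((L * B : GL (Fin b) F) : Matrix (Fin b) (Fin b) F) := by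
    rw [hk, Units.val_mul, Units.val_mul, hK, hL, Matrix.smul_mul, Matrix.one_mul, Matrix.smul_mul, Matrix.one_mul,
      Matrix.smul_kronecker, Matrix.kronecker_smul, smul_smul, Units.inv_mul, one_smul]
  refine ⟨K * A, L * B, hAr, Units.ext ?_, hk'⟩
  have h1 : ((k ^ r : GL (Fin a × Fin b) F) : Matrix (Fin a × Fin b) (Fin a × Fin b) F) = 1 := by rw [hkr, Units.val_one]
  rw [Units.val_pow_eq_pow_val, hk', hpw, ← Units.val_pow_eq_pow_val, hAr, Units.val_one, ← Units.val_pow_eq_pow_val] at h1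
  ext j l
  have := congrFun (congrFun h1 (Classical.arbitrary (Fin a), j)) (Classical.arbitrary (Fin a), l)
  simpa [Matrix.one_apply] using this

/-- The characteristic polynomial of a transported matrix. -/
lemma tensHom_charpoly {a b : ℕ} {ι : Type} [Fintype ι] [DecidableEq ι] (e : ι ≃ Fin a × Fin b) (P : GL ι F)
    (k : GL (Fin a × Fin b) F) :
    (tensHom e P k : Matrix ι ι F).charpoly = (k : Matrix (Fin a × Fin b) (Fin a × Fin b) F).charpoly := by
  rw [tensHom_val, Matrix.coe_units_inv, Matrix.charpoly_units_conj]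
  exact Matrix.charpoly_reindex e.symm _

/-- A small element with simple non-trivial eigenvalues has no fixed point. -/
theorem tensor_der_eigen [Fintype F] {a b r : ℕ} [hr : Fact r.Prime] (hr2 : r ≠ 2) (hrq : ¬ r ∣ Fintype.card F)
    (hr1 : ¬ r ∣ Fintype.card F - 1) (ha : 2 ≤ a) (haeven : Even a) (hb : 3 ≤ b)
    {ι : Type} [Fintype ι] [DecidableEq ι] (e : ι ≃ Fin a × Fin b) (P : GL ι F) {x g : GL ι F} (hxr : x ^ r = 1)
    (hx1 : x ≠ 1) (hinv : ((x : Matrix ι ι F) ^ (r - 1)).charpoly = (x : Matrix ι ι F).charpoly)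
    {κ : Type} [Fintype κ] (L : Matrix ι κ F) (R : Matrix κ ι F) (hLR : (x : Matrix ι ι F) - 1 = L * R)
    (hκ : Fintype.card κ ≤ (if Odd (orderOf (Fintype.card F : ZMod r)) then 2 else 1) * orderOf (Fintype.card F : ZMod r))
    (h : g⁻¹ * x * g ∈ Cfsg.Geo.tensorProductSubgroup a b e P) : False := by
  classical
  set q := Fintype.card F with hqdef
  set i := orderOf (q : ZMod r) with hi
  rw [tens_eq_map] at h
  obtain ⟨k, ⟨A₀, B₀, hk₀⟩, hkx⟩ := Subgroup.mem_map.mp h
  have hkr : k ^ r = 1 := tensHom_injective e P (by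
    have hh := conj_pow (a := g⁻¹) (b := x) (i := r)
    rw [inv_inv] at hh
    rw [map_pow, hkx, map_one, hh, hxr, mul_one, inv_mul_cancel])
  obtain ⟨A, B, hA, hB, hk⟩ := tensor_normalize hr1 (by omega) (by omega) hk₀ hkr
  have hq0 : (q : ZMod r) ≠ 0 := fun h0 => hrq ((ZMod.natCast_eq_zero_iff _ r).mp h0)
  have hi2 : 2 ≤ i := by
    have hpos : 0 < i := orderOf_pos_iff.mpr (isOfFinOrder_iff_pow_eq_one.mpr ⟨r - 1, by
      have := hr.out.two_le; omega, ZMod.pow_card_sub_one_eq_one hq0⟩)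
    refine Nat.lt_of_le_of_ne hpos fun h1 => hr1 ?_
    have hq1 : (q : ZMod r) = 1 := orderOf_eq_one_iff.mp h1.symm
    rw [← ZMod.natCast_eq_zero_iff, Nat.cast_sub Fintype.card_pos, hq1, Nat.cast_one, sub_self]
  obtain ⟨E, _, _, _, -, hEc⟩ := exists_extension (F := F) i (by omega)
  haveI : Fintype E := Fintype.ofFinite E
  rw [Nat.card_eq_fintype_card] at hEc
  have hE : r ∣ Fintype.card E - 1 := by
    rw [hEc, ← ZMod.natCast_eq_zero_iff, Nat.cast_sub (Nat.one_le_pow _ _ Fintype.card_pos), Nat.cast_pow,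
      show (q : ZMod r) ^ i = 1 from pow_orderOf_eq_one _]
    simp
  obtain ⟨f, hf, hf1, hfw⟩ := exists_eigen (E := E) hr.out hE hxr
  obtain ⟨PA, α, hPA⟩ := exists_diag_any (E := E) hr.out hE hA
  obtain ⟨PB, β, hPB⟩ := exists_diag_any (E := E) hr.out hE hB
  set pr : Fin a × Fin b → rootsOfUnity r E := fun p => α p.1 * β p.2 with hpr
  have hkc : ((k : Matrix (Fin a × Fin b) (Fin a × Fin b) F).charpoly).map (algebraMap F E)
      = ∏ p, (X - C ((pr p : Eˣ) : E)) := by
    let Pk : GL (Fin a × Fin b) E := Matrix.GeneralLinearGroup.mkOfDetNeZero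
      ((PA : Matrix (Fin a) (Fin a) E) ⊗ₖ (PB : Matrix (Fin b) (Fin b) E)) (by
        rw [Matrix.det_kronecker]
        exact mul_ne_zero (pow_ne_zero _ (Matrix.isUnits_det_units PA).ne_zero) (pow_ne_zero _ (Matrix.isUnits_det_units PB).ne_zero))
    have hkm : (k : Matrix (Fin a × Fin b) (Fin a × Fin b) F).map (algebraMap F E)
        = (Pk : Matrix (Fin a × Fin b) (Fin a × Fin b) E) * Matrix.diagonal (fun p => ((pr p : Eˣ) : E))
          * ((Pk⁻¹ : GL (Fin a × Fin b) E) : Matrix (Fin a × Fin b) (Fin a × Fin b) E) := by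
      have e1 : ((A : Matrix (Fin a) (Fin a) F) ⊗ₖ (B : Matrix (Fin b) (Fin b) F)).map (algebraMap F E)
          = ((A : Matrix (Fin a) (Fin a) F).map (algebraMap F E)) ⊗ₖ ((B : Matrix (Fin b) (Fin b) F).map (algebraMap F E)) := by
        ext i j; simp
      have e2 : ((Pk⁻¹ : GL (Fin a × Fin b) E) : Matrix (Fin a × Fin b) (Fin a × Fin b) E)
          = ((PA⁻¹ : GL (Fin a) E) : Matrix (Fin a) (Fin a) E) ⊗ₖ ((PB⁻¹ : GL (Fin b) E) : Matrix (Fin b) (Fin b) E) := by
        refine left_inv_eq_right_inv (a := (Pk : Matrix (Fin a × Fin b) (Fin a × Fin b) E)) (Units.inv_mul Pk) ?_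
        show ((PA : Matrix (Fin a) (Fin a) E) ⊗ₖ (PB : Matrix (Fin b) (Fin b) E)) * _ = 1
        rw [← Matrix.mul_kronecker_mul, Units.mul_inv, Units.mul_inv, Matrix.one_kronecker_one]
      rw [hk, e1, hPA, hPB, Matrix.mul_kronecker_mul, Matrix.mul_kronecker_mul, Matrix.diagonal_kronecker_diagonal, e2]
      rfl
    rw [← Matrix.charpoly_map, hkm, charpoly_conj_any]
  have hxc : (x : Matrix ι ι F).charpoly = (k : Matrix (Fin a × Fin b) (Fin a × Fin b) F).charpoly := by
    rw [← tensHom_charpoly e P, hkx, Units.val_mul, Units.val_mul, Matrix.coe_units_inv g]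
    exact (Matrix.charpoly_units_conj' g _).symm
  have hcnt : ∀ c, (Finset.univ.filter fun s => f s = c).card = (Finset.univ.filter fun p => pr p = c).card := by
    refine count_eq_of_prod ?_
    have := hf 1
    rw [pow_one, hxc, hkc] at this
    simpa using this.symm
  have hinj : ∀ e : ℕ, Nat.Coprime r e → ∀ u v : rootsOfUnity r E, u ^ e = v ^ e → u = v := by
    intro e he u v h
    have hr1' : ∀ w : rootsOfUnity r E, w ^ r = 1 := fun w => Subtype.ext ((mem_rootsOfUnity r _).mp w.2)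
    have h1 : (u * v⁻¹) ^ e = 1 := by rw [mul_pow, inv_pow, h, mul_inv_cancel]
    exact mul_inv_eq_one.mp (orderOf_eq_one_iff.mp (Nat.eq_one_of_dvd_coprimes he
      (orderOf_dvd_of_pow_eq_one (hr1' _)) (orderOf_dvd_of_pow_eq_one h1)))
  have hstab : ∀ e : ℕ, Nat.Coprime r e → ((x : Matrix ι ι F) ^ e).charpoly = (x : Matrix ι ι F).charpoly →
      ∀ c, (Finset.univ.filter fun s => f s = c ^ e).card = (Finset.univ.filter fun s => f s = c).card := by
    intro e he hce c
    have h1 := hf e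
    rw [hce, show (x : Matrix ι ι F).charpoly = ((x : Matrix ι ι F) ^ 1).charpoly by rw [pow_one], hf 1] at h1
    have h2 := count_eq_of_prod (f := fun s => f s) (g := fun s => f s ^ e) (by simpa using h1) (c ^ e)
    rw [h2]
    refine congrArg Finset.card ?_
    ext s
    simp only [Finset.mem_filter, Finset.mem_univ, true_and]
    exact ⟨hinj e he _ _, fun h => by rw [h]⟩
  have hinvc : ∀ c, (Finset.univ.filter fun s => f s = c⁻¹).card = (Finset.univ.filter fun s => f s = c).card := by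
    intro c
    have hcinv : c⁻¹ = c ^ (r - 1) := by
      refine inv_eq_of_mul_eq_one_right ?_
      rw [← pow_succ', Nat.sub_add_cancel hr.out.one_lt.le]
      exact Subtype.ext ((mem_rootsOfUnity r _).mp c.2)
    rw [hcinv]
    exact hstab _ ((hr.out.coprime_iff_not_dvd).mpr fun hd => by
      have := Nat.le_of_dvd (by have := hr.out.two_le; omega) hd; have := hr.out.two_le; omega) hinv c
  have hqc := hstab q ((hr.out.coprime_iff_not_dvd).mpr hrq) (FiniteField.Matrix.charpoly_pow_card _)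
  have hbound : ∀ {c : rootsOfUnity r E}, c ≠ 1 →
      (if Odd i then 2 else 1) * i * (Finset.univ.filter fun s => f s = c).card ≤ (Finset.univ.filter fun s => f s ≠ 1).card :=
    fun hc => eigen_orbit_bound (E := E) hr2 hrq (f := f) hqc hinvc hc
  have hw := hfw L R hLR
  set δ := (if Odd i then 2 else 1) * i with hδ
  have hδ0 : 0 < δ := by rw [hδ]; split_ifs <;> omega
  have hN1 : ∀ c : rootsOfUnity r E, c ≠ 1 → (Finset.univ.filter fun p => pr p = c).card ≤ 1 := by
    intro c hc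
    rw [← hcnt]
    by_contra hgt
    push Not at hgt
    have := (hbound hc).trans (hw.trans hκ)
    have := Nat.mul_le_mul_left δ hgt
    omega
  obtain ⟨p0, hp0⟩ : ∃ p, pr p ≠ 1 := by
    by_contra hall
    push Not at hall
    apply hx1
    refine hf1 fun s => ?_
    by_contra hs
    have h0 : 0 < (Finset.univ.filter fun t => f t = f s).card := Finset.card_pos.mpr ⟨s, by simp⟩
    rw [hcnt] at h0
    obtain ⟨p, hp⟩ := Finset.card_pos.mp h0
    exact hs ((Finset.mem_filter.mp hp).2.symm.trans (hall p))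
  -- both families of eigenvalues are injective
  have hα : Function.Injective α := by
    intro u u' huu
    by_contra hne
    have hconst : ∀ v, β v = (α u)⁻¹ := fun v => by
      by_contra hv
      have hc : α u * β v ≠ 1 := fun e => hv (eq_inv_of_mul_eq_one_right e)
      have := hN1 _ hc
      rw [Finset.card_le_one] at this
      exact hne (congrArg Prod.fst (this (u, v) (by simp [hpr]) (u', v) (by simp [hpr, huu])))
    have := hN1 _ hp0
    rw [Finset.card_le_one] at this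
    have h1 := this (p0.1, (⟨0, by omega⟩ : Fin b)) (by simp [hpr, hconst]) (p0.1, (⟨1, by omega⟩ : Fin b))
      (by simp [hpr, hconst])
    simp at h1
  have hβ : Function.Injective β := by
    intro v v' hvv
    by_contra hne
    have hconst : ∀ u, α u = (β v)⁻¹ := fun u => by
      by_contra hu
      have hc : α u * β v ≠ 1 := fun e => hu (eq_inv_of_mul_eq_one_left e)
      have := hN1 _ hc
      rw [Finset.card_le_one] at this
      exact hne (congrArg Prod.snd (this (u, v) (by simp [hpr]) (u, v') (by simp [hpr, hvv])))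
    have := hN1 _ hp0
    rw [Finset.card_le_one] at this
    have h1 := this ((⟨0, by omega⟩ : Fin a), p0.2) (by simp [hpr, hconst]) ((⟨1, by omega⟩ : Fin a), p0.2)
      (by simp [hpr, hconst])
    simp at h1
  have hne1 : ∀ {m : ℕ} (M : GL (Fin m) F) (γ : Fin m → rootsOfUnity r E) (Q : GL (Fin m) E), 2 ≤ m →
      Function.Injective γ →
      (M : Matrix (Fin m) (Fin m) F).map (algebraMap F E) = (Q : Matrix (Fin m) (Fin m) E)
        * Matrix.diagonal (fun i => ((γ i : Eˣ) : E)) * ((Q⁻¹ : GL (Fin m) E) : Matrix (Fin m) (Fin m) E) → M ≠ 1 := by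
    intro m M γ Q hm hγ hQ hM
    rw [hM, Units.val_one, Matrix.map_one _ (map_zero _) (map_one _)] at hQ
    have hd : Matrix.diagonal (fun i => ((γ i : Eˣ) : E)) = 1 := by
      calc _ = ((Q⁻¹ : GL (Fin m) E) : Matrix (Fin m) (Fin m) E) * ((Q : Matrix (Fin m) (Fin m) E)
              * Matrix.diagonal (fun i => ((γ i : Eˣ) : E)) * ((Q⁻¹ : GL (Fin m) E) : Matrix (Fin m) (Fin m) E))
              * (Q : Matrix (Fin m) (Fin m) E) := by
            simp only [← Matrix.mul_assoc, Units.inv_mul, Matrix.one_mul]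
            rw [Matrix.mul_assoc, Units.inv_mul, Matrix.mul_one]
        _ = 1 := by rw [← hQ, Matrix.mul_one, Units.inv_mul]
    have hall : ∀ j, γ j = 1 := fun j => Subtype.ext (Units.ext (by simpa using congrFun (congrFun hd j) j))
    have := hγ ((hall ⟨0, by omega⟩).trans (hall ⟨1, by omega⟩).symm)
    simp at this
  have hia : i ≤ a := (rank_sub_one_ge hrq hA (hne1 A α PA ha hα hPA)).trans
    ((Matrix.rank_le_card_width _).trans_eq (Fintype.card_fin a))
  have hib : i ≤ b := (rank_sub_one_ge hrq hB (hne1 B β PB (by omega) hβ hPB)).trans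
    ((Matrix.rank_le_card_width _).trans_eq (Fintype.card_fin b))
  have hla : (Finset.univ.filter fun p => pr p = 1).card ≤ a := by
    refine (Finset.card_le_card_of_injOn Prod.fst (fun _ _ => Finset.mem_univ _) ?_).trans_eq (by simp)
    intro p hp p' hp' h
    simp only [Finset.coe_filter, Finset.mem_univ, true_and, Set.mem_setOf_eq, hpr] at hp hp'
    rw [← h] at hp'
    exact Prod.ext h (hβ (mul_left_cancel (hp.trans hp'.symm)))
  have hlb : (Finset.univ.filter fun p => pr p = 1).card ≤ b := by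
    refine (Finset.card_le_card_of_injOn Prod.snd (fun _ _ => Finset.mem_univ _) ?_).trans_eq (by simp)
    intro p hp p' hp' h
    simp only [Finset.coe_filter, Finset.mem_univ, true_and, Set.mem_setOf_eq, hpr] at hp hp'
    rw [← h] at hp'
    exact Prod.ext (hα (mul_right_cancel (hp.trans hp'.symm))) h
  have hcard : Fintype.card ι = a * b := by rw [Fintype.card_congr e]; simp
  have hsum := Finset.card_filter_add_card_filter_not (s := (Finset.univ : Finset ι)) (fun s => f s = 1)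
  rw [Finset.card_univ, hcard, hcnt 1] at hsum
  have hnt : (Finset.univ.filter fun s => ¬ f s = 1).card ≤ δ := hw.trans hκ
  obtain ⟨a', ha'⟩ := haeven
  rw [hδ] at hnt
  split_ifs at hnt with hodd
  · obtain ⟨j, hj⟩ := hodd
    rcases Nat.lt_or_ge 3 b with hb4 | hb3
    · have := Nat.mul_le_mul_left a hb4; omega
    · obtain rfl : b = 3 := by omega
      omega
  · have := Nat.mul_le_mul_left a hb; omega

/-- Inversion does not change the characteristic polynomial in a symplectic group. -/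
lemma adjS_charpoly {l : Type} [Fintype l] [DecidableEq l] (M : Matrix (l ⊕ l) (l ⊕ l) F) :
    (adjS M).charpoly = M.charpoly := by
  let u : (Matrix (l ⊕ l) (l ⊕ l) F)ˣ := ⟨-Matrix.J l F, Matrix.J l F,
    by rw [Matrix.neg_mul, Matrix.J_squared, neg_neg], by rw [Matrix.mul_neg, Matrix.J_squared, neg_neg]⟩
  have : adjS M = (u : Matrix (l ⊕ l) (l ⊕ l) F) * Mᵀ * ((u⁻¹ : (Matrix (l ⊕ l) (l ⊕ l) F)ˣ) : Matrix (l ⊕ l) (l ⊕ l) F) := rfl
  rw [this, Matrix.coe_units_inv, Matrix.charpoly_units_conj, Matrix.charpoly_transpose]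

variable {d : ℕ}

local notation "SD" => (Fin d ⊕ Fin d)
local notation "MD" => Matrix (Fin d ⊕ Fin d) (Fin d ⊕ Fin d) F

lemma spd_adj {g : GL SD F} : g ∈ Cfsg.spGL d F ↔ adjS (g : MD) * g = 1 :=
  (Iff.symm H48.mem_symplectic_iff).trans H49.mem_sp_iff_adjS

lemma spd_det {g : GL SD F} (hg : g ∈ Cfsg.spGL d F) : (g : MD).det = 1 :=
  SymplecticGroup.det_eq_one ((Iff.symm H48.mem_symplectic_iff).mp hg)

lemma spd_inv {g : GL SD F} (hg : g ∈ Cfsg.spGL d F) : adjS (g : MD) = ((g⁻¹ : GL SD F) : MD) := by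
  calc adjS (g : MD) = adjS (g : MD) * ((g : MD) * ((g⁻¹ : GL SD F) : MD)) := by rw [Units.mul_inv, Matrix.mul_one]
    _ = _ := by rw [← Matrix.mul_assoc, spd_adj.mp hg, Matrix.one_mul]

lemma spd_charpoly_inv {g : GL SD F} (hg : g ∈ Cfsg.spGL d F) {r : ℕ} (hr : 0 < r) (hgr : g ^ r = 1) :
    ((g : MD) ^ (r - 1)).charpoly = (g : MD).charpoly := by
  have : g ^ (r - 1) = g⁻¹ := eq_inv_of_mul_eq_one_left (by rw [← pow_succ, Nat.sub_add_cancel hr, hgr])
  rw [← Units.val_pow_eq_pow_val, this, ← spd_inv hg, adjS_charpoly]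

/-- A diagonal symplectic element. -/
theorem exists_sp_diag {h : SD → F} (hh : ∀ i, h (Sum.inl i) * h (Sum.inr i) = 1) :
    ∃ x ∈ Cfsg.spGL d F, (x : MD) = Matrix.diagonal h := by
  have hne : ∀ i, h i ≠ 0 := by
    rintro (i | i) h0 <;> simpa [h0] using hh i
  refine ⟨Matrix.GeneralLinearGroup.mkOfDetNeZero (Matrix.diagonal h)
    (by rw [Matrix.det_diagonal]; exact Finset.prod_ne_zero_iff.mpr fun i _ => hne i),
    fun u v => ?_, rfl⟩
  show Cfsg.sympForm d F (Matrix.diagonal h *ᵥ u) (Matrix.diagonal h *ᵥ v) = Cfsg.sympForm d F u v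
  rw [H48.sympForm_eq_sf, H48.sympForm_eq_sf, H48.sf_apply, H48.sf_apply]
  refine Finset.sum_congr rfl fun i _ => ?_
  simp only [Matrix.mulVec_diagonal]
  linear_combination (u (Sum.inr i) * v (Sum.inl i) - u (Sum.inl i) * v (Sum.inr i)) * hh i

/-- A symplectic transvection in any dimension. -/
theorem exists_spd_transvection {p : ℕ} [hp : Fact p.Prime] [CharP F p] (hd : 0 < d) :
    ∃ x ∈ Cfsg.spGL d F, ∃ u v : SD → F, (x : MD) = 1 + Matrix.vecMulVec u v ∧ x ^ p = 1 ∧
      ∀ a : F, (x : MD) ≠ a • 1 := by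
  classical
  set o : Fin d := ⟨0, hd⟩
  set u : SD → F := Pi.single (Sum.inl o) 1 with hu
  set v : SD → F := Matrix.J (Fin d) F *ᵥ u with hv
  have hmem := H48.transMat_mem (F := F) u 1
  have hd' : (H48.transMat u (1 : F)).det ≠ 0 := by rw [SymplecticGroup.det_eq_one hmem]; exact one_ne_zero
  let x : GL SD F := Matrix.GeneralLinearGroup.mkOfDetNeZero _ hd'
  have hval : (x : MD) = 1 + Matrix.vecMulVec u v := by
    show H48.transMat u (1 : F) = _
    rw [H48.transMat, one_smul]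
  have hN2 : (Matrix.vecMulVec u v) ^ 2 = 0 := by
    rw [pow_two, Matrix.vecMulVec_mul_vecMulVec, show v ⬝ᵥ u = 0 by rw [dotProduct_comm]; exact H48.sf_self u,
      zero_smul, Matrix.vecMulVec_zero]
  refine ⟨x, H48.mem_symplectic_iff.mp hmem, u, v, hval, Units.ext ?_, fun a ha => ?_⟩
  · haveI : Nonempty SD := ⟨Sum.inl o⟩
    haveI : CharP MD p := Matrix.charP p
    rw [Units.val_pow_eq_pow_val, Units.val_one, hval, add_pow_char_of_commute p (Commute.one_left _), one_pow,
      pow_eq_zero_of_le hp.out.two_le hN2, add_zero]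
  · have := congrFun (congrFun (hval.symm.trans ha) (Sum.inl o)) (Sum.inr o)
    simp [hu, hv, Matrix.vecMulVec_apply, Matrix.J, Matrix.fromBlocks_apply₂₁] at this

/-- A symplectic element of order `r` moving as little as possible. -/
theorem exists_sp_block_element [Fintype F] {r : ℕ} [hr : Fact r.Prime] (hr2 : r ≠ 2) (hrq : ¬ r ∣ Fintype.card F)
    {d₀ : ℕ} (hd₀ : 2 * d₀ = (if Odd (orderOf (Fintype.card F : ZMod r)) then 2 else 1) * orderOf (Fintype.card F : ZMod r))
    (hle : d₀ ≤ d) :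
    ∃ x ∈ Cfsg.spGL d F, x ^ r = 1 ∧ x ≠ 1 ∧
      ∃ (L : Matrix SD (Fin d₀ ⊕ Fin d₀) F) (R : Matrix (Fin d₀ ⊕ Fin d₀) SD F), (x : MD) - 1 = L * R := by
  classical
  set q := Fintype.card F
  set i := orderOf (q : ZMod r) with hi
  have hq0 : (q : ZMod r) ≠ 0 := fun h0 => hrq ((ZMod.natCast_eq_zero_iff _ r).mp h0)
  have hipos : 0 < i := orderOf_pos_iff.mpr (isOfFinOrder_iff_pow_eq_one.mpr ⟨r - 1, by
    have := hr.out.two_le; omega, ZMod.pow_card_sub_one_eq_one hq0⟩)
  have hd0 : 0 < d₀ := by rcases Nat.eq_zero_or_pos d₀ with rfl | h; · split_ifs at hd₀ <;> omega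
                          · exact h
  have hdvd : r ∣ Nat.card F ^ d₀ - 1 ∨ r ∣ Nat.card F ^ d₀ + 1 := by
    rw [Nat.card_eq_fintype_card]
    split_ifs at hd₀ with ho
    · left
      obtain rfl : d₀ = i := by omega
      rw [← ZMod.natCast_eq_zero_iff, Nat.cast_sub (Nat.one_le_pow _ _ Fintype.card_pos), Nat.cast_pow,
        show (q : ZMod r) ^ i = 1 from pow_orderOf_eq_one _]
      simp
    · right
      rw [← ZMod.natCast_eq_zero_iff, Nat.cast_add, Nat.cast_pow, Nat.cast_one]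
      have h2 : ((q : ZMod r) ^ d₀) * ((q : ZMod r) ^ d₀) = 1 := by
        rw [← pow_add, show d₀ + d₀ = i by omega, hi, pow_orderOf_eq_one]
      rcases mul_self_eq_one_iff.mp h2 with h | h
      · have := Nat.le_of_dvd hd0 (hi ▸ orderOf_dvd_of_pow_eq_one h); omega
      · rw [h, neg_add_cancel]
  obtain ⟨g, hg⟩ := H49.exists_orderOf_sp (F := F) hd0 hdvd
  let e : Fin d ≃ Fin d₀ ⊕ Fin (d - d₀) := (finCongr (by omega)).trans finSumFinEquiv.symm
  set y := H49.spBlock (F := F) e (g, 1) with hy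
  have hyr : orderOf y = r := by
    rw [hy, orderOf_injective _ (H49.spBlock_injective e), Prod.orderOf_mk, orderOf_one, Nat.lcm_one_right, hg]
  let x : GL SD F := ⟨(y : MD), ((y⁻¹ : Matrix.symplecticGroup (Fin d) F) : MD),
    by rw [← Submonoid.coe_mul, mul_inv_cancel]; rfl, by rw [← Submonoid.coe_mul, inv_mul_cancel]; rfl⟩
  refine ⟨x, H48.mem_symplectic_iff.mp y.2, Units.ext ?_, fun h => ?_, ?_⟩
  · rw [Units.val_pow_eq_pow_val, Units.val_one]
    show (y : MD) ^ r = 1
    rw [← SubmonoidClass.coe_pow, ← hyr, pow_orderOf_eq_one]; rfl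
  · have hy1 : y = 1 := Subtype.ext (congrArg Units.val h)
    rw [hy1, orderOf_one] at hyr
    exact hr.out.one_lt.ne hyr
  · let Φ := H49.blockEquiv (F := F) e
    refine ⟨LinearMap.toMatrix' (Φ.toLinearMap ∘ₗ LinearMap.inl F _ _),
      LinearMap.toMatrix' ((Matrix.toLin' ((g : Matrix (Fin d₀ ⊕ Fin d₀) (Fin d₀ ⊕ Fin d₀) F) - 1)) ∘ₗ
        LinearMap.fst F _ _ ∘ₗ Φ.symm.toLinearMap), ?_⟩
    rw [← LinearMap.toMatrix'_comp]
    refine Matrix.ext_iff_mulVec.2 fun v => ?_
    rw [LinearMap.toMatrix'_mulVec]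
    show ((y : MD) - 1) *ᵥ v = _
    rw [Matrix.sub_mulVec, Matrix.one_mulVec]
    conv_lhs => rw [← Φ.apply_symm_apply v]
    rw [show (y : MD) *ᵥ Φ (Φ.symm v) = Φ (g • (Φ.symm v).1, (1 : Matrix.symplecticGroup (Fin (d - d₀)) F) • (Φ.symm v).2)
      from H49.spBlock_smul e (g, 1) (Φ.symm v), ← map_sub]
    show Φ _ = Φ _
    congr 1
    refine Prod.ext ?_ ?_
    · show g • (Φ.symm v).1 - (Φ.symm v).1 = ((g : Matrix (Fin d₀ ⊕ Fin d₀) (Fin d₀ ⊕ Fin d₀) F) - 1) *ᵥ (Φ.symm v).1
      rw [Matrix.sub_mulVec, Matrix.one_mulVec]; rfl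
    · show (1 : Matrix.symplecticGroup (Fin (d - d₀)) F) • (Φ.symm v).2 - (Φ.symm v).2 = 0
      rw [one_smul, sub_self]

/-- The moved dimension of any element of order `r` bounds the order of `q`. -/
theorem sp_order_bound [Fintype F] {r : ℕ} [hr : Fact r.Prime] (hr2 : r ≠ 2) (hrq : ¬ r ∣ Fintype.card F)
    {x : GL SD F} (hx : x ∈ Cfsg.spGL d F) (hxr : x ^ r = 1) (hx1 : x ≠ 1) :
    (if Odd (orderOf (Fintype.card F : ZMod r)) then 2 else 1) * orderOf (Fintype.card F : ZMod r) ≤ 2 * d := by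
  classical
  set q := Fintype.card F with hqdef
  set i := orderOf (q : ZMod r) with hi
  have hq0 : (q : ZMod r) ≠ 0 := fun h0 => hrq ((ZMod.natCast_eq_zero_iff _ r).mp h0)
  have hipos : 0 < i := orderOf_pos_iff.mpr (isOfFinOrder_iff_pow_eq_one.mpr ⟨r - 1, by
    have := hr.out.two_le; omega, ZMod.pow_card_sub_one_eq_one hq0⟩)
  obtain ⟨E, _, _, _, -, hEc⟩ := exists_extension (F := F) i hipos
  haveI : Fintype E := Fintype.ofFinite E
  rw [Nat.card_eq_fintype_card] at hEc
  have hE : r ∣ Fintype.card E - 1 := by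
    rw [hEc, ← ZMod.natCast_eq_zero_iff, Nat.cast_sub (Nat.one_le_pow _ _ Fintype.card_pos), Nat.cast_pow,
      show (q : ZMod r) ^ i = 1 from pow_orderOf_eq_one _]
    simp
  obtain ⟨f, hf, hf1, hfw⟩ := exists_eigen (E := E) hr.out hE hxr
  have hinj : ∀ e : ℕ, Nat.Coprime r e → ∀ u v : rootsOfUnity r E, u ^ e = v ^ e → u = v := by
    intro e he u v h
    have h1 : (u * v⁻¹) ^ e = 1 := by rw [mul_pow, inv_pow, h, mul_inv_cancel]
    exact mul_inv_eq_one.mp (orderOf_eq_one_iff.mp (Nat.eq_one_of_dvd_coprimes he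
      (orderOf_dvd_of_pow_eq_one (Subtype.ext ((mem_rootsOfUnity r _).mp (u * v⁻¹).2))) (orderOf_dvd_of_pow_eq_one h1)))
  have hstab : ∀ e : ℕ, Nat.Coprime r e → ((x : MD) ^ e).charpoly = (x : MD).charpoly →
      ∀ c, (Finset.univ.filter fun s => f s = c ^ e).card = (Finset.univ.filter fun s => f s = c).card := by
    intro e he hce c
    have h1 := hf e
    rw [hce, show (x : MD).charpoly = ((x : MD) ^ 1).charpoly by rw [pow_one], hf 1] at h1
    have h2 := count_eq_of_prod (f := fun s => f s) (g := fun s => f s ^ e) (by simpa using h1) (c ^ e)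
    rw [h2]
    refine congrArg Finset.card ?_
    ext s
    simp only [Finset.mem_filter, Finset.mem_univ, true_and]
    exact ⟨hinj e he _ _, fun h => by rw [h]⟩
  obtain ⟨s, hs⟩ : ∃ s, f s ≠ 1 := by
    by_contra h; push Not at h; exact hx1 (hf1 h)
  have hb := eigen_orbit_bound (E := E) hr2 hrq (f := f)
    (hstab q ((hr.out.coprime_iff_not_dvd).mpr hrq) (FiniteField.Matrix.charpoly_pow_card _))
    (fun c => by
      have hcinv : c⁻¹ = c ^ (r - 1) := by
        refine inv_eq_of_mul_eq_one_right ?_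
        rw [← pow_succ', Nat.sub_add_cancel hr.out.one_lt.le]
        exact Subtype.ext ((mem_rootsOfUnity r _).mp c.2)
      rw [hcinv]
      exact hstab _ ((hr.out.coprime_iff_not_dvd).mpr fun hd => by
        have := Nat.le_of_dvd (by have := hr.out.two_le; omega) hd; have := hr.out.two_le; omega)
        (spd_charpoly_inv hx hr.out.pos hxr) c) hs
  have hpos : 0 < (Finset.univ.filter fun t => f t = f s).card := Finset.card_pos.mpr ⟨s, by simp⟩
  have hle : (Finset.univ.filter fun t => f t ≠ 1).card ≤ 2 * d :=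
    (Finset.card_le_univ _).trans_eq (by simp; omega)
  exact (Nat.le_mul_of_pos_right _ hpos).trans (hb.trans hle)

/-- Symplectic involutions with equally large moved space are conjugate. -/
theorem sp_invol_conj_rank (h2 : (2 : F) ≠ 0) {x y : GL SD F} (hx : x ∈ Cfsg.spGL d F) (hy : y ∈ Cfsg.spGL d F)
    (hxx : (x : MD) * x = 1) (hyy : (y : MD) * y = 1)
    (hrank : ((x : MD) - 1).rank = ((y : MD) - 1).rank) : ∃ g ∈ Cfsg.spGL d F, g⁻¹ * x * g = y := by
  classical
  -- projections onto the eigenspaces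
  let pm : GL SD F → (SD → F) →ₗ[F] (SD → F) := fun z => (2 : F)⁻¹ • Matrix.toLin' (1 - (z : MD))
  let pp : GL SD F → (SD → F) →ₗ[F] (SD → F) := fun z => (2 : F)⁻¹ • Matrix.toLin' (1 + (z : MD))
  have hpm : ∀ (z : GL SD F) (v : SD → F), pm z v = (2 : F)⁻¹ • (v - (z : MD) *ᵥ v) := fun z v => by
    simp [pm, Matrix.sub_mulVec]
  have hpp : ∀ (z : GL SD F) (v : SD → F), pp z v = (2 : F)⁻¹ • (v + (z : MD) *ᵥ v) := fun z v => by
    simp [pp, Matrix.add_mulVec]
  have hsum : ∀ (z : GL SD F) (v : SD → F), pp z v + pm z v = v := fun z v => by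
    rw [hpp, hpm, ← smul_add, add_add_sub_cancel, ← two_smul F v, smul_smul, inv_mul_cancel₀ h2, one_smul]
  have hzp : ∀ (z : GL SD F), (z : MD) * z = 1 → ∀ v, (z : MD) *ᵥ pp z v = pp z v := fun z hz v => by
    rw [hpp, Matrix.mulVec_smul, Matrix.mulVec_add, Matrix.mulVec_mulVec, hz, Matrix.one_mulVec, add_comm]
  have hzm : ∀ (z : GL SD F), (z : MD) * z = 1 → ∀ v, (z : MD) *ᵥ pm z v = -pm z v := fun z hz v => by
    rw [hpm, Matrix.mulVec_smul, Matrix.mulVec_sub, Matrix.mulVec_mulVec, hz, Matrix.one_mulVec, ← smul_neg, neg_sub]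
  have horth : ∀ (z : GL SD F), z ∈ Cfsg.spGL d F → (z : MD) * z = 1 → ∀ u v, sf (pp z u) (pm z v) = 0 := by
    intro z hzS hz u v
    have h : sf ((z : MD) *ᵥ pp z u) ((z : MD) *ᵥ pm z v) = sf (pp z u) (pm z v) := hzS _ _
    rw [hzp z hz, hzm z hz, map_neg] at h
    exact (mul_eq_zero.mp (show (2 : F) * sf (pp z u) (pm z v) = 0 by linear_combination -h)).resolve_left h2
  have hfixp : ∀ (z : GL SD F), (z : MD) * z = 1 → ∀ v, pp z (pp z v) = pp z v := fun z hz v => by
    rw [hpp z (pp z v), hzp z hz, ← two_smul F (pp z v), smul_smul, inv_mul_cancel₀ h2, one_smul]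
  have hfixm : ∀ (z : GL SD F), (z : MD) * z = 1 → ∀ v, pm z (pm z v) = pm z v := fun z hz v => by
    rw [hpm z (pm z v), hzm z hz, sub_neg_eq_add, ← two_smul F (pm z v), smul_smul, inv_mul_cancel₀ h2, one_smul]
  have hnd : ∀ (z : GL SD F), z ∈ Cfsg.spGL d F → (z : MD) * z = 1 →
      Cfsg.Geo.IsNondegenerateOn (Cfsg.sympForm d F) (LinearMap.range (pp z)) ∧
      Cfsg.Geo.IsNondegenerateOn (Cfsg.sympForm d F) (LinearMap.range (pm z)) := by
    intro z hzS hz
    constructor
    · rintro _ ⟨u, rfl⟩ hu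
      obtain ⟨t, ht⟩ := H48.exists_sf_ne hu
      rw [← hsum z t, map_add, horth z hzS hz, add_zero] at ht
      refine ⟨⟨pp z t, ⟨t, rfl⟩, ?_⟩, ⟨pp z t, ⟨t, rfl⟩, ht⟩⟩
      rw [H48.sympForm_eq_sf, H48.sf_swap]; exact neg_ne_zero.mpr ht
    · rintro _ ⟨u, rfl⟩ hu
      obtain ⟨t, ht⟩ := H48.exists_sf_ne hu
      rw [← hsum z t, map_add, H48.sf_eq_zero_comm (horth z hzS hz t u), zero_add] at ht
      refine ⟨⟨pm z t, ⟨t, rfl⟩, ?_⟩, ⟨pm z t, ⟨t, rfl⟩, ht⟩⟩
      rw [H48.sympForm_eq_sf, H48.sf_swap]; exact neg_ne_zero.mpr ht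
  have hrm : ∀ (z : GL SD F), Module.finrank F (LinearMap.range (pm z)) = ((z : MD) - 1).rank := fun z => by
    have h0 : (-(2 : F)⁻¹) ≠ 0 := neg_ne_zero.mpr (inv_ne_zero h2)
    have : pm z = (-(2 : F)⁻¹) • ((z : MD) - 1).mulVecLin := by
      refine LinearMap.ext fun v => ?_
      rw [hpm, LinearMap.smul_apply, Matrix.mulVecLin_apply, Matrix.sub_mulVec, Matrix.one_mulVec, neg_smul, ← smul_neg,
        neg_sub]
    rw [this, LinearMap.range_smul _ _ h0]
    rfl
  have hrp : ∀ (z : GL SD F), (z : MD) * z = 1 →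
      Module.finrank F (LinearMap.range (pp z)) + Module.finrank F (LinearMap.range (pm z)) = 2 * d := by
    intro z hz
    have hker : LinearMap.ker (pp z) = LinearMap.range (pm z) := by
      ext v
      constructor
      · intro hv
        exact ⟨v, by rw [← hsum z v, LinearMap.mem_ker.mp hv, zero_add]; exact hfixm z hz v⟩
      · rintro ⟨u, rfl⟩
        have := hsum z (pm z u)
        rw [hfixm z hz] at this
        exact LinearMap.mem_ker.mpr (add_eq_right.mp this)
    have := LinearMap.finrank_range_add_finrank_ker (pp z)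
    rw [hker, Module.finrank_fintype_fun_eq_card] at this
    rw [this]; simp; omega
  have hb : Cfsg.Geo.IsBilinearForm (Cfsg.sympForm d F) := by
    constructor <;> intros <;> simp [H48.sympForm_eq_sf]
  have ha : ∀ v, Cfsg.sympForm d F v v = 0 := fun v => H48.sf_self v
  obtain ⟨φm, hm1, hm2⟩ := H45.exists_alt_isometry hb ha _ _ _ rfl (by rw [hrm, hrm, hrank]) (hnd y hy hyy).2
    (hnd x hx hxx).2
  obtain ⟨φp, hp1, hp2⟩ := H45.exists_alt_isometry hb ha _ _ _ rfl (by
    have := hrp x hxx; have := hrp y hyy; have := hrm x; have := hrm y; omega) (hnd y hy hyy).1 (hnd x hx hxx).1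
  let T : (SD → F) →ₗ[F] (SD → F) := φp ∘ₗ pp y + φm ∘ₗ pm y
  set G : MD := LinearMap.toMatrix' T with hG
  have hGv : ∀ v, G *ᵥ v = φp (pp y v) + φm (pm y v) := fun v => LinearMap.toMatrix'_mulVec T v
  have hGS : G ∈ Matrix.symplecticGroup (Fin d) F := by
    rw [H48.mem_symplectic_iff]
    intro u v
    obtain ⟨a1, ha1⟩ := hp1 (pp y u) ⟨u, rfl⟩
    obtain ⟨b1, hb1⟩ := hm1 (pm y v) ⟨v, rfl⟩
    obtain ⟨a2, ha2⟩ := hp1 (pp y v) ⟨v, rfl⟩
    obtain ⟨b2, hb2⟩ := hm1 (pm y u) ⟨u, rfl⟩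
    have e1 := hp2 (pp y u) ⟨u, rfl⟩ (pp y v) ⟨v, rfl⟩
    have e2 := hm2 (pm y u) ⟨u, rfl⟩ (pm y v) ⟨v, rfl⟩
    rw [H48.sympForm_eq_sf, H48.sympForm_eq_sf] at e1 e2
    have o1 : sf (φp (pp y u)) (φm (pm y v)) = 0 := by rw [← ha1, ← hb1]; exact horth x hx hxx _ _
    have o2 : sf (φm (pm y u)) (φp (pp y v)) = 0 := by
      rw [← ha2, ← hb2]; exact H48.sf_eq_zero_comm (horth x hx hxx _ _)
    rw [hGv, hGv]
    conv_rhs => rw [← hsum y u, ← hsum y v]
    simp only [map_add, LinearMap.add_apply, e1, e2, o1, o2, horth y hy hyy, H48.sf_eq_zero_comm (horth y hy hyy v u)]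
  let g : GL SD F := Matrix.GeneralLinearGroup.mkOfDetNeZero G (by rw [SymplecticGroup.det_eq_one hGS]; exact one_ne_zero)
  refine ⟨g, H48.mem_symplectic_iff.mp hGS, ?_⟩
  have hxg : x * g = g * y := Units.ext (by
    refine Matrix.ext_iff_mulVec.2 fun v => ?_
    show ((x : MD) * G) *ᵥ v = (G * (y : MD)) *ᵥ v
    rw [← Matrix.mulVec_mulVec, ← Matrix.mulVec_mulVec, hGv, hGv, Matrix.mulVec_add]
    obtain ⟨a1, ha1⟩ := hp1 (pp y v) ⟨v, rfl⟩
    obtain ⟨b1, hb1⟩ := hm1 (pm y v) ⟨v, rfl⟩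
    rw [← ha1, ← hb1, hzp x hxx, hzm x hxx, ha1, hb1]
    have e1 : pp y ((y : MD) *ᵥ v) = pp y v := by
      rw [hpp, hpp, Matrix.mulVec_mulVec, hyy, Matrix.one_mulVec, add_comm]
    have e2 : pm y ((y : MD) *ᵥ v) = -pm y v := by
      rw [hpm, hpm, Matrix.mulVec_mulVec, hyy, Matrix.one_mulVec, ← smul_neg, neg_sub]
    rw [e1, e2, map_neg])
  rw [mul_assoc, hxg, inv_mul_cancel_left]

/-- Symplectic elements squaring to `-1` are all conjugate in the symplectic group. -/
theorem sp_square_neg_conj [Fintype F] (h2 : (2 : F) ≠ 0) {T : Subgroup (GL SD F)} {x y : GL SD F} (hyT : y ∈ T)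
    (hx : x ∈ Cfsg.spGL d F) (hy : y ∈ Cfsg.spGL d F) (hxx : (x : MD) * x = (-1 : F) • 1)
    (hyy : (y : MD) * y = (-1 : F) • 1) : ∃ g ∈ Cfsg.spGL d F, g⁻¹ * x * g ∈ T := by
  classical
  suffices h : ∃ g ∈ Cfsg.spGL d F, g⁻¹ * x * g = y by
    obtain ⟨g, hg, hgy⟩ := h
    exact ⟨g, hg, hgy ▸ hyT⟩
  have hskew : ∀ {z : GL SD F}, z ∈ Cfsg.spGL d F → (z : MD) * z = (-1 : F) • 1 → adjS (z : MD) = -(z : MD) := by
    intro z hz hzz
    rw [spd_inv hz]
    exact Units.inv_eq_of_mul_eq_one_right (by rw [Matrix.mul_neg, hzz, neg_smul, one_smul, neg_neg])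
  -- equal characteristic polynomials
  have hsq : ∀ {z : GL SD F}, z ∈ Cfsg.spGL d F → (z : MD) * z = (-1 : F) • 1 →
      (z : MD).charpoly * (z : MD).charpoly = (X ^ 2 + 1 : F[X]) ^ Fintype.card SD := by
    intro z hz hzz
    set M : MD := (z : MD)
    have hneg : (-M).charpoly = M.charpoly := by rw [← hskew hz hzz, adjS_charpoly]
    have hcm : ∀ N : MD, Matrix.charmatrix N = Matrix.scalar SD (X : F[X]) - N.map C := fun N => rfl
    have hprod : Matrix.charmatrix M * Matrix.charmatrix (-M) = (X ^ 2 + 1 : F[X]) • (1 : Matrix SD SD F[X]) := by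
      rw [hcm, hcm, show ((-M).map C : Matrix SD SD F[X]) = -(M.map C) by ext i j; simp]
      have hMM : (M.map C : Matrix SD SD F[X]) * M.map C = C (-1 : F) • 1 := by
        rw [← Matrix.map_mul, hzz]
        ext i j
        by_cases h : i = j <;> simp [h]
      rw [Matrix.scalar_apply, ← Matrix.smul_one_eq_diagonal]
      simp only [sub_neg_eq_add, Matrix.mul_add, Matrix.sub_mul, Matrix.smul_mul, Matrix.mul_smul, Matrix.one_mul,
        Matrix.mul_one, smul_smul, hMM, map_neg, map_one]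
      module
    have hdet := congrArg Matrix.det hprod
    rw [Matrix.det_mul, Matrix.det_smul, Matrix.det_one, mul_one] at hdet
    rw [← hdet]
    show M.charpoly * M.charpoly = M.charpoly * (-M).charpoly
    rw [hneg]
  have hcp : (x : MD).charpoly = (y : MD).charpoly := by
    rcases mul_self_eq_mul_self_iff.mp ((hsq hx hxx).trans (hsq hy hyy).symm) with h | h
    · exact h
    · exfalso
      have hl := congrArg Polynomial.leadingCoeff h
      rw [Polynomial.leadingCoeff_neg, (Matrix.charpoly_monic _).leadingCoeff, (Matrix.charpoly_monic _).leadingCoeff] at hl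
      exact h2 (by linear_combination hl)
  -- conjugate in the general linear group
  have h4 : ((4 : ℕ) : F) ≠ 0 := by
    rw [show ((4 : ℕ) : F) = 2 * 2 by norm_num]; exact mul_ne_zero h2 h2
  let e : Fin (d + d) ≃ SD := finSumFinEquiv.symm
  have hfour : ∀ {z : GL SD F}, (z : MD) * z = (-1 : F) • 1 → ((z : MD).submatrix e e) ^ 4 = 1 := by
    intro z hzz
    rw [show (4 : ℕ) = 2 + 2 from rfl, pow_add, pow_two, Matrix.submatrix_mul_equiv, hzz, Matrix.submatrix_mul_equiv,
      Matrix.smul_mul, Matrix.one_mul, smul_smul, neg_mul_neg, one_mul, one_smul, Matrix.submatrix_one_equiv]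
  obtain ⟨C0, hC0, hC0x⟩ := H40.exists_conj_matrix (A := (x : MD).submatrix e e) (B := (y : MD).submatrix e e)
    ⟨4, h4, hfour hxx⟩ ⟨4, h4, hfour hyy⟩ (by
      rw [← Matrix.charpoly_reindex e.symm (x : MD), ← Matrix.charpoly_reindex e.symm (y : MD)] at hcp
      exact hcp)
  let k : GL SD F := (Matrix.GeneralLinearGroup.mkOfDetNeZero (C0.submatrix e.symm e.symm)
    (by rw [Matrix.det_submatrix_equiv_self]; exact hC0))⁻¹
  have hk : x * k = k * y := by
    rw [eq_inv_mul_iff_mul_eq, ← mul_assoc]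
    refine (mul_inv_eq_iff_eq_mul).mpr (Units.ext ?_)
    show C0.submatrix e.symm e.symm * (x : MD) = (y : MD) * C0.submatrix e.symm e.symm
    have h := congrArg (fun M => M.submatrix e.symm e.symm) hC0x
    simp only [← Matrix.submatrix_mul_equiv _ _ _ e.symm] at h
    simpa [Matrix.submatrix_submatrix] using h
  -- correct to a symplectic conjugator
  set K : MD := (k : MD) with hK
  set Y : MD := (y : MD) with hY
  have hk' : (x : MD) * K = K * Y := congrArg Units.val hk
  have hXX := spd_adj.mp hx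
  have hYY := spd_adj.mp hy
  have hYskew : adjS Y = -Y := hskew hy hyy
  set s : MD := adjS K * K with hs
  have hsa : adjS s = s := by rw [hs, H49.adjS_mul, H49.adjS_adjS]
  have hsy : s * Y = Y * s := by
    have e : adjS Y * (s * Y) = s := by
      calc adjS Y * (s * Y) = adjS (K * Y) * (K * Y) := by rw [H49.adjS_mul, hs]; simp only [Matrix.mul_assoc]
        _ = adjS K * (adjS (x : MD) * x) * K := by rw [← hk', H49.adjS_mul]; simp only [Matrix.mul_assoc]
        _ = s := by rw [hXX, Matrix.mul_one, hs]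
    calc s * Y = (Y * adjS Y) * (s * Y) := by rw [mul_eq_one_comm.mp hYY, Matrix.one_mul]
      _ = Y * s := by rw [Matrix.mul_assoc, e]
  let R0 : Subring MD := Subring.closure {s}
  letI : CommRing R0 := Subring.closureCommRingOfComm (by intro a ha b hb; rw [Set.mem_singleton_iff.mp ha, Set.mem_singleton_iff.mp hb])
  have hprop : ∀ a ∈ R0, adjS a = a ∧ a * Y = Y * a := by
    intro a ha
    induction ha using Subring.closure_induction with
    | mem b hb =>
      rw [Set.mem_singleton_iff.mp hb]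
      exact ⟨hsa, hsy⟩
    | zero => exact ⟨H49.adjS_zero, by simp⟩
    | one => exact ⟨H49.adjS_one, by simp⟩
    | add b c _ _ hb hc => exact ⟨by rw [H49.adjS_add, hb.1, hc.1], by simp [Matrix.add_mul, Matrix.mul_add, hb.2, hc.2]⟩
    | neg b _ hb => exact ⟨by rw [H49.adjS_neg, hb.1], by simp [hb.2]⟩
    | mul b c hb' hc' hb hc =>
      exact ⟨by
        rw [H49.adjS_mul, hb.1, hc.1]
        exact congrArg Subtype.val (mul_comm (⟨c, hc'⟩ : R0) ⟨b, hb'⟩),
        by rw [Matrix.mul_assoc, hc.2, ← Matrix.mul_assoc, hb.2, Matrix.mul_assoc]⟩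
  have hunit : ∀ (a : R0), (a : MD).det ≠ 0 → IsUnit a := by
    intro a ha
    have hu : IsUnit (a : MD) := (Matrix.isUnit_iff_isUnit_det _).mpr (isUnit_iff_ne_zero.mpr ha)
    have hord := (isOfFinOrder_of_finite hu.unit).orderOf_pos
    have hinv : (a : MD) * (a : MD) ^ (orderOf hu.unit - 1) = 1 := by
      rw [← pow_succ', Nat.sub_add_cancel hord]
      exact congrArg Units.val (pow_orderOf_eq_one hu.unit)
    exact IsUnit.of_mul_eq_one (a ^ (orderOf hu.unit - 1)) (Subtype.ext hinv)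
  let S0 : R0 := ⟨s, Subring.subset_closure (Set.mem_singleton _)⟩
  have hdet2 : ∀ c : F, c ≠ 0 → (c • (1 : MD)).det ≠ 0 := fun c hc => by
    rw [Matrix.det_smul, Matrix.det_one, mul_one]; exact pow_ne_zero _ hc
  have hsdet : s.det ≠ 0 := by
    rw [hs, Matrix.det_mul, H49.adjS_det]
    exact mul_ne_zero (Matrix.GeneralLinearGroup.det k).ne_zero (Matrix.GeneralLinearGroup.det k).ne_zero
  have hnat : ∀ n : ℕ, (((n : ℕ) : R0) : MD) = (n : F) • 1 := fun n => by
    rw [show (((n : ℕ) : R0) : MD) = (n : MD) from map_natCast R0.subtype n, ← Algebra.algebraMap_eq_smul_one, map_natCast]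
  have htwo : IsUnit (2 : R0) := hunit 2 (by
    rw [show ((2 : R0) : MD) = (((2 : ℕ) : R0) : MD) by norm_num, hnat]
    exact hdet2 _ (by exact_mod_cast h2))
  have hΔ : IsUnit ((2 : R0) ^ 2 - 4 * 2) := hunit _ (by
    rw [show (2 : R0) ^ 2 - 4 * 2 = -((4 : ℕ) : R0) by norm_num, NegMemClass.coe_neg, hnat, ← neg_smul]
    exact hdet2 _ (neg_ne_zero.mpr h4))
  obtain ⟨a, b, hab⟩ := H51.ring_quad_rep htwo hΔ (hunit S0 hsdet)
  obtain ⟨a1, a2⟩ := hprop a a.2
  obtain ⟨b1, b2⟩ := hprop b b.2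
  set A : MD := (a : MD) with hA
  set B : MD := (b : MD) with hB
  have hab' : (A + B) * (A + B) + B * B = s := by
    have h := congrArg Subtype.val (show (a + b) * (a + b) + b * b = S0 by rw [← hab]; ring)
    simpa using h
  have hBA : B * A = A * B := congrArg Subtype.val (mul_comm b a)
  set C : MD := A + B + Y * B with hC
  have hCC : adjS C * C = s := by
    have hCa : adjS C = A + B - Y * B := by
      rw [hC, H49.adjS_add, H49.adjS_add, H49.adjS_mul, a1, b1, hYskew, Matrix.mul_neg, ← sub_eq_add_neg, b2]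
    have e1 : (A + B) * (Y * B) = Y * ((A + B) * B) := by
      rw [← Matrix.mul_assoc, Matrix.add_mul, a2, b2, ← Matrix.mul_add, Matrix.mul_assoc]
    have e2 : Y * B * (A + B) = Y * ((A + B) * B) := by
      rw [Matrix.mul_assoc]; congr 1; rw [Matrix.mul_add, Matrix.add_mul, hBA]
    have e3 : Y * B * (Y * B) = -(B * B) := by
      rw [Matrix.mul_assoc, ← Matrix.mul_assoc B, b2, ← Matrix.mul_assoc, ← Matrix.mul_assoc, hyy, neg_smul, one_smul,
        Matrix.neg_mul, Matrix.one_mul, Matrix.neg_mul]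
    rw [hCa, hC, Matrix.sub_mul, Matrix.mul_add (A + B) (A + B) (Y * B), Matrix.mul_add (Y * B) (A + B) (Y * B), e1, e2, e3, ← hab']
    abel
  have hCu : C.det ≠ 0 := fun h0 => by
    have := congrArg Matrix.det hCC
    rw [Matrix.det_mul, h0, mul_zero] at this
    exact hsdet this.symm
  let c : GL SD F := Matrix.GeneralLinearGroup.mkOfDetNeZero C hCu
  have hcy : c * y = y * c := Units.ext (by
    show C * Y = Y * C
    rw [hC, Matrix.add_mul, Matrix.add_mul, Matrix.mul_add, Matrix.mul_add, a2, b2, Matrix.mul_assoc Y B, b2])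
  refine ⟨k * c⁻¹, spd_adj.mpr ?_, ?_⟩
  · set D : MD := ((c⁻¹ : GL SD F) : MD)
    have hCD : C * D = 1 := Units.mul_inv c
    rw [Units.val_mul, H49.adjS_mul]
    calc adjS D * adjS K * (K * D) = adjS D * s * D := by rw [hs]; simp only [Matrix.mul_assoc]
      _ = adjS (C * D) * (C * D) := by rw [← hCC, H49.adjS_mul]; simp only [Matrix.mul_assoc]
      _ = 1 := by rw [hCD, H49.adjS_one, Matrix.one_mul]
  · calc (k * c⁻¹)⁻¹ * x * (k * c⁻¹) = c * (k⁻¹ * (x * k)) * c⁻¹ := by group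
      _ = y := by rw [hk, inv_mul_cancel_left, hcy, mul_inv_cancel_right]

end H47
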