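import Mathlib
import Cfsg.Prelude.Def_GeometricClasses
import Cfsg.Agent.H47.Basic
import Cfsg.Agent.H47.SympInvol
import Cfsg.Agent.H51.Herm
import Cfsg.Agent.H50.Field
import Cfsg.Agent.H42.PGLPrimeOrder
import Cfsg.Agent.H42.PowResidue

/-!
# Elements of `SL n` with a conjugate in a unitary similarity group
-/

set_option autoImplicit false
open scoped MatrixGroups Matrix
open Matrix

namespace H47

variable {F : Type*} [Field F] [Fintype F] {n q : ℕ} (hF : Fintype.card F = q ^ 2)
include hF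

/-- The similarity group of the standard hermitian form, as a condition on matrices. -/
lemma mem_hermSim_iff (g : GL (Fin n) F) :
    g ∈ Cfsg.Geo.similarityGroup (Cfsg.hermForm n F q) ↔
      ∃ c : Fˣ, H51.adj hF (g : Matrix (Fin n) (Fin n) F) * (g : Matrix (Fin n) (Fin n) F) = (c : F) • 1 := by
  set M : Matrix (Fin n) (Fin n) F := (g : Matrix (Fin n) (Fin n) F)
  show (∃ c : Fˣ, ∀ u v, Cfsg.hermForm n F q (M *ᵥ u) (M *ᵥ v) = (c : F) * Cfsg.hermForm n F q u v) ↔ _
  simp only [H51.hermForm_mulVec hF, H51.hermForm_eq]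
  constructor
  · rintro ⟨c, hc⟩
    have hk : Mᵀ * M.map (H51.qFrob hF) = (c : F) • 1 := by
      ext i j
      have h1 := hc (Pi.single i 1) (Pi.single j 1)
      have hs : (fun k => (Pi.single j (1 : F) : Fin n → F) k ^ q) = Pi.single j 1 := by
        funext k
        rcases eq_or_ne k j with rfl | hk <;> simp [*, (H51.q_pos hF).ne']
      rw [hs, single_one_dotProduct, single_one_dotProduct, Matrix.mulVec_single_one] at h1
      simpa [Matrix.one_apply, Pi.single_apply] using h1
    refine ⟨c, ?_⟩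
    have := congrArg Matrix.transpose hk
    rwa [Matrix.transpose_mul, Matrix.transpose_transpose, Matrix.transpose_smul, Matrix.transpose_one] at this
  · rintro ⟨c, hc⟩
    refine ⟨c, fun u v => ?_⟩
    have hk := congrArg Matrix.transpose hc
    rw [Matrix.transpose_mul, H51.adj, Matrix.transpose_transpose, Matrix.transpose_smul, Matrix.transpose_one] at hk
    rw [hk, Matrix.smul_mulVec, Matrix.one_mulVec, dotProduct_smul, smul_eq_mul]

/-- The multiplier is fixed by the field automorphism. -/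
lemma herm_multiplier_fixed {ι : Type*} [Fintype ι] [DecidableEq ι] [Nonempty ι] {y : Matrix ι ι F} {c : F}
    (h : H51.adj hF y * y = c • 1) : c ^ q = c := by
  have h1 := congrArg (H51.adj hF) h
  rw [H51.adj_mul, H51.adj_adj, H51.adj_smul, H51.adj_one, h] at h1
  have h2 := congrFun (congrFun h1 (Classical.arbitrary ι)) (Classical.arbitrary ι)
  simpa using h2.symm

/-- Every unitary form is the standard one in suitable coordinates. -/
theorem exists_herm_coords {f : (Fin n → F) → (Fin n → F) → F} (hf : Cfsg.Geo.IsUnitaryFormPow q f) :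
    ∃ C : GL (Fin n) F, Cfsg.Geo.similarityGroup f
      = (Cfsg.Geo.similarityGroup (Cfsg.hermForm n F q)).comap (MulAut.conj C).toMonoidHom := by
  classical
  have hr : ∀ x v w, f x (v + w) = f x v + f x w := fun x v w => by
    rw [hf.herm x, hf.add_left, H51.add_pow_q hF, ← hf.herm, ← hf.herm]
  have hrs : ∀ (a : F) x v, f x (a • v) = a ^ q * f x v := fun a x v => by
    rw [hf.herm x, hf.smul_left, mul_pow, ← hf.herm]
  let A : Matrix (Fin n) (Fin n) F := Matrix.of fun i j => f (Pi.single i 1) (Pi.single j 1)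
  have hfA : ∀ u v, f u v = u ⬝ᵥ (A *ᵥ fun i => v i ^ q) := by
    intro u v
    have hu : f u v = ∑ i, u i * f (Pi.single i 1) v := by
      let L : (Fin n → F) →ₗ[F] F :=
        { toFun := fun u => f u v
          map_add' := fun a b => hf.add_left a b v
          map_smul' := fun c a => hf.smul_left c a v }
      show L u = _
      conv_lhs => rw [pi_eq_sum_univ' u]
      simp only [map_sum, map_smul, smul_eq_mul]
      rfl
    have hv : ∀ x, f x v = ∑ j, f x (Pi.single j 1) * v j ^ q := by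
      intro x
      let R : (Fin n → F) →+ F := AddMonoidHom.mk' (f x) (hr x)
      show R v = _
      conv_lhs => rw [pi_eq_sum_univ' v]
      rw [map_sum]
      exact Finset.sum_congr rfl fun j _ => by
        show f x (v j • Pi.single j 1) = _
        rw [hrs, mul_comm]
    rw [hu]
    simp only [dotProduct, Matrix.mulVec, A, Matrix.of_apply]
    exact Finset.sum_congr rfl fun i _ => by rw [hv (Pi.single i 1)]
  have hs : H51.adj hF Aᵀ = Aᵀ := by
    ext i j
    rw [H51.adj_apply]
    simp only [Matrix.transpose_apply, A, Matrix.of_apply]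
    exact (hf.herm _ _).symm
  have hu : IsUnit Aᵀ := by
    rw [Matrix.isUnit_iff_isUnit_det, Matrix.det_transpose, isUnit_iff_ne_zero]
    intro h0
    obtain ⟨u, hu0, hu⟩ := Matrix.exists_vecMul_eq_zero_iff.mpr h0
    obtain ⟨v, hv⟩ := (hf.nondegenerate u hu0).2
    apply hv
    rw [hfA, Matrix.dotProduct_mulVec, hu, zero_dotProduct]
  obtain ⟨C, hCu, hC⟩ := H51.exists_adj_mul_self hF hs hu
  have hA : A = Cᵀ * C.map (H51.qFrob hF) := by
    have := congrArg Matrix.transpose hC
    rwa [Matrix.transpose_mul, H51.adj, Matrix.transpose_transpose, Matrix.transpose_transpose, eq_comm] at this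
  have key : ∀ u v, f u v = Cfsg.hermForm n F q (C *ᵥ u) (C *ᵥ v) := fun u v => by
    rw [H51.hermForm_mulVec hF, ← hA, hfA]
  refine ⟨hCu.unit, ?_⟩
  have key' : ∀ u v, f u v = Cfsg.hermForm n F q ((hCu.unit : Matrix (Fin n) (Fin n) F) *ᵥ u)
      ((hCu.unit : Matrix (Fin n) (Fin n) F) *ᵥ v) := key
  generalize hCu.unit = U at key'
  ext g
  rw [Subgroup.mem_comap]
  simp only [MulEquiv.coe_toMonoidHom, MulAut.conj_apply]
  constructor
  · rintro ⟨c, hc⟩
    refine ⟨c, fun u v => ?_⟩
    have h := hc (((U⁻¹ : GL (Fin n) F) : Matrix (Fin n) (Fin n) F) *ᵥ u)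
      (((U⁻¹ : GL (Fin n) F) : Matrix (Fin n) (Fin n) F) *ᵥ v)
    simpa only [key', Matrix.mulVec_mulVec, Units.val_mul, Units.mul_inv, Matrix.one_mulVec,
      Matrix.mul_assoc] using h
  · rintro ⟨c, hc⟩
    refine ⟨c, fun u v => ?_⟩
    have h := hc ((U : Matrix (Fin n) (Fin n) F) *ᵥ u) ((U : Matrix (Fin n) (Fin n) F) *ᵥ v)
    simpa only [key', Matrix.mulVec_mulVec, Units.val_mul, Units.inv_mul, Matrix.mul_one,
      Matrix.mul_assoc] using h

/-- A form for which `x` is a similitude gives a conjugate in the similarity group. -/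
theorem exists_sl_hermSim {κ : Type} [Fintype κ] [DecidableEq κ]
    (x Q : GL (Fin n) F) (e : Fin n ≃ κ) (G D : Matrix κ κ F) (hG : H51.adj hF G = G) (hG0 : G.det ≠ 0)
    (hx : (x : Matrix (Fin n) (Fin n) F) * (Q : Matrix (Fin n) (Fin n) F)
      = (Q : Matrix (Fin n) (Fin n) F) * D.submatrix e e)
    (c : Fˣ) (hD : H51.adj hF D * G * D = (c : F) • G)
    (hdet : ∀ t : F, t ≠ 0 → ∃ C : Matrix κ κ F, C * D = D * C ∧ C.det = t) :
    ∃ P : GL (Fin n) F, P ∈ Cfsg.Geo.specialLinear (Fin n) F ∧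
      P⁻¹ * x * P ∈ Cfsg.Geo.similarityGroup (Cfsg.hermForm n F q) := by
  classical
  obtain ⟨C₀, hC₀u, hC₀⟩ := H51.exists_adj_mul_self hF hG
    ((Matrix.isUnit_iff_isUnit_det _).mpr (Ne.isUnit hG0))
  have hC₀d : C₀.det ≠ 0 := ((Matrix.isUnit_iff_isUnit_det _).mp hC₀u).ne_zero
  have hQd : (Q : Matrix (Fin n) (Fin n) F).det ≠ 0 := (Matrix.isUnits_det_units Q).ne_zero
  obtain ⟨C, hCD, hCdet⟩ := hdet (C₀.det / (Q : Matrix (Fin n) (Fin n) F).det) (div_ne_zero hC₀d hQd)
  let T : GL (Fin n) F := Matrix.GeneralLinearGroup.mkOfDetNeZero (C₀.submatrix e e)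
    (by rw [Matrix.det_submatrix_equiv_self]; exact hC₀d)
  let Cg : GL (Fin n) F := Matrix.GeneralLinearGroup.mkOfDetNeZero (C.submatrix e e)
    (by rw [Matrix.det_submatrix_equiv_self, hCdet]; exact div_ne_zero hC₀d hQd)
  refine ⟨Q * Cg * T⁻¹, ?_, (mem_hermSim_iff hF _).mpr ⟨c, ?_⟩⟩
  · have hTd : (T : Matrix (Fin n) (Fin n) F).det = C₀.det := Matrix.det_submatrix_equiv_self _ _
    have hTi : ((T⁻¹ : GL (Fin n) F) : Matrix (Fin n) (Fin n) F).det = C₀.det⁻¹ := by
      rw [← hTd]
      refine eq_inv_of_mul_eq_one_left ?_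
      rw [← Matrix.det_mul, Units.inv_mul, Matrix.det_one]
    rw [mem_sl_iff, Units.val_mul, Units.val_mul, Matrix.det_mul, Matrix.det_mul, hTi]
    show _ * (C.submatrix e e).det * _ = 1
    rw [Matrix.det_submatrix_equiv_self, hCdet]
    field_simp
  set y : GL (Fin n) F := (Q * Cg * T⁻¹)⁻¹ * x * (Q * Cg * T⁻¹) with hy
  have h2 : (Cg : Matrix (Fin n) (Fin n) F) * D.submatrix e e = D.submatrix e e * (Cg : Matrix (Fin n) (Fin n) F) := by
    show C.submatrix e e * _ = _ * C.submatrix e e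
    rw [Matrix.submatrix_mul_equiv, Matrix.submatrix_mul_equiv, hCD]
  have hyT : (y : Matrix (Fin n) (Fin n) F) * T = (T : Matrix (Fin n) (Fin n) F) * D.submatrix e e := by
    have h1 : y * T = T * Cg⁻¹ * Q⁻¹ * (x * Q) * Cg := by rw [hy]; group
    rw [← Units.val_mul, h1, Units.val_mul, Units.val_mul, Units.val_mul, Units.val_mul, Units.val_mul, hx]
    simp only [Matrix.mul_assoc]
    rw [← Matrix.mul_assoc _ (Q : Matrix (Fin n) (Fin n) F), Units.inv_mul, Matrix.one_mul, ← h2,
      ← Matrix.mul_assoc _ (Cg : Matrix (Fin n) (Fin n) F), Units.inv_mul, Matrix.one_mul]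
  have hTT : H51.adj hF (T : Matrix (Fin n) (Fin n) F) * T = G.submatrix e e := by
    show H51.adj hF (C₀.submatrix e e) * C₀.submatrix e e = _
    have : H51.adj hF (C₀.submatrix e e) = (H51.adj hF C₀).submatrix e e := by ext i j; simp
    rw [this, Matrix.submatrix_mul_equiv, hC₀]
  have key : H51.adj hF (T : Matrix (Fin n) (Fin n) F) *
      (H51.adj hF (y : Matrix (Fin n) (Fin n) F) * (y : Matrix (Fin n) (Fin n) F)) * (T : Matrix (Fin n) (Fin n) F)
      = H51.adj hF (T : Matrix (Fin n) (Fin n) F) * ((c : F) • (1 : Matrix (Fin n) (Fin n) F)) * (T : Matrix (Fin n) (Fin n) F) := by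
    calc _ = H51.adj hF ((y : Matrix (Fin n) (Fin n) F) * (T : Matrix (Fin n) (Fin n) F)) * ((y : Matrix (Fin n) (Fin n) F) * (T : Matrix (Fin n) (Fin n) F)) := by
          rw [H51.adj_mul]; simp only [Matrix.mul_assoc]
      _ = H51.adj hF (D.submatrix e e) * (H51.adj hF (T : Matrix (Fin n) (Fin n) F) * (T : Matrix (Fin n) (Fin n) F)) * D.submatrix e e := by
          rw [hyT, H51.adj_mul]; simp only [Matrix.mul_assoc]
      _ = _ := by
          have : H51.adj hF (D.submatrix e e) = (H51.adj hF D).submatrix e e := by ext i j; simp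
          rw [Matrix.mul_smul, Matrix.mul_one, Matrix.smul_mul, hTT, this, Matrix.submatrix_mul_equiv,
            Matrix.submatrix_mul_equiv, hD]
          rfl
  exact (H51.isUnit_adj hF T.isUnit).mul_left_cancel (T.isUnit.mul_right_cancel key)

/-- `x² = z`, a non-square: no similitude. -/
theorem nonsquare_not_hermSim (hodd : Odd q) (hn : 0 < n) {y : GL (Fin n) F} {z : F}
    (hz : (y : Matrix (Fin n) (Fin n) F) * y = z • 1) (hns : ¬ IsSquare z) :
    y ∉ Cfsg.Geo.similarityGroup (Cfsg.hermForm n F q) := by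
  intro hy
  obtain ⟨c, hc⟩ := (mem_hermSim_iff hF y).mp hy
  haveI : Nonempty (Fin n) := ⟨⟨0, hn⟩⟩
  set Y : Matrix (Fin n) (Fin n) F := (y : Matrix (Fin n) (Fin n) F)
  have hcq := herm_multiplier_fixed hF hc
  have h1 : H51.adj hF (Y * Y) * (Y * Y) = ((c : F) * c) • 1 := by
    rw [H51.adj_mul, Matrix.mul_assoc, ← Matrix.mul_assoc (H51.adj hF Y) Y Y, hc, Matrix.smul_mul,
      Matrix.one_mul, Matrix.mul_smul, hc, smul_smul]
  rw [hz, H51.adj_smul, H51.adj_one, Matrix.smul_mul, Matrix.one_mul, smul_smul] at h1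
  have h2 : z ^ (q + 1) = (c : F) * c := by
    have h3 := congrFun (congrFun h1 (Classical.arbitrary _)) (Classical.arbitrary (Fin n))
    simpa [pow_succ] using h3
  have hc0 : (c : F) ≠ 0 := c.ne_zero
  have hq1 := H51.one_lt_q hF
  have hcq1 : (c : F) ^ (q - 1) = 1 := by
    have : (c : F) ^ (q - 1) * c = 1 * c := by
      rw [← pow_succ, Nat.sub_add_cancel hq1.le, one_mul, hcq]
    exact mul_right_cancel₀ hc0 this
  have hchar : ringChar F ≠ 2 := fun h => hns (FiniteField.isSquare_of_char_two h z)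
  have hz0 : z ≠ 0 := fun h => hns (h ▸ IsSquare.zero)
  apply hns
  rw [FiniteField.isSquare_iff hchar hz0, hF]
  obtain ⟨k, rfl⟩ := hodd
  have hdiv : (2 * k + 1) ^ 2 / 2 = (2 * k + 1 + 1) * k := by
    rw [show (2 * k + 1) ^ 2 = 2 * ((2 * k + 1 + 1) * k) + 1 by ring]; omega
  rw [hdiv, pow_mul, h2, ← pow_two, ← pow_mul, show 2 * k = 2 * k + 1 - 1 by omega, hcq1]

omit hF in
/-- The determinant of an element squaring to a non-square. -/
theorem det_of_sq_nonsquare {x : Matrix (Fin n) (Fin n) F} {z : F}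
    (hz : x * x = z • 1) (hns : ¬ IsSquare z) : ∃ m, n = 2 * m ∧ x.det = (-z) ^ m := by
  classical
  have hirr : Irreducible (Polynomial.X ^ 2 - Polynomial.C z : Polynomial F) :=
    X_pow_sub_C_irreducible_of_prime Nat.prime_two (fun b hb => hns ⟨b, by rw [← hb, pow_two]⟩)
  have hmon : (Polynomial.X ^ 2 - Polynomial.C z : Polynomial F).Monic :=
    Polynomial.monic_X_pow_sub_C z two_ne_zero
  set x' := x.map Polynomial.C with hx'
  have hmul : (Matrix.scalar (Fin n) (Polynomial.X : Polynomial F) - x') * (Matrix.scalar (Fin n) (Polynomial.X : Polynomial F) + x')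
      = (Polynomial.X ^ 2 - Polynomial.C z) • (1 : Matrix (Fin n) (Fin n) (Polynomial F)) := by
    have h1 : x' * x' = Polynomial.C z • (1 : Matrix (Fin n) (Fin n) (Polynomial F)) := by
      rw [hx', ← Matrix.map_mul, hz]
      ext i j
      by_cases h : i = j <;> simp [h]
    have hs : Matrix.scalar (Fin n) (Polynomial.X : Polynomial F)
        = (Polynomial.X : Polynomial F) • (1 : Matrix (Fin n) (Fin n) (Polynomial F)) := by
      rw [Matrix.scalar_apply, Matrix.smul_one_eq_diagonal]
    rw [hs, sub_mul, mul_add, mul_add, h1, sub_smul, Matrix.smul_mul, Matrix.one_mul, Matrix.smul_mul,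
      Matrix.one_mul, Matrix.mul_smul, Matrix.mul_one, smul_smul, pow_two]
    abel
  have hdvd : x.charpoly ∣ (Polynomial.X ^ 2 - Polynomial.C z : Polynomial F) ^ n := by
    refine ⟨(Matrix.scalar (Fin n) (Polynomial.X : Polynomial F) + x').det, ?_⟩
    rw [Matrix.charpoly, Matrix.charmatrix, ← Matrix.det_mul]
    simp only [RingHom.mapMatrix_apply, ← hx', hmul]
    rw [Matrix.det_smul, Matrix.det_one, mul_one, Fintype.card_fin]
  obtain ⟨i, -, hassoc⟩ := (dvd_prime_pow hirr.prime _).mp hdvd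
  have hcp := Polynomial.eq_of_monic_of_associated (Matrix.charpoly_monic x) (hmon.pow i) hassoc
  have hdeg := congrArg Polynomial.natDegree hcp
  rw [Matrix.charpoly_natDegree_eq_dim, Fintype.card_fin, Polynomial.natDegree_pow,
    Polynomial.natDegree_X_pow_sub_C] at hdeg
  refine ⟨i, by omega, ?_⟩
  rw [Matrix.det_eq_sign_charpoly_coeff, hcp, Fintype.card_fin, Polynomial.coeff_zero_eq_eval_zero,
    Polynomial.eval_pow]
  simp [hdeg]

omit hF in
/-- A non-square has full two-part in its order. -/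
theorem two_pow_dvd_orderOf {u : Fˣ} (hns : ¬ IsSquare (u : F)) :
    2 ^ padicValNat 2 (Fintype.card F - 1) ∣ orderOf u := by
  classical
  have hchar : ringChar F ≠ 2 := fun h => hns (FiniteField.isSquare_of_char_two h _)
  have hnot : ¬ orderOf u ∣ Fintype.card F / 2 := by
    intro h
    apply hns
    rw [FiniteField.isSquare_iff hchar u.ne_zero, ← Units.val_pow_eq_pow_val,
      orderOf_dvd_iff_pow_eq_one.mp h, Units.val_one]
  have hdvd : orderOf u ∣ Fintype.card F - 1 := by
    have := orderOf_dvd_natCard u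
    rwa [Nat.card_units, Nat.card_eq_fintype_card] at this
  have hodd := FiniteField.odd_card_of_char_ne_two hchar
  have hcard := Fintype.one_lt_card (α := F)
  have h0 : Fintype.card F - 1 ≠ 0 := by omega
  set k := padicValNat 2 (Fintype.card F - 1) with hk
  obtain ⟨o, ho⟩ : 2 ^ k ∣ Fintype.card F - 1 := pow_padicValNat_dvd
  rw [ho] at hdvd
  obtain ⟨a, b, ha, hb, hab⟩ := exists_dvd_and_dvd_of_dvd_mul hdvd
  obtain ⟨i, hi, rfl⟩ := (Nat.dvd_prime_pow Nat.prime_two).mp ha
  rw [hab]
  rcases Nat.lt_or_ge i k with hlt | hge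
  · exfalso
    apply hnot
    have hk1 : k = k - 1 + 1 := by omega
    have : Fintype.card F / 2 = 2 ^ (k - 1) * o := by
      rw [hk1, pow_succ] at ho
      have h' : Fintype.card F - 1 = 2 * (2 ^ (k - 1) * o) := by rw [ho]; ring
      omega
    rw [hab, this]
    exact mul_dvd_mul (pow_dvd_pow 2 (by omega)) hb
  · exact (dvd_mul_right (2 ^ k) b).trans (dvd_of_eq (by rw [le_antisymm hi hge]))

omit hF in
/-- `-1` is a square. -/
lemma neg_one_square (hF : Fintype.card F = q ^ 2) : IsSquare (-1 : F) := by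
  rw [FiniteField.isSquare_neg_one_iff, hF, pow_two, Nat.mul_mod]
  have h4 : q % 4 < 4 := Nat.mod_lt _ (by norm_num)
  interval_cases q % 4 <;> norm_num

/-- The elements whose square is a scalar. -/
theorem hermSim_two (hn : 0 < n) (hv : q % 2 = 1 → padicValNat 2 n ≤ padicValNat 2 (Fintype.card F - 1))
    {x : GL (Fin n) F} (hxd : (x : Matrix (Fin n) (Fin n) F).det = 1) {z : F}
    (hz : (x : Matrix (Fin n) (Fin n) F) * x = z • 1) (h2 : (2 : F) ≠ 0) :
    ∃ P : GL (Fin n) F, P ∈ Cfsg.Geo.specialLinear (Fin n) F ∧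
      P⁻¹ * x * P ∈ Cfsg.Geo.similarityGroup (Cfsg.hermForm n F q) := by
  classical
  have hchar : ringChar F ≠ 2 := fun h => h2 (by exact_mod_cast (h ▸ ringChar.Nat.cast_ringChar : ((2 : ℕ) : F) = 0))
  have hodd := FiniteField.odd_card_of_char_ne_two hchar
  have hqodd : q % 2 = 1 := by
    rw [hF, Nat.pow_mod] at hodd
    rcases Nat.mod_two_eq_zero_or_one q with h | h
    · rw [h] at hodd; simp at hodd
    · exact h
  have hz0 : z ≠ 0 := by
    rintro rfl
    have h := congrArg Matrix.det hz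
    haveI : Nonempty (Fin n) := ⟨⟨0, hn⟩⟩
    rw [Matrix.det_mul, hxd, one_mul, zero_smul, Matrix.det_zero] at h
    exact one_ne_zero h
  obtain ⟨l, rfl⟩ : IsSquare z := by
    by_contra hns
    obtain ⟨m, hnm, hdet⟩ := det_of_sq_nonsquare hz hns
    rw [hxd] at hdet
    have hns' : ¬ IsSquare (-z) := fun h => hns (by simpa using (neg_one_square hF).mul h)
    have hk := (two_pow_dvd_orderOf (u := Units.mk0 (-z) (neg_ne_zero.mpr hz0)) hns').trans
      (orderOf_dvd_of_pow_eq_one (x := Units.mk0 (-z) (neg_ne_zero.mpr hz0)) (n := m)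
        (Units.ext (by rw [Units.val_pow_eq_pow_val, Units.val_mk0, Units.val_one]; exact hdet.symm)))
    haveI : Fact (Nat.Prime 2) := ⟨Nat.prime_two⟩
    have hm0 : m ≠ 0 := by omega
    have h1 : padicValNat 2 (Fintype.card F - 1) ≤ padicValNat 2 m :=
      (padicValNat_dvd_iff_le hm0).mp hk
    have h3 := hv hqodd
    rw [hnm, padicValNat.mul two_ne_zero hm0, padicValNat_self] at h3
    omega
  have hl : l ≠ 0 := fun h => hz0 (by rw [h, mul_zero])
  let x' : GL (Fin n) F := Matrix.GeneralLinearGroup.mkOfDetNeZero (l⁻¹ • (x : Matrix (Fin n) (Fin n) F))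
    (by rw [Matrix.det_smul, hxd, mul_one]; exact pow_ne_zero _ (inv_ne_zero hl))
  have hx' : x' ^ 2 = 1 := by
    refine Units.ext ?_
    rw [pow_two, Units.val_mul, Units.val_one]
    show (l⁻¹ • _) * (l⁻¹ • _) = _
    rw [Matrix.smul_mul, Matrix.mul_smul, hz, smul_smul, smul_smul,
      show l⁻¹ * l⁻¹ * (l * l) = 1 by field_simp, one_smul]
  obtain ⟨P, f, hP⟩ := H42.exists_diagonalize Nat.prime_two (by omega) x' hx'
  have hxP : (x : Matrix (Fin n) (Fin n) F) * P
      = (P : Matrix (Fin n) (Fin n) F) * Matrix.diagonal (fun i => l * ((f i : Fˣ) : F)) := by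
    have h1 : x' * P = P * H42.diagGL (fun i => (f i : Fˣ)) := by rw [hP]; group
    have h2' := congrArg (fun g : GL (Fin n) F => l • (g : Matrix (Fin n) (Fin n) F)) h1
    simp only [Units.val_mul, H42.coe_diagGL] at h2'
    have hxl : (x' : Matrix (Fin n) (Fin n) F) = l⁻¹ • (x : Matrix (Fin n) (Fin n) F) := rfl
    rw [hxl, Matrix.smul_mul, smul_smul, mul_inv_cancel₀ hl, one_smul, ← Matrix.mul_smul, ← Matrix.diagonal_smul] at h2'
    exact h2'
  refine exists_sl_hermSim hF x P (Equiv.refl _) 1 _ (H51.adj_one hF) (by simp) (by simpa using hxP)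
    (Units.mk0 (l ^ q * l) (mul_ne_zero (pow_ne_zero _ hl) hl)) ?_ ?_
  · have hadj : H51.adj hF (Matrix.diagonal (fun i => l * ((f i : Fˣ) : F)))
        = Matrix.diagonal (fun i => (l * ((f i : Fˣ) : F)) ^ q) := by
      ext i j
      rcases eq_or_ne i j with rfl | hij <;> simp [*, Ne.symm, (H51.q_pos hF).ne']
    rw [Matrix.mul_one, hadj, Matrix.diagonal_mul_diagonal, Matrix.smul_one_eq_diagonal]
    congr 1
    funext i
    have hf : ((f i : Fˣ) : F) ^ 2 = 1 := by
      have := (f i).2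
      rw [mem_rootsOfUnity] at this
      simpa using congrArg Units.val this
    obtain ⟨k, hk⟩ : ∃ k, q = 2 * k + 1 := ⟨q / 2, by omega⟩
    rw [Units.val_mk0, mul_pow, show ((f i : Fˣ) : F) ^ q = ((f i : Fˣ) : F) by
      rw [hk, pow_succ, pow_mul, hf, one_pow, one_mul]]
    linear_combination (l ^ q * l) * hf
  · intro t _
    let i0 : Fin n := ⟨0, hn⟩
    refine ⟨Matrix.diagonal fun i => if i = i0 then t else 1, ?_, ?_⟩
    · rw [Matrix.diagonal_mul_diagonal, Matrix.diagonal_mul_diagonal]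
      congr 1; funext i; exact mul_comm _ _
    · rw [Matrix.det_diagonal, Finset.prod_ite_eq' Finset.univ i0 (fun _ => t),
        if_pos (Finset.mem_univ _)]

end H47
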