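import Mathlib
import Cfsg.Agent.H47.UnitSim
import Cfsg.Agent.H47.OrthSimNeg
import Cfsg.Agent.H50.Count
import Cfsg.Agent.H37.Card

/-!
# Elements of `SL n` with no conjugate in a unitary similarity group
-/

set_option autoImplicit false
open scoped MatrixGroups Matrix
open Matrix Polynomial

namespace H47

variable {F : Type*} [Field F] [Fintype F] {n q : ℕ} (hF : Fintype.card F = q ^ 2)
include hF

/-- `r ∣ q₀ - 1`, outside the exceptional cases. -/
theorem herm_der_diag {r : ℕ} [hr : Fact r.Prime] (hr2 : r ≠ 2) (hn : 3 ≤ n)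
    (hgap : ¬ (n = 6 ∧ r = 3)) (hexc : ¬ ((r = 3 ∨ r = 5) ∧ n = r ∧ padicValNat r (q - 1) = 1))
    (hrq : r ∣ q - 1) :
    ∃ (x : GL (Fin n) F) (z : F), (x : Matrix (Fin n) (Fin n) F).det = 1 ∧
      (x : Matrix (Fin n) (Fin n) F) ^ r = z • 1 ∧
      (∀ a : F, (x : Matrix (Fin n) (Fin n) F) ≠ a • 1) ∧
      ∀ P : GL (Fin n) F, P⁻¹ * x * P ∉ Cfsg.Geo.similarityGroup (Cfsg.hermForm n F q) := by
  classical
  let F₀ : Subfield F := (H51.qFrob hF).eqLocusField (RingHom.id F)
  have hmem : ∀ a : F, a ∈ F₀ ↔ a ^ q = a := fun a => Iff.rfl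
  haveI : Fintype F₀ := Fintype.ofFinite F₀
  have hc0 : Fintype.card F₀ = q := by
    rw [← Nat.card_eq_fintype_card, ← H50.card_fixed hF]
    exact Nat.card_congr (Equiv.subtypeEquivRight hmem)
  obtain ⟨d₀, z₀, hprod, hpow, ⟨i₀, j₀, hij⟩, hasym⟩ :=
    exists_asym_diag (F := F₀) hr2 hn hgap (by rw [hc0]; exact hexc) (by rw [hc0]; exact hrq)
  let ι₀ : F₀ˣ →* Fˣ := Units.map (F₀.subtype : F₀ →+* F).toMonoidHom
  have hι : Function.Injective ι₀ := Units.map_injective Subtype.val_injective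
  let d : Fin n → Fˣ := fun i => ι₀ (d₀ i)
  have hd : ∀ i, (d i : F) = ((d₀ i : F₀) : F) := fun i => rfl
  refine ⟨H42.diagGL d, (z₀ : F), ?_, ?_, ?_, fun P hP => ?_⟩
  · rw [H42.coe_diagGL, Matrix.det_diagonal, ← Units.coe_prod, ← map_prod, hprod, map_one, Units.val_one]
  · rw [H42.coe_diagGL, Matrix.diagonal_pow, Matrix.smul_one_eq_diagonal]
    congr 1
    funext i
    have := congrArg Subtype.val (hpow i)
    simpa [hd] using this
  · intro a ha
    rw [H42.coe_diagGL, Matrix.smul_one_eq_diagonal] at ha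
    have := Matrix.diagonal_injective ha
    exact hij (hι (Units.ext ((congrFun this i₀).trans (congrFun this j₀).symm)))
  obtain ⟨c, hc⟩ := (mem_hermSim_iff hF _).mp hP
  haveI : Nonempty (Fin n) := ⟨⟨0, by omega⟩⟩
  have hcq := herm_multiplier_fixed hF hc
  let c₀ : F₀ˣ := Units.mk0 ⟨c, (hmem _).mpr hcq⟩ (fun h => c.ne_zero (congrArg Subtype.val h))
  obtain ⟨l₀, hl⟩ := hasym c₀
  apply hl
  set y : GL (Fin n) F := P⁻¹ * H42.diagGL d * P with hy
  -- `D` is conjugate to `c D⁻¹`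
  have hadjD : H51.adj hF (H42.diagGL d : Matrix (Fin n) (Fin n) F) = (H42.diagGL d : Matrix (Fin n) (Fin n) F) := by
    ext i j
    rw [H51.adj_apply, H42.coe_diagGL]
    rcases eq_or_ne i j with rfl | hij
    · rw [Matrix.diagonal_apply_eq, hd]
      exact (hmem _).mp (d₀ i : F₀).2
    · rw [Matrix.diagonal_apply_ne _ hij, Matrix.diagonal_apply_ne _ hij.symm, zero_pow (H51.q_pos hF).ne']
  let A : GL (Fin n) F := (H51.isUnit_adj hF P.isUnit).unit
  have hA : (A : Matrix (Fin n) (Fin n) F) = H51.adj hF (P : Matrix (Fin n) (Fin n) F) := rfl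
  have hU : ((P * A : GL (Fin n) F) : Matrix (Fin n) (Fin n) F) * (H42.diagGL d : Matrix (Fin n) (Fin n) F)
      = ((c : F) • (((H42.diagGL d)⁻¹ : GL (Fin n) F) : Matrix (Fin n) (Fin n) F)) * ((P * A : GL (Fin n) F) : Matrix (Fin n) (Fin n) F) := by
    have h1 : H51.adj hF (y : Matrix (Fin n) (Fin n) F)
        = (c : F) • ((y⁻¹ : GL (Fin n) F) : Matrix (Fin n) (Fin n) F) := by
      have := congrArg (· * ((y⁻¹ : GL (Fin n) F) : Matrix (Fin n) (Fin n) F)) hc
      simpa [Matrix.mul_assoc, hy] using this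
    have h2 : H51.adj hF (y : Matrix (Fin n) (Fin n) F) * (A : Matrix (Fin n) (Fin n) F)
        = (A : Matrix (Fin n) (Fin n) F) * (H42.diagGL d : Matrix (Fin n) (Fin n) F) := by
      have e : P * y = H42.diagGL d * P := by rw [hy]; group
      have e' := congrArg (fun g : GL (Fin n) F => H51.adj hF (g : Matrix (Fin n) (Fin n) F)) e
      simp only [Units.val_mul, H51.adj_mul, hadjD] at e'
      rw [hA]; exact e'
    have h3 : (P : Matrix (Fin n) (Fin n) F) * ((y⁻¹ : GL (Fin n) F) : Matrix (Fin n) (Fin n) F)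
        = (((H42.diagGL d)⁻¹ : GL (Fin n) F) : Matrix (Fin n) (Fin n) F) * (P : Matrix (Fin n) (Fin n) F) := by
      rw [← Units.val_mul, ← Units.val_mul, hy]; congr 1; group
    rw [Units.val_mul, Matrix.mul_assoc, ← h2, h1, Matrix.smul_mul, Matrix.mul_smul, ← Matrix.mul_assoc, h3,
      Matrix.smul_mul, Matrix.mul_assoc]
  have h1 := rank_conj (P * A) (aeval_intertwine hU (X - C ((l₀ : F₀) : F)))
  have e : (c : F) • (((H42.diagGL d)⁻¹ : GL (Fin n) F) : Matrix (Fin n) (Fin n) F)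
      = Matrix.diagonal fun i => ((c * (d i)⁻¹ : Fˣ) : F) := by
    have hinv : (H42.diagGL d)⁻¹ = H42.diagGL (fun i => (d i)⁻¹) := by
      refine inv_eq_of_mul_eq_one_right (Units.ext ?_)
      rw [Units.val_mul, H42.coe_diagGL, H42.coe_diagGL, Matrix.diagonal_mul_diagonal]
      simp [← Matrix.diagonal_one]
    rw [hinv, H42.coe_diagGL, ← Matrix.diagonal_smul]; rfl
  rw [e, H42.coe_diagGL] at h1
  have h2 := card_ne_eq_of_rank h1
  refine Eq.trans ?_ (h2.trans ?_)
  · congr 1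
    ext i
    simp only [Finset.mem_filter, Finset.mem_univ, true_and]
    rw [hd, Subtype.coe_inj, Units.val_inj]
  · congr 1
    ext i
    simp only [Finset.mem_filter, Finset.mem_univ, true_and]
    have hcd : (c * (d i)⁻¹ : Fˣ) = ι₀ (c₀ * (d₀ i)⁻¹) := by
      rw [map_mul, map_inv]; congr 1; exact Units.ext rfl
    rw [hcd]
    show (((c₀ * (d₀ i)⁻¹ : F₀ˣ) : F₀) : F) = _ ↔ _
    rw [Subtype.coe_inj, Units.val_inj]
    constructor
    · intro h; rw [← h]; simp
    · intro h; rw [h]; simp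

/-- `r ∤ q - 1`, and `-q₀` not a power of `q`. -/
theorem herm_der_block {r i : ℕ} [hr : Fact r.Prime] (hi : i ≤ n)
    (hio : orderOf (Fintype.card F : ZMod r) = i) (hipos : 0 < i) (hrq : ¬ r ∣ Fintype.card F - 1)
    (hne : ∀ j : ℕ, (q : ZMod r) ^ (2 * j) ≠ -(q : ZMod r)) :
    ∃ x : GL (Fin n) F, (x : Matrix (Fin n) (Fin n) F).det = 1 ∧ x ^ r = 1 ∧ x ≠ 1 ∧
      ∀ P : GL (Fin n) F, P⁻¹ * x * P ∉ Cfsg.Geo.similarityGroup (Cfsg.hermForm n F q) := by
  classical
  set Q := Fintype.card F with hQ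
  have hdvd : r ∣ Q ^ i - 1 := by
    have : ((Q : ℕ) : ZMod r) ^ i = 1 := hio ▸ pow_orderOf_eq_one _
    rw [← Nat.cast_pow, ← Nat.cast_one, ZMod.natCast_eq_natCast_iff] at this
    exact (Nat.modEq_iff_dvd' (Nat.one_le_pow _ _ Fintype.card_pos)).mp this.symm
  obtain ⟨E, _, _, _, hE, hcard⟩ := exists_extension (F := F) i hipos
  haveI : Module.Finite F E := Module.finite_of_finrank_pos (by omega)
  let bs : Module.Basis (Fin i) F E := Module.finBasisOfFinrankEq F E hE
  haveI : Fintype E := Fintype.ofFinite E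
  obtain ⟨u, hu⟩ := exists_prime_orderOf_dvd_card' r
    (show r ∣ Nat.card Eˣ by rw [Nat.card_units, hcard]; exact hdvd)
  have hur : u ^ r = 1 := hu ▸ pow_orderOf_eq_one u
  have hu1 : u ≠ 1 := fun h => by rw [h, orderOf_one] at hu; exact hr.out.one_lt.ne hu
  have hunit : ∀ z : F, z ^ r = 1 → z = 1 := by
    intro z hz
    have hz0 : z ≠ 0 := by
      rintro rfl
      rw [zero_pow hr.out.ne_zero] at hz
      exact zero_ne_one hz
    by_contra h1
    have ho : orderOf (Units.mk0 z hz0) = r := orderOf_eq_prime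
      (Units.ext (by simpa using hz)) (fun h => h1 (congrArg Units.val h))
    apply hrq
    rw [← ho]
    have := orderOf_dvd_natCard (Units.mk0 z hz0)
    rwa [Nat.card_units, Nat.card_eq_fintype_card] at this
  let e : Fin i ⊕ Fin (n - i) ≃ Fin n := finSumFinEquiv.trans (finCongr (by omega))
  let R := Matrix.reindexAlgEquiv F F e
  let bh := blockHom F i (n - i)
  let Ψ : Eˣ →* GL (Fin n) F :=
    (Units.map (R.toAlgHom.comp bh).toMonoidHom).comp
      ((Units.map (MonoidHom.prod (Algebra.leftMulMatrix bs).toMonoidHom (1 : E →* Matrix (Fin (n - i)) (Fin (n - i)) F))))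
  have hΨ : ∀ v : Eˣ, (Ψ v : Matrix (Fin n) (Fin n) F)
      = (R.toAlgHom.comp bh) (Algebra.leftMulMatrix bs (v : E), 1) := fun v => rfl
  have hΨev : ∀ (v : Eˣ) (S : Polynomial F), (Polynomial.aeval (Ψ v : Matrix (Fin n) (Fin n) F) S).det
      = (Algebra.leftMulMatrix bs (Polynomial.aeval (v : E) S)).det * (S.eval 1) ^ (n - i) := by
    intro v S
    rw [hΨ, Polynomial.aeval_algHom_apply, Polynomial.aeval_prod_apply, Polynomial.aeval_algHom_apply]
    show (Matrix.reindex e e (Matrix.fromBlocks _ 0 0 _)).det = _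
    rw [Matrix.det_reindex_self, Matrix.det_fromBlocks_zero₁₂,
      show (1 : Matrix (Fin (n - i)) (Fin (n - i)) F) = algebraMap F _ 1 from (map_one _).symm,
      Polynomial.aeval_algebraMap_apply, Algebra.algebraMap_eq_smul_one, Matrix.det_smul, Matrix.det_one,
      mul_one, Polynomial.coe_aeval_eq_eval, Fintype.card_fin]
  refine ⟨Ψ u, ?_, ?_, ?_, ?_⟩
  · rw [hΨ]
    show (Matrix.reindex e e (Matrix.fromBlocks _ 0 0 1)).det = 1
    rw [Matrix.det_reindex_self, Matrix.det_fromBlocks_zero₁₂, Matrix.det_one, mul_one]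
    apply hunit
    rw [← Matrix.det_pow, ← map_pow, ← Units.val_pow_eq_pow_val, hur, Units.val_one, map_one,
      Matrix.det_one]
  · rw [← map_pow, hur, map_one]
  · intro h
    set μ := minpoly F (u : E) with hμ
    have h1 := hΨev u μ
    rw [minpoly.aeval, map_zero, h, Units.val_one,
      show (1 : Matrix (Fin n) (Fin n) F) = algebraMap F _ 1 from (map_one _).symm,
      Polynomial.aeval_algebraMap_apply, Algebra.algebraMap_eq_smul_one, Matrix.det_smul, Matrix.det_one,
      mul_one, Polynomial.coe_aeval_eq_eval] at h1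
    haveI : Nonempty (Fin i) := ⟨⟨0, hipos⟩⟩
    rw [Matrix.det_zero, zero_mul] at h1
    have hroot : μ.IsRoot 1 := eq_zero_of_pow_eq_zero h1
    have := minpoly.root (Algebra.IsIntegral.isIntegral _) hroot
    rw [map_one] at this
    exact hu1 (Units.ext this.symm)
  intro P hP
  obtain ⟨c, hc⟩ := (mem_hermSim_iff hF _).mp hP
  set x := Ψ u with hx
  set y : GL (Fin n) F := P⁻¹ * x * P with hy
  haveI : Nonempty (Fin n) := ⟨⟨0, by omega⟩⟩
  have hyr : y ^ r = 1 := by
    rw [hy, show P⁻¹ * x * P = MulAut.conj P⁻¹ x by simp, ← map_pow, hx, ← map_pow, hur, map_one, map_one]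
  have hck : ∀ k : ℕ, H51.adj hF ((y ^ k : GL (Fin n) F) : Matrix (Fin n) (Fin n) F)
      * ((y ^ k : GL (Fin n) F) : Matrix (Fin n) (Fin n) F) = ((c : F) ^ k) • 1 := by
    intro k
    induction k with
    | zero => simp
    | succ k ih =>
      rw [pow_succ y k, Units.val_mul, H51.adj_mul, Matrix.mul_assoc, ← Matrix.mul_assoc _ ((y ^ k : GL (Fin n) F) : Matrix (Fin n) (Fin n) F),
        ih, Matrix.smul_mul, Matrix.one_mul, Matrix.mul_smul, hc, smul_smul, pow_succ]
  have hc1 : (c : F) = 1 := by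
    apply hunit
    have h1 := hck r
    rw [hyr, Units.val_one, H51.adj_one, Matrix.one_mul] at h1
    have h2 := congrFun (congrFun h1 (Classical.arbitrary _)) (Classical.arbitrary (Fin n))
    simpa using h2.symm
  have hadj : H51.adj hF (y : Matrix (Fin n) (Fin n) F) = ((y ^ (r - 1) : GL (Fin n) F) : Matrix (Fin n) (Fin n) F) := by
    refine left_inv_eq_right_inv (a := (y : Matrix (Fin n) (Fin n) F)) (by rw [hc, hc1, one_smul]) ?_
    rw [← Units.val_mul, ← pow_succ', Nat.sub_add_cancel hr.out.one_le, hyr, Units.val_one]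
  set μ := minpoly F (u : E) with hμ
  set ν := μ.map (H51.qFrob hF) with hν
  have hμ1 : μ.eval 1 ≠ 0 := by
    intro h
    have := minpoly.root (Algebra.IsIntegral.isIntegral _) (show μ.IsRoot 1 from h)
    rw [map_one] at this
    exact hu1 (Units.ext this.symm)
  have hadjev : ∀ (M : Matrix (Fin n) (Fin n) F) (S : Polynomial F),
      H51.adj hF (Polynomial.aeval M S) = Polynomial.aeval (H51.adj hF M) (S.map (H51.qFrob hF)) := by
    intro M S
    induction S using Polynomial.induction_on' with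
    | add a b ha hb => rw [map_add, H51.adj_add, ha, hb, Polynomial.map_add, map_add]
    | monomial k a =>
      rw [Polynomial.map_monomial, Polynomial.aeval_monomial, Polynomial.aeval_monomial,
        Algebra.algebraMap_eq_smul_one, Algebra.algebraMap_eq_smul_one, Matrix.smul_mul, Matrix.one_mul,
        Matrix.smul_mul, Matrix.one_mul, H51.adj_smul, H51.adj_pow, H51.qFrob_apply]
  have hconj : ∀ (k : ℕ) (S : Polynomial F),
      (Polynomial.aeval ((y ^ k : GL (Fin n) F) : Matrix (Fin n) (Fin n) F) S).det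
        = (Polynomial.aeval ((x ^ k : GL (Fin n) F) : Matrix (Fin n) (Fin n) F) S).det := by
    intro k S
    have h3 : (P : Matrix (Fin n) (Fin n) F) * ((y ^ k : GL (Fin n) F) : Matrix (Fin n) (Fin n) F)
        = ((x ^ k : GL (Fin n) F) : Matrix (Fin n) (Fin n) F) * (P : Matrix (Fin n) (Fin n) F) := by
      rw [← Units.val_mul, ← Units.val_mul, hy, show P⁻¹ * x * P = MulAut.conj P⁻¹ x by simp, ← map_pow]
      simp [mul_assoc]
    have h4 := congrArg Matrix.det (aeval_intertwine h3 S)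
    rw [Matrix.det_mul, Matrix.det_mul, mul_comm] at h4
    exact mul_right_cancel₀ (Matrix.isUnits_det_units P).ne_zero h4
  have h0 : (Polynomial.aeval ((x ^ (r - 1) : GL (Fin n) F) : Matrix (Fin n) (Fin n) F) ν).det = 0 := by
    rw [← hconj, ← hadj, ← hadjev, H51.det_adj hF]
    have := hconj 1 μ
    rw [pow_one, pow_one] at this
    rw [this, hx, hΨev, hμ, minpoly.aeval, map_zero]
    haveI : Nonempty (Fin i) := ⟨⟨0, hipos⟩⟩
    rw [Matrix.det_zero, zero_mul, zero_pow (H51.q_pos hF).ne']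
  rw [hx, ← map_pow, hΨev] at h0
  have hν1 : ν.eval 1 ≠ 0 := by
    rw [hν, ← map_one (H51.qFrob hF), Polynomial.eval_map, Polynomial.eval₂_at_apply, _root_.map_ne_zero]
    exact hμ1
  have hzero : Polynomial.aeval ((u ^ (r - 1) : Eˣ) : E) ν = 0 := by
    by_contra h
    exact mul_ne_zero ((Matrix.isUnit_iff_isUnit_det _).mp ((Ne.isUnit h).map (Algebra.leftMulMatrix bs))).ne_zero
      (pow_ne_zero _ hν1) h0
  obtain ⟨k, -, hqk, hpp⟩ := H51.exists_q_pow hF
  haveI : Fact (ringChar F).Prime := ⟨hpp⟩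
  haveI : CharP F (ringChar F) := ringChar.charP F
  haveI : CharP E (ringChar F) := charP_of_injective_algebraMap (algebraMap F E).injective _
  let φ : E →+* E := iterateFrobenius E (ringChar F) k
  have hφ : ∀ v : E, φ v = v ^ q := fun v => by rw [hqk]; exact iterateFrobenius_def _ _ _
  have hroot : Polynomial.aeval (((u ^ (r - 1)) ^ q : Eˣ) : E) μ = 0 := by
    have h1 := congrArg φ hzero
    rw [map_zero, Polynomial.aeval_def, hν, Polynomial.eval₂_map, Polynomial.hom_eval₂, hφ] at h1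
    have hcomp : φ.comp ((algebraMap F E).comp (H51.qFrob hF)) = algebraMap F E :=
      RingHom.ext fun a => by
        rw [RingHom.comp_apply, RingHom.comp_apply, hφ, H51.qFrob_apply, ← map_pow, H51.pow_q_q hF]
    rw [hcomp] at h1
    rw [Polynomial.aeval_def, Units.val_pow_eq_pow_val]
    exact h1
  obtain ⟨g, hg⟩ := minpoly.exists_algEquiv_of_root' (Algebra.IsAlgebraic.isAlgebraic _) hroot
  obtain ⟨j, hj⟩ := FiniteField.exists_forall_apply_eq_pow F (ringChar F) E g
  rw [hj, Nat.card_eq_fintype_card, ← hQ] at hg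
  have h1 : u ^ (Q ^ (j : ℕ)) = u ^ ((r - 1) * q) := by
    apply Units.ext
    rw [pow_mul, Units.val_pow_eq_pow_val, hg]
  have h2 := pow_inj_mod.1 h1
  rw [hu] at h2
  have h3 := (ZMod.natCast_eq_natCast_iff' _ _ r).mpr h2
  rw [Nat.cast_pow, Nat.cast_mul, Nat.cast_sub hr.out.one_le, ZMod.natCast_self, Nat.cast_one, zero_sub,
    hF, Nat.cast_pow, ← pow_mul, neg_one_mul] at h3
  exact hne j h3

/-- The possible primes. -/
theorem herm_index_cases (hn : 0 < n) {r : ℕ} [hr : Fact r.Prime]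
    (hrp : ¬ r ∣ q) (hΩ : r ∣ (Cfsg.Geo.similarityGroup (Cfsg.hermForm n F q)).relIndex
      (Cfsg.Geo.specialLinear (Fin n) F)) :
    ∃ i, 1 ≤ i ∧ i ≤ n ∧ (q : ZMod r) ^ i = -((-1) ^ i) := by
  classical
  have hq1 := H51.one_lt_q hF
  set H := Cfsg.Geo.similarityGroup (Cfsg.hermForm n F q)
  set S := Cfsg.Geo.specialLinear (Fin n) F
  let f : Cfsg.SU n F q →* H.subgroupOf S :=
    { toFun := fun g => ⟨⟨Matrix.SpecialLinearGroup.toGL g.1, mem_sl_iff.2 g.1.2⟩, ⟨1, fun u v => by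
        rw [Units.val_one, one_mul]; exact g.2 u v⟩⟩
      map_one' := Subtype.ext (Subtype.ext (map_one Matrix.SpecialLinearGroup.toGL))
      map_mul' := fun a b => Subtype.ext (Subtype.ext (map_mul Matrix.SpecialLinearGroup.toGL a.1 b.1)) }
  have hf : Function.Injective f := fun a b h => by
    have h' := congrArg (fun z : H.subgroupOf S => (((z : S) : GL (Fin n) F) : Matrix (Fin n) (Fin n) F)) h
    exact H50.SU_ext h'
  have hSL : Nat.card S = Nat.card (Matrix.SpecialLinearGroup (Fin n) F) :=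
    (Nat.card_congr (H37.slEquivKerDet (Fin n) F).toEquiv).symm
  have h1 : r * Nat.card (Cfsg.SU n F q) ∣ Nat.card (Matrix.SpecialLinearGroup (Fin n) F) := by
    have := mul_dvd_mul hΩ (Subgroup.card_dvd_of_injective f hf)
    rwa [Subgroup.relIndex, Subgroup.index_mul_card, hSL] at this
  have h2 := mul_dvd_mul_left (q + 1) (mul_dvd_mul_right h1 (Nat.card F - 1))
  rw [mul_comm (Nat.card (Matrix.SpecialLinearGroup (Fin n) F)), H37.card_SL_fin (F := F) n hn,
    show Nat.card F = q ^ 2 by rw [Nat.card_eq_fintype_card, hF]] at h2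
  have hfr : ∏ i : Fin n, ((q ^ 2) ^ n - (q ^ 2) ^ (i : ℕ))
      = q ^ (2 * ∑ i ∈ Finset.range n, i) * ((∏ i ∈ Finset.range n, (if Even i then q ^ (i + 1) + 1 else q ^ (i + 1) - 1))
        * ∏ i ∈ Finset.range n, (if Even i then q ^ (i + 1) - 1 else q ^ (i + 1) + 1)) := by
    rw [Fin.prod_univ_eq_prod_range (fun i => (q ^ 2) ^ n - (q ^ 2) ^ i) n, pow_mul, ← Finset.prod_pow_eq_pow_sum,
      ← Finset.prod_mul_distrib (s := Finset.range n) (f := fun i => if Even i then q ^ (i + 1) + 1 else q ^ (i + 1) - 1)]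
    rw [← Finset.prod_range_reflect (fun i => (if Even i then q ^ (i + 1) + 1 else q ^ (i + 1) - 1) *
      (if Even i then q ^ (i + 1) - 1 else q ^ (i + 1) + 1)) n, ← Finset.prod_mul_distrib]
    refine Finset.prod_congr rfl fun i hi => ?_
    rw [Finset.mem_range] at hi
    have hterm : ∀ m : ℕ, (q ^ 2) ^ m - 1 = (q ^ m + 1) * (q ^ m - 1) := fun m => by
      rw [← pow_mul, mul_comm 2, pow_mul]; simpa [sq] using Nat.sq_sub_sq (q ^ m) 1
    have hm : n - 1 - i + 1 = n - i := by omega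
    have hsplit : (q ^ 2) ^ n - (q ^ 2) ^ i = (q ^ 2) ^ i * ((q ^ 2) ^ (n - i) - 1) := by
      rw [Nat.mul_sub, mul_one, ← pow_add, Nat.add_sub_cancel' hi.le]
    rw [hsplit, hterm, ← hm]
    congr 1
    split_ifs <;> ring
  rw [hfr] at h2
  set A := ∏ i ∈ Finset.range n, (if Even i then q ^ (i + 1) + 1 else q ^ (i + 1) - 1) with hAdef
  set B := ∏ i ∈ Finset.range n, (if Even i then q ^ (i + 1) - 1 else q ^ (i + 1) + 1) with hBdef
  have hA : 0 < A := Finset.prod_pos fun i _ => by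
    split_ifs
    · omega
    · exact Nat.sub_pos_of_lt (Nat.one_lt_pow (by omega) hq1)
  have hG := H50.card_GU (F := F) (n := n) hF
  rw [← H50.card_SU_mul hF hn, ← hAdef] at hG
  have h3 : (q ^ 2 - 1) * A * (r * q ^ (n * (n - 1) / 2))
      ∣ (q ^ 2 - 1) * A * q ^ (2 * ∑ i ∈ Finset.range n, i) * B := by
    have hq2 : q ^ 2 - 1 = (q + 1) * (q - 1) := by simpa [sq] using Nat.sq_sub_sq q 1
    refine (dvd_of_eq ?_).trans (h2.trans ?_)
    · calc _ = r * ((q ^ (n * (n - 1) / 2)) * A) * (q ^ 2 - 1) := by ring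
        _ = r * ((q + 1) * Nat.card (Cfsg.SU n F q)) * (q ^ 2 - 1) := by rw [hG]
        _ = _ := by ring
    · rw [hq2]; exact ⟨q - 1, by ring⟩
  have hq21 : 0 < q ^ 2 - 1 := Nat.sub_pos_of_lt (Nat.one_lt_pow two_ne_zero hq1)
  rw [mul_assoc _ _ B, Nat.mul_dvd_mul_iff_left (Nat.mul_pos hq21 hA)] at h3
  have h4 := (dvd_mul_right r _).trans h3
  rcases hr.out.dvd_mul.1 h4 with h | h
  · exact absurd (hr.out.dvd_of_dvd_pow h) hrp
  obtain ⟨i, hi, hi'⟩ := (Prime.dvd_finsetProd_iff hr.out.prime _).1 h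
  rw [Finset.mem_range] at hi
  refine ⟨i + 1, by omega, by omega, ?_⟩
  rw [← ZMod.natCast_eq_zero_iff] at hi'
  rcases Nat.even_or_odd i with he | ho
  · rw [if_pos he, Nat.cast_sub (Nat.one_le_pow _ _ (by omega)), Nat.cast_pow, Nat.cast_one, sub_eq_zero] at hi'
    rw [hi', he.add_one.neg_one_pow, neg_neg]
  · rw [if_neg (Nat.not_even_iff_odd.2 ho), Nat.cast_add, Nat.cast_pow, Nat.cast_one, add_eq_zero_iff_eq_neg] at hi'
    rw [hi', ho.add_one.neg_one_pow]

end H47
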