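import Mathlib
import Cfsg.Agent.H47.UnitSim
import Cfsg.Agent.H47.OrthSimPos

/-!
# Elements of order two in characteristic two, and small degree, against a unitary similarity group
-/

set_option autoImplicit false
open scoped MatrixGroups Matrix
open Matrix

namespace H47

variable {F : Type*} [Field F] [Fintype F] {n q : ℕ} (hF : Fintype.card F = q ^ 2)
include hF

/-- `x²` a scalar in characteristic two. -/
theorem hermSim_char_two [CharP F 2] {x : GL (Fin n) F}
    {z : F} (hz : (x : Matrix (Fin n) (Fin n) F) * x = z • 1)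
    (hns : ∀ c : F, (x : Matrix (Fin n) (Fin n) F) ≠ c • 1) :
    ∃ P : GL (Fin n) F, P ∈ Cfsg.Geo.specialLinear (Fin n) F ∧
      P⁻¹ * x * P ∈ Cfsg.Geo.similarityGroup (Cfsg.hermForm n F q) := by
  classical
  have hsqrt : ∀ a : F, ∃ b, b * b = a := by
    intro a
    obtain ⟨b, hb⟩ := Finite.injective_iff_surjective.mp (frobenius_inj F 2) a
    exact ⟨b, by simpa [frobenius_def, pow_two] using hb⟩
  haveI : Nonempty (Fin n) := by
    rcases Nat.eq_zero_or_pos n with rfl | h
    · exact absurd (Subsingleton.elim _ _) (hns 0)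
    · exact ⟨⟨0, h⟩⟩
  obtain ⟨l, hl⟩ := hsqrt z
  have hl0 : l ≠ 0 := by
    rintro rfl
    rw [← hl, mul_zero, zero_smul] at hz
    have := congrArg Matrix.det hz
    rw [Matrix.det_mul, Matrix.det_zero] at this
    exact (mul_ne_zero (Matrix.isUnits_det_units x).ne_zero (Matrix.isUnits_det_units x).ne_zero) this
  set N := l⁻¹ • (x : Matrix (Fin n) (Fin n) F) - 1 with hN
  have hN2 : N ^ 2 = 0 := by
    haveI : CharP (Matrix (Fin n) (Fin n) F) 2 := Matrix.charP 2
    rw [hN, sub_pow_char_of_commute 2 (Commute.one_right _), one_pow, pow_two, smul_mul_smul_comm, hz,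
      smul_smul, ← hl, mul_mul_mul_comm, inv_mul_cancel₀ hl0, one_mul, one_smul, sub_self]
  have hxN : (x : Matrix (Fin n) (Fin n) F) = l • (1 + N) := by
    rw [hN, add_sub_cancel, smul_smul, mul_inv_cancel₀ hl0, one_smul]
  obtain ⟨S, _, _, sz, b, hb⟩ := exists_jordan_chains _ (Matrix.toLin' N)
    (⟨2, by rw [← Matrix.toLin'_pow, hN2, map_zero]⟩) rfl
  have hsz : ∀ i, sz i ≤ 1 := by
    intro i
    by_contra h
    have e1 := hb i ⟨0, by omega⟩
    rw [dif_pos (show 0 + 1 < sz i + 1 by omega)] at e1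
    have e2 := hb i ⟨1, by omega⟩
    rw [dif_pos (show 1 + 1 < sz i + 1 by omega)] at e2
    have e3 : (Matrix.toLin' N) ((Matrix.toLin' N) (b ⟨i, ⟨0, by omega⟩⟩)) = 0 := by
      rw [← LinearMap.comp_apply, ← Matrix.toLin'_mul, ← pow_two, hN2, map_zero, LinearMap.zero_apply]
    rw [e1] at e3
    exact b.ne_zero _ (e2 ▸ e3)
  let S1 := {i : S // sz i = 1}
  let S0 := {i : S // sz i = 0}
  have hcard : 2 * Fintype.card S1 + Fintype.card S0 = n := by
    have h1 := Module.finrank_eq_card_basis b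
    rw [Module.finrank_fin_fun, Fintype.card_sigma] at h1
    simp only [Fintype.card_fin, Finset.sum_add_distrib, Finset.sum_const, Finset.card_univ,
      smul_eq_mul, mul_one] at h1
    have h2 : ∑ i, sz i = Fintype.card S1 := by
      rw [Fintype.card_subtype, Finset.card_filter]
      refine Finset.sum_congr rfl fun i _ => ?_
      have := hsz i
      split_ifs with h <;> omega
    have h3 : Fintype.card S = Fintype.card S1 + Fintype.card S0 := by
      rw [Fintype.card_congr (Equiv.sumCompl (fun i : S => sz i = 1)).symm, Fintype.card_sum]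
      congr 1
      refine Fintype.card_congr (Equiv.subtypeEquivRight fun i => ?_)
      have := hsz i
      omega
    omega
  set k := Fintype.card S1 with hk
  set j := Fintype.card S0 with hj
  let σ1 : Fin k ≃ S1 := (Fintype.equivFin S1).symm
  let σ0 : Fin j ≃ S0 := (Fintype.equivFin S0).symm
  let ι' : ((Fin k ⊕ Fin k) ⊕ (Fin j)) → Σ i : S, Fin (sz i + 1) := Sum.elim
    (Sum.elim (fun i => ⟨(σ1 i).1, ⟨0, by omega⟩⟩) (fun i => ⟨(σ1 i).1, ⟨1, by rw [(σ1 i).2]; omega⟩⟩))
    (fun i => ⟨(σ0 i).1, ⟨0, by omega⟩⟩)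
  have hinj : Function.Injective ι' := by
    rintro ((a | a) | a) ((c | c) | c) h <;>
      simp only [ι', Sum.elim_inl, Sum.elim_inr, Sigma.mk.inj_iff] at h
    · exact congrArg _ (congrArg _ (σ1.injective (Subtype.ext h.1)))
    · obtain ⟨h1, h2⟩ := h
      obtain rfl := σ1.injective (Subtype.ext h1)
      have := Fin.val_eq_of_eq (eq_of_heq h2)
      simp at this
    · exact absurd ((σ1 a).2.symm.trans ((congrArg sz h.1).trans (σ0 c).2)) one_ne_zero
    · obtain ⟨h1, h2⟩ := h
      obtain rfl := σ1.injective (Subtype.ext h1)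
      have := Fin.val_eq_of_eq (eq_of_heq h2)
      simp at this
    · exact congrArg _ (congrArg _ (σ1.injective (Subtype.ext h.1)))
    · exact absurd ((σ1 a).2.symm.trans ((congrArg sz h.1).trans (σ0 c).2)) one_ne_zero
    · exact absurd ((σ1 c).2.symm.trans ((congrArg sz h.1.symm).trans (σ0 a).2)) one_ne_zero
    · exact absurd ((σ1 c).2.symm.trans ((congrArg sz h.1.symm).trans (σ0 a).2)) one_ne_zero
    · exact congrArg _ (σ0.injective (Subtype.ext h.1))
  have hbij : Function.Bijective ι' := by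
    rw [Fintype.bijective_iff_injective_and_card]
    refine ⟨hinj, ?_⟩
    rw [← Module.finrank_eq_card_basis b, Module.finrank_fin_fun]
    simp
    omega
  let bb := b.reindex (Equiv.ofBijective ι' hbij).symm
  have hbb : ∀ i, bb i = b (ι' i) := fun i => by simp [bb]
  let D : Matrix ((Fin k ⊕ Fin k) ⊕ (Fin j)) ((Fin k ⊕ Fin k) ⊕ (Fin j)) F := l • Matrix.fromBlocks (Matrix.fromBlocks 1 0 1 1) 0 0 1
  have hrel : ∀ w, (x : Matrix (Fin n) (Fin n) F) *ᵥ w = l • (w + Matrix.toLin' N w) := by
    intro w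
    rw [hxN, Matrix.smul_mulVec, Matrix.add_mulVec, Matrix.one_mulVec, Matrix.toLin'_apply]
  obtain ⟨e, Q, hQ⟩ := exists_basis_GL bb x D (by
    rintro ((a | a) | a)
    · rw [hrel, hbb]
      simp only [ι', Sum.elim_inl]
      rw [hb, dif_pos (show 0 + 1 < sz (σ1 a).1 + 1 by have := (σ1 a).2; omega)]
      simp [D, Fintype.sum_sum_type, Matrix.one_apply, Finset.sum_ite_eq', ite_smul, hbb, ι']
    · rw [hrel, hbb]
      simp only [ι', Sum.elim_inl, Sum.elim_inr]
      rw [hb, dif_neg (show ¬ 1 + 1 < sz (σ1 a).1 + 1 by have := (σ1 a).2; omega)]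
      simp [D, Fintype.sum_sum_type, Matrix.one_apply, Finset.sum_ite_eq', ite_smul, hbb, ι']
    · rw [hrel, hbb]
      simp only [ι', Sum.elim_inr]
      rw [hb, dif_neg (show ¬ 0 + 1 < sz (σ0 a).1 + 1 by have := (σ0 a).2; omega)]
      simp [D, Fintype.sum_sum_type, Matrix.one_apply, Finset.sum_ite_eq', ite_smul, hbb, ι'])
  let G2 : Matrix (Fin k ⊕ Fin k) (Fin k ⊕ Fin k) F := Matrix.fromBlocks 0 1 1 0
  refine exists_sl_hermSim hF x Q e (Matrix.fromBlocks G2 0 0 1) _ ?_ ?_ hQ
    (Units.mk0 (l ^ q * l) (mul_ne_zero (pow_ne_zero _ hl0) hl0)) ?_ ?_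
  · ext ((i | i) | i) ((c | c) | c) <;>
      simp [G2, Matrix.one_apply, apply_ite (fun a : F => a ^ q), (H51.q_pos hF).ne', eq_comm]
  · have hG2 : G2 * G2 = 1 := by simp [G2, Matrix.fromBlocks_multiply]
    rw [Matrix.det_fromBlocks_zero₁₂, Matrix.det_one, mul_one]
    exact left_ne_zero_of_mul_eq_one (by rw [← Matrix.det_mul, hG2, Matrix.det_one])
  · have hblock : (Matrix.fromBlocks 1 1 0 1 : Matrix (Fin k ⊕ Fin k) (Fin k ⊕ Fin k) F) * G2
        * Matrix.fromBlocks 1 0 1 1 = G2 := by
      have h11 : (1 : Matrix (Fin k) (Fin k) F) + 1 = 0 := by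
        rw [← two_smul F, CharTwo.two_eq_zero, zero_smul]
      simp [G2, Matrix.fromBlocks_multiply, h11]
    have hadj : H51.adj hF D = (l ^ q) • Matrix.fromBlocks (Matrix.fromBlocks 1 1 0 1) 0 0 1 := by
      ext ((i | i) | i) ((c | c) | c) <;>
        simp [D, Matrix.one_apply, apply_ite (fun a : F => a ^ q), (H51.q_pos hF).ne', mul_pow, eq_comm]
    rw [hadj, Matrix.smul_mul, Matrix.fromBlocks_multiply, Matrix.smul_mul, Matrix.mul_smul,
      Matrix.fromBlocks_multiply, smul_smul]
    simp [hblock]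
  · intro t _
    have hk0 : 0 < k := by
      rw [hk, Fintype.card_pos_iff]
      by_contra h
      apply hns l
      have hN0 : Matrix.toLin' N = 0 := b.ext fun ⟨i, c⟩ => by
        rw [hb, LinearMap.zero_apply, dif_neg]
        have hne : sz i ≠ 1 := fun h1 => h ⟨⟨i, h1⟩⟩
        have := hsz i; omega
      have hN' : N = 0 := by
        apply Matrix.toLin'.injective
        rw [hN0, map_zero]
      rw [hxN, hN', add_zero]
    obtain ⟨s, hs⟩ := hsqrt t
    let i0 : Fin k := ⟨0, hk0⟩
    let A : Matrix (Fin k) (Fin k) F := Matrix.diagonal fun i => if i = i0 then s else 1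
    refine ⟨Matrix.fromBlocks (Matrix.fromBlocks A 0 0 A) 0 0 1, ?_, ?_⟩
    · simp [D, Matrix.fromBlocks_multiply]
    · rw [Matrix.det_fromBlocks_zero₁₂, Matrix.det_fromBlocks_zero₁₂, Matrix.det_one, mul_one,
        Matrix.det_diagonal, Finset.prod_ite_eq' Finset.univ i0 (fun _ => s), if_pos (Finset.mem_univ _),
        hs]

/-- `n = r ∈ {3, 5}` and `(q₀ - 1)_r = r`. -/
theorem hermSim_small {r : ℕ} [Fact r.Prime] (hr : r = 3 ∨ r = 5)
    (hv : padicValNat r (Fintype.card F - 1) = 1) (hfix : ∀ a : F, a ^ r = 1 → a ^ q = a)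
    {x : GL (Fin r) F} (hxd : (x : Matrix (Fin r) (Fin r) F).det = 1) {z : F}
    (hz : (x : Matrix (Fin r) (Fin r) F) ^ r = z • 1) :
    ∃ P : GL (Fin r) F, P ∈ Cfsg.Geo.specialLinear (Fin r) F ∧
      P⁻¹ * x * P ∈ Cfsg.Geo.similarityGroup (Cfsg.hermForm r F q) := by
  classical
  have hrp : r.Prime := Fact.out
  haveI : NeZero r := ⟨hrp.ne_zero⟩
  have hr2 : r ≠ 2 := by omega
  have hdvd : r ∣ Fintype.card F - 1 := by
    by_contra h
    rw [padicValNat.eq_zero_of_not_dvd h] at hv
    omega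
  have hzr : z ^ r = 1 := by
    have h := congrArg Matrix.det hz
    rw [Matrix.det_pow, hxd, one_pow, Matrix.det_smul, Matrix.det_one, mul_one, Fintype.card_fin] at h
    exact h.symm
  have hz1 : z = 1 := by
    by_contra hne
    have hz0 : z ≠ 0 := fun h => by rw [h, zero_pow hrp.ne_zero] at hzr; exact zero_ne_one hzr
    have ho : orderOf (Units.mk0 z hz0) = r ^ 1 := by
      rw [pow_one]
      exact orderOf_eq_prime (Units.ext (by simpa using hzr)) (fun h => hne (congrArg Units.val h))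
    have hnp : ∀ b : F, b ^ r ≠ z := by
      intro b hb
      have hb0 : b ≠ 0 := by rintro rfl; rw [zero_pow hrp.ne_zero] at hb; exact hz0 hb.symm
      have h := (H42.exists_pow_eq_iff_of_orderOf (n := r) hrp.ne_zero (Units.mk0 z hz0) 1 ho).1
        ⟨Units.mk0 b hb0, Units.ext (by simpa using hb)⟩
      rw [H42.natCard_units_field, hv, padicValNat_self] at h
      omega
    have hirr := X_pow_sub_C_irreducible_of_prime hrp hnp
    have hmon : (Polynomial.X ^ r - Polynomial.C z : Polynomial F).Monic :=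
      Polynomial.monic_X_pow_sub_C z hrp.ne_zero
    have hmp : minpoly F (x : Matrix (Fin r) (Fin r) F) = Polynomial.X ^ r - Polynomial.C z :=
      (minpoly.eq_of_irreducible_of_monic hirr (by simp [hz, Algebra.algebraMap_eq_smul_one]) hmon).symm
    have hcp : (x : Matrix (Fin r) (Fin r) F).charpoly = Polynomial.X ^ r - Polynomial.C z := by
      refine Polynomial.eq_of_monic_of_dvd_of_natDegree_le hmon (Matrix.charpoly_monic _) ?_ (le_of_eq ?_)
      · rw [← hmp]; exact Matrix.minpoly_dvd_charpoly _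
      · rw [Matrix.charpoly_natDegree_eq_dim, Fintype.card_fin, Polynomial.natDegree_X_pow_sub_C]
    have h := Matrix.det_eq_sign_charpoly_coeff (x : Matrix (Fin r) (Fin r) F)
    rw [hxd, hcp, Fintype.card_fin, (hrp.odd_of_ne_two hr2).neg_one_pow] at h
    simp [Polynomial.coeff_sub, Polynomial.coeff_X_pow, hrp.ne_zero.symm] at h
    exact hne h.symm
  subst hz1
  have hxr : x ^ r = 1 := Units.ext (by simpa using hz)
  obtain ⟨P, f, hP⟩ := H42.exists_diagonalize hrp hdvd x hxr
  obtain ⟨w, hw⟩ := exists_prime_orderOf_dvd_card' (G := Fˣ) r (by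
    rw [H42.natCard_units_field]; exact hdvd)
  have hwr : w ^ r = 1 := hw ▸ pow_orderOf_eq_one w
  have hk : ∀ i, ∃ k : ZMod r, (f i : Fˣ) = w ^ k.val := by
    intro i
    have hfi : ((f i : Fˣ) : F) ^ r = 1 := by
      have := (f i).2
      rw [mem_rootsOfUnity] at this
      simpa using congrArg Units.val this
    have hprim : IsPrimitiveRoot ((w : F)) r := by
      rw [IsPrimitiveRoot.coe_units_iff, ← hw]; exact IsPrimitiveRoot.orderOf w
    obtain ⟨j, hj, hjw⟩ := hprim.eq_pow_of_pow_eq_one hfi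
    refine ⟨(j : ZMod r), Units.ext ?_⟩
    rw [ZMod.val_natCast, Nat.mod_eq_of_lt hj, Units.val_pow_eq_pow_val, hjw]
  choose k hkf using hk
  have hadd : ∀ a b : ZMod r, w ^ a.val * w ^ b.val = w ^ (a + b).val := fun a b => by
    rw [← pow_add, ZMod.val_add, ← pow_eq_pow_mod _ hwr]
  have hprod : ∀ s : Finset (Fin r), ∏ i ∈ s, w ^ (k i).val = w ^ (∑ i ∈ s, k i).val := by
    intro s
    induction s using Finset.induction_on with
    | empty => simp
    | insert a s ha ih => rw [Finset.prod_insert ha, Finset.sum_insert ha, ih, hadd]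
  have hsum : ∑ i, k i = 0 := by
    have h := congrArg (fun g : GL (Fin r) F => (g : Matrix (Fin r) (Fin r) F).det) hP
    simp only [Units.val_mul, Matrix.det_mul, H42.coe_diagGL, Matrix.det_diagonal, hxd] at h
    rw [mul_right_comm, ← Matrix.det_mul, Units.mul_inv, Matrix.det_one, one_mul] at h
    have h1 : w ^ (∑ i, k i).val = 1 := by
      rw [← hprod]
      refine Units.ext ?_
      rw [Units.coe_prod, Units.val_one, h]
      exact Finset.prod_congr rfl fun i _ => by rw [hkf]
    have h2 := orderOf_dvd_of_pow_eq_one h1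
    rw [hw] at h2
    exact (ZMod.val_eq_zero _).1 (Nat.eq_zero_of_dvd_of_lt h2 (ZMod.val_lt _))
  obtain ⟨π, s, hπ, hs⟩ := symm_exists hr k hsum
  have hππ : ∀ i, π (π i) = i := fun i => by
    rw [← Equiv.Perm.mul_apply, hπ, Equiv.Perm.one_apply]
  let D : Matrix (Fin r) (Fin r) F := Matrix.diagonal fun i => ((f i : Fˣ) : F)
  let G : Matrix (Fin r) (Fin r) F := π.permMatrix F
  have hfix' : ∀ i, ((f i : Fˣ) : F) ^ q = ((f i : Fˣ) : F) := fun i => hfix _ (by
    have := (f i).2
    rw [mem_rootsOfUnity] at this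
    simpa using congrArg Units.val this)
  refine exists_sl_hermSim hF x P (Equiv.refl _) G D ?_ ?_ ?_ (w ^ s.val) ?_ ?_
  · ext i j
    rw [H51.adj_apply]
    simp only [G, Equiv.Perm.permMatrix, PEquiv.toMatrix_apply, Equiv.toPEquiv_apply, Option.mem_def,
      Option.some.injEq]
    have hsw : π j = i ↔ π i = j := ⟨fun h => by rw [← h, hππ], fun h => by rw [← h, hππ]⟩
    by_cases hij : π i = j
    · rw [if_pos (hsw.2 hij), if_pos hij, one_pow]
    · rw [if_neg (mt hsw.1 hij), if_neg hij, zero_pow (H51.q_pos hF).ne']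
  · rw [Matrix.det_permutation]
    exact ((Equiv.Perm.sign π).isUnit.map (Int.castRingHom F)).ne_zero
  · rw [hP, Units.val_mul, Units.val_mul, mul_assoc, Units.inv_mul, mul_one, H42.coe_diagGL]
    rfl
  · have hadj : H51.adj hF D = D := by
      ext i j
      rcases eq_or_ne i j with rfl | hij
      · simp [D, hfix']
      · simp [D, hij, hij.symm, (H51.q_pos hF).ne']
    rw [hadj]
    ext i j
    rw [Matrix.mul_diagonal, Matrix.diagonal_mul, Matrix.smul_apply]
    simp only [G, Equiv.Perm.permMatrix, PEquiv.toMatrix_apply, Equiv.toPEquiv_apply, Option.mem_def,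
      Option.some.injEq]
    by_cases hij : π i = j
    · rw [if_pos hij, smul_eq_mul, mul_one, mul_one, ← hij, hkf, hkf, ← Units.val_mul, hadd, add_comm, hs]
    · simp [hij]
  · intro t _
    refine ⟨Matrix.diagonal fun i => if i = 0 then t else 1, ?_, ?_⟩
    · rw [Matrix.diagonal_mul_diagonal, Matrix.diagonal_mul_diagonal]
      congr 1; funext i; exact mul_comm _ _
    · rw [Matrix.det_diagonal, Finset.prod_ite_eq' Finset.univ (0 : Fin r) (fun _ => t),
        if_pos (Finset.mem_univ _)]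

end H47
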